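import Mathlib.CategoryTheory.Limits.Shapes.Pullback.IsPullback.Basic
import Groth.Prelude.Def_AlgSp4
/-!
Basic lemmas on representable morphisms of fppf sheaves, algebraic spaces and their fibre products.
-/

set_option backward.isDefEq.respectTransparency.types false

universe u

open CategoryTheory CategoryTheory.Limits AlgebraicGeometry Opposite

namespace Groth.Agent.ASp

open _root_.AlgSp

attribute [local simp] prod.lift_fst prod.lift_snd prod.lift_fst_assoc prod.lift_snd_assoc

variable {S : Scheme.{u}}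

lemma repWith_mono {P Q : MorphismProperty Scheme.{u}} (h : P ≤ Q) {F G : Sp S} {f : F ⟶ G}
    (hf : RepWith P f) : RepWith Q f :=
  MorphismProperty.relative_monotone (F := yon S) (P := P.inverseImage (Over.forget S))
    (P' := Q.inverseImage (Over.forget S)) (fun _ _ g hg => h g.left hg) _ hf

lemma repWith_of_representable {P : MorphismProperty Scheme.{u}} [P.RespectsIso] {F G : Sp S}
    {f : F ⟶ G} (hf : Representable f)
    (h : ∀ ⦃U : Over S⦄ (g : (yon S).obj U ⟶ G), P (hf.snd g).left) : RepWith P f :=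
  have : (P.inverseImage (Over.forget S)).RespectsIso := MorphismProperty.RespectsIso.inverseImage P _
  MorphismProperty.relative_of_snd hf h

lemma repWith_of_exists {P : MorphismProperty Scheme.{u}} [P.RespectsIso] {F G : Sp S} {f : F ⟶ G}
    (h : ∀ ⦃U : Over S⦄ (g : (yon S).obj U ⟶ G), ∃ (V : Over S) (fst : (yon S).obj V ⟶ F)
      (snd : V ⟶ U), IsPullback fst ((yon S).map snd) f g ∧ P snd.left) : RepWith P f :=
  have : (P.inverseImage (Over.forget S)).RespectsIso := MorphismProperty.RespectsIso.inverseImage P _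
  MorphismProperty.relative.of_exists fun U g => by
    obtain ⟨V, fst, snd, h1, h2⟩ := h g
    exact ⟨V, fst, snd, h1, h2⟩

lemma repWith_inf {P Q : MorphismProperty Scheme.{u}} {F G : Sp S} {f : F ⟶ G}
    (hP : RepWith P f) (hQ : RepWith Q f) : RepWith (P ⊓ Q) f :=
  ⟨hP.1, fun _ _ g fst snd h => ⟨hP.2 g fst snd h, hQ.2 g fst snd h⟩⟩

lemma repWith_of_forall {P : MorphismProperty Scheme.{u}} {F G : Sp S} {f : F ⟶ G}
    (hf : Representable f) (h : ∀ {X Y : Scheme.{u}} (g : X ⟶ Y), P g) : RepWith P f :=
  ⟨hf, fun _ _ _ _ snd _ => h snd.left⟩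

lemma repWith_of_isIso {P : MorphismProperty Scheme.{u}} [P.IsMultiplicative] [P.RespectsIso]
    {F G : Sp S} (f : F ⟶ G) [IsIso f] : RepWith P f := by
  have : (P.inverseImage (Over.forget S)).RespectsIso := MorphismProperty.RespectsIso.inverseImage P _
  have : (RepWith (S := S) P).IsMultiplicative := MorphismProperty.relative_isMultiplicative _
  exact MorphismProperty.of_isIso _ f

lemma repWith_comp {P : MorphismProperty Scheme.{u}} [P.IsStableUnderComposition]
    {F G H : Sp S} {f : F ⟶ G} {g : G ⟶ H} (hf : RepWith P f) (hg : RepWith P g) :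
    RepWith P (f ≫ g) :=
  MorphismProperty.IsStableUnderComposition.comp_mem (P := RepWith P) _ _ hf hg

lemma repWith_of_isPullback {P : MorphismProperty Scheme.{u}} {F G F' G' : Sp S} {f : F ⟶ G}
    {f' : F' ⟶ G'} {g' : F' ⟶ F} {g : G' ⟶ G} (h : IsPullback g' f' f g) (hf : RepWith P f) :
    RepWith P f' :=
  MorphismProperty.IsStableUnderBaseChange.of_isPullback (P := RepWith P) h hf

lemma representable_of_isPullback {F G F' G' : Sp S} {f : F ⟶ G}
    {f' : F' ⟶ G'} {g' : F' ⟶ F} {g : G' ⟶ G} (h : IsPullback g' f' f g) (hf : Representable f) :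
    Representable f' :=
  MorphismProperty.IsStableUnderBaseChange.of_isPullback (P := Representable) h hf

lemma representable_comp {F G H : Sp S} {f : F ⟶ G} {g : G ⟶ H} (hf : Representable f)
    (hg : Representable g) : Representable (f ≫ g) :=
  MorphismProperty.IsStableUnderComposition.comp_mem (P := Representable) _ _ hf hg

/-- The square underlying a pullback square in `Over S` through `yon S`. -/
lemma isPullback_yon_map {A B C D : Over S} {a : A ⟶ B} {b : A ⟶ C} {c : B ⟶ D} {d : C ⟶ D}
    (h : IsPullback a b c d) :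
    IsPullback ((yon S).map a) ((yon S).map b) ((yon S).map c) ((yon S).map d) :=
  h.map (yon S)

lemma isPullback_of_yon_map {A B C D : Over S} {a : A ⟶ B} {b : A ⟶ C} {c : B ⟶ D} {d : C ⟶ D}
    (h : IsPullback ((yon S).map a) ((yon S).map b) ((yon S).map c) ((yon S).map d)) :
    IsPullback a b c d :=
  IsPullback.of_map (yon S) ((yon S).map_injective (by simpa using h.w)) h

lemma isPullback_left {A B C D : Over S} {a : A ⟶ B} {b : A ⟶ C} {c : B ⟶ D} {d : C ⟶ D}
    (h : IsPullback a b c d) : IsPullback a.left b.left c.left d.left :=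
  h.map (Over.forget S)

/-- Two maps from schemes to a sheaf with representable diagonal have a fibre product which is a scheme. -/
lemma exists_isPullback_yon {H : Sp S} {U V : Over S} {g : (yon S).obj U ⟶ H} (hg : Representable g)
    (h : (yon S).obj V ⟶ H) :
    ∃ (W : Over S) (a : W ⟶ U) (b : W ⟶ V), IsPullback ((yon S).map a) ((yon S).map b) g h :=
  ⟨hg.pullback h, hg.fst' h, hg.snd h, hg.isPullback' h⟩

lemma etale_snd {F G : Sp S} {f : F ⟶ G} (hf : RepWith @Etale f) {U V : Over S}
    {g : (yon S).obj U ⟶ G} {fst : (yon S).obj V ⟶ F} {snd : V ⟶ U}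
    (h : IsPullback fst ((yon S).map snd) f g) : Etale snd.left :=
  hf.2 g fst snd h

lemma isPullback_diag_of_mono {C : Type*} [Category C] [HasBinaryProducts C] {F G : C} (m : F ⟶ G) [Mono m] :
    IsPullback m (Limits.diag F) (Limits.diag G) (prod.map m m) := by
  refine IsPullback.of_isLimit' ⟨by ext <;> simp⟩ (PullbackCone.IsLimit.mk _
    (fun s => s.snd ≫ prod.fst) (fun s => ?_) (fun s => ?_) (fun s l h1 h2 => ?_))
  · simpa using (congrArg (· ≫ prod.fst) s.condition).symm
  · have h1 := congrArg (· ≫ prod.fst) s.condition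
    have h2 := congrArg (· ≫ prod.snd) s.condition
    simp at h1 h2
    apply prod.hom_ext
    · simp
    · rw [← cancel_mono m]
      simp [← h1, ← h2]
  · simpa using congrArg (· ≫ prod.fst) h2

lemma representable_diag_of_mono {F G : Sp S} (m : F ⟶ G) [Mono m]
    (hG : Representable (Limits.diag G)) : Representable (Limits.diag F) :=
  representable_of_isPullback (isPullback_diag_of_mono m) hG

/-- The diagonal of a product, as a product of diagonals. -/
lemma representable_diag_prod {F G : Sp S} (hF : Representable (Limits.diag F))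
    (hG : Representable (Limits.diag G)) : Representable (Limits.diag (F ⨯ G)) := by
  refine Functor.relativelyRepresentable.diag_of_map_from_obj (fun U g => ?_)
  intro V h
  obtain ⟨W₁, a₁, b₁, hW₁⟩ := exists_isPullback_yon
    (Functor.relativelyRepresentable.of_diag hF (g ≫ prod.fst)) (h ≫ prod.fst)
  obtain ⟨W₂, a₂, b₂, hW₂⟩ := exists_isPullback_yon
    (Functor.relativelyRepresentable.of_diag hG (g ≫ prod.snd)) (h ≫ prod.snd)
  have p : IsPullback (pullback.fst (prod.lift a₁ b₁) (prod.lift a₂ b₂))
      (pullback.snd (prod.lift a₁ b₁) (prod.lift a₂ b₂)) (prod.lift a₁ b₁) (prod.lift a₂ b₂) :=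
    IsPullback.of_hasPullback _ _
  set W := pullback (prod.lift a₁ b₁) (prod.lift a₂ b₂)
  set p₁ := pullback.fst (prod.lift a₁ b₁) (prod.lift a₂ b₂)
  set p₂ := pullback.snd (prod.lift a₁ b₁) (prod.lift a₂ b₂)
  have ea : p₁ ≫ a₁ = p₂ ≫ a₂ := by simpa using congrArg (· ≫ prod.fst) p.w
  have eb : p₁ ≫ b₁ = p₂ ≫ b₂ := by simpa using congrArg (· ≫ prod.snd) p.w
  refine ⟨W, p₁ ≫ b₁, (yon S).map (p₁ ≫ a₁), IsPullback.of_isLimit' ⟨?_⟩ ?_⟩
  · apply prod.hom_ext
    · simp only [Functor.map_comp, Category.assoc, hW₁.w]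
    · rw [ea, eb]; simp only [Functor.map_comp, Category.assoc, hW₂.w]
  have pm := isPullback_yon_map p
  refine PullbackCone.IsLimit.mk _
    (fun s => pm.lift
      (hW₁.lift s.fst s.snd (by simpa using congrArg (· ≫ prod.fst) s.condition))
      (hW₂.lift s.fst s.snd (by simpa using congrArg (· ≫ prod.snd) s.condition)) ?_)
    (fun s => ?_) (fun s => ?_) (fun s l h1 h2 => ?_)
  · rw [← cancel_mono (prodComparison (yon S) U V)]
    apply prod.hom_ext <;>
      simp only [Category.assoc, prodComparison_fst, prodComparison_snd, ← Functor.map_comp,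
        prod.lift_fst, prod.lift_snd, IsPullback.lift_fst, IsPullback.lift_snd]
  · simp only [Functor.map_comp, IsPullback.lift_fst_assoc, IsPullback.lift_fst]
  · simp only [Functor.map_comp, IsPullback.lift_fst_assoc, IsPullback.lift_snd]
  · apply pm.hom_ext
    · apply hW₁.hom_ext
      · simpa [← Functor.map_comp] using h1
      · simpa [← Functor.map_comp] using h2
    · apply hW₂.hom_ext
      · simpa [← Functor.map_comp, ea] using h1
      · simpa [← Functor.map_comp, eb] using h2

/-- A fibre product of algebraic spaces over a sheaf with representable diagonal is an algebraic space. -/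
theorem isAlgSpace_of_isPullback {H X Y P : Sp S} (hH : Representable (Limits.diag H))
    (hX : IsAlgSpace X) (hY : IsAlgSpace Y) {f : X ⟶ H} {g : Y ⟶ H} {fst : P ⟶ X} {snd : P ⟶ Y}
    (h : IsPullback fst snd f g) : IsAlgSpace P where
  diag := by
    have : Mono (prod.lift fst snd) := ⟨fun a b hab => h.hom_ext
      (by simpa using congrArg (· ≫ prod.fst) hab) (by simpa using congrArg (· ≫ prod.snd) hab)⟩
    exact representable_diag_of_mono (prod.lift fst snd) (representable_diag_prod hX.diag hY.diag)
  atlas := by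
    obtain ⟨U, p, hpe, hps⟩ := hX.atlas
    obtain ⟨V, q, hqe, hqs⟩ := hY.atlas
    obtain ⟨W, a, b, hW⟩ := exists_isPullback_yon
      (Functor.relativelyRepresentable.of_diag hH (p ≫ f)) (q ≫ g)
    -- Q = X ×_H h_V
    obtain ⟨Q, c, d, hQ⟩ : ∃ (Q : Sp S) (c : Q ⟶ X) (d : Q ⟶ (yon S).obj V),
        IsPullback c d f (q ≫ g) := ⟨_, _, _, IsPullback.of_hasPullback _ _⟩
    have hQP : IsPullback (h.lift c (d ≫ q) (by rw [hQ.w, Category.assoc])) d snd q := by
      refine IsPullback.of_right ?_ (h.lift_snd _ _ _) h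
      simpa using hQ
    have hWQ : IsPullback (hQ.lift ((yon S).map a ≫ p) ((yon S).map b)
        (by rw [Category.assoc, hW.w])) ((yon S).map a) c p := by
      refine IsPullback.of_right (h₁₂ := d) (v₁₃ := q ≫ g) (h₂₂ := f) ?_ (hQ.lift_fst _ _ _) hQ.flip
      rw [hQ.lift_snd]
      exact hW.flip
    exact ⟨W, hQ.lift ((yon S).map a ≫ p) ((yon S).map b) (by rw [Category.assoc, hW.w]) ≫
        h.lift c (d ≫ q) (by rw [hQ.w, Category.assoc]),
      repWith_comp (repWith_of_isPullback hWQ.flip hpe) (repWith_of_isPullback hQP.flip hqe),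
      repWith_comp (repWith_of_isPullback hWQ.flip hps) (repWith_of_isPullback hQP.flip hqs)⟩

theorem isAlgSpace_pullback {H X Y : Sp S} (hH : Representable (Limits.diag H))
    (hX : IsAlgSpace X) (hY : IsAlgSpace Y) (f : X ⟶ H) (g : Y ⟶ H) : IsAlgSpace (pullback f g) :=
  isAlgSpace_of_isPullback hH hX hY (IsPullback.of_hasPullback f g)

end Groth.Agent.ASp
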