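import Mathlib.AlgebraicGeometry.Morphisms.UniversallyOpen
import Groth.Agent.ASp.Basic
/-!
Points of fppf sheaves: fibre products, surjectivity, openness of etale charts.
-/

set_option backward.isDefEq.respectTransparency.types false

universe u

open CategoryTheory CategoryTheory.Limits AlgebraicGeometry Opposite Topology

namespace Groth.Agent.ASp

open _root_.AlgSp

variable {S : Scheme.{u}}

lemma exists_section_of_isPullback {P F G H : Sp S} {fst : P ⟶ F} {snd : P ⟶ G} {f : F ⟶ H}
    {g : G ⟶ H} (h : IsPullback fst snd f g) {T : Over S} (x : F.obj.obj (op T)) (y : G.obj.obj (op T))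
    (e : f.hom.app _ x = g.hom.app _ y) :
    ∃ z : P.obj.obj (op T), fst.hom.app _ z = x ∧ snd.hom.app _ z = y := by
  have e' : (J S).uliftYonedaEquiv.{u+1}.symm x ≫ f = (J S).uliftYonedaEquiv.{u+1}.symm y ≫ g := by
    rw [GrothendieckTopology.uliftYonedaEquiv_symm_naturality_right,
      GrothendieckTopology.uliftYonedaEquiv_symm_naturality_right, e]
  refine ⟨(J S).uliftYonedaEquiv.{u+1} (h.lift _ _ e'), ?_, ?_⟩
  · rw [← GrothendieckTopology.uliftYonedaEquiv_comp, h.lift_fst, Equiv.apply_symm_apply]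
  · rw [← GrothendieckTopology.uliftYonedaEquiv_comp, h.lift_snd, Equiv.apply_symm_apply]

lemma mk_restrict {F : Sp S} (p : FieldPt F) {Ω : Type u} [Field Ω] {w : Spec (CommRingCat.of Ω) ⟶ S}
    (a : Over.mk w ⟶ p.pt) :
    Points.mk (⟨Ω, w, F.obj.map a.op p.val⟩ : FieldPt F) = Points.mk p :=
  Points.sound ⟨Ω, inferInstance, w, 𝟙 _, a, by simp⟩

/-- Points of a fibre product surject onto the fibre product of the point sets. -/
lemma points_exists_of_isPullback {P F G H : Sp S} {fst : P ⟶ F} {snd : P ⟶ G} {f : F ⟶ H}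
    {g : G ⟶ H} (h : IsPullback fst snd f g) (x : Points F) (y : Points G)
    (e : Points.map f x = Points.map g y) :
    ∃ z : Points P, Points.map fst z = x ∧ Points.map snd z = y := by
  induction x using Points.ind with | h p =>
  induction y using Points.ind with | h q =>
  simp only [Points.map_mk] at e
  obtain ⟨Ω, _, w, a, b, hab⟩ := Points.mk_eq_mk_iff.1 e
  obtain ⟨z, hz₁, hz₂⟩ := exists_section_of_isPullback h (F.obj.map a.op p.val) (G.obj.map b.op q.val)
    (by rw [NatTrans.naturality_apply, NatTrans.naturality_apply]; exact hab)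
  refine ⟨Points.mk ⟨Ω, w, z⟩, ?_, ?_⟩
  · rw [Points.map_mk, ← mk_restrict p a]; simp [FieldPt.map, hz₁]; rfl
  · rw [Points.map_mk, ← mk_restrict q b]; simp [FieldPt.map, hz₂]; rfl

lemma ofPt_yon_map_comp {F : Sp S} {T T' : Over S} (φ : T ⟶ T') (g : (yon S).obj T' ⟶ F)
    (t : ↥T.left) : Points.ofPt ((yon S).map φ ≫ g) t = Points.ofPt g (φ.left t) := by
  rw [← Points.map_ofPt, Points.ofPt_eq_map_ofScheme g, ← Points.toScheme_ofPt φ t,
    Points.ofScheme_toScheme]

lemma ofPt_comp_eq_map {F : Sp S} {T : Over S} (g : (yon S).obj T ⟶ F) :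
    Points.ofPt g = Points.map g ∘ Points.schemeHomeo T :=
  funext fun t => Points.ofPt_eq_map_ofScheme g t

lemma exists_ofPt_eq {F : Sp S} (x : Points F) :
    ∃ (T : Over S) (g : (yon S).obj T ⟶ F) (t : ↥T.left), Points.ofPt g t = x := by
  induction x using Points.ind with | h p =>
  let h := (J S).uliftYonedaEquiv.{u+1}.symm p.val
  let x0 : Points ((yon S).obj p.pt) := Points.mk ⟨p.K, p.str, ⟨𝟙 _⟩⟩
  refine ⟨p.pt, h, Points.toScheme _ x0, ?_⟩
  rw [Points.ofPt_eq_map_ofScheme, Points.ofScheme_toScheme, Points.map_mk]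
  have : h.hom.app (op p.pt) ⟨𝟙 _⟩ = p.val := by
    rw [← GrothendieckTopology.uliftYonedaEquiv_apply, Equiv.apply_symm_apply]
  exact congrArg Points.mk (congrArg (FieldPt.mk p.K p.str) this)

/-- Representable surjective maps are surjective on points. -/
lemma surjective_map_of_repWith {F G : Sp S} {f : F ⟶ G} (hf : RepWith @Surjective f) :
    Function.Surjective (Points.map f) := by
  intro y
  obtain ⟨T, g, t, rfl⟩ := exists_ofPt_eq y
  have : Surjective (hf.1.snd g).left := hf.2 g _ _ (hf.1.isPullback g)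
  obtain ⟨v, rfl⟩ := (hf.1.snd g).left.surjective t
  exact ⟨Points.ofPt (hf.1.fst g) v, by rw [Points.map_ofPt, hf.1.w g, ofPt_yon_map_comp]⟩

lemma surjective_snd_of_surjective_map {F G : Sp S} {f : F ⟶ G}
    (hf : Function.Surjective (Points.map f)) {U V : Over S} {g : (yon S).obj U ⟶ G}
    {fst : (yon S).obj V ⟶ F} {snd : V ⟶ U} (h : IsPullback fst ((yon S).map snd) f g) :
    Surjective snd.left := by
  refine ⟨fun t => ?_⟩
  obtain ⟨x, hx⟩ := hf (Points.ofPt g t)
  rw [Points.ofPt_eq_map_ofScheme g t] at hx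
  obtain ⟨z, -, hz⟩ := points_exists_of_isPullback h x _ hx
  obtain ⟨v, rfl⟩ := (Points.schemeHomeo V).surjective z
  rw [Points.map_yon_map_apply] at hz
  exact ⟨v, (Points.schemeHomeo U).injective hz⟩

lemma repWith_surjective_iff {F G : Sp S} {f : F ⟶ G} (hf : Representable f) :
    RepWith @Surjective f ↔ Function.Surjective (Points.map f) :=
  ⟨surjective_map_of_repWith, fun h => ⟨hf, fun _ _ _ _ _ sq => surjective_snd_of_surjective_map h sq⟩⟩

lemma surjective_map_of_isPullback {F G F' G' : Sp S} {g' : F' ⟶ F} {f' : F' ⟶ G'} {f : F ⟶ G}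
    {g : G' ⟶ G} (h : IsPullback g' f' f g) (hf : Function.Surjective (Points.map f)) :
    Function.Surjective (Points.map f') := fun y => by
  obtain ⟨x, hx⟩ := hf (Points.map g y)
  obtain ⟨z, -, hz⟩ := points_exists_of_isPullback h x y hx
  exact ⟨z, hz⟩

/-- Base change formula for images of point sets. -/
lemma preimage_image_of_isPullback {F G F' G' : Sp S} {g' : F' ⟶ F} {f' : F' ⟶ G'} {f : F ⟶ G}
    {g : G' ⟶ G} (h : IsPullback g' f' f g) (W : Set (Points F)) :
    Points.map g ⁻¹' (Points.map f '' W) = Points.map f' '' (Points.map g' ⁻¹' W) := by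
  ext y
  constructor
  · rintro ⟨x, hx, e⟩
    obtain ⟨z, h1, h2⟩ := points_exists_of_isPullback h x y e
    exact ⟨z, by rwa [Set.mem_preimage, h1], h2⟩
  · rintro ⟨z, hz, rfl⟩
    exact ⟨Points.map g' z, hz, by rw [← Points.map_comp, h.w, Points.map_comp]⟩

lemma preimage_ofPt_image {F G : Sp S} {f : F ⟶ G} {U V : Over S} {g : (yon S).obj U ⟶ G}
    {fst : (yon S).obj V ⟶ F} {snd : V ⟶ U} (h : IsPullback fst ((yon S).map snd) f g)
    (W : Set (Points F)) :
    Points.ofPt g ⁻¹' (Points.map f '' W) = snd.left '' (Points.ofPt fst ⁻¹' W) := by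
  rw [ofPt_comp_eq_map g, Set.preimage_comp, preimage_image_of_isPullback h, ofPt_comp_eq_map fst,
    Set.preimage_comp]
  ext u
  constructor
  · rintro ⟨z, hz, e⟩
    obtain ⟨v, rfl⟩ := (Points.schemeHomeo V).surjective z
    rw [Points.map_yon_map_apply] at e
    exact ⟨v, hz, (Points.schemeHomeo U).injective e⟩
  · rintro ⟨v, hv, rfl⟩
    exact ⟨_, hv, Points.map_yon_map_apply snd v⟩

lemma isOpenMap_map_of_repWith {P : MorphismProperty Scheme.{u}}
    (hP : ∀ {X Y : Scheme.{u}} (g : X ⟶ Y), P g → IsOpenMap g) {F G : Sp S} {f : F ⟶ G}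
    (hf : RepWith P f) : IsOpenMap (Points.map f) := by
  intro W hW
  rw [Points.isOpen_iff] at hW ⊢
  intro T g
  rw [preimage_ofPt_image (hf.1.isPullback g)]
  exact hP _ (hf.2 g _ _ (hf.1.isPullback g)) _ (hW _ _)

lemma isOpenMap_map_of_etale {F G : Sp S} {f : F ⟶ G} (hf : RepWith @Etale f) :
    IsOpenMap (Points.map f) :=
  isOpenMap_map_of_repWith (fun g hg => by
    have : Etale g := hg
    exact g.isOpenMap) hf

lemma isOpenMap_ofPt_of_etale {F : Sp S} {U : Over S} {a : (yon S).obj U ⟶ F}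
    (ha : RepWith @Etale a) : IsOpenMap (Points.ofPt a) := by
  rw [ofPt_comp_eq_map]
  exact (isOpenMap_map_of_etale ha).comp (Points.schemeHomeo U).isOpenMap

lemma surjective_ofPt {F : Sp S} {U : Over S} {p : (yon S).obj U ⟶ F}
    (hp : RepWith @Surjective p) : Function.Surjective (Points.ofPt p) := by
  rw [ofPt_comp_eq_map]
  exact (surjective_map_of_repWith hp).comp (Points.schemeHomeo U).surjective

lemma isQuotientMap_ofPt {F : Sp S} {U : Over S} {p : (yon S).obj U ⟶ F}
    (hp : RepWith @Etale p) (hs : RepWith @Surjective p) : IsQuotientMap (Points.ofPt p) :=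
  IsOpenQuotientMap.isQuotientMap
    ⟨surjective_ofPt hs, Points.continuous_ofPt p, isOpenMap_ofPt_of_etale hp⟩

/-- An etale surjective chart detects openness. -/
lemma isOpen_iff_chart {F : Sp S} {U : Over S} {p : (yon S).obj U ⟶ F}
    (hp : RepWith @Etale p) (hs : RepWith @Surjective p) {W : Set (Points F)} :
    IsOpen W ↔ IsOpen (Points.ofPt p ⁻¹' W) :=
  (isQuotientMap_ofPt hp hs).isOpen_preimage.symm

/-- Equality of chart images. -/
lemma ofPt_eq_ofPt_iff {F : Sp S} {U V W : Over S} {p : (yon S).obj U ⟶ F} {q : (yon S).obj V ⟶ F}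
    {a : W ⟶ U} {b : W ⟶ V} (h : IsPullback ((yon S).map a) ((yon S).map b) p q)
    (u : ↥U.left) (v : ↥V.left) :
    Points.ofPt p u = Points.ofPt q v ↔ ∃ w : ↥W.left, a.left w = u ∧ b.left w = v := by
  constructor
  · intro e
    rw [Points.ofPt_eq_map_ofScheme, Points.ofPt_eq_map_ofScheme] at e
    obtain ⟨z, h1, h2⟩ := points_exists_of_isPullback h _ _ e
    obtain ⟨w, rfl⟩ := (Points.schemeHomeo W).surjective z
    rw [Points.map_yon_map_apply] at h1 h2
    exact ⟨w, (Points.schemeHomeo U).injective h1, (Points.schemeHomeo V).injective h2⟩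
  · rintro ⟨w, rfl, rfl⟩
    rw [← ofPt_yon_map_comp, ← ofPt_yon_map_comp, h.w]

end Groth.Agent.ASp
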