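import Groth.Agent.ASp.LocP
import Groth.Agent.ASp.Points
import Groth.Agent.S9407
/-!
Descent of properties of algebraic spaces along surjective morphisms.
-/

set_option backward.isDefEq.respectTransparency false
set_option backward.isDefEq.respectTransparency.types false

universe u

open CategoryTheory CategoryTheory.Limits AlgebraicGeometry Opposite

namespace Groth.Agent.ASp

open _root_.AlgSp

variable {S : Scheme.{u}}

/-- A surjective morphism restricts, after refining a given chart of the source, to a surjective map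
of charts. -/
theorem exists_surjective_chart {X Y : Sp S} (hY : IsAlgSpace Y) {f : X ⟶ Y} {U : Over S}
    {a : (yon S).obj U ⟶ X} (ha : RepWith @Etale a) (has : RepWith @Surjective a)
    (hf : Function.Surjective (Points.map f)) :
    ∃ (U₁ V : Over S) (p : U₁ ⟶ U) (q : U₁ ⟶ V) (y : (yon S).obj V ⟶ Y),
      Etale p.left ∧ Surjective p.left ∧ RepWith @Etale y ∧ RepWith @Surjective y ∧ Surjective q.left ∧
      RepWith @Etale ((yon S).map p ≫ a) ∧ ((yon S).map p ≫ a) ≫ f = (yon S).map q ≫ y := by
  obtain ⟨V, y, hye, hys⟩ := hY.atlas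
  obtain ⟨U₁, p, q, hpe, hps, hq, hpb⟩ := exists_etale_cover hye hys (a ≫ f)
  refine ⟨U₁, V, p, q, y, hpe, hps, hye, hys, ?_, repWith_comp (repWith_yon_map hpe) ha,
    by rw [Category.assoc, hq]⟩
  refine surjective_snd_of_surjective_map (f := a ≫ f) ?_ hpb.flip
  rw [show Points.map (a ≫ f) = Points.map f ∘ Points.map a from funext (Points.map_comp a f)]
  exact hf.comp (surjective_map_of_repWith has)

/-- A scheme smooth over a reduced scheme is reduced. -/
theorem isReduced_of_smooth {X Y : Scheme.{u}} (f : X ⟶ Y) [Smooth f] [IsReduced Y] : IsReduced X := by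
  have : ∀ x : X, _root_.IsReduced (X.presheaf.stalk x) := fun x => by
    obtain ⟨V, hV, hxV, -⟩ := exists_isAffineOpen_mem_and_subset (x := f x) (U := (⊤ : Y.Opens)) (by simp)
    obtain ⟨U, hU, hxU, hUV⟩ := exists_isAffineOpen_mem_and_subset (x := x) (U := f ⁻¹ᵁ V) hxV
    have hs : (f.appLE V U hUV).hom.Smooth :=
      HasRingHomProperty.appLE (P := @Smooth) f inferInstance ⟨V, hV⟩ ⟨U, hU⟩ hUV
    algebraize [(f.appLE V U hUV).hom]
    haveI := Groth.Agent.S9407.result Γ(Y, V) Γ(X, U)
    haveI := hU.isLocalization_stalk ⟨x, hxU⟩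
    algebraize [(X.presheaf.germ U x hxU).hom]
    exact isReduced_localizationPreserves (hU.primeIdealOf ⟨x, hxU⟩).asIdeal.primeCompl
      (X.presheaf.stalk x) inferInstance
  exact isReduced_of_isReduced_stalk X

end Groth.Agent.ASp
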