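import Mathlib.AlgebraicGeometry.Morphisms.Etale
import Mathlib.AlgebraicGeometry.Morphisms.QuasiFinite
import Mathlib.RingTheory.Unramified.LocalStructure
import Groth.Agent.EtDescent.Scheme
/-!
Properties of morphisms of schemes which are local for the etale topology on the source and target.
-/

set_option backward.isDefEq.respectTransparency.types false

universe u

open CategoryTheory CategoryTheory.Limits AlgebraicGeometry TensorProduct

namespace Groth.Agent.ASp

/-- Stable under base change and composition, containing the etale maps, and descending along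
surjective etale maps on the source. -/
class IsEtLocal (P : MorphismProperty Scheme.{u}) : Prop extends
    P.IsStableUnderBaseChange, P.IsStableUnderComposition where
  etale_le : ∀ {X Y : Scheme.{u}} (f : X ⟶ Y), Etale f → P f
  of_precomp : ∀ {X Y Z : Scheme.{u}} (f : X ⟶ Y) (g : Y ⟶ Z),
    Etale f → Surjective f → P (f ≫ g) → P g

namespace IsEtLocal

variable {P : MorphismProperty Scheme.{u}} [IsEtLocal P]

lemma respectsIso : P.RespectsIso := MorphismProperty.IsStableUnderBaseChange.respectsIso

/-- An etale local property can be cancelled on the left of an etale morphism. -/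
lemma of_postcomp {X Y Z : Scheme.{u}} (f : X ⟶ Y) (g : Y ⟶ Z) (hg : Etale g) (h : P (f ≫ g)) :
    P f := by
  let s : X ⟶ pullback (f ≫ g) g := pullback.lift (𝟙 X) f (by simp)
  have h1 : s ≫ pullback.fst (f ≫ g) g = 𝟙 X := pullback.lift_fst _ _ _
  have h2 : s ≫ pullback.snd (f ≫ g) g = f := pullback.lift_snd _ _ _
  have : Etale (pullback.fst (f ≫ g) g) := MorphismProperty.pullback_fst _ _ hg
  have : Etale (s ≫ pullback.fst (f ≫ g) g) := by rw [h1]; infer_instance
  have hs : Etale s := MorphismProperty.of_postcomp @Etale s _ ‹Etale (pullback.fst (f ≫ g) g)› this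
  rw [← h2]
  exact P.comp_mem _ _ (IsEtLocal.etale_le _ hs) (MorphismProperty.pullback_snd _ _ h)

instance inf (Q : MorphismProperty Scheme.{u}) [IsEtLocal Q] : IsEtLocal (P ⊓ Q) where
  etale_le f hf := ⟨IsEtLocal.etale_le f hf, IsEtLocal.etale_le f hf⟩
  of_precomp f g hf hs h := ⟨IsEtLocal.of_precomp f g hf hs h.1, IsEtLocal.of_precomp f g hf hs h.2⟩

end IsEtLocal

instance : IsEtLocal @Flat.{u} where
  etale_le f h := by have : Etale f := h; infer_instance
  of_precomp f g _ _ h := by have : Flat (f ≫ g) := h; exact EtDescent.flat_of_precomp f g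

instance : IsEtLocal @LocallyOfFiniteType.{u} where
  etale_le f h := by have : Etale f := h; infer_instance
  of_precomp f g _ _ h := by
    have : LocallyOfFiniteType (f ≫ g) := h
    exact EtDescent.locallyOfFiniteType_of_precomp f g

instance : IsEtLocal @LocallyOfFinitePresentation.{u} where
  etale_le f h := by have : Etale f := h; infer_instance
  of_precomp f g _ _ h := by
    have : LocallyOfFinitePresentation (f ≫ g) := h
    exact EtDescent.locallyOfFinitePresentation_of_precomp f g

instance : IsEtLocal @FormallyUnramified.{u} where
  etale_le f h := by have : Etale f := h; infer_instance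
  of_precomp f g _ _ h := by
    have : FormallyUnramified (f ≫ g) := h
    exact EtDescent.formallyUnramified_of_precomp f g

instance : IsEtLocal @Etale.{u} where
  etale_le _ h := h
  of_precomp f g _ _ h := by have : Etale (f ≫ g) := h; exact EtDescent.etale_of_precomp f g

/-- If `A → C` is quasi-finite and `B → C` is faithfully flat then `A → B` is quasi-finite. -/
theorem quasiFinite_of_faithfullyFlat (A B C : Type u) [CommRing A] [CommRing B] [CommRing C]
    [Algebra A B] [Algebra B C] [Algebra A C] [IsScalarTower A B C] [Module.FaithfullyFlat B C]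
    [Algebra.QuasiFinite A C] : Algebra.QuasiFinite A B where
  finite_fiber P _ := by
    let j : P.Fiber B →ₗ[P.ResidueField] P.Fiber C :=
      AlgebraTensorModule.lTensor P.ResidueField P.ResidueField
        (IsScalarTower.toAlgHom A B C).toLinearMap
    have hj : Function.Injective j := by
      let e := AlgebraTensorModule.cancelBaseChange A B B C P.ResidueField
      have key : ∀ x : P.Fiber B, j x = TensorProduct.comm A C P.ResidueField
          (e ((1 : C) ⊗ₜ[B] TensorProduct.comm A P.ResidueField B x)) := by
        intro x
        induction x using TensorProduct.induction_on with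
        | zero => simp
        | tmul k b =>
          simp [j, e, Algebra.algebraMap_eq_smul_one]
        | add x y hx hy => simp only [map_add, TensorProduct.tmul_add, hx, hy]
      intro x y hxy
      rw [key, key] at hxy
      exact (TensorProduct.comm A P.ResidueField B).injective
        (Module.FaithfullyFlat.tensorProduct_mk_injective _
          (e.injective ((TensorProduct.comm A C P.ResidueField).injective hxy)))
    exact Module.Finite.of_injective j hj

instance : IsEtLocal @LocallyQuasiFinite.{u} where
  etale_le f h := by
    refine ⟨fun {U} hU {V} hV e => ?_⟩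
    have h1 := Etale.etale_appLE f hU hV e
    algebraize [(f.appLE U V e).hom]
    rw [← RingHom.algebraMap_toAlgebra (f.appLE U V e).hom, RingHom.quasiFinite_algebraMap]
    infer_instance
  of_precomp f g _ _ h := by
    refine EtDescent.of_precomp_etale (P := @LocallyQuasiFinite) ?_ f g h
    intro A B C _ _ _ φ ψ hψ hff hc
    algebraize [φ, ψ, ψ.comp φ]
    rw [← RingHom.algebraMap_toAlgebra φ, RingHom.quasiFinite_algebraMap]
    exact quasiFinite_of_faithfullyFlat A B C

/-- Cancellation for a property given by ring maps, with a condition on the second map. -/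
theorem of_comp_of_ringHom {P P' : MorphismProperty Scheme.{u}}
    {Q Q' : ∀ {R S : Type u} [CommRing R] [CommRing S], (R →+* S) → Prop}
    [HasRingHomProperty P Q] [HasRingHomProperty P' Q']
    (H : ∀ {R S T : Type u} [CommRing R] [CommRing S] [CommRing T],
      ∀ (f : R →+* S) (g : S →+* T), Q (g.comp f) → Q' f → Q g)
    {X Y Z : Scheme.{u}} (f : X ⟶ Y) (g : Y ⟶ Z) (h : P (f ≫ g)) (hg : P' g) : P f := by
  wlog hZ : IsAffine Z generalizing X Y Z
  · rw [IsZariskiLocalAtTarget.iff_of_iSup_eq_top (P := P) _
      (g.iSup_preimage_eq_top (iSup_affineOpens_eq_top Z))]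
    intro U
    have h1 := IsZariskiLocalAtTarget.restrict h U.1
    rw [morphismRestrict_comp] at h1
    exact this _ _ h1 (IsZariskiLocalAtTarget.restrict hg U.1) inferInstance
  wlog hY : IsAffine Y generalizing X Y
  · rw [IsZariskiLocalAtTarget.iff_of_iSup_eq_top (P := P) _ (iSup_affineOpens_eq_top Y)]
    intro U
    have h1 := IsZariskiLocalAtSource.comp h (f ⁻¹ᵁ U.1).ι
    rw [← morphismRestrict_ι_assoc] at h1
    exact this _ _ h1 (IsZariskiLocalAtSource.comp hg U.1.ι) inferInstance
  wlog hX : IsAffine X generalizing X
  · rw [IsZariskiLocalAtSource.iff_of_iSup_eq_top (P := P) _ (iSup_affineOpens_eq_top X)]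
    intro U
    have h1 := IsZariskiLocalAtSource.comp h U.1.ι
    rw [← Category.assoc] at h1
    exact this _ h1 inferInstance
  rw [HasRingHomProperty.iff_of_isAffine (P := P)] at h ⊢
  rw [HasRingHomProperty.iff_of_isAffine (P := P')] at hg
  exact H _ _ h hg

/-- A morphism is locally of finite presentation if its composite with a morphism locally of finite
type is. -/
lemma locallyOfFinitePresentation_of_comp {X Y Z : Scheme.{u}} (f : X ⟶ Y) (g : Y ⟶ Z)
    (h : LocallyOfFinitePresentation (f ≫ g)) (hg : LocallyOfFiniteType g) :
    LocallyOfFinitePresentation f :=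
  of_comp_of_ringHom (P := @LocallyOfFinitePresentation) (P' := @LocallyOfFiniteType)
    (fun f _ h hf => RingHom.FinitePresentation.of_comp_finiteType f h hf) f g h hg

end Groth.Agent.ASp
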