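import Mathlib

/-!
Dimension theory along maps which lift generalisations and have no specialisations in their fibres.
-/

universe u v

open CategoryTheory AlgebraicGeometry TopologicalSpace Topology

namespace Groth.Agent.ASp

/-- A map lifting generalisations and without specialisations in its fibres. -/
structure IsGenLift {A : Type u} {B : Type v} [TopologicalSpace A] [TopologicalSpace B] (f : A → B) : Prop where
  cont : Continuous f
  eq_of_specializes : ∀ {a a' : A}, f a = f a' → a' ⤳ a → a = a'
  lift : ∀ {a : A} {b : B}, b ⤳ f a → ∃ a', a' ⤳ a ∧ f a' = b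

section

variable {A : Type u} {B : Type v} [TopologicalSpace A] [TopologicalSpace B]

theorem IsGenLift.restrict {f : A → B} (h : IsGenLift f) (ho : IsOpenMap f) {V : Set A} (hV : IsOpen V) :
    IsGenLift (fun v : V => (⟨f v, v, v.2, rfl⟩ : f '' V)) where
  cont := (h.cont.comp continuous_subtype_val).subtype_mk _
  eq_of_specializes e hs := Subtype.ext (h.eq_of_specializes (congrArg Subtype.val e) (subtype_specializes_iff _ _ |>.1 hs))
  lift {a b} hb := by
    obtain ⟨a', ha', e⟩ := h.lift (subtype_specializes_iff _ _ |>.1 hb)
    exact ⟨⟨a', ha'.mem_open hV a.2⟩, subtype_specializes_iff _ _ |>.2 ha', Subtype.ext e⟩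

attribute [local instance 10] specializationOrder

theorem IsGenLift.strictMono [T0Space A] [T0Space B] {f : A → B} (h : IsGenLift f) : StrictMono f := by
  intro a b hab
  have hs : b ⤳ a := hab.le
  refine lt_of_le_of_ne (show f b ⤳ f a from hs.map h.cont) fun e => ?_
  exact hab.ne (h.eq_of_specializes e hs)

theorem IsGenLift.coheight_eq [T0Space A] [T0Space B] {f : A → B} (h : IsGenLift f) (a : A) :
    Order.coheight (f a) = Order.coheight a := by
  refine (Order.coheight_eq_of_strictMono f h.strictMono (fun a b hb => ?_) a).symm
  obtain ⟨a', ha', e⟩ := h.lift (show b ⤳ f a from hb.le)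
  exact ⟨a', lt_of_le_of_ne (show a' ⤳ a from ha') fun e' => hb.ne (e' ▸ e), e⟩

theorem topologicalKrullDim_eq_krullDim [QuasiSober A] [T0Space A] :
    topologicalKrullDim A = Order.krullDim A :=
  Order.krullDim_eq_of_orderIso irreducibleSetEquivPoints

theorem IsGenLift.topologicalKrullDim_le [QuasiSober A] [T0Space A] [QuasiSober B] [T0Space B]
    {f : A → B} (h : IsGenLift f) : topologicalKrullDim A ≤ topologicalKrullDim B := by
  rw [topologicalKrullDim_eq_krullDim, topologicalKrullDim_eq_krullDim]
  exact Order.krullDim_le_of_strictMono f h.strictMono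

theorem IsGenLift.topologicalKrullDim_eq [QuasiSober A] [T0Space A] [QuasiSober B] [T0Space B]
    {f : A → B} (h : IsGenLift f) (hs : Function.Surjective f) :
    topologicalKrullDim A = topologicalKrullDim B := by
  refine h.topologicalKrullDim_le.antisymm ?_
  rw [topologicalKrullDim_eq_krullDim, topologicalKrullDim_eq_krullDim, Order.krullDim_eq_iSup_coheight (α := B)]
  refine iSup_le fun b => ?_
  obtain ⟨a, rfl⟩ := hs b
  rw [h.coheight_eq]
  exact Order.coheight_le_krullDim a

theorem coheight_irreducibleCloseds_eq [QuasiSober A] [T0Space A] {T : IrreducibleCloseds A} {ξ : A}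
    (hξ : IsGenericPoint ξ (T : Set A)) : Order.coheight T = Order.coheight ξ := by
  rw [← Order.coheight_orderIso (irreducibleSetEquivPoints (α := A)) T]
  congr 1
  exact T.2.isGenericPoint_genericPoint_closure.eq (by rw [T.3.closure_eq]; exact hξ)

/-- In a sober space the generic points of components are the points with no generalisation. -/
theorem exists_component_iff [QuasiSober A] [T0Space A] (x : A) :
    (∃ T ∈ irreducibleComponents A, IsGenericPoint x T) ↔ ∀ y, y ⤳ x → y = x := by
  constructor
  · rintro ⟨T, hT, hx⟩ y hy
    have hle : T ⊆ closure {y} := by rw [← hx.def]; exact hy.closure_subset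
    have := hT.le_of_ge isIrreducible_singleton.closure hle
    exact (hy.antisymm (hx.specializes (this (subset_closure rfl)))).eq
  · intro h
    obtain ⟨T, hT, hsub⟩ := exists_mem_irreducibleComponents_subset_of_isIrreducible {x} isIrreducible_singleton
    refine ⟨T, hT, ?_⟩
    have hTc := isClosed_of_mem_irreducibleComponents T hT
    obtain ⟨y, hy⟩ := QuasiSober.sober hT.1 hTc
    exact h y (hy.specializes (hsub rfl)) ▸ hy

theorem coheight_eq_zero_iff [T0Space A] (x : A) : Order.coheight x = 0 ↔ ∀ y, y ⤳ x → y = x := by
  rw [Order.coheight_eq_zero]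
  exact ⟨fun h y hy => le_antisymm (h (show x ≤ y from hy)) hy, fun h y hy => (h y hy).le⟩

end

end Groth.Agent.ASp
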