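import Groth.Agent.ASp.Basic
import Groth.Agent.ASp.Points
import Groth.Agent.ASp.EtLocal
import Groth.Prelude.Def_AlgSp3
/-!
Morphisms of sheaves having a property etale locally on the source and on the target: the criterion
through one chart, composition, cancellation, base change, and comparison with representable maps.
-/

set_option backward.isDefEq.respectTransparency.types false

universe u

open CategoryTheory CategoryTheory.Limits AlgebraicGeometry Opposite

namespace Groth.Agent.ASp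

open _root_.AlgSp

variable {S : Scheme.{u}}

/-- A map between schemes etale over a sheaf is etale. -/
lemma etale_of_comp_eq {F : Sp S} {U W : Over S} {k : U ⟶ W} {a : (yon S).obj U ⟶ F}
    {b : (yon S).obj W ⟶ F} (ha : RepWith @Etale a) (hb : RepWith @Etale b)
    (e : (yon S).map k ≫ b = a) : Etale k.left := by
  obtain ⟨M, m1, m2, hM⟩ := exists_isPullback_yon hb.1 a
  obtain ⟨s, hs⟩ := (yon S).map_surjective (hM.lift ((yon S).map k) (𝟙 _) (by simp [e]))
  have h1 : s ≫ m1 = k := (yon S).map_injective (by simp [hs])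
  have h2 : s ≫ m2 = 𝟙 U := (yon S).map_injective (by simp [hs])
  have hm2 : Etale m2.left := hb.2 a _ _ hM
  have hm1 : Etale m1.left := ha.2 b _ _ hM.flip
  have hs2 : Etale (s.left ≫ m2.left) := by rw [← Over.comp_left, h2]; dsimp; infer_instance
  have : Etale s.left := MorphismProperty.of_postcomp @Etale _ m2.left hm2 hs2
  rw [← h1, Over.comp_left]
  infer_instance

lemma etale_left_of_isPullback {F G : Sp S} {f : F ⟶ G} (hf : RepWith @Etale f) {U W : Over S}
    {fst : (yon S).obj W ⟶ F} {p : W ⟶ U} {g : (yon S).obj U ⟶ G}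
    (h : IsPullback fst ((yon S).map p) f g) : Etale p.left :=
  hf.2 g fst p h

lemma repWith_yon_map {P : MorphismProperty Scheme.{u}} [P.IsStableUnderBaseChange] {U V : Over S}
    {g : U ⟶ V} (h : P g.left) : RepWith P ((yon S).map g) :=
  (repWith_yon_map_iff P g).2 h

/-- Pulling an etale surjective map back along a map from a scheme. -/
lemma exists_etale_cover {F : Sp S} {U V : Over S} {p : (yon S).obj V ⟶ F} (hp : RepWith @Etale p)
    (hps : RepWith @Surjective p) (g : (yon S).obj U ⟶ F) :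
    ∃ (W : Over S) (w : W ⟶ U) (v : W ⟶ V), Etale w.left ∧ Surjective w.left ∧
      (yon S).map v ≫ p = (yon S).map w ≫ g ∧ IsPullback ((yon S).map v) ((yon S).map w) p g := by
  obtain ⟨W, v, w, hW⟩ := exists_isPullback_yon hp.1 g
  exact ⟨W, w, v, hp.2 g _ _ hW, hps.2 g _ _ hW, hW.w, hW⟩

variable {P : MorphismProperty Scheme.{u}} [IsEtLocal P]

/-- One chart suffices for `LocP`. -/
theorem locP_of_chart {F G : Sp S} {f : F ⟶ G} {U V : Over S} {a : (yon S).obj U ⟶ F}
    {b : (yon S).obj V ⟶ G} {h : U ⟶ V} (ha : RepWith @Etale a) (has : RepWith @Surjective a)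
    (hb : RepWith @Etale b) (e : a ≫ f = (yon S).map h ≫ b) (hP : P h.left) : LocP P f := by
  intro U' V' a' b' h' ha' hb' e'
  obtain ⟨W, w2, w1, hw2, hw2s, hW, hpb⟩ := exists_etale_cover ha has a'
  have hw1 : Etale w1.left := ha'.2 a _ _ hpb.flip
  refine IsEtLocal.of_precomp w2.left h'.left hw2 hw2s ?_
  obtain ⟨X, x1, x2, hX⟩ := exists_isPullback_yon hb.1 b'
  have hx2 : Etale x2.left := hb.2 b' _ _ hX
  have hx1 : Etale x1.left := hb'.2 b _ _ hX.flip
  obtain ⟨l, hl⟩ := (yon S).map_surjective (hX.lift ((yon S).map (w1 ≫ h)) ((yon S).map (w2 ≫ h')) (by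
    rw [Functor.map_comp, Functor.map_comp, Category.assoc, Category.assoc, ← e, ← e',
      reassoc_of% hW]))
  have h1 : l ≫ x1 = w1 ≫ h := (yon S).map_injective (by simp [hl])
  have h2 : l ≫ x2 = w2 ≫ h' := (yon S).map_injective (by simp [hl])
  have hl1 : P (l.left ≫ x1.left) := by
    rw [← Over.comp_left, h1, Over.comp_left]
    exact P.comp_mem _ _ (IsEtLocal.etale_le _ hw1) hP
  have : P (l.left ≫ x2.left) :=
    P.comp_mem _ _ (IsEtLocal.of_postcomp _ _ hx1 hl1) (IsEtLocal.etale_le _ hx2)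
  rwa [← Over.comp_left, h2, Over.comp_left] at this

/-- A representable map with property `P` has `P` etale locally on source and target. -/
theorem locP_of_repWith {F G : Sp S} {f : F ⟶ G} (hf : RepWith P f) : LocP P f := by
  intro U V a b h ha hb e
  obtain ⟨W, fst, snd, hW⟩ : ∃ (W : Over S) (fst : (yon S).obj W ⟶ F) (snd : W ⟶ V),
      IsPullback fst ((yon S).map snd) f b := ⟨_, _, _, hf.1.isPullback b⟩
  have hsnd : P snd.left := hf.2 b fst snd hW
  have hfst : RepWith @Etale fst := repWith_of_isPullback hW.flip hb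
  obtain ⟨k, hk⟩ := (yon S).map_surjective (hW.lift a ((yon S).map h) e)
  have h1 : (yon S).map k ≫ fst = a := by simp [hk]
  have h2 : k ≫ snd = h := (yon S).map_injective (by simp [hk])
  rw [← h2, Over.comp_left]
  exact P.comp_mem _ _ (IsEtLocal.etale_le _ (etale_of_comp_eq ha hfst h1)) hsnd

/-- For a representable map to a sheaf with an etale atlas the two meanings of `P` agree. -/
theorem repWith_of_locP {F G : Sp S} {f : F ⟶ G} (hG : IsAlgSpace G) (hf : Representable f)
    (h : LocP P f) : RepWith P f := by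
  obtain ⟨V₀, y, hye, hys⟩ := hG.atlas
  refine ⟨hf, fun T W g fst snd sq => ?_⟩
  obtain ⟨T₀, t, t₀, hte, hts, ht, htp⟩ := exists_etale_cover hye hys g
  obtain ⟨W', fst', snd', hW'⟩ : ∃ (W' : Over S) (fst' : (yon S).obj W' ⟶ F) (snd' : W' ⟶ V₀),
      IsPullback fst' ((yon S).map snd') f y := ⟨_, _, _, hf.isPullback y⟩
  have hfst' : RepWith @Etale fst' := repWith_of_isPullback hW'.flip hye
  have hPsnd' : P snd'.left := h fst' y snd' hfst' hye hW'.w
  have hW0 : IsPullback (pullback.fst snd t) (pullback.snd snd t) snd t :=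
    IsPullback.of_hasPullback snd t
  have hbig := (isPullback_yon_map hW0).paste_horiz sq
  obtain ⟨k, hk⟩ := (yon S).map_surjective
    (hW'.lift ((yon S).map (pullback.fst snd t) ≫ fst) ((yon S).map (pullback.snd snd t) ≫ (yon S).map t₀) (by
      rw [hbig.w, Category.assoc, ht]))
  have hk1 : (yon S).map k ≫ fst' = (yon S).map (pullback.fst snd t) ≫ fst := by simp [hk]
  have hk2 : k ≫ snd' = pullback.snd snd t ≫ t₀ := (yon S).map_injective (by simp [hk])
  have hsq : IsPullback ((yon S).map k) ((yon S).map (pullback.snd snd t)) ((yon S).map snd')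
      ((yon S).map t₀) := by
    refine IsPullback.of_right ?_ (by rw [← Functor.map_comp, hk2, Functor.map_comp]) hW'
    rw [hk1, ht]
    exact hbig
  refine IsEtLocal.of_precomp (pullback.fst snd t).left snd.left ?_ ?_ ?_
  · exact MorphismProperty.of_isPullback (P := @Etale) (isPullback_left hW0).flip hte
  · exact MorphismProperty.of_isPullback (P := @Surjective) (isPullback_left hW0).flip hts
  · rw [← Over.comp_left, hW0.w, Over.comp_left]
    exact P.comp_mem _ _
      (MorphismProperty.of_isPullback (isPullback_left (isPullback_of_yon_map hsq)) hPsnd')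
      (IsEtLocal.etale_le _ hte)

theorem repWith_iff_locP {F G : Sp S} {f : F ⟶ G} (hG : IsAlgSpace G) (hf : Representable f) :
    RepWith P f ↔ LocP P f :=
  ⟨locP_of_repWith, repWith_of_locP hG hf⟩

/-- `LocP` can be tested after composing with etale maps from schemes. -/
theorem locP_iff_forall_comp {P : MorphismProperty Scheme.{u}} {F G : Sp S} {f : F ⟶ G} :
    LocP P f ↔ ∀ ⦃U : Over S⦄ (φ : (yon S).obj U ⟶ F), RepWith @Etale φ → LocP P (φ ≫ f) := by
  refine ⟨fun h U φ hφ U' V a b k ha hb e => h (a ≫ φ) b k (repWith_comp ha hφ) hb (by simpa using e),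
    fun h U V a b k ha hb e => h a ha (𝟙 _) b k (repWith_id _ U) hb (by simpa using e)⟩

theorem isEtaleMor_iff_locP {F G : Sp S} {f : F ⟶ G} (hG : IsAlgSpace G) :
    IsEtaleMor f ↔ LocP @Etale f := by
  rw [locP_iff_forall_comp]
  exact forall_congr' fun U => forall₂_congr fun φ _ =>
    repWith_iff_locP hG (hG.representable_from_yon _)

theorem locP_comp {F G H : Sp S} {f : F ⟶ G} {g : G ⟶ H} (hG : IsAlgSpace G)
    (hf : LocP P f) (hg : LocP P g) : LocP P (f ≫ g) := by
  intro U W a c h ha hc e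
  obtain ⟨V₀, y, hye, hys⟩ := hG.atlas
  obtain ⟨U₁, p, q, hpe, hps, hq, -⟩ := exists_etale_cover hye hys (a ≫ f)
  obtain ⟨V, w, v₀, hV⟩ := exists_isPullback_yon hc.1 (y ≫ g)
  have hv₀ : Etale v₀.left := hc.2 _ _ _ hV
  obtain ⟨l, hl⟩ := (yon S).map_surjective (hV.lift ((yon S).map (p ≫ h)) ((yon S).map q) (by
    rw [Functor.map_comp, Category.assoc, ← e, reassoc_of% hq]))
  have h1 : l ≫ w = p ≫ h := (yon S).map_injective (by simp [hl])
  have h2 : l ≫ v₀ = q := (yon S).map_injective (by simp [hl])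
  have hPq : P q.left := hf ((yon S).map p ≫ a) y q (repWith_comp (repWith_yon_map hpe) ha) hye
    (by rw [Category.assoc, hq])
  have hPl : P l.left := IsEtLocal.of_postcomp _ v₀.left hv₀ (by rwa [← Over.comp_left, h2])
  have hPw : P w.left := hg ((yon S).map v₀ ≫ y) c w (repWith_comp (repWith_yon_map hv₀) hye) hc
    (by rw [Category.assoc]; exact hV.w.symm)
  refine IsEtLocal.of_precomp p.left h.left hpe hps ?_
  rw [← Over.comp_left, ← h1, Over.comp_left]
  exact P.comp_mem _ _ hPl hPw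

/-- Cancellation on the right for a pair of etale local properties. -/
theorem locP_of_comp {Q : MorphismProperty Scheme.{u}}
    (hPQ : ∀ {X Y Z : Scheme.{u}} (f : X ⟶ Y) (g : Y ⟶ Z), P (f ≫ g) → Q g → P f)
    {F G H : Sp S} {f : F ⟶ G} {g : G ⟶ H} (hH : IsAlgSpace H)
    (hfg : LocP P (f ≫ g)) (hg : LocP Q g) : LocP P f := by
  intro U V a b h ha hb e
  obtain ⟨W₀, z, hze, hzs⟩ := hH.atlas
  obtain ⟨V₁, v, r, hve, hvs, hr, -⟩ := exists_etale_cover hze hzs (b ≫ g)
  have hU : IsPullback (pullback.fst h v) (pullback.snd h v) h v := IsPullback.of_hasPullback h v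
  have hu : Etale (pullback.fst h v).left :=
    MorphismProperty.of_isPullback (P := @Etale) (isPullback_left hU).flip hve
  refine IsEtLocal.of_precomp (pullback.fst h v).left h.left hu
    (MorphismProperty.of_isPullback (P := @Surjective) (isPullback_left hU).flip hvs) ?_
  rw [← Over.comp_left, hU.w, Over.comp_left]
  refine P.comp_mem _ _ (hPQ _ r.left ?_ ?_) (IsEtLocal.etale_le _ hve)
  · rw [← Over.comp_left]
    refine hfg ((yon S).map (pullback.fst h v) ≫ a) z _ (repWith_comp (repWith_yon_map hu) ha) hze ?_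
    rw [Functor.map_comp, Category.assoc, Category.assoc, hr, reassoc_of% e, ← Functor.map_comp_assoc,
      hU.w, Functor.map_comp_assoc]
  · exact hg ((yon S).map v ≫ b) z r (repWith_comp (repWith_yon_map hve) hb) hze
      (by rw [Category.assoc, hr])

theorem locP_of_isPullback {X Y Z T : Sp S} {f : X ⟶ Y} {g : Z ⟶ Y} {fst : T ⟶ Z} {snd : T ⟶ X}
    (h : IsPullback fst snd g f) (hX : IsAlgSpace X) (hY : IsAlgSpace Y) (hZ : IsAlgSpace Z)
    (hf : LocP P f) : LocP P fst := by
  obtain ⟨X₀, x₀, hxe, hxs⟩ := hX.atlas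
  obtain ⟨Y₀, y₀, hye, hys⟩ := hY.atlas
  obtain ⟨Z₀, z₀, hze, hzs⟩ := hZ.atlas
  obtain ⟨Z₁, cz, r, hcze, hczs, hr, -⟩ := exists_etale_cover hye hys (z₀ ≫ g)
  have hr' : (yon S).map r ≫ y₀ = ((yon S).map cz ≫ z₀) ≫ g := by rw [hr, Category.assoc]
  set z₁ := (yon S).map cz ≫ z₀
  have hz₁e : RepWith @Etale z₁ := repWith_comp (repWith_yon_map hcze) hze
  have hz₁s : RepWith @Surjective z₁ := repWith_comp (repWith_yon_map hczs) hzs
  obtain ⟨X', i, j, hX'⟩ : ∃ (X' : Sp S) (i : X' ⟶ X) (j : X' ⟶ (yon S).obj Y₀),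
      IsPullback i j f y₀ := ⟨_, _, _, IsPullback.of_hasPullback f y₀⟩
  obtain ⟨X₁, q, p, hX₁⟩ := exists_isPullback_yon hye.1 (x₀ ≫ f)
  have hpe : Etale p.left := hye.2 _ _ _ hX₁
  have hPq : P q.left := hf ((yon S).map p ≫ x₀) y₀ q (repWith_comp (repWith_yon_map hpe) hxe) hye
    (by rw [Category.assoc]; exact hX₁.w.symm)
  obtain ⟨x₁, hx₁i, hx₁j⟩ : ∃ l : (yon S).obj X₁ ⟶ X', l ≫ i = (yon S).map p ≫ x₀ ∧
      l ≫ j = (yon S).map q :=
    ⟨hX'.lift _ _ (by rw [Category.assoc]; exact hX₁.w.symm), hX'.lift_fst _ _ _, hX'.lift_snd _ _ _⟩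
  have hX₁' : IsPullback ((yon S).map p) x₁ x₀ i := by
    refine IsPullback.of_bot (h₃₁ := y₀) (v₂₁ := j) (v₂₂ := f) ?_ hx₁i.symm hX'
    rw [hx₁j]
    exact hX₁.flip
  obtain ⟨T₀, c, d, hT₀⟩ : ∃ (T₀ : Sp S) (c : T₀ ⟶ T) (d : T₀ ⟶ (yon S).obj Z₁),
      IsPullback c d fst z₁ := ⟨_, _, _, IsPullback.of_hasPullback fst z₁⟩
  have hbig : IsPullback (c ≫ snd) d f (z₁ ≫ g) := hT₀.paste_horiz h.flip
  obtain ⟨e, hei, hej⟩ : ∃ l : T₀ ⟶ X', l ≫ i = c ≫ snd ∧ l ≫ j = d ≫ (yon S).map r :=
    ⟨hX'.lift _ _ (by rw [hbig.w, Category.assoc d _ y₀, hr']), hX'.lift_fst _ _ _, hX'.lift_snd _ _ _⟩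
  have hT₀' : IsPullback e d j ((yon S).map r) := by
    refine IsPullback.of_right (h₁₂ := i) (v₁₃ := f) (h₂₂ := y₀) ?_ hej hX'
    rw [hei, hr']
    exact hbig
  have hM0 : IsPullback (pullback.fst q r) (pullback.snd q r) q r := IsPullback.of_hasPullback q r
  have hM := isPullback_yon_map hM0
  obtain ⟨m, hme, hmd⟩ : ∃ l, l ≫ e = (yon S).map (pullback.fst q r) ≫ x₁ ∧
      l ≫ d = (yon S).map (pullback.snd q r) :=
    ⟨hT₀'.lift _ _ (by rw [Category.assoc, hx₁j, hM.w]), hT₀'.lift_fst _ _ _, hT₀'.lift_snd _ _ _⟩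
  have hM' : IsPullback ((yon S).map (pullback.fst q r)) m x₁ e := by
    refine IsPullback.of_bot (h₃₁ := (yon S).map r) (v₂₁ := d) (v₂₂ := j) ?_ hme.symm hT₀'
    rw [hmd, hx₁j]
    exact hM
  refine locP_of_chart (a := m ≫ c) (b := z₁) (h := pullback.snd q r) ?_ ?_ hz₁e ?_ ?_
  · exact repWith_comp (repWith_of_isPullback hM' (repWith_of_isPullback hX₁' hxe))
      (repWith_of_isPullback hT₀.flip hz₁e)
  · exact repWith_comp (repWith_of_isPullback hM' (repWith_of_isPullback hX₁' hxs))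
      (repWith_of_isPullback hT₀.flip hz₁s)
  · rw [Category.assoc, hT₀.w, reassoc_of% hmd]
  · exact MorphismProperty.of_isPullback (isPullback_left hM0) hPq

/-- A property can be tested after composing with a surjective etale chart of the source. -/
theorem locP_of_comp_chart {F G : Sp S} {f : F ⟶ G} (hG : IsAlgSpace G) {U : Over S}
    {φ : (yon S).obj U ⟶ F} (hφ : RepWith @Etale φ) (hφs : RepWith @Surjective φ)
    (h : LocP P (φ ≫ f)) : LocP P f := by
  obtain ⟨V₀, y, hye, hys⟩ := hG.atlas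
  obtain ⟨U₁, p, q, hpe, hps, hq, -⟩ := exists_etale_cover hye hys (φ ≫ f)
  refine locP_of_chart (a := (yon S).map p ≫ φ) (b := y) (h := q)
    (repWith_comp (repWith_yon_map hpe) hφ) (repWith_comp (repWith_yon_map hps) hφs) hye
    (by rw [Category.assoc, hq]) ?_
  exact h ((yon S).map p) y q (repWith_yon_map hpe) hye (by rw [hq])

end Groth.Agent.ASp
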