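import Mathlib.AlgebraicGeometry.Morphisms.LocalFlatDescent
import Groth.Agent.ASp.LocP
import Groth.Agent.FpqcDesc.Basic
import Groth.Prelude.Def_AlgSpCov
/-!
Descent of properties of morphisms of algebraic spaces along fpqc coverings of the base.
-/

set_option backward.isDefEq.respectTransparency.types false

universe u

open CategoryTheory CategoryTheory.Limits AlgebraicGeometry Opposite TensorProduct

namespace Groth.Agent.ASp

open _root_.AlgSp

theorem flat_descends :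
    MorphismProperty.DescendsAlong @Flat (@Surjective ⊓ @Flat ⊓ @QuasiCompact : MorphismProperty Scheme.{u}) := by
  refine HasRingHomProperty.descendsAlong_flat ?_
  refine RingHom.CodescendsAlong.mk _ RingHom.Flat.respectsIso ?_
  intro R S T _ _ _ _ _ hS h
  rw [RingHom.flat_algebraMap_iff] at h ⊢
  rw [RingHom.faithfullyFlat_algebraMap_iff] at hS
  exact Module.Flat.of_flat_tensorProduct R T S

instance : MorphismProperty.DescendsAlong @Flat (@Surjective ⊓ @Flat ⊓ @QuasiCompact : MorphismProperty Scheme.{u}) :=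
  flat_descends

instance : MorphismProperty.DescendsAlong @LocallyQuasiFinite
    (@Surjective ⊓ @Flat ⊓ @QuasiCompact : MorphismProperty Scheme.{u}) :=
  FpqcDesc.locallyQuasiFinite_descends

instance {P P' : MorphismProperty Scheme.{u}} {Q : MorphismProperty Scheme.{u}}
    [P.DescendsAlong Q] [P'.DescendsAlong Q] : (P ⊓ P').DescendsAlong Q where
  of_isPullback h hQ hP := ⟨MorphismProperty.of_isPullback_of_descendsAlong h hQ hP.1,
    MorphismProperty.of_isPullback_of_descendsAlong h hQ hP.2⟩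

variable {S : Scheme.{u}}

/-- An fpqc local property of schemes can be tested on the members of an fpqc covering. -/
theorem prop_of_fpqc {P : MorphismProperty Scheme.{u}}
    [P.DescendsAlong (@Surjective ⊓ @Flat ⊓ @QuasiCompact)] [IsZariskiLocalAtTarget P]
    {ι : Type u} {Y : Sp S} {Yi : ι → Sp S} {g : ∀ i, Yi i ⟶ Y} (hτ : IsFpqcCover Yi g)
    {U V : Over S} (b : (yon S).obj V ⟶ Y) (h : U ⟶ V)
    (H : ∀ (W T : Over S) (c : W ⟶ V) (t : T ⟶ U) (r : T ⟶ W), IsPullback t r h c →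
      ∀ (i : ι) (l : (yon S).obj W ⟶ Yi i), l ≫ g i = (yon S).map c ≫ b → P r.left) :
    P h.left := by
  rw [IsZariskiLocalAtTarget.iff_of_iSup_eq_top (P := P) _ (iSup_affineOpens_eq_top V.left)]
  intro Z
  let Z₁ : Over S := Over.mk (Z.1.ι ≫ V.hom)
  let z : Z₁ ⟶ V := Over.homMk Z.1.ι rfl
  obtain ⟨m, W, c, hWa, hcf, hcs, hl⟩ := hτ.2 Z₁ Z.2 ((yon S).map z ≫ b)
  let C : (∐ fun j => (W j).left) ⟶ Z₁.left := Limits.Sigma.desc fun j => (c j).left
  have hWaff : ∀ j, IsAffine (W j).left := hWa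
  have : IsAffine Z₁.left := Z.2
  have h1 : Surjective C := ⟨fun x => by
    obtain ⟨j, w, rfl⟩ := hcs x
    refine ⟨Sigma.ι (fun j => (W j).left) j w, ?_⟩
    rw [← Scheme.Hom.comp_apply]
    simp only [C, Sigma.ι_desc]⟩
  have h2 : Flat C := by
    rw [IsZariskiLocalAtSource.iff_of_openCover (P := @Flat) (sigmaOpenCover fun j => (W j).left)]
    intro j
    have e : (sigmaOpenCover fun j => (W j).left).f j ≫ C = (c j).left := Sigma.ι_desc _ _
    rw [e]
    exact hcf j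
  have h3 : QuasiCompact C := inferInstance
  refine MorphismProperty.of_pullback_snd_of_descendsAlong
    (Q := @Surjective ⊓ @Flat ⊓ @QuasiCompact) (f := (h.left ∣_ Z.1)) (g := C) ⟨⟨h1, h2⟩, h3⟩ ?_
  rw [IsZariskiLocalAtTarget.iff_of_openCover (P := P) (sigmaOpenCover fun j => (W j).left)]
  intro j
  obtain ⟨i, l, hli⟩ := hl j
  have hT : IsPullback (pullback.fst h (c j ≫ z)) (pullback.snd h (c j ≫ z)) h (c j ≫ z) :=
    IsPullback.of_hasPullback _ _
  have hr := H (W j) _ (c j ≫ z) _ _ hT i l (by rw [hli, Functor.map_comp, Category.assoc])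
  have e : (sigmaOpenCover fun j => (W j).left).f j ≫ C = (c j).left := Sigma.ι_desc _ _
  have big := (((IsPullback.of_hasPullback (pullback.snd (h.left ∣_ Z.1) C)
    ((sigmaOpenCover fun j => (W j).left).f j)).paste_horiz
    (IsPullback.of_hasPullback (h.left ∣_ Z.1) C)).paste_horiz
    (isPullback_morphismRestrict h.left Z.1).flip)
  rw [e] at big
  have hT' : IsPullback (pullback.fst h (c j ≫ z)).left (pullback.snd h (c j ≫ z)).left h.left
      ((c j).left ≫ Z.1.ι) := isPullback_left hT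
  have : P.RespectsIso := inferInstance
  change P (pullback.snd (pullback.snd (h.left ∣_ Z.1) C) _)
  rw [← hT'.isoIsPullback_inv_snd _ _ big]
  exact (P.cancel_left_of_respectsIso _ _).2 hr

/-- An fpqc covering is jointly surjective on points. -/
theorem surjective_of_fpqc {ι : Type u} {Y : Sp S} {Yi : ι → Sp S} {g : ∀ i, Yi i ⟶ Y}
    (hτ : IsFpqcCover Yi g) (y : Points Y) : ∃ i, y ∈ Set.range (Points.map (g i)) := by
  induction y using Points.ind with | h p =>
  obtain ⟨T, φ, t, ht⟩ := exists_ofPt_eq (Points.mk p)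
  obtain ⟨U, hU, htU, -⟩ := exists_isAffineOpen_mem_and_subset (x := t) (U := (⊤ : T.left.Opens)) (by simp)
  let Z₁ : Over S := Over.mk (U.ι ≫ T.hom)
  let z : Z₁ ⟶ T := Over.homMk U.ι rfl
  obtain ⟨m, W, c, -, -, hcs, hl⟩ := hτ.2 Z₁ hU ((yon S).map z ≫ φ)
  obtain ⟨j, w, hw⟩ := hcs ⟨t, htU⟩
  obtain ⟨i, l, hl⟩ := hl j
  refine ⟨i, Points.ofPt l w, ?_⟩
  rw [Points.map_ofPt, hl, ofPt_yon_map_comp, hw, ofPt_yon_map_comp]
  exact ht

variable {P : MorphismProperty Scheme.{u}} [IsEtLocal P]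

/-- Being locally on charts of type `P` descends along fpqc coverings of the base. -/
theorem locP_of_fpqc [P.DescendsAlong (@Surjective ⊓ @Flat ⊓ @QuasiCompact)] [IsZariskiLocalAtTarget P]
    {ι : Type u} {X Y : Sp S} {f : X ⟶ Y} {Yi Xi : ι → Sp S} {g : ∀ i, Yi i ⟶ Y}
    {p : ∀ i, Xi i ⟶ Yi i} {q : ∀ i, Xi i ⟶ X} (hX : IsAlgSpace X) (hY : IsAlgSpace Y)
    (hXi : ∀ i, IsAlgSpace (Xi i)) (hYi : ∀ i, IsAlgSpace (Yi i))
    (hsq : ∀ i, IsPullback (q i) (p i) f (g i)) (hτ : IsFpqcCover Yi g)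
    (h : ∀ i, LocP P (p i)) : LocP P f := by
  intro U V a b k ha hb e
  refine prop_of_fpqc hτ b k fun W T c t r sq i l hl => ?_
  obtain ⟨X', π, j, hX'⟩ : ∃ (X' : Sp S) (π : X' ⟶ X) (j : X' ⟶ (yon S).obj V),
      IsPullback π j f b := ⟨_, _, _, IsPullback.of_hasPullback f b⟩
  have hX'a : IsAlgSpace X' := isAlgSpace_of_isPullback hY.diag hX (IsAlgSpace.yon_obj V) hX'
  have hπ : RepWith @Etale π := repWith_of_isPullback hX'.flip hb
  obtain ⟨k₀, hk₀π, hk₀j⟩ : ∃ l' : (yon S).obj U ⟶ X', l' ≫ π = a ∧ l' ≫ j = (yon S).map k :=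
    ⟨hX'.lift a _ e, hX'.lift_fst _ _ _, hX'.lift_snd _ _ _⟩
  have hk₀ : RepWith @Etale k₀ := repWith_of_locP hX'a (hX'a.representable_from_yon _)
    (locP_of_comp (Q := @Etale) (fun u v h1 h2 => MorphismProperty.of_postcomp @Etale u v h2 h1) hX
      (g := π) (by rw [hk₀π]; exact locP_of_repWith ha) (locP_of_repWith hπ))
  obtain ⟨T', π', j', hT'⟩ : ∃ (T' : Sp S) (π' : T' ⟶ X') (j' : T' ⟶ (yon S).obj W),
      IsPullback π' j' j ((yon S).map c) := ⟨_, _, _, IsPullback.of_hasPullback _ _⟩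
  have hbig : IsPullback (π' ≫ π) j' f (l ≫ g i) := by
    rw [hl]
    exact hT'.paste_horiz hX'
  obtain ⟨m, hmq, hmp⟩ : ∃ m : T' ⟶ Xi i, m ≫ q i = π' ≫ π ∧ m ≫ p i = j' ≫ l :=
    ⟨(hsq i).lift _ _ (by rw [hbig.w, Category.assoc]), (hsq i).lift_fst _ _ _, (hsq i).lift_snd _ _ _⟩
  have hm : IsPullback m j' (p i) l := by
    refine IsPullback.of_right ?_ hmp (hsq i)
    rw [hmq]
    exact hbig
  have hj' : LocP P j' := locP_of_isPullback hm.flip (hXi i) (hYi i) (IsAlgSpace.yon_obj W) (h i)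
  obtain ⟨k₁, hk₁π, hk₁j⟩ : ∃ l' : (yon S).obj T ⟶ T', l' ≫ π' = (yon S).map t ≫ k₀ ∧
      l' ≫ j' = (yon S).map r :=
    ⟨hT'.lift _ _ (by rw [Category.assoc, hk₀j, ← Functor.map_comp, sq.w, Functor.map_comp]),
      hT'.lift_fst _ _ _, hT'.lift_snd _ _ _⟩
  have hk₁ : IsPullback ((yon S).map t) k₁ k₀ π' := by
    refine IsPullback.of_bot (h₃₁ := (yon S).map c) (v₂₁ := j') (v₂₂ := j) ?_ hk₁π.symm hT'
    rw [hk₁j, hk₀j]
    exact isPullback_yon_map sq
  exact hj' k₁ (𝟙 _) r (repWith_of_isPullback hk₁ hk₀) (repWith_id _ W)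
    (by rw [hk₁j, Category.comp_id])

theorem isLocalOnBase_locP [P.DescendsAlong (@Surjective ⊓ @Flat ⊓ @QuasiCompact)]
    [IsZariskiLocalAtTarget P] : IsLocalOnBase (IsFpqcCover (S := S)) (LocP P) :=
  fun _ _ _ _ hY hYi hτ _ _ hX _ _ _ hXi hsq =>
    ⟨fun h i => locP_of_isPullback (hsq i).flip hX hY (hYi i) h,
      fun h => locP_of_fpqc hX hY hXi hYi hsq hτ h⟩

end Groth.Agent.ASp
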