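import Groth.Agent.ASp.RelLPSystem
import Groth.Agent.AffLim.Presentation
/-!
# Étale covers of affine schemes come from schemes of finite presentation over the integers
-/

set_option autoImplicit false
set_option backward.isDefEq.respectTransparency false
set_option backward.defeqAttrib.useBackward true
set_option backward.isDefEq.respectTransparency.types false

universe u

open CategoryTheory CategoryTheory.Limits AlgebraicGeometry Opposite

noncomputable section

namespace Groth.Agent.ASp

/-- An affine scheme with a finitely generated ring of functions is of finite presentation over the integers. -/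
theorem lfp_terminal_of_adjoin {A : CommRingCat.{u}} [Algebra.FiniteType ℤ A] :
    LocallyOfFinitePresentation (terminal.from (Spec A)) := by
  haveI := isIso_of_isTerminal specULiftZIsTerminal.{u} terminalIsTerminal (terminal.from _)
  let f : CommRingCat.of (ULift.{u} ℤ) ⟶ A :=
    CommRingCat.ofHom ((Int.castRingHom A).comp (ULift.ringEquiv (R := ℤ)).toRingHom)
  haveI : IsNoetherianRing (CommRingCat.of (ULift.{u} ℤ)) :=
    isNoetherianRing_of_ringEquiv ℤ (ULift.ringEquiv (R := ℤ)).symm
  have hf : f.hom.FinitePresentation := by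
    refine RingHom.FinitePresentation.of_finiteType.mp
      (RingHom.FiniteType.of_comp_finiteType (f := (ULift.ringEquiv (R := ℤ)).symm.toRingHom) ?_)
    have e : f.hom.comp (ULift.ringEquiv (R := ℤ)).symm.toRingHom = algebraMap ℤ A := RingHom.ext_int _ _
    exact e ▸ RingHom.finiteType_algebraMap.mpr inferInstance
  have e : terminal.from (Spec A) = Spec.map f ≫ terminal.from (Spec (CommRingCat.of (ULift.{u} ℤ))) :=
    terminal.hom_ext _ _
  rw [e]
  haveI : LocallyOfFinitePresentation (Spec.map f) :=
    (HasRingHomProperty.Spec_iff (P := @LocallyOfFinitePresentation)).2 hf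
  infer_instance

/-- An étale surjective map of affine schemes is a base change of one over a scheme of finite presentation over
the integers. -/
theorem exists_abs_model {T U : Scheme.{u}} [IsAffine T] [IsAffine U] (u : U ⟶ T) [Etale u] [Surjective u] :
    ∃ (T' W' : Scheme.{u}) (π : T ⟶ T') (w : W' ⟶ T') (q : U ⟶ W'),
      IsAffine T' ∧ IsAffine W' ∧ Etale w ∧ Surjective w ∧ LocallyOfFinitePresentation (terminal.from T') ∧
        IsPullback q u w π := by
  classical
  let A : CommRingCat.{u} := Γ(T, ⊤)
  let F : Finset A ⥤ CommRingCat.{u} :=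
    { obj := fun s => CommRingCat.of (Algebra.adjoin ℤ (s : Set A))
      map := fun {s t} h => CommRingCat.ofHom (Subalgebra.inclusion (Algebra.adjoin_mono
        (Finset.coe_subset.mpr h.le))).toRingHom
      map_id := fun s => by ext x; rfl
      map_comp := fun h h' => by ext x; rfl }
  let c : Cocone F :=
    { pt := A
      ι :=
        { app := fun s => CommRingCat.ofHom (Algebra.adjoin ℤ (s : Set A)).val.toRingHom
          naturality := fun s t h => by ext x; rfl } }
  obtain ⟨hc⟩ := AffLim.nonempty_isColimit_of_elementwise c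
    (fun x => ⟨{x}, ⟨x, Algebra.subset_adjoin (by simp)⟩, rfl⟩)
    (fun s x y e => ⟨s, le_rfl, by rw [show x = y from Subtype.ext e]⟩)
  let P : Over (⊤_ Scheme.{u}) := Over.mk (terminal.from (⊤_ Scheme.{u}))
  let D : (Finset A)ᵒᵖ ⥤ Over (⊤_ Scheme.{u}) :=
    { obj := fun s => Over.mk (terminal.from (Spec (F.obj s.unop)))
      map := fun φ => Over.homMk (Spec.map (F.map φ.unop)) (terminal.hom_ext _ _)
      map_id := fun s => Over.OverMorphism.ext (by simp)
      map_comp := fun φ ψ => Over.OverMorphism.ext (by simp) }
  let T₀ : Over (⊤_ Scheme.{u}) := Over.mk (terminal.from T)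
  let cD : Cone D :=
    { pt := T₀
      π :=
        { app := fun s => Over.homMk (T.isoSpec.hom ≫ Spec.map (c.ι.app s.unop)) (terminal.hom_ext _ _)
          naturality := fun s t φ => Over.OverMorphism.ext (by
            change 𝟙 _ ≫ T.isoSpec.hom ≫ Spec.map (c.ι.app t.unop) =
              (T.isoSpec.hom ≫ Spec.map (c.ι.app s.unop)) ≫ Spec.map (F.map φ.unop)
            rw [Category.id_comp, Category.assoc, ← Spec.map_comp, c.w]) } }
  have hcD : IsLimit ((Over.forget _).mapCone cD) :=
    IsLimit.ofIsoLimit (isLimitOfPreserves Scheme.Spec hc.op) (Cone.ext T.isoSpec (fun s => rfl)).symm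
  haveI : IsAffine (Over.mk (terminal.from U)).left := ‹IsAffine U›
  let p : Over.mk (terminal.from U) ⟶ cD.pt := Over.homMk u (terminal.hom_ext _ _)
  haveI : Etale p.left := ‹Etale u›
  haveI : Surjective p.left := ‹Surjective u›
  obtain ⟨s, -, W, w, q, hW, hwe, hws, sq⟩ := exists_etale_cover_stage D cD hcD
    (fun s => inferInstanceAs (IsAffine (Spec _))) (op ∅) p
  refine ⟨(D.obj s).left, W.left, (cD.π.app s).left, w.left, q.left, inferInstanceAs (IsAffine (Spec _)), hW,
    hwe, hws, ?_, sq⟩
  haveI : Algebra.FiniteType ℤ (F.obj s.unop) :=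
    (Subalgebra.fg_iff_finiteType _).1 ⟨s.unop, rfl⟩
  exact lfp_terminal_of_adjoin

end Groth.Agent.ASp
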