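import Groth.Agent.ASp.Points
/-!
Morphisms of sheaves: monomorphisms, isomorphisms, separation, quasi-compactness.
-/

set_option backward.isDefEq.respectTransparency.types false

universe u

open CategoryTheory CategoryTheory.Limits AlgebraicGeometry Opposite Topology

namespace Groth.Agent.ASp

open _root_.AlgSp

attribute [local simp] pullback.lift_fst pullback.lift_snd pullback.lift_fst_assoc pullback.lift_snd_assoc

variable {S : Scheme.{u}}

lemma hom_ext_yon {F G : Sp S} {f g : F ⟶ G}
    (h : ∀ (U : Over S) (p : (yon S).obj U ⟶ F), p ≫ f = p ≫ g) : f = g :=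
  (J S).hom_ext_uliftYoneda h

/-- A sheaf map all whose base changes to schemes are monomorphisms of schemes is a monomorphism. -/
lemma mono_of_repWith {P : MorphismProperty Scheme.{u}} (hP : ∀ {X Y : Scheme.{u}} (g : X ⟶ Y), P g → Mono g)
    {F G : Sp S} {f : F ⟶ G} (hf : RepWith P f) : Mono f := by
  refine ⟨fun {Z} a b hab => hom_ext_yon fun U p => ?_⟩
  have sq := hf.1.isPullback (p ≫ a ≫ f)
  obtain ⟨la, la1, la2⟩ : ∃ l : (yon S).obj U ⟶ _, l ≫ hf.1.fst (p ≫ a ≫ f) = p ≫ a ∧
      l ≫ (yon S).map (hf.1.snd (p ≫ a ≫ f)) = 𝟙 _ :=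
    ⟨sq.lift (p ≫ a) (𝟙 _) (by simp), sq.lift_fst _ _ _, sq.lift_snd _ _ _⟩
  obtain ⟨lb, lb1, lb2⟩ : ∃ l : (yon S).obj U ⟶ _, l ≫ hf.1.fst (p ≫ a ≫ f) = p ≫ b ∧
      l ≫ (yon S).map (hf.1.snd (p ≫ a ≫ f)) = 𝟙 _ :=
    ⟨sq.lift (p ≫ b) (𝟙 _) (by simp [hab]), sq.lift_fst _ _ _, sq.lift_snd _ _ _⟩
  have : Mono (hf.1.snd (p ≫ a ≫ f)).left := hP _ (hf.2 _ _ _ sq)
  have : Mono (hf.1.snd (p ≫ a ≫ f)) := (Over.forget S).mono_of_mono_map this
  have e : la = lb := (cancel_mono ((yon S).map (hf.1.snd (p ≫ a ≫ f)))).1 (la2.trans lb2.symm)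
  rw [← la1, ← lb1, e]

/-- A sheaf map all whose base changes to schemes are isomorphisms is an isomorphism. -/
lemma isIso_of_repWith {F G : Sp S} {f : F ⟶ G} (hf : RepWith (MorphismProperty.isomorphisms Scheme.{u}) f) :
    IsIso f := by
  haveI : Mono f := mono_of_repWith (P := MorphismProperty.isomorphisms Scheme.{u})
    (fun g (hg : IsIso g) => inferInstance) hf
  have key : ∀ (U : Over S) (g : (yon S).obj U ⟶ G), ∃ l : (yon S).obj U ⟶ F, l ≫ f = g := by
    intro U g
    have sq := hf.1.isPullback g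
    have h1 : IsIso (hf.1.snd g).left := hf.2 _ _ _ sq
    have : IsIso (hf.1.snd g) := by
      have : IsIso ((Over.forget S).map (hf.1.snd g)) := h1
      exact isIso_of_reflects_iso _ (Over.forget S)
    refine ⟨inv ((yon S).map (hf.1.snd g)) ≫ hf.1.fst g, ?_⟩
    rw [Category.assoc, sq.w, IsIso.inv_hom_id_assoc]
  suffices IsIso f.hom from (isIso_iff_of_reflects_iso f (sheafToPresheaf _ _)).1 this
  suffices ∀ T, IsIso (f.hom.app T) from NatIso.isIso_of_isIso_app _
  intro T
  rw [isIso_iff_bijective]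
  constructor
  · intro x y e
    have : (J S).uliftYonedaEquiv.{u+1}.symm x = (J S).uliftYonedaEquiv.{u+1}.symm y := by
      rw [← cancel_mono f, GrothendieckTopology.uliftYonedaEquiv_symm_naturality_right,
        GrothendieckTopology.uliftYonedaEquiv_symm_naturality_right]
      exact congrArg _ e
    exact ((J S).uliftYonedaEquiv.{u+1}.symm).injective this
  · intro y
    obtain ⟨l, hl⟩ := key T.unop ((J S).uliftYonedaEquiv.{u+1}.symm y)
    refine ⟨(J S).uliftYonedaEquiv.{u+1} l, ?_⟩
    have := congrArg ((J S).uliftYonedaEquiv.{u+1}) hl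
    rwa [GrothendieckTopology.uliftYonedaEquiv_comp, Equiv.apply_symm_apply] at this

lemma repWith_diagonal_of_mono {P : MorphismProperty Scheme.{u}} [P.IsMultiplicative] [P.RespectsIso]
    {F G : Sp S} (f : F ⟶ G) [Mono f] : RepWith P (pullback.diagonal f) :=
  repWith_of_isIso _

/-- For a representable map the diagonal condition can be tested on base changes to schemes. -/
lemma repWith_diagonal_iff {P : MorphismProperty Scheme.{u}} [P.IsStableUnderBaseChange]
    {F G : Sp S} {f : F ⟶ G} (hf : Representable f) :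
    RepWith P (pullback.diagonal f) ↔ RepWith P.diagonal f := by
  have : P.RespectsIso := MorphismProperty.IsStableUnderBaseChange.respectsIso
  constructor
  · intro h
    refine ⟨hf, fun U V g fst snd sq => ?_⟩
    have : (RepWith (S := S) P).diagonal ((yon S).map snd) :=
      MorphismProperty.of_isPullback (P := (RepWith (S := S) P).diagonal) sq h
    exact (repWith_diagonal_yon_map_iff P snd).1 this
  · intro h
    refine repWith_of_exists fun U g => ?_
    obtain ⟨V, v, c, sq⟩ : ∃ (V : Over S) (v : V ⟶ U) (c : (yon S).obj V ⟶ F),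
        IsPullback c ((yon S).map v) f (g ≫ pullback.fst f f ≫ f) := hf _
    have hv : RepWith P (pullback.diagonal ((yon S).map v)) :=
      (repWith_diagonal_yon_map_iff P v).2 (h.2 _ _ _ sq)
    let a := sq.lift (g ≫ pullback.fst f f) (𝟙 _) (by simp)
    let b := sq.lift (g ≫ pullback.snd f f) (𝟙 _) (by simp [pullback.condition])
    let l : (yon S).obj U ⟶ pullback ((yon S).map v) ((yon S).map v) :=
      pullback.lift a b (by simp [a, b])
    let m : pullback ((yon S).map v) ((yon S).map v) ⟶ pullback f f :=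
      pullback.map _ _ _ _ c c (g ≫ pullback.fst f f ≫ f) sq.w.symm sq.w.symm
    have hlm : l ≫ m = g := by
      apply pullback.hom_ext <;> simp [l, m, a, b, pullback.map]
    have hm : IsPullback c (pullback.diagonal ((yon S).map v)) (pullback.diagonal f) m := by
      refine IsPullback.of_isLimit' ⟨by apply pullback.hom_ext <;> simp [m, pullback.map]⟩
        (PullbackCone.IsLimit.mk _ (fun s => s.snd ≫ pullback.fst _ _) (fun s => ?_) (fun s => ?_)
          (fun s n h1 h2 => ?_))
      · simpa [m, pullback.map] using (congrArg (· ≫ pullback.fst f f) s.condition).symm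
      · have h1 := congrArg (· ≫ pullback.fst f f) s.condition
        have h2 := congrArg (· ≫ pullback.snd f f) s.condition
        simp [m, pullback.map] at h1 h2
        apply pullback.hom_ext
        · simp
        · simp only [Category.assoc, pullback.diagonal_snd, Category.comp_id]
          apply sq.hom_ext
          · simp [← h1, ← h2]
          · simp [pullback.condition]
      · simpa using congrArg (· ≫ pullback.fst _ _) h2
    obtain ⟨W, w, e, sq'⟩ := hv.1 l
    exact ⟨W, e ≫ c, w, hlm ▸ sq'.paste_horiz hm, hv.2 _ _ _ sq'⟩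

lemma isSeparatedMor_iff {F G : Sp S} {f : F ⟶ G} (hf : Representable f) :
    IsSeparatedMor f ↔ RepWith @IsSeparated f := by
  rw [IsSeparated.isSeparated_eq_diagonal_isClosedImmersion]
  exact repWith_diagonal_iff hf

lemma isQuasiSeparatedMor_iff {F G : Sp S} {f : F ⟶ G} (hf : Representable f) :
    IsQuasiSeparatedMor f ↔ RepWith @QuasiSeparated f := by
  rw [quasiSeparated_eq_diagonal_is_quasiCompact]
  exact repWith_diagonal_iff hf

/-- Injectivity on points, tested on base changes to schemes. -/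
lemma injective_map_of_repWith {P : MorphismProperty Scheme.{u}}
    (hP : ∀ {X Y : Scheme.{u}} (g : X ⟶ Y), P g → Function.Injective g)
    {F G : Sp S} {f : F ⟶ G} (hf : RepWith P f) : Function.Injective (Points.map f) := by
  intro x y e
  obtain ⟨T, g, t, ht⟩ := exists_ofPt_eq (Points.map f x)
  have sq := hf.1.isPullback g
  rw [Points.ofPt_eq_map_ofScheme] at ht
  obtain ⟨z, hz1, hz2⟩ := points_exists_of_isPullback sq x _ ht.symm
  obtain ⟨z', hz1', hz2'⟩ := points_exists_of_isPullback sq y _ (e.symm.trans ht.symm)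
  obtain ⟨v, rfl⟩ := (Points.schemeHomeo _).surjective z
  obtain ⟨v', rfl⟩ := (Points.schemeHomeo _).surjective z'
  rw [Points.map_yon_map_apply] at hz2 hz2'
  have : v = v' := hP _ (hf.2 _ _ _ sq) ((Points.schemeHomeo _).injective (hz2.trans hz2'.symm))
  rw [← hz1, ← hz1', this]

/-- Immersions induce topological embeddings with locally closed image. -/
lemma isEmbedding_of_immersion {Z X : Sp S} (hX : IsAlgSpace X) {i : Z ⟶ X}
    (hi : RepWith @IsImmersion i) :
    IsEmbedding (Points.map i) ∧ IsLocallyClosed (Set.range (Points.map i)) := by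
  obtain ⟨U, p, hpe, hps⟩ := hX.atlas
  have sq := hi.1.isPullback p
  haveI : IsImmersion (hi.1.snd p).left := hi.2 _ _ _ sq
  have hemb : IsEmbedding (hi.1.snd p).left := (hi.1.snd p).left.isEmbedding
  have hinj : Function.Injective (Points.map i) := injective_map_of_repWith
    (fun g hg => by have : IsImmersion g := hg; exact g.isEmbedding.injective) hi
  constructor
  · refine ⟨⟨le_antisymm (Points.continuous_map i).le_induced (fun W hW => ?_)⟩, hinj⟩
    obtain ⟨O', hO', hW'⟩ := hemb.isInducing.isOpen_iff.1 (Points.isOpen_iff.1 hW _ (hi.1.fst p))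
    refine isOpen_induced_iff.2 ⟨Points.ofPt p '' O', isOpenMap_ofPt_of_etale hpe _ hO', ?_⟩
    ext z
    constructor
    · rintro ⟨u, hu, e⟩
      rw [Points.ofPt_eq_map_ofScheme] at e
      obtain ⟨v', h1, h2⟩ := points_exists_of_isPullback sq z _ e.symm
      obtain ⟨v, rfl⟩ := (Points.schemeHomeo _).surjective v'
      rw [Points.map_yon_map_apply] at h2
      have hv : (hi.1.snd p).left v = u := (Points.schemeHomeo U).injective h2
      have : v ∈ Points.ofPt (hi.1.fst p) ⁻¹' W := by
        rw [← hW', Set.mem_preimage, hv]; exact hu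
      rw [← h1]
      rwa [Set.mem_preimage, Points.ofPt_eq_map_ofScheme] at this
    · intro hz
      obtain ⟨u, hu⟩ := surjective_ofPt hps (Points.map i z)
      rw [Points.ofPt_eq_map_ofScheme] at hu
      obtain ⟨v', h1, h2⟩ := points_exists_of_isPullback sq z _ hu.symm
      obtain ⟨v, rfl⟩ := (Points.schemeHomeo _).surjective v'
      rw [Points.map_yon_map_apply] at h2
      have hv : (hi.1.snd p).left v = u := (Points.schemeHomeo U).injective h2
      refine ⟨u, ?_, by rw [Points.ofPt_eq_map_ofScheme]; exact hu⟩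
      have : v ∈ Points.ofPt (hi.1.fst p) ⁻¹' W := by
        rw [Set.mem_preimage, Points.ofPt_eq_map_ofScheme]
        exact (congrArg (· ∈ W) h1).mpr hz
      rw [← hW', Set.mem_preimage, hv] at this
      exact this
  · have e : Points.ofPt p ⁻¹' Set.range (Points.map i) = Set.range (hi.1.snd p).left := by
      rw [← Set.image_univ, preimage_ofPt_image sq, Set.preimage_univ, Set.image_univ]
    have hlc : IsLocallyClosed (Set.range (hi.1.snd p).left) := (hi.1.snd p).left.isLocallyClosed_range
    rw [isLocallyClosed_iff_isOpen_coborder, isOpen_iff_chart hpe hps,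
      ← coborder_preimage (isOpenMap_ofPt_of_etale hpe) (Points.continuous_ofPt p), e]
    exact hlc.isOpen_coborder

/-! ### Quasi-compactness -/

lemma compactSpace_of_isQuasiCompactSp {F : Sp S} (h : IsQuasiCompactSp F) : CompactSpace (Points F) := by
  obtain ⟨U, p, -, hs, hU⟩ := h
  exact (surjective_ofPt hs).compactSpace (Points.continuous_ofPt p)

lemma exists_affine_chart {F : Sp S} (hF : IsAlgSpace F) [CompactSpace (Points F)] :
    ∃ (U : Over S) (p : (yon S).obj U ⟶ F),
      IsAffine U.left ∧ RepWith @Etale p ∧ RepWith @Surjective p := by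
  obtain ⟨U, p, hpe, hps⟩ := hF.atlas
  let 𝒰 := U.left.affineCover
  obtain ⟨t, ht⟩ := isCompact_univ.elim_finite_subcover (fun i => Points.ofPt p '' Set.range (𝒰.f i))
    (fun i => isOpenMap_ofPt_of_etale hpe _ (𝒰.f i).isOpenEmbedding.isOpen_range)
    (fun x _ => by
      obtain ⟨u, rfl⟩ := surjective_ofPt hps x
      exact Set.mem_iUnion.2 ⟨𝒰.idx u, u, 𝒰.covers u, rfl⟩)
  let V : Scheme.{u} := ∐ fun i : t => 𝒰.X i
  let φ : V ⟶ U.left := Sigma.desc fun i : t => 𝒰.f i
  let φ' : Over.mk (φ ≫ U.hom) ⟶ U := Over.homMk φ rfl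
  have hφ : Etale φ := by
    rw [IsZariskiLocalAtSource.iff_of_openCover (P := @Etale) (sigmaOpenCover fun i : t => 𝒰.X i)]
    intro i
    have hU : Etale (𝒰.f (i : t).1) := by
      have : IsOpenImmersion (𝒰.f (i : t).1) := 𝒰.map_prop _
      infer_instance
    have e : (sigmaOpenCover fun i : t => 𝒰.X i).f i ≫ φ = 𝒰.f (i : t).1 := Sigma.ι_desc _ _
    rw [e]
    exact hU
  have hq : RepWith @Etale ((yon S).map φ' ≫ p) :=
    repWith_comp ((repWith_yon_map_iff _ _).2 hφ) hpe
  refine ⟨Over.mk (φ ≫ U.hom), (yon S).map φ' ≫ p, inferInstanceAs (IsAffine V), hq,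
    (repWith_surjective_iff hq.1).2 fun x => ?_⟩
  obtain ⟨i, hi, _, ⟨v, rfl⟩, rfl⟩ := Set.mem_iUnion₂.1 (ht (Set.mem_univ x))
  refine ⟨Points.schemeHomeo _ (Sigma.ι (fun i : t => 𝒰.X i) ⟨i, hi⟩ v), ?_⟩
  refine ((congrFun (ofPt_comp_eq_map ((yon S).map φ' ≫ p)) _).symm.trans (ofPt_yon_map_comp φ' p _)).trans ?_
  congr 1
  show φ (Sigma.ι (fun i : t => 𝒰.X i) ⟨i, hi⟩ v) = _
  rw [← Scheme.Hom.comp_apply]
  exact congrArg (fun g : 𝒰.X i ⟶ U.left => g v) (Sigma.ι_desc (fun i : t => 𝒰.f i) ⟨i, hi⟩)

lemma isQuasiCompactSp_of_compactSpace {F : Sp S} (hF : IsAlgSpace F) [CompactSpace (Points F)] :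
    IsQuasiCompactSp F := by
  obtain ⟨U, p, hU, h1, h2⟩ := exists_affine_chart hF
  exact ⟨U, p, h1, h2, inferInstance⟩

lemma isQuasiCompactMor_of_repWith {F G : Sp S} {f : F ⟶ G} (hf : RepWith @QuasiCompact f) :
    IsQuasiCompactMor f := by
  intro Z Z' _ hZ g fst snd sq
  obtain ⟨U, p, hpe, hps, hU⟩ := hZ
  have hsnd : RepWith @QuasiCompact snd := repWith_of_isPullback sq hf
  have sq' := hsnd.1.isPullback p
  have : QuasiCompact (hsnd.1.snd p).left := hsnd.2 _ _ _ sq'
  exact ⟨_, hsnd.1.fst p, repWith_of_isPullback sq'.flip hpe, repWith_of_isPullback sq'.flip hps,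
    QuasiCompact.compactSpace_of_compactSpace (hsnd.1.snd p).left⟩

end Groth.Agent.ASp
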