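import Groth.Agent.ASp.SpQuot
import Groth.Agent.S10117
/-!
Free actions of group algebraic spaces.
-/

set_option autoImplicit false
set_option backward.isDefEq.respectTransparency false
set_option backward.isDefEq.respectTransparency.types false

universe u

open CategoryTheory CategoryTheory.Limits AlgebraicGeometry MonoidalCategory MonObj CartesianMonoidalCategory

namespace Groth.Agent.ASp

open _root_.AlgSp _root_.AlgSp.GAction

variable {S : Scheme.{u}} {B : Sp S} {G X : Over B} [GrpObj G] (a : GAction G X)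

theorem act_mul {Z : Over B} (g h : Z ⟶ G) (x : Z ⟶ X) :
    lift (g * h) x ≫ a.act = lift g (lift h x ≫ a.act) ≫ a.act := by
  have := congrArg (lift (lift g h) x ≫ ·) a.mul_act
  simp only [lift_whiskerRight_assoc, lift_lift_associator_hom_assoc, lift_whiskerLeft_assoc] at this
  exact this

theorem act_one {Z : Over B} (x : Z ⟶ X) : lift (1 : Z ⟶ G) x ≫ a.act = x := by
  have := congrArg (lift (toUnit _) x ≫ ·) a.one_act
  simp only [lift_whiskerRight_assoc, lift_leftUnitor_hom] at this
  rw [CategoryTheory.Hom.one_def]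
  exact this

/-- The graph of a free action is an equivalence relation. -/
theorem isEqvRelSp_of_isFree (hB : IsAlgSpace B) (hG : IsAlgSpace G.left) (hX : IsAlgSpace X.left)
    (ha : a.IsFree) : IsEqvRelSp (snd G X).left a.act.left := by
  refine ⟨fun T r r' e1 e2 => ?_, fun T => ⟨fun x => ?_, ?_, ?_⟩⟩
  · haveI := S10117.result S B hB G X hG hX a ha
    refine (cancel_mono (lift a.act (snd G X)).left).1 (pullback.hom_ext (f := X.hom) (g := X.hom) ?_ ?_)
    · change (r ≫ (lift a.act (snd G X)).left) ≫ (fst X X).left =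
        (r' ≫ (lift a.act (snd G X)).left) ≫ (fst X X).left
      rw [Category.assoc, Category.assoc, ← Over.comp_left, lift_fst, e1]
    · change (r ≫ (lift a.act (snd G X)).left) ≫ (snd X X).left =
        (r' ≫ (lift a.act (snd G X)).left) ≫ (snd X X).left
      rw [Category.assoc, Category.assoc, ← Over.comp_left, lift_snd, e2]
  · let x' : Over.mk (x ≫ X.hom) ⟶ X := Over.homMk x rfl
    refine ⟨(lift (1 : _ ⟶ G) x').left, ?_, ?_⟩
    · rw [← Over.comp_left, act_one]; rfl
    · rw [← Over.comp_left, lift_snd]; rfl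
  · rintro x y ⟨r, e1, e2⟩
    let w : Over.mk (r ≫ (G ⊗ X).hom) ⟶ G ⊗ X := Over.homMk r rfl
    refine ⟨(lift (w ≫ fst G X)⁻¹ (w ≫ a.act)).left, ?_, ?_⟩
    · rw [← Over.comp_left]
      conv_lhs => rw [show w ≫ a.act = lift (w ≫ fst G X) (w ≫ snd G X) ≫ a.act by
        rw [lift_comp_fst_snd]]
      rw [← act_mul, inv_mul_cancel, act_one]
      exact e2
    · rw [← Over.comp_left, lift_snd]
      exact e1
  · rintro x y z ⟨r, e1, e2⟩ ⟨r', e3, e4⟩
    let w : Over.mk (r ≫ (G ⊗ X).hom) ⟶ G ⊗ X := Over.homMk r rfl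
    have hw' : r' ≫ (G ⊗ X).hom = r ≫ (G ⊗ X).hom := by
      calc r' ≫ (G ⊗ X).hom = (r' ≫ a.act.left) ≫ X.hom := by rw [Category.assoc, Over.w a.act]
        _ = (r ≫ (snd G X).left) ≫ X.hom := congrArg (· ≫ X.hom) (e3.trans e2.symm)
        _ = r ≫ (G ⊗ X).hom := by rw [Category.assoc, Over.w (snd G X)]
    let w' : Over.mk (r ≫ (G ⊗ X).hom) ⟶ G ⊗ X := Over.homMk r' hw'
    have hmid : w ≫ snd G X = w' ≫ a.act := Over.OverMorphism.ext (e2.trans e3.symm)
    refine ⟨(lift (w ≫ fst G X * w' ≫ fst G X) (w' ≫ snd G X)).left, ?_, ?_⟩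
    · rw [← Over.comp_left, act_mul, lift_comp_fst_snd, ← hmid, lift_comp_fst_snd]
      exact e1
    · rw [← Over.comp_left, lift_snd]
      exact e4

/-- The shear `(g, x) ↦ (g, g x)` is an automorphism. -/
theorem exists_shear : ∃ φ : G ⊗ X ≅ G ⊗ X, φ.hom ≫ snd G X = a.act := by
  refine ⟨⟨lift (fst G X) a.act, lift (fst G X) (lift (fst G X)⁻¹ (snd G X) ≫ a.act), ?_, ?_⟩, lift_snd _ _⟩
  · refine CartesianMonoidalCategory.hom_ext _ _ (by simp) ?_
    rw [Category.assoc, lift_snd, ← Category.assoc, comp_lift, GrpObj.comp_inv, lift_fst, lift_snd]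
    have e : lift (fst G X)⁻¹ (lift (fst G X) (snd G X) ≫ a.act) ≫ a.act = snd G X := by
      rw [← act_mul, inv_mul_cancel, act_one]
    simpa using e
  · refine CartesianMonoidalCategory.hom_ext _ _ (by simp) ?_
    rw [Category.assoc, lift_snd, ← act_mul, mul_inv_cancel, act_one, Category.id_comp]

end Groth.Agent.ASp
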