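import Groth.Agent.ASp.Glue
import Groth.Agent.FpqcDesc.Basic
/-!
Affine morphisms of algebraic spaces are representable; affineness is local for fpqc coverings of the base.
-/

set_option backward.isDefEq.respectTransparency.types false

universe u

open CategoryTheory CategoryTheory.Limits AlgebraicGeometry Opposite

namespace Groth.Agent.ASp

open _root_.AlgSp

variable {S : Scheme.{u}}

/-- A finite jointly surjective family of flat maps of affine schemes is an fpqc covering. -/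
theorem isFpqcCover_yon {m : ℕ} {T : Over S} [IsAffine T.left] (W : Fin m → Over S) (c : ∀ j, W j ⟶ T)
    (hW : ∀ j, IsAffine (W j).left) (hf : ∀ j, Flat (c j).left)
    (hs : ∀ z : ↥T.left, ∃ j, z ∈ Set.range (c j).left) :
    IsFpqcCover (fun j : ULift.{u} (Fin m) => (yon S).obj (W j.down)) (fun j => (yon S).map (c j.down)) := by
  refine ⟨fun j => locP_of_repWith (repWith_yon_map (hf j.down)), fun Z hZ h => ?_⟩
  obtain ⟨h, rfl⟩ := (yon S).map_surjective h
  let W' : Fin m → Over S := fun j => pullback (c j) h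
  have sq : ∀ j, IsPullback (pullback.fst (c j) h).left (pullback.snd (c j) h).left (c j).left h.left :=
    fun j => isPullback_left (IsPullback.of_hasPullback (c j) h)
  refine ⟨m, W', fun j => pullback.snd (c j) h, fun j => ?_,
    fun j => MorphismProperty.of_isPullback (sq j) (hf j), fun z => ?_,
    fun j => ⟨⟨j⟩, (yon S).map (pullback.fst (c j) h), by
      rw [← Functor.map_comp, ← Functor.map_comp, pullback.condition]⟩⟩
  · have := hW j
    have : IsAffineHom (c j).left := inferInstance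
    have h1 : IsAffineHom (pullback.snd (c j) h).left := MorphismProperty.of_isPullback (sq j) ‹IsAffineHom (c j).left›
    exact isAffine_of_isAffineHom (pullback.snd (c j) h).left
  · obtain ⟨j, w, hw⟩ := hs (h.left z)
    refine ⟨j, ?_⟩
    obtain ⟨t, ht1, ht2⟩ := Scheme.Pullback.exists_preimage_pullback w z hw
    refine ⟨(sq j).isoPullback.inv t, ?_⟩
    rw [← Scheme.Hom.comp_apply, IsPullback.isoPullback_inv_snd]
    exact ht2

/-- Affineness of a morphism of algebraic spaces descends along fpqc coverings of the base. -/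
theorem isAffineMor_of_fpqc {ι : Type u} {X Y : Sp S} {f : X ⟶ Y} {Yi Xi : ι → Sp S} {g : ∀ i, Yi i ⟶ Y}
    {p : ∀ i, Xi i ⟶ Yi i} {q : ∀ i, Xi i ⟶ X} (hX : IsAlgSpace X) (hY : IsAlgSpace Y)
    (hsq : ∀ i, IsPullback (q i) (p i) f (g i)) (hτ : IsFpqcCover Yi g)
    (h : ∀ i, IsAffineMor (p i)) : IsAffineMor f := by
  intro Z hZ g₀
  have : IsAffine Z.left := hZ
  let O : CommRingCat.{u} := Γ(Z.left, ⊤)
  let oS : Spec O ⟶ S := Z.left.isoSpec.inv ≫ Z.hom
  let e : Over.mk oS ≅ Z := Over.isoMk Z.left.isoSpec.symm rfl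
  obtain ⟨m, W, c, hWa, hcf, hcs, hl⟩ :=
    hτ.2 (Over.mk oS) (inferInstanceAs (IsAffine (Spec O))) ((yon S).map e.hom ≫ g₀)
  let O' : ULift.{u} (Fin m) → CommRingCat.{u} := fun j => Γ((W j.down).left, ⊤)
  have hc' : ∀ j : ULift.{u} (Fin m), ∃ r : O ⟶ O' j,
      Spec.map r = (W j.down).left.isoSpec.inv ≫ (c j.down).left := fun j =>
    have := hWa j.down
    ⟨Spec.preimage _, Spec.map_preimage _⟩
  choose r hr using hc'
  let cS : ∀ j, Over.mk (Spec.map (r j) ≫ oS) ⟶ Over.mk oS := fun j => Over.homMk (Spec.map (r j)) rfl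
  have key : ∀ j : ULift.{u} (Fin m), ∃ k : Over.mk (Spec.map (r j) ≫ oS) ⟶ W j.down,
      k ≫ c j.down = cS j ∧ IsIso k.left := fun j => by
    have := hWa j.down
    refine ⟨Over.homMk (W j.down).left.isoSpec.inv ?_, Over.OverMorphism.ext (hr j).symm,
      (inferInstance : IsIso (W j.down).left.isoSpec.inv)⟩
    change (W j.down).left.isoSpec.inv ≫ (W j.down).hom = Spec.map (r j) ≫ oS
    rw [hr j, Category.assoc]
    exact congrArg _ (Over.w (c j.down)).symm
  choose k hk hks using key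
  let W₁ : Fin m → Over S := fun j => Over.mk (Spec.map (r ⟨j⟩) ≫ oS)
  have hTa : IsAffine (Over.mk oS).left := inferInstanceAs (IsAffine (Spec O))
  have hcov : IsFpqcCover (fun j : ULift.{u} (Fin m) => (yon S).obj (W₁ j.down))
      (fun j => (yon S).map (cS j)) := by
    refine isFpqcCover_yon (T := Over.mk oS) W₁ (fun j => cS ⟨j⟩) (fun j => inferInstanceAs (IsAffine (Spec _)))
      (fun j => ?_) (fun z => ?_)
    · rw [← hk ⟨j⟩, Over.comp_left]
      have := hcf j
      have := hWa j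
      have := hks ⟨j⟩
      infer_instance
    · obtain ⟨j, w, hw⟩ := hcs z
      obtain ⟨w', hw'⟩ := (have := hks ⟨j⟩; (inferInstance : Surjective (k ⟨j⟩).left).surj w)
      refine ⟨j, w', ?_⟩
      rw [← hk ⟨j⟩, Over.comp_left, Scheme.Hom.comp_apply, hw']
      exact hw
  obtain ⟨XT, a, x, hXT⟩ : ∃ (XT : Sp S) (a : XT ⟶ X) (x : XT ⟶ (yon S).obj (Over.mk oS)),
      IsPullback a x f ((yon S).map e.hom ≫ g₀) := ⟨_, _, _, IsPullback.of_hasPullback _ _⟩
  have key2 : ∀ j : ULift.{u} (Fin m), ∃ (V : Over S) (v : V ⟶ Over.mk (Spec.map (r j) ≫ oS))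
      (fst : (yon S).obj V ⟶ XT), IsAffine V.left ∧
      IsPullback fst ((yon S).map v) x ((yon S).map (cS j)) := by
    intro j
    obtain ⟨i, l, hl⟩ := hl j.down
    obtain ⟨V, v, fst, hV, hVa⟩ := h i (Z := Over.mk (Spec.map (r j) ≫ oS))
      (inferInstanceAs (IsAffine (Spec (O' j)))) ((yon S).map (k j) ≫ l)
    have hbig : IsPullback (fst ≫ q i) ((yon S).map v) f (((yon S).map (cS j)) ≫ (yon S).map e.hom ≫ g₀) := by
      have h1 := hV.paste_horiz (hsq i)
      rwa [Category.assoc, hl, ← Functor.map_comp_assoc, hk] at h1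
    refine ⟨V, v, hXT.lift (fst ≫ q i) ((yon S).map v ≫ (yon S).map (cS j)) (by rw [hbig.w, Category.assoc]),
      hVa, ?_⟩
    refine IsPullback.of_right ?_ (hXT.lift_snd _ _ _) hXT
    rw [hXT.lift_fst]
    exact hbig
  choose V v fst hVa hsqV using key2
  obtain ⟨P, hP, ⟨φ⟩⟩ := exists_affine_of_fpqc O oS
    (isAlgSpace_of_isPullback hY.diag hX (IsAlgSpace.yon_obj _) hXT) x O' r cS (fun _ => rfl) hcov V hVa fst v hsqV
  obtain ⟨i₀, hi₀⟩ := (yon S).map_surjective (φ.hom ≫ x ≫ (yon S).map e.hom)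
  refine ⟨P, i₀, φ.hom ≫ a, ?_, hP⟩
  rw [hi₀]
  exact IsPullback.of_iso hXT φ.symm (Iso.refl _) ((yon S).mapIso e) (Iso.refl _)
    (by simp) (by simp) (by simp) (by simp)

theorem isAffineMor_baseChange {X Y X' Y' : Sp S} {f : X ⟶ Y} {g : Y' ⟶ Y} {q : X' ⟶ X} {p : X' ⟶ Y'}
    (sq : IsPullback q p f g) (h : IsAffineMor f) : IsAffineMor p := by
  intro Z hZ g₀
  obtain ⟨W, i, fst, hW, hWa⟩ := h hZ (g₀ ≫ g)
  refine ⟨W, i, sq.lift fst ((yon S).map i ≫ g₀) (by rw [hW.w, Category.assoc]),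
    IsPullback.of_right ?_ (sq.lift_snd _ _ _) sq, hWa⟩
  rw [sq.lift_fst]
  exact hW

/-- Affine morphisms of algebraic spaces are representable. -/
theorem representable_of_isAffineMor {X Y : Sp S} {f : X ⟶ Y} (hX : IsAlgSpace X) (hY : IsAlgSpace Y)
    (h : IsAffineMor f) : Representable f := by
  intro T g
  obtain ⟨XT, a, x, hXT⟩ : ∃ (XT : Sp S) (a : XT ⟶ X) (x : XT ⟶ (yon S).obj T),
      IsPullback a x f g := ⟨_, _, _, IsPullback.of_hasPullback _ _⟩
  let Z : T.left.affineOpens → Over S := fun U => Over.mk (U.1.ι ≫ T.hom)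
  let z : ∀ U, Z U ⟶ T := fun U => Over.homMk U.1.ι rfl
  have key : ∀ U : T.left.affineOpens, ∃ (W : Over S) (i : W ⟶ Z U) (fst : (yon S).obj W ⟶ XT),
      IsPullback fst ((yon S).map i) x ((yon S).map (z U)) := fun U => by
    obtain ⟨W, i, fst, hW, -⟩ := h (Z := Z U) U.2 ((yon S).map (z U) ≫ g)
    refine ⟨W, i, hXT.lift fst ((yon S).map i ≫ (yon S).map (z U)) (by rw [hW.w, Category.assoc]),
      IsPullback.of_right ?_ (hXT.lift_snd _ _ _) hXT⟩
    rw [hXT.lift_fst]
    exact hW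
  choose W i fst hW using key
  have hz : ∀ U, RepWith @IsOpenImmersion ((yon S).map (z U)) := fun U =>
    repWith_yon_map (inferInstanceAs (IsOpenImmersion U.1.ι))
  obtain ⟨P, ⟨φ⟩⟩ := exists_scheme_of_openCover (isAlgSpace_of_isPullback hY.diag hX (IsAlgSpace.yon_obj T) hXT)
    W fst (fun U => repWith_of_isPullback (hW U).flip (hz U)) (fun y => by
      obtain ⟨t, ht⟩ := (Points.schemeHomeo T).surjective (Points.map x y)
      obtain ⟨U, hU, htU, -⟩ := exists_isAffineOpen_mem_and_subset (x := t) (U := (⊤ : T.left.Opens)) (by simp)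
      obtain ⟨w, hw, -⟩ := points_exists_of_isPullback (hW ⟨U, hU⟩) y (Points.schemeHomeo (Z ⟨U, hU⟩) ⟨t, htU⟩)
        (by rw [Points.map_yon_map_apply]; exact ht.symm)
      exact ⟨⟨U, hU⟩, w, hw⟩)
  obtain ⟨i₀, hi₀⟩ := (yon S).map_surjective (φ.hom ≫ x)
  refine ⟨P, i₀, φ.hom ≫ a, ?_⟩
  rw [hi₀]
  exact IsPullback.of_iso hXT φ.symm (Iso.refl _) (Iso.refl _) (Iso.refl _) (by simp) (by simp) (by simp) (by simp)

/-- For a representable map a property local on the target can be tested on affine schemes. -/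
theorem repWith_of_affine {P : MorphismProperty Scheme.{u}} [IsZariskiLocalAtTarget P] {X Y : Sp S}
    {f : X ⟶ Y} (hf : Representable f)
    (H : ∀ ⦃Z : Over S⦄, IsAffine Z.left → ∀ g : (yon S).obj Z ⟶ Y, ∃ (W : Over S) (i : W ⟶ Z)
      (fst : (yon S).obj W ⟶ X), IsPullback fst ((yon S).map i) f g ∧ P i.left) : RepWith P f := by
  refine ⟨hf, fun T V g fst snd sq => ?_⟩
  change P snd.left
  rw [IsZariskiLocalAtTarget.iff_of_iSup_eq_top (P := P) _ (iSup_affineOpens_eq_top T.left)]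
  intro U
  let Z : Over S := Over.mk (U.1.ι ≫ T.hom)
  let z : Z ⟶ T := Over.homMk U.1.ι rfl
  obtain ⟨W, i, fst', hW, hPi⟩ := H (Z := Z) U.2 ((yon S).map z ≫ g)
  obtain ⟨l, hl⟩ := (yon S).map_surjective (sq.lift fst' ((yon S).map i ≫ (yon S).map z)
    (by rw [hW.w, Category.assoc]))
  have h1 : IsPullback ((yon S).map l) ((yon S).map i) ((yon S).map snd) ((yon S).map z) := by
    refine IsPullback.of_right ?_ (by rw [hl, sq.lift_snd]) sq
    rw [hl, sq.lift_fst]
    exact hW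
  have h2 : IsPullback l.left i.left snd.left U.1.ι := isPullback_left (isPullback_of_yon_map h1)
  have : P.RespectsIso := inferInstance
  rw [← h2.isoIsPullback_inv_snd _ _ (isPullback_morphismRestrict snd.left U.1).flip]
  exact (P.cancel_left_of_respectsIso _ _).2 hPi

theorem repWith_isAffineHom_of_isAffineMor {X Y : Sp S} {f : X ⟶ Y} (hX : IsAlgSpace X) (hY : IsAlgSpace Y)
    (h : IsAffineMor f) : RepWith @IsAffineHom f :=
  repWith_of_affine (representable_of_isAffineMor hX hY h) fun Z hZ g => by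
    obtain ⟨W, i, fst, hW, hWa⟩ := h hZ g
    have := hWa
    have := hZ
    exact ⟨W, i, fst, hW, inferInstance⟩

theorem isAffineMor_of_repWith {P : MorphismProperty Scheme.{u}}
    (hP : ∀ {A B : Scheme.{u}} (k : A ⟶ B), P k → IsAffineHom k) {X Y : Sp S} {f : X ⟶ Y}
    (h : RepWith P f) : IsAffineMor f := fun Z hZ g => by
  have := hZ
  have : IsAffineHom (h.1.snd g).left := hP _ (h.2 g _ _ (h.1.isPullback g))
  exact ⟨_, _, _, h.1.isPullback g, isAffine_of_isAffineHom (h.1.snd g).left⟩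

/-- Properties of affine morphisms descend along fpqc coverings of the base. -/
theorem repWith_of_fpqc_affine {P : MorphismProperty Scheme.{u}}
    (hP : ∀ {A B : Scheme.{u}} (k : A ⟶ B), P k → IsAffineHom k)
    [P.DescendsAlong (@Surjective ⊓ @Flat ⊓ @QuasiCompact)] [IsZariskiLocalAtTarget P]
    {ι : Type u} {X Y : Sp S} {f : X ⟶ Y} {Yi Xi : ι → Sp S} {g : ∀ i, Yi i ⟶ Y}
    {p : ∀ i, Xi i ⟶ Yi i} {q : ∀ i, Xi i ⟶ X} (hX : IsAlgSpace X) (hY : IsAlgSpace Y)
    (hsq : ∀ i, IsPullback (q i) (p i) f (g i)) (hτ : IsFpqcCover Yi g)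
    (h : ∀ i, RepWith P (p i)) : RepWith P f :=
  repWith_of_fpqc (representable_of_isAffineMor hX hY
    (isAffineMor_of_fpqc hX hY hsq hτ fun i => isAffineMor_of_repWith hP (h i))) hsq hτ h

theorem isIntegralMor_iff {X Y : Sp S} {f : X ⟶ Y} (hX : IsAlgSpace X) (hY : IsAlgSpace Y) :
    IsIntegralMor f ↔ RepWith @IsIntegralHom f := by
  refine ⟨fun h => repWith_of_affine (representable_of_isAffineMor hX hY fun Z hZ g => ?_) fun Z hZ g => ?_,
    fun h Z hZ g => ?_⟩
  · obtain ⟨W, i, fst, h1, h2, -⟩ := h hZ g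
    exact ⟨W, i, fst, h1, h2⟩
  · obtain ⟨W, i, fst, h1, -, h3⟩ := h hZ g
    exact ⟨W, i, fst, h1, h3⟩
  · have := hZ
    have h3 : IsIntegralHom (h.1.snd g).left := h.2 g _ _ (h.1.isPullback g)
    exact ⟨_, _, _, h.1.isPullback g, isAffine_of_isAffineHom (h.1.snd g).left, h3⟩

theorem isFiniteMor_iff {X Y : Sp S} {f : X ⟶ Y} (hX : IsAlgSpace X) (hY : IsAlgSpace Y) :
    IsFiniteMor f ↔ RepWith @IsFinite f := by
  refine ⟨fun h => repWith_of_affine (representable_of_isAffineMor hX hY fun Z hZ g => ?_) fun Z hZ g => ?_,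
    fun h Z hZ g => ?_⟩
  · obtain ⟨W, i, fst, h1, h2, -⟩ := h hZ g
    exact ⟨W, i, fst, h1, h2⟩
  · obtain ⟨W, i, fst, h1, -, h3⟩ := h hZ g
    exact ⟨W, i, fst, h1, h3⟩
  · have := hZ
    have h3 : IsFinite (h.1.snd g).left := h.2 g _ _ (h.1.isPullback g)
    exact ⟨_, _, _, h.1.isPullback g, isAffine_of_isAffineHom (h.1.snd g).left, h3⟩

end Groth.Agent.ASp
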