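import Mathlib.RingTheory.Flat.Equalizer
/-!
Equalizers of algebras commute with flat base change.
-/

universe u

open TensorProduct

namespace Groth.Agent.ASp

variable {O B C O' : Type u} [CommRing O] [CommRing B] [CommRing C] [CommRing O'] [Algebra O B]
  [Algebra O C] [Algebra O O'] [Module.Flat O O'] (e₁ e₂ : B →ₐ[O] C)

lemma injective_map_equalizer :
    Function.Injective (Algebra.TensorProduct.map (AlgHom.id O O') (AlgHom.equalizer e₁ e₂).val) :=
  Module.Flat.lTensor_preserves_injective_linearMap (M := O') (AlgHom.equalizer e₁ e₂).val.toLinearMap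
    Subtype.val_injective

lemma exists_map_equalizer {x : O' ⊗[O] B}
    (hx : Algebra.TensorProduct.map (AlgHom.id O O') e₁ x = Algebra.TensorProduct.map (AlgHom.id O O') e₂ x) :
    ∃ y, Algebra.TensorProduct.map (AlgHom.id O O') (AlgHom.equalizer e₁ e₂).val y = x :=
  ⟨_, LinearMap.lTensor_eqLocus_subtype_tensoreqLocusEquiv_symm O O' e₁.toLinearMap e₂.toLinearMap ⟨x, hx⟩⟩

end Groth.Agent.ASp
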