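import Groth.Agent.ASp.Diag
import Groth.Prelude.Def_AlgSp4
/-!
Topological properties of morphisms of algebraic spaces and fpqc coverings.
-/

set_option backward.isDefEq.respectTransparency.types false

universe u

open CategoryTheory CategoryTheory.Limits AlgebraicGeometry Opposite Topology

namespace Groth.Agent.ASp

open _root_.AlgSp

variable {S : Scheme.{u}}

/-- A set of points is open as soon as its preimages under the members of an fpqc covering are open. -/
theorem isOpen_of_fpqc {ι : Type u} {Y : Sp S} {Yi : ι → Sp S} {g : ∀ i, Yi i ⟶ Y}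
    (hτ : IsFpqcCover Yi g) {O : Set (Points Y)} (h : ∀ i, IsOpen (Points.map (g i) ⁻¹' O)) : IsOpen O := by
  rw [Points.isOpen_iff]
  intro T φ
  rw [isOpen_iff_forall_mem_open]
  intro t ht
  obtain ⟨U, hU, htU, -⟩ := exists_isAffineOpen_mem_and_subset (x := t) (U := (⊤ : T.left.Opens)) (by simp)
  let Z₁ : Over S := Over.mk (U.ι ≫ T.hom)
  let z : Z₁ ⟶ T := Over.homMk U.ι rfl
  obtain ⟨m, W, c, hWa, hcf, hcs, hl⟩ := hτ.2 Z₁ hU ((yon S).map z ≫ φ)
  let C : (∐ fun j => (W j).left) ⟶ Z₁.left := Limits.Sigma.desc fun j => (c j).left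
  have hWaff : ∀ j, IsAffine (W j).left := hWa
  have : IsAffine Z₁.left := hU
  have h1 : Surjective C := ⟨fun x => by
    obtain ⟨j, w, rfl⟩ := hcs x
    refine ⟨Sigma.ι (fun j => (W j).left) j w, ?_⟩
    rw [← Scheme.Hom.comp_apply]
    simp only [C, Sigma.ι_desc]⟩
  have h2 : Flat C := by
    rw [IsZariskiLocalAtSource.iff_of_openCover (P := @Flat) (sigmaOpenCover fun j => (W j).left)]
    intro j
    have e : (sigmaOpenCover fun j => (W j).left).f j ≫ C = (c j).left := Sigma.ι_desc _ _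
    rw [e]
    exact hcf j
  have h3 : QuasiCompact C := inferInstance
  let A : Set Z₁.left := z.left ⁻¹' (Points.ofPt φ ⁻¹' O)
  have hA : IsOpen (C ⁻¹' A) := by
    have e : C ⁻¹' A = ⋃ j, (sigmaOpenCover fun j => (W j).left).f j ''
        ((sigmaOpenCover fun j => (W j).left).f j ⁻¹' (C ⁻¹' A)) := by
      ext x
      simp only [Set.mem_iUnion, Set.mem_image, Set.mem_preimage]
      refine ⟨fun hx => ?_, fun ⟨j, y, hy, hyx⟩ => hyx ▸ hy⟩
      obtain ⟨j, y, rfl⟩ := (sigmaOpenCover fun j => (W j).left).exists_eq x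
      exact ⟨j, y, hx, rfl⟩
    rw [e]
    refine isOpen_iUnion fun j => ((sigmaOpenCover fun j => (W j).left).f j).isOpenEmbedding.isOpenMap _ ?_
    obtain ⟨i, l, hl⟩ := hl j
    have e : (sigmaOpenCover fun j => (W j).left).f j ⁻¹' (C ⁻¹' A) =
        Points.ofPt l ⁻¹' (Points.map (g i) ⁻¹' O) := by
      ext w
      have e1 : C ((sigmaOpenCover fun j => (W j).left).f j w) = (c j).left w := by
        rw [← Scheme.Hom.comp_apply]
        exact congrArg (fun F : (W j).left ⟶ Z₁.left => F w) (Sigma.ι_desc (fun j => (c j).left) j)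
      change C _ ∈ A ↔ Points.map (g i) (Points.ofPt (T := W j) l w) ∈ O
      rw [e1, Points.map_ofPt, hl, ofPt_yon_map_comp, ofPt_yon_map_comp]
      rfl
    rw [e]
    exact (h i).preimage (Points.continuous_ofPt l)
  have hA' : IsOpen A := (Flat.isQuotientMap_of_surjective C).isOpen_preimage.1 hA
  exact ⟨z.left '' A, Set.image_preimage_subset _ _,
    (U.ι.isOpenEmbedding.isOpenMap _ hA'), ⟨⟨t, htU⟩, ht, rfl⟩⟩

theorem isClosed_of_fpqc {ι : Type u} {Y : Sp S} {Yi : ι → Sp S} {g : ∀ i, Yi i ⟶ Y}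
    (hτ : IsFpqcCover Yi g) {C : Set (Points Y)} (h : ∀ i, IsClosed (Points.map (g i) ⁻¹' C)) :
    IsClosed C :=
  isOpen_compl_iff.1 (isOpen_of_fpqc hτ fun i => by rw [Set.preimage_compl]; exact (h i).isOpen_compl)

section descend

variable {ι : Type u} {Z Z' : Sp S} {Zi Z'i : ι → Sp S} {gz : ∀ i, Zi i ⟶ Z} {snd : Z' ⟶ Z}
  {c : ∀ i, Z'i i ⟶ Z'} {r : ∀ i, Z'i i ⟶ Zi i}

lemma isClosedMap_of_fpqc (hτ : IsFpqcCover Zi gz) (sq : ∀ i, IsPullback (c i) (r i) snd (gz i))
    (h : ∀ i, IsClosedMap (Points.map (r i))) : IsClosedMap (Points.map snd) := fun C hC =>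
  isClosed_of_fpqc hτ fun i => by
    rw [preimage_image_of_isPullback (sq i)]
    exact h i _ (hC.preimage (Points.continuous_map _))

lemma isOpenMap_of_fpqc (hτ : IsFpqcCover Zi gz) (sq : ∀ i, IsPullback (c i) (r i) snd (gz i))
    (h : ∀ i, IsOpenMap (Points.map (r i))) : IsOpenMap (Points.map snd) := fun C hC =>
  isOpen_of_fpqc hτ fun i => by
    rw [preimage_image_of_isPullback (sq i)]
    exact h i _ (hC.preimage (Points.continuous_map _))

lemma surjective_of_fpqc' (hτ : IsFpqcCover Zi gz) (sq : ∀ i, IsPullback (c i) (r i) snd (gz i))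
    (h : ∀ i, Function.Surjective (Points.map (r i))) : Function.Surjective (Points.map snd) := fun y => by
  obtain ⟨i, w, rfl⟩ := surjective_of_fpqc hτ y
  obtain ⟨x, rfl⟩ := h i w
  exact ⟨Points.map (c i) x, by rw [← Points.map_comp, (sq i).w, Points.map_comp]⟩

lemma injective_of_fpqc (hτ : IsFpqcCover Zi gz) (sq : ∀ i, IsPullback (c i) (r i) snd (gz i))
    (h : ∀ i, Function.Injective (Points.map (r i))) : Function.Injective (Points.map snd) := fun x x' e => by
  obtain ⟨i, w, hw⟩ := surjective_of_fpqc hτ (Points.map snd x)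
  obtain ⟨z, hz, hz'⟩ := points_exists_of_isPullback (sq i) x w hw.symm
  obtain ⟨y, hy, hy'⟩ := points_exists_of_isPullback (sq i) x' w (e.symm.trans hw.symm)
  rw [← hz, ← hy, h i (hz'.trans hy'.symm)]

lemma isQuotientMap_of_fpqc (hτ : IsFpqcCover Zi gz) (sq : ∀ i, IsPullback (c i) (r i) snd (gz i))
    (h : ∀ i, IsQuotientMap (Points.map (r i))) : IsQuotientMap (Points.map snd) := by
  rw [isQuotientMap_iff]
  refine ⟨?_, surjective_of_fpqc' hτ sq fun i => (h i).surjective⟩
  refine isCoinducing_iff.2 fun O => ⟨fun hO => isOpen_of_fpqc hτ fun i => ?_,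
    fun hO => hO.preimage (Points.continuous_map _)⟩
  rw [← (h i).isOpen_preimage, ← Set.preimage_comp]
  have e : Points.map (gz i) ∘ Points.map (r i) = Points.map snd ∘ Points.map (c i) := funext fun x => by
    simp only [Function.comp_apply, ← Points.map_comp, (sq i).w]
  rw [e, Set.preimage_comp]
  exact hO.preimage (Points.continuous_map _)

lemma isHomeomorph_of_fpqc (hτ : IsFpqcCover Zi gz) (sq : ∀ i, IsPullback (c i) (r i) snd (gz i))
    (h : ∀ i, IsHomeomorph (Points.map (r i))) : IsHomeomorph (Points.map snd) :=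
  ⟨Points.continuous_map _, isOpenMap_of_fpqc hτ sq fun i => (h i).isOpenMap,
    injective_of_fpqc hτ sq fun i => (h i).injective,
    surjective_of_fpqc' hτ sq fun i => (h i).surjective⟩

end descend

/-- Universal properties are local on the base for the fpqc topology as soon as they descend. -/
theorem isLocalOnBase_univSp {Q : MorphismProperty (Sp S)}
    (H : ∀ ⦃ι : Type u⦄ ⦃Z Z' : Sp S⦄ ⦃Zi Z'i : ι → Sp S⦄ (gz : ∀ i, Zi i ⟶ Z) (snd : Z' ⟶ Z)
      (c : ∀ i, Z'i i ⟶ Z') (r : ∀ i, Z'i i ⟶ Zi i), IsFpqcCover Zi gz →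
      (∀ i, IsPullback (c i) (r i) snd (gz i)) → (∀ i, Q (r i)) → Q snd) :
    IsLocalOnBase (IsFpqcCover (S := S)) (UnivSp Q) := by
  intro ι Y Yi g hY hYi hτ X f hX Xi p q hXi hsq
  refine ⟨fun h i Z Z' hZ k fst snd sq => h hZ (k ≫ g i) (fst ≫ q i) snd (sq.paste_horiz (hsq i)),
    fun h Z Z' hZ k fst snd sq => ?_⟩
  have hsqz : ∀ i, IsPullback (pullback.snd k (g i)) (pullback.fst k (g i)) (g i) k :=
    fun i => (IsPullback.of_hasPullback k (g i)).flip
  have hsqr : ∀ i, IsPullback (pullback.fst snd (pullback.fst k (g i))) (pullback.snd snd (pullback.fst k (g i)))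
      snd (pullback.fst k (g i)) := fun i => IsPullback.of_hasPullback _ _
  refine H _ snd _ _ (isFpqcCover_baseChange hY hZ hYi hsqz hτ) hsqr fun i => ?_
  have hbig := (hsqr i).paste_horiz sq
  refine h i (isAlgSpace_pullback hY.diag hZ (hYi i) k (g i)) (pullback.snd k (g i))
    ((hsq i).lift (pullback.fst snd (pullback.fst k (g i)) ≫ fst)
      (pullback.snd snd (pullback.fst k (g i)) ≫ pullback.snd k (g i))
      (by rw [hbig.w, Category.assoc, pullback.condition])) _
    (IsPullback.of_right ?_ ((hsq i).lift_snd _ _ _) (hsq i))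
  rw [(hsq i).lift_fst, ← pullback.condition]
  exact hbig

theorem isQuasiCompactSp_yon {W : Over S} [CompactSpace ↥W.left] : IsQuasiCompactSp ((yon S).obj W) :=
  ⟨W, 𝟙 _, repWith_id _ W, repWith_id _ W, inferInstance⟩

theorem isQuasiCompactMor_of_fpqc {ι : Type u} {X Y : Sp S} {f : X ⟶ Y} {Yi Xi : ι → Sp S}
    {g : ∀ i, Yi i ⟶ Y} {p : ∀ i, Xi i ⟶ Yi i} {q : ∀ i, Xi i ⟶ X} (hX : IsAlgSpace X) (hY : IsAlgSpace Y)
    (hsq : ∀ i, IsPullback (q i) (p i) f (g i)) (hτ : IsFpqcCover Yi g)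
    (h : ∀ i, IsQuasiCompactMor (p i)) : IsQuasiCompactMor f := by
  intro Z Z' hZ hZc k fst snd sq
  have hZ' : IsAlgSpace Z' := isAlgSpace_of_isPullback hY.diag hX hZ sq
  have := compactSpace_of_isQuasiCompactSp hZc
  obtain ⟨V, v, hV, hve, hvs⟩ := exists_affine_chart hZ
  obtain ⟨m, W, c, hWa, -, hcs, hl⟩ := hτ.2 V hV (v ≫ k)
  let t : ∀ j, (yon S).obj (W j) ⟶ Z := fun j => (yon S).map (c j) ≫ v
  have hcomp : ∀ j, CompactSpace (Points (pullback snd (t j))) := by
    intro j
    obtain ⟨i, l, hl⟩ := hl j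
    have hbig := (IsPullback.of_hasPullback snd (t j)).paste_horiz sq
    have : IsAffine (W j).left := hWa j
    refine compactSpace_of_isQuasiCompactSp (h i (IsAlgSpace.yon_obj _) isQuasiCompactSp_yon l
      ((hsq i).lift (pullback.fst snd (t j) ≫ fst) (pullback.snd snd (t j) ≫ l)
        (by rw [hbig.w, Category.assoc (pullback.snd snd (t j)) l, hl]; simp [t])) (pullback.snd snd (t j))
      (IsPullback.of_right ?_ ((hsq i).lift_snd _ _ _) (hsq i)))
    rw [(hsq i).lift_fst, hl, ← Category.assoc ((yon S).map (c j))]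
    exact hbig
  have : CompactSpace (Points Z') := by
    refine ⟨?_⟩
    have e : (Set.univ : Set (Points Z')) = ⋃ j, Set.range (Points.map (pullback.fst snd (t j))) := by
      refine Set.eq_univ_of_forall (fun x => ?_) |>.symm
      obtain ⟨u, hu⟩ := surjective_ofPt hvs (Points.map snd x)
      obtain ⟨j, w, hw⟩ := hcs u
      obtain ⟨z, hz, -⟩ := points_exists_of_isPullback (IsPullback.of_hasPullback snd (t j)) x
        (Points.ofPt (𝟙 _) w) (by
          rw [Points.map_ofPt, Category.id_comp, ← hu, ← hw]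
          exact (ofPt_yon_map_comp (c j) v w).symm)
      exact Set.mem_iUnion.2 ⟨j, z, hz⟩
    rw [e]
    exact isCompact_iUnion fun j => isCompact_range (Points.continuous_map _)
  exact isQuasiCompactSp_of_compactSpace hZ'

theorem isLocalOnBase_isQuasiCompactMor :
    IsLocalOnBase (IsFpqcCover (S := S)) IsQuasiCompactMor :=
  fun _ _ _ _ hY _ hτ _ _ hX _ _ _ _ hsq =>
    ⟨fun h i _ _ hZ hZc k fst snd sq => h hZ hZc _ _ snd (sq.paste_horiz (hsq i)),
      fun h => isQuasiCompactMor_of_fpqc hX hY hsq hτ h⟩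

end Groth.Agent.ASp
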