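import Mathlib.CategoryTheory.Sites.RegularEpi
import Groth.Agent.ASp.TopFpqc
import Groth.Agent.ASp.AffineRing
/-!
Descent of affine schemes over an affine base inside algebraic spaces.
-/

set_option backward.isDefEq.respectTransparency.types false

universe u

open CategoryTheory CategoryTheory.Limits AlgebraicGeometry Opposite TensorProduct

namespace Groth.Agent.ASp

open _root_.AlgSp

variable {S : Scheme.{u}}

/-- Being an isomorphism of algebraic spaces descends along fpqc coverings of the base. -/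
theorem isIso_of_fpqc {ι : Type u} {X Y : Sp S} {f : X ⟶ Y} {Yi Xi : ι → Sp S} {g : ∀ i, Yi i ⟶ Y}
    {p : ∀ i, Xi i ⟶ Yi i} {q : ∀ i, Xi i ⟶ X} (hX : IsAlgSpace X) (hY : IsAlgSpace Y)
    (hXi : ∀ i, IsAlgSpace (Xi i)) (hYi : ∀ i, IsAlgSpace (Yi i))
    (hsq : ∀ i, IsPullback (q i) (p i) f (g i)) (hτ : IsFpqcCover Yi g) (hp : ∀ i, IsIso (p i)) :
    IsIso f := by
  haveI : Mono f := mono_iff_repWith_diagonal.2
    (repWith_diagonal_of_fpqc hX hY hYi hsq hτ fun i => mono_iff_repWith_diagonal.1 (inferInstance : Mono (p i)))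
  refine isIso_of_mono_etale_surjective hX hY f
    (locP_of_fpqc hX hY hXi hYi hsq hτ fun i => locP_of_repWith (repWith_of_isIso (p i))) fun y => ?_
  obtain ⟨i, w, rfl⟩ := surjective_of_fpqc hτ y
  refine ⟨Points.map (q i) (Points.map (inv (p i)) w), ?_⟩
  rw [← Points.map_comp, ← Points.map_comp, (hsq i).w, IsIso.inv_hom_id_assoc]

/-- A map out of the source of an epimorphism of sheaves descends as soon as it equalizes the
kernel pair. -/
theorem exists_desc_of_epi {A X Z R : Sp S} (p : A ⟶ X) [Epi p] {r₁ r₂ : R ⟶ A}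
    (hR : IsPullback r₁ r₂ p p) (m : A ⟶ Z) (hm : r₁ ≫ m = r₂ ≫ m) : ∃ φ : X ⟶ Z, p ≫ φ = m := by
  have := IsRegularEpiCategory.regularEpiOfEpi p
  let h := IsRegularEpi.getStruct p
  obtain ⟨l, hl1, hl2⟩ : ∃ l : h.W ⟶ R, l ≫ r₁ = h.left ∧ l ≫ r₂ = h.right :=
    ⟨hR.lift h.left h.right h.w, hR.lift_fst _ _ _, hR.lift_snd _ _ _⟩
  exact ⟨(RegularEpi.desc' h m (by rw [← hl1, ← hl2, Category.assoc, Category.assoc, hm])).1,
    (RegularEpi.desc' h m (by rw [← hl1, ← hl2, Category.assoc, Category.assoc, hm])).2⟩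

/-- Affine schemes descend along fpqc coverings inside algebraic spaces. -/
theorem exists_affine_of_fpqc (O : CommRingCat.{u}) (oS : Spec O ⟶ S) {X : Sp S} (hX : IsAlgSpace X)
    (x : X ⟶ (yon S).obj (Over.mk oS)) {ι : Type u} [Finite ι] (O' : ι → CommRingCat.{u})
    (c : ∀ j, O ⟶ O' j)
    (cS : ∀ j, Over.mk (Spec.map (c j) ≫ oS) ⟶ Over.mk oS) (hcS : ∀ j, (cS j).left = Spec.map (c j))
    (hτ : IsFpqcCover (fun j => (yon S).obj (Over.mk (Spec.map (c j) ≫ oS))) (fun j => (yon S).map (cS j)))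
    (V : ι → Over S) (hV : ∀ j, IsAffine (V j).left) (fst : ∀ j, (yon S).obj (V j) ⟶ X)
    (v : ∀ j, V j ⟶ Over.mk (Spec.map (c j) ≫ oS))
    (sq : ∀ j, IsPullback (fst j) ((yon S).map (v j)) x ((yon S).map (cS j))) :
    ∃ P : Over S, IsAffine P.left ∧ Nonempty ((yon S).obj P ≅ X) := by
  let T : Over S := Over.mk oS
  let W : ι → Over S := fun j => Over.mk (Spec.map (c j) ≫ oS)
  have hT : IsAlgSpace ((yon S).obj T) := IsAlgSpace.yon_obj T
  have hWa : ∀ j, IsAffine (W j).left := fun j => inferInstanceAs (IsAffine (Spec (O' j)))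
  -- separatedness
  have := Groth.Agent.FpqcDesc.isClosedImmersion_descends.{u}
  have hdiag : RepWith @IsClosedImmersion (pullback.diagonal x) := by
    refine repWith_diagonal_of_fpqc hX hT (fun j => IsAlgSpace.yon_obj _) sq hτ fun j => ?_
    rw [repWith_diagonal_yon_map_iff]
    have := hV j
    have := hWa j
    exact ((isSeparated_iff (v j).left).1 inferInstance)
  -- quasi-compactness
  have : CompactSpace (Points X) := by
    have e : (Set.univ : Set (Points X)) = ⋃ j, Set.range (Points.ofPt (fst j)) := by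
      refine (Set.eq_univ_of_forall fun z => ?_).symm
      obtain ⟨j, w, hw⟩ := surjective_of_fpqc hτ (Points.map x z)
      obtain ⟨z', hz', -⟩ := points_exists_of_isPullback (sq j) z w hw.symm
      obtain ⟨t, rfl⟩ := (Points.schemeHomeo (V j)).surjective z'
      refine Set.mem_iUnion.2 ⟨j, t, ?_⟩
      rw [← hz', ofPt_comp_eq_map]
      rfl
    refine ⟨?_⟩
    rw [e]
    exact isCompact_iUnion fun j => by
      have := hV j
      exact isCompact_range (Points.continuous_ofPt _)
  -- an affine chart, written as a spectrum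
  obtain ⟨A₀, p₀, hA₀, hpe₀, hps₀⟩ := exists_affine_chart hX
  obtain ⟨a₀, ha₀⟩ := (yon S).map_surjective (p₀ ≫ x)
  let B : CommRingCat.{u} := Γ(A₀.left, ⊤)
  obtain ⟨αr, hαr⟩ : ∃ αr : O ⟶ B, Spec.map αr = A₀.left.isoSpec.inv ≫ a₀.left :=
    ⟨Spec.preimage _, Spec.map_preimage _⟩
  let A : Over S := Over.mk (Spec.map αr ≫ oS)
  let iA : A ≅ A₀ := Over.isoMk A₀.left.isoSpec.symm (by
    change A₀.left.isoSpec.inv ≫ A₀.hom = Spec.map αr ≫ oS
    rw [hαr, Category.assoc]
    exact congrArg _ (Over.w a₀).symm)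
  let p : (yon S).obj A ⟶ X := (yon S).map iA.hom ≫ p₀
  let a : A ⟶ T := Over.homMk (Spec.map αr) rfl
  have hia : iA.hom ≫ a₀ = a := Over.OverMorphism.ext hαr.symm
  have hpe : RepWith @Etale p :=
    repWith_comp (repWith_yon_map (inferInstanceAs (Etale A₀.left.isoSpec.inv))) hpe₀
  have hps : RepWith @Surjective p :=
    repWith_comp (repWith_yon_map (inferInstanceAs (Surjective A₀.left.isoSpec.inv))) hps₀
  have hpx : p ≫ x = (yon S).map a := by rw [← hia, Functor.map_comp, Category.assoc, ha₀]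
  -- the kernel pair of the chart is affine
  obtain ⟨R₀, r₁, r₂, hR⟩ := exists_isPullback_yon hpe.1 p
  have hR₁x : r₁ ≫ a = r₂ ≫ a := (yon S).map_injective (by
    simp only [Functor.map_comp, ← hpx, reassoc_of% hR.w])
  have hCI : IsClosedImmersion (pullback.lift r₁.left r₂.left
      (by rw [← Over.comp_left, hR₁x, Over.comp_left]) : R₀.left ⟶ pullback a.left a.left) := by
    have hM := IsPullback.of_hasPullback a a
    have hMy := isPullback_yon_map hM
    obtain ⟨k, hk⟩ : ∃ k : (yon S).obj (pullback a a) ⟶ pullback x x,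
        k ≫ pullback.fst x x = (yon S).map (pullback.fst a a) ≫ p ∧
        k ≫ pullback.snd x x = (yon S).map (pullback.snd a a) ≫ p :=
      ⟨pullback.lift _ _ (by simp only [Category.assoc, hpx, hMy.w]), pullback.lift_fst _ _ _,
        pullback.lift_snd _ _ _⟩
    obtain ⟨m, hm1, hm2⟩ : ∃ m : R₀ ⟶ pullback a a, m ≫ pullback.fst a a = r₁ ∧ m ≫ pullback.snd a a = r₂ :=
      ⟨pullback.lift r₁ r₂ hR₁x, pullback.lift_fst _ _ _, pullback.lift_snd _ _ _⟩
    have hsq : IsPullback ((yon S).map r₁ ≫ p) ((yon S).map m) (pullback.diagonal x) k := by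
      refine IsPullback.of_isLimit' ⟨?_⟩ ?_
      · apply pullback.hom_ext
        · simp only [Category.assoc, pullback.diagonal_fst, Category.comp_id, hk.1,
            ← Functor.map_comp_assoc, hm1]
        · simp only [Category.assoc, pullback.diagonal_snd, Category.comp_id, hk.2,
            ← Functor.map_comp_assoc, hm2, hR.w]
      · refine PullbackCone.IsLimit.mk _
          (fun s => hR.lift (s.snd ≫ (yon S).map (pullback.fst a a)) (s.snd ≫ (yon S).map (pullback.snd a a)) ?_)
          (fun s => ?_) (fun s => ?_) (fun s l h1 h2 => ?_)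
        · have h1 := s.condition =≫ pullback.fst x x
          have h2 := s.condition =≫ pullback.snd x x
          simp only [Category.assoc, pullback.diagonal_fst, pullback.diagonal_snd, Category.comp_id, hk.1, hk.2] at h1 h2
          simp only [Category.assoc, ← h1, ← h2]
        · have h1 := s.condition =≫ pullback.fst x x
          simp only [Category.assoc, pullback.diagonal_fst, Category.comp_id, hk.1] at h1
          rw [← Category.assoc, hR.lift_fst, Category.assoc, ← h1]
        · apply hMy.hom_ext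
          · rw [Category.assoc, ← Functor.map_comp, hm1, hR.lift_fst]
          · rw [Category.assoc, ← Functor.map_comp, hm2, hR.lift_snd]
        · apply hR.hom_ext
          · rw [hR.lift_fst, ← h2, Category.assoc, ← Functor.map_comp, hm1]
          · rw [hR.lift_snd, ← h2, Category.assoc, ← Functor.map_comp, hm2]
    have h1 : IsClosedImmersion m.left := hdiag.2 k _ m hsq
    have e1 : pullback.lift r₁.left r₂.left (by rw [← Over.comp_left, hR₁x, Over.comp_left]) =
        m.left ≫ (isPullback_left hM).isoPullback.hom := by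
      apply pullback.hom_ext
      · rw [pullback.lift_fst, Category.assoc, IsPullback.isoPullback_hom_fst]
        exact (congrArg CommaMorphism.left hm1).symm
      · rw [pullback.lift_snd, Category.assoc, IsPullback.isoPullback_hom_snd]
        exact (congrArg CommaMorphism.left hm2).symm
    rw [e1]
    exact IsClosedImmersion.comp _ _
  have : IsAffine T.left := inferInstanceAs (IsAffine (Spec O))
  have : IsAffine A.left := inferInstanceAs (IsAffine (Spec B))
  have hR₀ : IsAffine R₀.left := isAffine_of_isAffineHom (pullback.lift r₁.left r₂.left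
    (by rw [← Over.comp_left, hR₁x, Over.comp_left]) : R₀.left ⟶ pullback a.left a.left)
  -- the equalizer algebra
  let C : CommRingCat.{u} := Γ(R₀.left, ⊤)
  obtain ⟨ε₁, hε₁⟩ : ∃ ε : B ⟶ C, R₀.left.isoSpec.hom ≫ Spec.map ε = r₁.left :=
    ⟨Spec.preimage (R₀.left.isoSpec.inv ≫ r₁.left), by rw [Spec.map_preimage, Iso.hom_inv_id_assoc]⟩
  obtain ⟨ε₂, hε₂⟩ : ∃ ε : B ⟶ C, R₀.left.isoSpec.hom ≫ Spec.map ε = r₂.left :=
    ⟨Spec.preimage (R₀.left.isoSpec.inv ≫ r₂.left), by rw [Spec.map_preimage, Iso.hom_inv_id_assoc]⟩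
  have hε : αr ≫ ε₁ = αr ≫ ε₂ := Spec.map_injective ((cancel_epi R₀.left.isoSpec.hom).1 (by
    rw [Spec.map_comp, Spec.map_comp, reassoc_of% hε₁, reassoc_of% hε₂]
    exact congrArg CommaMorphism.left hR₁x))
  algebraize [αr.hom, (αr ≫ ε₁).hom]
  let e₁ : B →ₐ[O] C := { ε₁.hom with commutes' := fun _ => rfl }
  let e₂ : B →ₐ[O] C := { ε₂.hom with commutes' := fun r =>
    (congrArg (fun φ : O ⟶ C => φ.hom r) hε).symm }
  let E := AlgHom.equalizer e₁ e₂
  let β : O ⟶ CommRingCat.of E := CommRingCat.ofHom (algebraMap O E)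
  let P : Over S := Over.mk (Spec.map β ≫ oS)
  let b : P ⟶ T := Over.homMk (Spec.map β) rfl
  let ιE : CommRingCat.of E ⟶ B := CommRingCat.ofHom E.val.toRingHom
  have hιβ : β ≫ ιE = αr := rfl
  let π : A ⟶ P := Over.homMk (Spec.map ιE) (by
    change Spec.map ιE ≫ Spec.map β ≫ oS = Spec.map αr ≫ oS
    rw [← Category.assoc, ← Spec.map_comp, hιβ])
  have hπb : π ≫ b = a := Over.OverMorphism.ext (by
    change Spec.map ιE ≫ Spec.map β = Spec.map αr
    rw [← Spec.map_comp, hιβ])
  have hrπ : r₁ ≫ π = r₂ ≫ π := by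
    apply Over.OverMorphism.ext
    change r₁.left ≫ Spec.map ιE = r₂.left ≫ Spec.map ιE
    rw [← hε₁, ← hε₂, Category.assoc, Category.assoc, ← Spec.map_comp, ← Spec.map_comp]
    congr 2
    exact CommRingCat.hom_ext (RingHom.ext fun y => y.2)
  -- the comparison map
  have hls : Sheaf.IsLocallySurjective p := isLocallySurjective_of_repWith
    (repWith_mono (fun _ _ g (hg : Etale g) => inferInstanceAs (Flat g)) hpe)
    (repWith_mono (fun _ _ g (hg : Etale g) => inferInstanceAs (LocallyOfFinitePresentation g)) hpe) hps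
  have : Epi p := inferInstance
  obtain ⟨φ, hφ⟩ := exists_desc_of_epi p hR ((yon S).map π) (by
    rw [← Functor.map_comp, hrπ, Functor.map_comp])
  have hφb : φ ≫ (yon S).map b = x := by
    rw [← cancel_epi p, reassoc_of% hφ, ← Functor.map_comp, hπb, hpx]
  suffices IsIso φ from ⟨P, inferInstanceAs (IsAffine (Spec (CommRingCat.of E))), ⟨(asIso φ).symm⟩⟩
  -- base change of the comparison map
  have key : ∀ j, ∃ (PW : Over S) (pc : PW ⟶ P) (pw : PW ⟶ W j) (ψ : V j ⟶ PW),
      IsPullback pc pw b (cS j) ∧ IsIso ψ ∧ fst j ≫ φ = (yon S).map (ψ ≫ pc) ∧ ψ ≫ pw = v j := by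
    intro j
    algebraize [(c j).hom]
    have : Module.Flat O (O' j) := by
      have h1 : LocP @Flat ((yon S).map (cS j)) := hτ.1 j
      have h2 : Flat (cS j).left := locP_yon_map h1
      rw [hcS, HasRingHomProperty.Spec_iff (P := @Flat)] at h2
      exact h2
    let PWr : CommRingCat.{u} := CommRingCat.of (O' j ⊗[O] E)
    let AWr : CommRingCat.{u} := CommRingCat.of (O' j ⊗[O] B)
    let CWr : CommRingCat.{u} := CommRingCat.of (O' j ⊗[O] C)
    let PW : Over S := Over.mk (Spec.map (CommRingCat.ofHom (algebraMap (O' j) (O' j ⊗[O] E))) ≫ (W j).hom)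
    let AW : Over S := Over.mk (Spec.map (CommRingCat.ofHom (algebraMap (O' j) (O' j ⊗[O] B))) ≫ (W j).hom)
    have hP0 := isPullback_SpecMap_of_isPushout _ _ _ _ (CommRingCat.isPushout_tensorProduct O (O' j) E).flip
    have hA0 := isPullback_SpecMap_of_isPushout _ _ _ _ (CommRingCat.isPushout_tensorProduct O (O' j) B).flip
    let pw : PW ⟶ W j := Over.homMk (Spec.map (CommRingCat.ofHom (algebraMap (O' j) (O' j ⊗[O] E)))) rfl
    let aw : AW ⟶ W j := Over.homMk (Spec.map (CommRingCat.ofHom (algebraMap (O' j) (O' j ⊗[O] B)))) rfl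
    let pc : PW ⟶ P := Over.homMk (Spec.map (CommRingCat.ofHom
      (Algebra.TensorProduct.includeRight (R := O) (A := O' j) (B := E)).toRingHom)) (by
        change _ ≫ Spec.map β ≫ oS = _ ≫ Spec.map (c j) ≫ oS
        rw [← Category.assoc, ← Category.assoc]
        exact congrArg (· ≫ oS) hP0.w)
    let ac : AW ⟶ A := Over.homMk (Spec.map (CommRingCat.ofHom
      (Algebra.TensorProduct.includeRight (R := O) (A := O' j) (B := B)).toRingHom)) (by
        change _ ≫ Spec.map αr ≫ oS = _ ≫ Spec.map (c j) ≫ oS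
        rw [← Category.assoc, ← Category.assoc]
        exact congrArg (· ≫ oS) hA0.w)
    have hP : IsPullback pc pw b (cS j) := IsPullback.of_map (Over.forget S)
      (Over.OverMorphism.ext (by rw [Over.comp_left, Over.comp_left, hcS]; exact hP0.w))
      (by
        change IsPullback _ _ (Spec.map β) ((cS j).left)
        rw [hcS]
        exact hP0)
    have hA : IsPullback ac aw a (cS j) := IsPullback.of_map (Over.forget S)
      (Over.OverMorphism.ext (by rw [Over.comp_left, Over.comp_left, hcS]; exact hA0.w))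
      (by
        change IsPullback _ _ (Spec.map αr) ((cS j).left)
        rw [hcS]
        exact hA0)
    let θ : PWr ⟶ AWr := CommRingCat.ofHom
      (Algebra.TensorProduct.map (AlgHom.id O (O' j)) E.val).toRingHom
    let πW : AW ⟶ PW := Over.homMk (Spec.map θ) (by
      change Spec.map θ ≫ Spec.map _ ≫ (W j).hom = Spec.map _ ≫ (W j).hom
      rw [← Category.assoc, ← Spec.map_comp]
      congr 2)
    have hπW : πW ≫ pc = ac ≫ π := by
      apply Over.OverMorphism.ext
      change Spec.map θ ≫ Spec.map _ = Spec.map _ ≫ Spec.map ιE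
      rw [← Spec.map_comp, ← Spec.map_comp]
      congr 1
    have hπW' : πW ≫ pw = aw := by
      apply Over.OverMorphism.ext
      change Spec.map θ ≫ Spec.map _ = Spec.map _
      rw [← Spec.map_comp]
      congr 1
    -- the map to `PW`
    obtain ⟨ψ, hψ⟩ := (yon S).map_surjective ((isPullback_yon_map hP).lift (fst j ≫ φ) ((yon S).map (v j))
      (by rw [Category.assoc, hφb, (sq j).w]))
    have hψ1 : fst j ≫ φ = (yon S).map (ψ ≫ pc) := by
      rw [Functor.map_comp, hψ, IsPullback.lift_fst]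
    have hψ2 : ψ ≫ pw = v j := (yon S).map_injective (by rw [Functor.map_comp, hψ, IsPullback.lift_snd])
    refine ⟨PW, pc, pw, ψ, hP, ?_, hψ1, hψ2⟩
    -- the chart of `V j`
    have hAy := isPullback_yon_map hA
    obtain ⟨α', hα'1, hα'2⟩ : ∃ l : AW ⟶ V j, (yon S).map l ≫ fst j = (yon S).map ac ≫ p ∧ l ≫ v j = aw := by
      obtain ⟨l, hl⟩ := (yon S).map_surjective ((sq j).lift ((yon S).map ac ≫ p) ((yon S).map aw)
        (by rw [Category.assoc, hpx, hAy.w]))
      exact ⟨l, by rw [hl, IsPullback.lift_fst],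
        (yon S).map_injective (by rw [Functor.map_comp, hl, IsPullback.lift_snd])⟩
    have hα : IsPullback ((yon S).map ac) ((yon S).map α') p (fst j) := by
      refine IsPullback.of_bot (h₃₁ := (yon S).map (cS j)) (v₂₁ := (yon S).map (v j)) (v₂₂ := x) ?_
        hα'1.symm (sq j)
      rw [← Functor.map_comp, hα'2, hpx]
      exact hAy
    have : Etale α'.left := hpe.2 _ _ _ hα
    have : Surjective α'.left := hps.2 _ _ _ hα
    have : Epi α'.left := by
      have := hV j
      have : IsAffine AW.left := inferInstanceAs (IsAffine (Spec _))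
      infer_instance
    have hαψ : α' ≫ ψ = πW := by
      apply hP.hom_ext
      · refine (yon S).map_injective ?_
        rw [Category.assoc, Functor.map_comp, ← hψ1, reassoc_of% hα'1, hφ, hπW, Functor.map_comp]
      · rw [Category.assoc, hψ2, hα'2, hπW']
    -- the inverse
    let RW : Over S := Over.mk (Spec.map (CommRingCat.ofHom (algebraMap (O' j) (O' j ⊗[O] C))) ≫ (W j).hom)
    let u₁r : AWr ⟶ CWr := CommRingCat.ofHom (Algebra.TensorProduct.map (AlgHom.id O (O' j)) e₁).toRingHom
    let u₂r : AWr ⟶ CWr := CommRingCat.ofHom (Algebra.TensorProduct.map (AlgHom.id O (O' j)) e₂).toRingHom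
    let u₁ : RW ⟶ AW := Over.homMk (Spec.map u₁r) (by
      change Spec.map u₁r ≫ Spec.map _ ≫ (W j).hom = Spec.map _ ≫ (W j).hom
      rw [← Category.assoc, ← Spec.map_comp]
      congr 2
      exact CommRingCat.hom_ext (RingHom.ext fun r => by
        change Algebra.TensorProduct.map (AlgHom.id O (O' j)) e₁ (r ⊗ₜ 1) = r ⊗ₜ 1
        simp))
    let u₂ : RW ⟶ AW := Over.homMk (Spec.map u₂r) (by
      change Spec.map u₂r ≫ Spec.map _ ≫ (W j).hom = Spec.map _ ≫ (W j).hom
      rw [← Category.assoc, ← Spec.map_comp]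
      congr 2
      exact CommRingCat.hom_ext (RingHom.ext fun r => by
        change Algebra.TensorProduct.map (AlgHom.id O (O' j)) e₂ (r ⊗ₜ 1) = r ⊗ₜ 1
        simp))
    let incC : C ⟶ CWr := CommRingCat.ofHom
      (Algebra.TensorProduct.includeRight (R := O) (A := O' j) (B := C)).toRingHom
    obtain ⟨rc, hrc1, hrc2⟩ : ∃ rc : RW ⟶ R₀, rc ≫ r₁ = u₁ ≫ ac ∧ rc ≫ r₂ = u₂ ≫ ac := by
      have q1 : (Spec.map incC ≫ R₀.left.isoSpec.inv) ≫ r₁.left = (u₁ ≫ ac).left := by
        change _ = Spec.map u₁r ≫ Spec.map _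
        rw [← hε₁, Category.assoc, Iso.inv_hom_id_assoc, ← Spec.map_comp, ← Spec.map_comp]
        congr 1
      have q2 : (Spec.map incC ≫ R₀.left.isoSpec.inv) ≫ r₂.left = (u₂ ≫ ac).left := by
        change _ = Spec.map u₂r ≫ Spec.map _
        rw [← hε₂, Category.assoc, Iso.inv_hom_id_assoc, ← Spec.map_comp, ← Spec.map_comp]
        congr 1
      refine ⟨Over.homMk (Spec.map incC ≫ R₀.left.isoSpec.inv) ?_, Over.OverMorphism.ext q1,
        Over.OverMorphism.ext q2⟩
      rw [← Over.w r₁, ← Category.assoc, q1, Over.w (u₁ ≫ ac)]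
    have hu : u₁ ≫ aw = u₂ ≫ aw := by
      apply Over.OverMorphism.ext
      change Spec.map u₁r ≫ Spec.map _ = Spec.map u₂r ≫ Spec.map _
      rw [← Spec.map_comp, ← Spec.map_comp]
      congr 1
      exact CommRingCat.hom_ext (RingHom.ext fun r => by
        change Algebra.TensorProduct.map (AlgHom.id O (O' j)) e₁ (r ⊗ₜ 1) =
          Algebra.TensorProduct.map (AlgHom.id O (O' j)) e₂ (r ⊗ₜ 1)
        simp)
    have hcoeq : u₁ ≫ α' = u₂ ≫ α' := by
      refine (yon S).map_injective ((sq j).hom_ext ?_ ?_)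
      · have e0 : (yon S).map (u₁ ≫ ac) ≫ p = (yon S).map (u₂ ≫ ac) ≫ p := by
          rw [← hrc1, ← hrc2, Functor.map_comp, Functor.map_comp, Category.assoc, Category.assoc, hR.w]
        simp only [Functor.map_comp, Category.assoc, hα'1] at e0 ⊢
        exact e0
      · simp only [← Functor.map_comp, Category.assoc, hα'2, hu]
    have := hV j
    obtain ⟨ar, har⟩ : ∃ ar : Γ((V j).left, ⊤) ⟶ AWr, Spec.map ar ≫ (V j).left.isoSpec.inv = α'.left :=
      ⟨Spec.preimage (α'.left ≫ (V j).left.isoSpec.hom),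
        by rw [Spec.map_preimage, Category.assoc, Iso.hom_inv_id]; exact Category.comp_id _⟩
    have har' : ar ≫ u₁r = ar ≫ u₂r := Spec.map_injective ((cancel_mono (V j).left.isoSpec.inv).1 (by
      rw [Spec.map_comp, Spec.map_comp, Category.assoc, Category.assoc, har]
      exact congrArg CommaMorphism.left hcoeq))
    have hinj : Function.Injective θ.hom := injective_map_equalizer e₁ e₂
    have hex : ∀ y, ∃ z, θ.hom z = ar.hom y := fun y =>
      exists_map_equalizer e₁ e₂ (congrArg (fun f : Γ((V j).left, ⊤) ⟶ CWr => f.hom y) har')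
    choose z hz using hex
    let ν : Γ((V j).left, ⊤) ⟶ PWr := CommRingCat.ofHom
      { toFun := z
        map_one' := hinj (by rw [hz, map_one, map_one])
        map_mul' := fun y y' => hinj (by rw [map_mul, hz, hz, hz, map_mul])
        map_zero' := hinj (by rw [hz, map_zero, map_zero])
        map_add' := fun y y' => hinj (by rw [map_add, hz, hz, hz, map_add]) }
    have hν : ν ≫ θ = ar := CommRingCat.hom_ext (RingHom.ext hz)
    have hmono : ∀ {D : CommRingCat.{u}} (f g : D ⟶ PWr), f ≫ θ = g ≫ θ → f = g := fun f g h =>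
      CommRingCat.hom_ext (RingHom.ext fun y => hinj (congrArg (fun f : _ ⟶ AWr => f.hom y) h))
    let ν' : PW.left ⟶ (V j).left := Spec.map ν ≫ (V j).left.isoSpec.inv
    have h1 : Spec.map θ ≫ ν' = α'.left := by
      rw [← Category.assoc, ← Spec.map_comp, hν, har]
    have hψl : α'.left ≫ ψ.left = Spec.map θ := congrArg CommaMorphism.left hαψ
    haveI : IsIso ψ.left := by
      refine ⟨ν', ?_, ?_⟩
      · rw [← cancel_epi α'.left, reassoc_of% hψl, h1, Category.comp_id]
      · obtain ⟨w, hw⟩ : ∃ w : PWr ⟶ PWr, Spec.map w = ν' ≫ ψ.left := ⟨_, Spec.map_preimage _⟩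
        rw [← hw]
        have : w ≫ θ = 𝟙 _ ≫ θ := by
          apply Spec.map_injective
          rw [Spec.map_comp, Spec.map_comp, Spec.map_id, Category.comp_id, hw, reassoc_of% h1, hψl]
        rw [hmono w (𝟙 _) this, Spec.map_id]
        rfl
    have : IsIso ((Over.forget S).map ψ) := ‹IsIso ψ.left›
    exact isIso_of_reflects_iso ψ (Over.forget S)
  choose PW pc pw ψ hP hψ hψ1 hψ2 using key
  refine isIso_of_fpqc (f := φ) (p := fun j => (yon S).map (ψ j)) (q := fst) hX (IsAlgSpace.yon_obj P)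
    (fun j => IsAlgSpace.yon_obj _) (fun j => IsAlgSpace.yon_obj _) (g := fun j => (yon S).map (pc j))
    (fun j => ?_) (isFpqcCover_baseChange hT (IsAlgSpace.yon_obj P) (fun j => IsAlgSpace.yon_obj _)
      (fun j => (isPullback_yon_map (hP j)).flip) hτ) (fun j => inferInstance)
  refine IsPullback.of_bot (h₃₁ := (yon S).map (cS j)) (v₂₁ := (yon S).map (pw j)) (v₂₂ := (yon S).map b) ?_
    (by rw [hψ1 j, Functor.map_comp]) (isPullback_yon_map (hP j))
  rw [← Functor.map_comp, hψ2 j, hφb]
  exact sq j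

end Groth.Agent.ASp
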