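import Groth.Agent.ASp.Residual
import Groth.Agent.ASp.Affine
import Groth.Agent.SchDesc.QAff
/-!
# A space covered by a base change of a flat cover of an affine scheme is affine
-/

set_option autoImplicit false
set_option backward.isDefEq.respectTransparency false
set_option backward.isDefEq.respectTransparency.types false

universe u

open CategoryTheory CategoryTheory.Limits AlgebraicGeometry Opposite

noncomputable section

namespace Groth.Agent.ASp

open _root_.AlgSp

variable {S : Scheme.{u}}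

/-- Let `x : X ⟶ T'_S` where `T'_S ⟶ T'` is a base change to `S` of an affine scheme, `W' ⟶ T'` an étale
surjection of affine schemes with base change `W'_S`. If `X ×_{T'_S} W'_S` is affine then so is `X`. -/
theorem exists_affine_of_cover {X : Sp S} {TS WS : Over S} {T' W' : Scheme.{u}} [IsAffine T'] [IsAffine W']
    (w : W' ⟶ T') [Etale w] [Surjective w] (τ : TS.left ⟶ T') (ω : WS.left ⟶ W') (wS : WS ⟶ TS)
    (hbase : IsPullback ω wS.left w τ) (x : X ⟶ (yon S).obj TS) {V : Over S} [IsAffine V.left]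
    (q : (yon S).obj V ⟶ X) (g : V ⟶ WS) (sq : IsPullback q ((yon S).map g) x ((yon S).map wS))
    [Epi q] : ∃ Q : Over S, IsAffine Q.left ∧ Nonempty ((yon S).obj Q ≅ X) := by
  -- the action
  obtain ⟨xV, hxV⟩ : ∃ xV : V ⟶ TS, (yon S).map xV = q ≫ x := (yon S).map_surjective _
  have hgx : g ≫ wS = xV := (yon S).map_injective (by rw [Functor.map_comp, hxV, sq.w])
  let P2 : Over S := pullback xV wS
  let f₁ : P2 ⟶ V := pullback.fst xV wS
  let f₂ : P2.left ⟶ W' := (pullback.snd xV wS).left ≫ ω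
  let h : V.left ⟶ W' := g.left ≫ ω
  have h2 : IsPullback f₁.left (pullback.snd xV wS).left xV.left wS.left :=
    (IsPullback.of_hasPullback xV wS).map (Over.forget S)
  have hhw : h ≫ w = xV.left ≫ τ := by
    rw [Category.assoc, hbase.w, ← Category.assoc, ← Over.comp_left, hgx]
  have H2 : IsPullback f₁.left f₂ (h ≫ w) w := by
    rw [hhw]
    exact (h2.flip.paste_horiz hbase.flip.flip).flip
  haveI : IsAffine P2.left := IsAffine.of_isIso H2.isoPullback.hom
  obtain ⟨a, ha1, ha2⟩ : ∃ a : P2 ⟶ V, (yon S).map a ≫ q = (yon S).map f₁ ≫ q ∧ a ≫ g = pullback.snd xV wS := by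
    have e0 : ((yon S).map f₁ ≫ q) ≫ x = (yon S).map (pullback.snd xV wS) ≫ (yon S).map wS := by
      rw [Category.assoc, ← hxV, ← Functor.map_comp, ← Functor.map_comp]
      exact congrArg _ pullback.condition
    obtain ⟨a, ha⟩ := (yon S).map_surjective (sq.lift _ _ e0)
    exact ⟨a, by rw [ha, sq.lift_fst], (yon S).map_injective (by rw [Functor.map_comp, ha, sq.lift_snd])⟩
  have hext : ∀ {Z : Over S} {z z' : Z ⟶ V}, (yon S).map z ≫ q = (yon S).map z' ≫ q → z ≫ g = z' ≫ g → z = z' :=
    fun e1 e2 => (yon S).map_injective (sq.hom_ext e1 (by rw [← Functor.map_comp, e2, Functor.map_comp]))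
  have hah : a.left ≫ h = f₂ := by
    rw [← Category.assoc, ← Over.comp_left, ha2]
  let σ : V ⟶ P2 := pullback.lift (𝟙 V) g (by rw [Category.id_comp, hgx])
  have hσ₁ : σ ≫ f₁ = 𝟙 V := pullback.lift_fst _ _ _
  have hσ₂ : σ ≫ pullback.snd xV wS = g := pullback.lift_snd _ _ _
  have hσa : σ ≫ a = 𝟙 V := hext
    (by rw [Functor.map_comp, Category.assoc, ha1, ← Category.assoc, ← Functor.map_comp, hσ₁])
    (by rw [Category.assoc, ha2, hσ₂, Category.id_comp])
  let P3 : Over S := pullback (f₁ ≫ xV) wS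
  let g₁ : P3 ⟶ P2 := pullback.fst (f₁ ≫ xV) wS
  have h3 : IsPullback g₁.left (pullback.snd (f₁ ≫ xV) wS).left (f₁ ≫ xV).left wS.left :=
    (IsPullback.of_hasPullback (f₁ ≫ xV) wS).map (Over.forget S)
  have H3 : IsPullback g₁.left ((pullback.snd (f₁ ≫ xV) wS).left ≫ ω) (f₁.left ≫ h ≫ w) w := by
    rw [hhw, ← Category.assoc, ← Over.comp_left]
    exact (h3.flip.paste_horiz hbase.flip.flip).flip
  haveI : IsAffine P3.left := IsAffine.of_isIso H3.isoPullback.hom
  have ha3 : a ≫ xV = f₁ ≫ xV := (yon S).map_injective (by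
    rw [Functor.map_comp, Functor.map_comp, hxV, reassoc_of% ha1])
  let Φ₁ : P3 ⟶ P2 := pullback.lift (g₁ ≫ a) (pullback.snd (f₁ ≫ xV) wS)
    (by rw [Category.assoc, ha3]; exact pullback.condition)
  let Φ₂ : P3 ⟶ P2 := pullback.lift (g₁ ≫ f₁) (pullback.snd (f₁ ≫ xV) wS)
    (by rw [Category.assoc]; exact pullback.condition)
  have key : Φ₁ ≫ a = Φ₂ ≫ a := hext
    (by
      simp only [Functor.map_comp, Category.assoc, ha1]
      simp only [← Category.assoc, ← Functor.map_comp, Φ₁, Φ₂, f₁, pullback.lift_fst]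
      simp only [Functor.map_comp, Category.assoc, ha1]
      rfl)
    (by simp only [Category.assoc, ha2, Φ₁, Φ₂, pullback.lift_snd])
  obtain ⟨Ub, πb, str, hbar, hpb, hcompat, hinv, hUb⟩ := SchDesc.exists_affine_quot_aux h w f₁.left f₂ H2
    g₁.left _ H3 a.left hah σ.left (congrArg CommaMorphism.left hσ₁)
    (by rw [← Category.assoc, ← Over.comp_left, hσ₂]) (congrArg CommaMorphism.left hσa)
    Φ₁.left Φ₂.left (by rw [← Over.comp_left, ← Over.comp_left, pullback.lift_fst])
    (by rw [← Category.assoc, ← Over.comp_left, pullback.lift_snd])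
    (by rw [← Over.comp_left, ← Over.comp_left, pullback.lift_fst])
    (by rw [← Category.assoc, ← Over.comp_left, pullback.lift_snd])
    (congrArg CommaMorphism.left key)
  haveI := hUb
  let π : V.left ⟶ Ub := V.left.toSpecΓ ≫ πb
  haveI : IsIso V.left.toSpecΓ := inferInstanceAs (IsIso V.left.isoSpec.hom)
  have hπ : IsPullback h π w str := by
    refine hpb.of_iso (asIso V.left.toSpecΓ).symm (Iso.refl _) (Iso.refl _) (Iso.refl _) ?_ ?_ (by simp) (by simp)
    · simp [← hcompat]
    · simp [π]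
  haveI : Etale π := MorphismProperty.of_isPullback hπ inferInstance
  haveI : Surjective π := MorphismProperty.of_isPullback hπ inferInstance
  -- the kernel pair
  have hk : IsPullback f₁.left a.left π π := by
    refine (IsPullback.of_right (h₁₁ := a.left) (h₂₁ := π) ?_ hinv hπ).flip
    rw [hah, ← hπ.w]
    exact H2.flip
  obtain ⟨σQ, hσQ⟩ : ∃ σQ : Ub ⟶ S, π ≫ σQ = V.hom := by
    refine ⟨(EffectiveEpi.desc π V.hom fun g₁ g₂ e => ?_), EffectiveEpi.fac _ _ _⟩
    obtain ⟨l, hl1, hl2⟩ := hk.exists_lift g₁ g₂ e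
    rw [← hl1, ← hl2, Category.assoc, Category.assoc, Over.w, Over.w]
  let Q : Over S := Over.mk σQ
  let πQ : V ⟶ Q := Over.homMk π hσQ
  haveI : Epi ((yon S).map πQ) := by
    haveI : Etale πQ.left := ‹Etale π›
    haveI : Surjective πQ.left := ‹Surjective π›
    exact epi_yon_map πQ
  have hkQ : IsPullback f₁ a πQ πQ :=
    IsPullback.of_map (Over.forget S) (Over.OverMorphism.ext hk.w) hk
  have hkX : IsPullback ((yon S).map f₁) ((yon S).map a) q q := by
    refine (IsPullback.of_right (h₁₁ := (yon S).map a) (h₂₁ := q) ?_ ha1 sq.flip).flip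
    rw [← Functor.map_comp, ha2, ← hxV]
    exact (isPullback_yon_map (IsPullback.of_hasPullback xV wS)).flip
  obtain ⟨α, hα⟩ := exists_desc_of_epi ((yon S).map πQ) (isPullback_yon_map hkQ) q ha1.symm
  obtain ⟨β, hβ⟩ := exists_desc_of_epi q hkX ((yon S).map πQ) (by
    rw [← Functor.map_comp, ← Functor.map_comp, hkQ.w])
  refine ⟨Q, hUb, ⟨⟨α, β, ?_, ?_⟩⟩⟩
  · rw [← cancel_epi ((yon S).map πQ), reassoc_of% hα, hβ, Category.comp_id]
  · rw [← cancel_epi q, reassoc_of% hβ, hα, Category.comp_id]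

end Groth.Agent.ASp
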