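import Groth.Agent.ASp.LqfNbhd

/-!
Separated locally quasi-finite morphisms of algebraic spaces are representable by schemes.
-/

set_option backward.isDefEq.respectTransparency false
set_option backward.isDefEq.respectTransparency.types false

universe u

open CategoryTheory CategoryTheory.Limits AlgebraicGeometry Opposite

namespace Groth.Agent.ASp

open _root_.AlgSp

variable {S : Scheme.{u}}

/-- A sheaf isomorphic to the sheaf of a scheme is representable. -/
theorem isRepresentable_of_iso_yon {X : Sp S} {P : Over S} (e : (yon S).obj P ≅ X) : X.obj.IsRepresentable := by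
  obtain ⟨Y, ⟨r⟩⟩ := (inferInstance : (uliftYoneda.{u + 1}.obj P).IsRepresentable)
  exact ⟨Y, ⟨r.ofIso ((sheafToPresheaf (J S) (Type (u + 1))).mapIso e)⟩⟩

/-- A separated, locally quasi-finite morphism of algebraic spaces is representable by schemes. -/
theorem representable_of_sep_lqf {X Y : Sp S} (hX : IsAlgSpace X) (hY : IsAlgSpace Y) (f : X ⟶ Y)
    (hqf : LocP (@LocallyQuasiFinite ⊓ @LocallyOfFiniteType) f) (hsep : IsSeparatedMor f) : Representable f := by
  intro U g
  have sq := IsPullback.of_hasPullback f g
  have hP : IsAlgSpace (pullback f g) := isAlgSpace_of_isPullback hY.diag hX (IsAlgSpace.yon_obj U) sq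
  have hsep' : IsSeparatedMor (pullback.snd f g) := by
    obtain ⟨s, h1, -⟩ := isPullback_diagonal_baseChange sq
    exact repWith_of_isPullback h1 hsep
  have hqf' : LocP (@LocallyQuasiFinite ⊓ @LocallyOfFiniteType) (pullback.snd f g) :=
    locP_of_isPullback sq.flip hX hY (IsAlgSpace.yon_obj U) hqf
  obtain ⟨B, ⟨e⟩⟩ := exists_scheme_of_sep_lqf hP _ hsep' hqf'
  obtain ⟨snd, hsnd⟩ := (yon S).map_surjective (e.hom ≫ pullback.snd f g)
  refine ⟨B, snd, e.hom ≫ pullback.fst f g, ?_⟩
  exact IsPullback.of_iso sq e.symm (Iso.refl _) (Iso.refl _) (Iso.refl _) (by simp) (by simp [hsnd]) (by simp) (by simp)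

end Groth.Agent.ASp
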