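import Groth.Agent.ASp.TopFpqc
/-!
Universal topological properties of representable maps; examples of fpqc coverings.
-/

set_option backward.isDefEq.respectTransparency.types false

universe u

open CategoryTheory CategoryTheory.Limits AlgebraicGeometry Opposite Topology

namespace Groth.Agent.ASp

open _root_.AlgSp

variable {S : Scheme.{u}}

/-- To prove a universal property for a base change to a scheme it is enough to look at base changes to schemes. -/
lemma universally_snd {P : MorphismProperty Scheme.{u}} {F G : Sp S} {f : F ⟶ G} {U V : Over S}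
    {g : (yon S).obj U ⟶ G} {fst : (yon S).obj V ⟶ F} {snd : V ⟶ U}
    (sq : IsPullback fst ((yon S).map snd) f g)
    (H : ∀ ⦃T W : Over S⦄ (g' : (yon S).obj T ⟶ G) (fst' : (yon S).obj W ⟶ F) (snd' : W ⟶ T),
      IsPullback fst' ((yon S).map snd') f g' → P snd'.left) :
    P.universally snd.left := by
  intro X' Y' i₁ i₂ f' h
  let T : Over S := Over.mk (i₂ ≫ U.hom)
  let t : T ⟶ U := Over.homMk i₂ rfl
  let W : Over S := Over.mk (f' ≫ T.hom)
  let r : W ⟶ T := Over.homMk f' rfl
  let w : W ⟶ V := Over.homMk i₁ (by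
    change i₁ ≫ V.hom = f' ≫ i₂ ≫ U.hom
    rw [← Over.w snd, reassoc_of% h.w])
  have hsq : IsPullback w r snd t :=
    IsPullback.of_map (Over.forget S) (Over.OverMorphism.ext h.w.symm) h.flip
  exact H _ _ r ((isPullback_yon_map hsq).paste_horiz sq)

lemma map_yon_map_eq' {T W : Over S} (r : W ⟶ T) :
    (fun t => r.left t) = (Points.schemeHomeo T).symm ∘ Points.map ((yon S).map r) ∘ Points.schemeHomeo W := by
  funext w
  simp only [Function.comp_apply, Points.map_yon_map_apply, Homeomorph.symm_apply_apply]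

lemma isClosedMap_map_of_repWith {P : MorphismProperty Scheme.{u}}
    (hP : ∀ {X Y : Scheme.{u}} (g : X ⟶ Y), P g → IsClosedMap g) {F G : Sp S} {f : F ⟶ G}
    (hf : RepWith P f) : IsClosedMap (Points.map f) := by
  intro C hC
  rw [← isOpen_compl_iff, Points.isOpen_iff]
  intro T g
  rw [Set.preimage_compl, preimage_ofPt_image (hf.1.isPullback g), isOpen_compl_iff]
  exact hP _ (hf.2 g _ _ (hf.1.isPullback g)) _ (hC.preimage (Points.continuous_ofPt _))

lemma isQuotientMap_map_of_repWith {P : MorphismProperty Scheme.{u}}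
    (hP : ∀ {X Y : Scheme.{u}} (g : X ⟶ Y), P g → IsQuotientMap g) {F G : Sp S} {f : F ⟶ G}
    (hf : RepWith P f) : IsQuotientMap (Points.map f) := by
  have hs : RepWith @Surjective f := repWith_mono (fun _ _ g hg => ⟨(hP g hg).surjective⟩) hf
  rw [isQuotientMap_iff]
  refine ⟨isCoinducing_iff.2 fun O => ⟨fun hO => ?_, fun hO => hO.preimage (Points.continuous_map f)⟩,
    surjective_map_of_repWith hs⟩
  rw [Points.isOpen_iff]
  intro T g
  have sq := hf.1.isPullback g
  have hq : IsQuotientMap (hf.1.snd g).left := hP _ (hf.2 g _ _ sq)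
  rw [← hq.isOpen_preimage]
  have e : (hf.1.snd g).left ⁻¹' (Points.ofPt g ⁻¹' O) = Points.ofPt (hf.1.fst g) ⁻¹' (Points.map f ⁻¹' O) := by
    ext w
    simp only [Set.mem_preimage, Points.map_ofPt, sq.w, ofPt_yon_map_comp]
  rw [e]
  exact hO.preimage (Points.continuous_ofPt _)

lemma isHomeomorph_map_of_repWith {P : MorphismProperty Scheme.{u}}
    (hP : ∀ {X Y : Scheme.{u}} (g : X ⟶ Y), P g → IsHomeomorph g) {F G : Sp S} {f : F ⟶ G}
    (hf : RepWith P f) : IsHomeomorph (Points.map f) :=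
  ⟨Points.continuous_map _, isOpenMap_map_of_repWith (fun g hg => (hP g hg).isOpenMap) hf,
    injective_map_of_repWith (fun g hg => (hP g hg).injective) hf,
    surjective_map_of_repWith (repWith_mono (fun _ _ g hg => ⟨(hP g hg).surjective⟩) hf)⟩

theorem repWith_universallyOpen_iff {F G : Sp S} {f : F ⟶ G} (hf : Representable f) :
    RepWith @UniversallyOpen f ↔ IsUnivOpenMor f := by
  refine ⟨fun h Z Z' _ g fst snd sq => isOpenMap_map_of_repWith
    (fun g hg => have : UniversallyOpen g := hg; g.isOpenMap) (repWith_of_isPullback sq h), fun h => ⟨hf, ?_⟩⟩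
  intro U V g fst snd sq
  refine ⟨universally_snd sq fun T W g' fst' snd' sq' => ?_⟩
  change IsOpenMap (fun t => snd'.left t)
  rw [map_yon_map_eq']
  exact (Points.schemeHomeo T).symm.isOpenMap.comp
    ((h (IsAlgSpace.yon_obj T) g' fst' _ sq').comp (Points.schemeHomeo W).isOpenMap)

theorem repWith_universallyClosed_iff {F G : Sp S} {f : F ⟶ G} (hf : Representable f) :
    RepWith @UniversallyClosed f ↔ IsUnivClosedMor f := by
  refine ⟨fun h Z Z' _ g fst snd sq => isClosedMap_map_of_repWith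
    (fun g hg => have : UniversallyClosed g := hg; g.isClosedMap) (repWith_of_isPullback sq h), fun h => ⟨hf, ?_⟩⟩
  intro U V g fst snd sq
  refine ⟨universally_snd sq fun T W g' fst' snd' sq' => ?_⟩
  change IsClosedMap (fun t => snd'.left t)
  rw [map_yon_map_eq']
  exact (Points.schemeHomeo T).symm.isClosedMap.comp
    ((h (IsAlgSpace.yon_obj T) g' fst' _ sq').comp (Points.schemeHomeo W).isClosedMap)

theorem repWith_quasiCompact_iff {F G : Sp S} {f : F ⟶ G} (hf : Representable f) :
    RepWith @QuasiCompact f ↔ IsQuasiCompactMor f := by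
  refine ⟨isQuasiCompactMor_of_repWith, fun h => ⟨hf, ?_⟩⟩
  intro U V g fst snd sq
  change QuasiCompact snd.left
  rw [quasiCompact_iff_forall_isAffineOpen]
  intro A hA
  let U' : Over S := Over.mk (A.ι ≫ U.hom)
  let z : U' ⟶ U := Over.homMk A.ι rfl
  let V' : Over S := Over.mk ((snd.left ⁻¹ᵁ A).ι ≫ V.hom)
  let zv : V' ⟶ V := Over.homMk (snd.left ⁻¹ᵁ A).ι rfl
  let r : V' ⟶ U' := Over.homMk (snd.left ∣_ A) (by
    change snd.left ∣_ A ≫ A.ι ≫ U.hom = (snd.left ⁻¹ᵁ A).ι ≫ V.hom
    rw [morphismRestrict_ι_assoc, Over.w snd])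
  have hsq : IsPullback zv r snd z := IsPullback.of_map (Over.forget S)
    (Over.OverMorphism.ext (morphismRestrict_ι snd.left A).symm) (isPullback_morphismRestrict snd.left A).flip
  have : IsAffine U'.left := hA
  have := compactSpace_of_isQuasiCompactSp
    (h (IsAlgSpace.yon_obj U') isQuasiCompactSp_yon _ _ _ ((isPullback_yon_map hsq).paste_horiz sq))
  have : CompactSpace ↥V'.left := (Points.schemeHomeo V').symm.surjective.compactSpace
    (Points.schemeHomeo V').symm.continuous
  exact isCompact_iff_compactSpace.2 this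

/-- A flat, quasi-compact map which is surjective on points is an fpqc covering. -/
theorem isFpqcCover_of_quasiCompact {X Y : Sp S} (hX : IsAlgSpace X) (hY : IsAlgSpace Y) (f : X ⟶ Y)
    (hfl : LocP @Flat f) (hqc : IsQuasiCompactMor f) (hs : Function.Surjective (Points.map f)) :
    IsFpqcCover (fun _ : PUnit.{u+1} => X) (fun _ => f) := by
  refine ⟨fun _ => hfl, fun Z hZ h => ?_⟩
  have sq : IsPullback (pullback.fst f h) (pullback.snd f h) f h := IsPullback.of_hasPullback f h
  have hP : IsAlgSpace (pullback f h) := isAlgSpace_pullback hY.diag hX (IsAlgSpace.yon_obj Z) f h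
  have := compactSpace_of_isQuasiCompactSp (hqc (IsAlgSpace.yon_obj Z) isQuasiCompactSp_yon h _ _ sq)
  obtain ⟨W, p, hW, hpe, hps⟩ := exists_affine_chart hP
  obtain ⟨c, hc⟩ := (yon S).map_surjective (p ≫ pullback.snd f h)
  refine ⟨1, fun _ => W, fun _ => c, fun _ => hW, fun _ => ?_, fun z => ⟨0, ?_⟩,
    fun _ => ⟨PUnit.unit, p ≫ pullback.fst f h, by rw [hc, Category.assoc, sq.w, Category.assoc]⟩⟩
  · exact locP_of_isPullback sq.flip hX hY (IsAlgSpace.yon_obj Z) hfl p (𝟙 _) c hpe (repWith_id _ Z)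
      (by rw [hc, Category.comp_id])
  · obtain ⟨x, hx⟩ := surjective_map_of_isPullback sq hs (Points.schemeHomeo Z z)
    obtain ⟨w, rfl⟩ := surjective_ofPt hps x
    refine ⟨w, (Points.schemeHomeo Z).injective ?_⟩
    rw [← hx, Points.map_ofPt, ← hc, ← Category.comp_id ((yon S).map c), ofPt_yon_map_comp]
    rfl

/-- An fppf covering is an fpqc covering. -/
theorem isFpqcCover_of_fppf {ι : Type u} {Y : Sp S} {Yi : ι → Sp S} {g : ∀ i, Yi i ⟶ Y}
    (hY : IsAlgSpace Y) (hYi : ∀ i, IsAlgSpace (Yi i)) (hfl : ∀ i, LocP @Flat (g i))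
    (hfp : ∀ i, LocP @LocallyOfFinitePresentation (g i))
    (hs : ∀ y : Points Y, ∃ i, y ∈ Set.range (Points.map (g i))) : IsFpqcCover Yi g := by
  refine ⟨hfl, fun Z hZ h => ?_⟩
  have sq : ∀ i, IsPullback (pullback.fst (g i) h) (pullback.snd (g i) h) (g i) h :=
    fun i => IsPullback.of_hasPullback _ _
  have hP : ∀ i, IsAlgSpace (pullback (g i) h) :=
    fun i => isAlgSpace_pullback hY.diag (hYi i) (IsAlgSpace.yon_obj Z) _ _
  choose A p hpe hps using fun i => (hP i).atlas
  choose a ha using fun i => (yon S).map_surjective (p i ≫ pullback.snd (g i) h)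
  have haf : ∀ i, Flat (a i).left := fun i =>
    locP_of_isPullback (sq i).flip (hYi i) hY (IsAlgSpace.yon_obj Z) (hfl i) (p i) (𝟙 _) (a i) (hpe i)
      (repWith_id _ Z) (by rw [ha, Category.comp_id])
  have hap : ∀ i, LocallyOfFinitePresentation (a i).left := fun i =>
    locP_of_isPullback (sq i).flip (hYi i) hY (IsAlgSpace.yon_obj Z) (hfp i) (p i) (𝟙 _) (a i) (hpe i)
      (repWith_id _ Z) (by rw [ha, Category.comp_id])
  let κ := Σ i : ι, (A i).left.affineOpens
  obtain ⟨t, ht⟩ := isCompact_univ.elim_finite_subcover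
    (fun k : κ => (a k.1).left '' ((k.2.1 : (A k.1).left.Opens) : Set (A k.1).left))
    (fun k => have := haf k.1; have := hap k.1; (a k.1).left.isOpenMap _ k.2.1.isOpen)
    (fun z _ => by
      obtain ⟨i, y, hy⟩ := hs (Points.ofPt h z)
      obtain ⟨x, -, hx⟩ := points_exists_of_isPullback (sq i) y (Points.ofPt (𝟙 _) z)
        (by rw [hy, Points.map_ofPt, Category.id_comp])
      obtain ⟨v, rfl⟩ := surjective_ofPt (hps i) x
      obtain ⟨V, hV, hvV, -⟩ := exists_isAffineOpen_mem_and_subset (x := v) (U := (⊤ : (A i).left.Opens)) (by simp)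
      refine Set.mem_iUnion.2 ⟨⟨i, ⟨V, hV⟩⟩, v, hvV, (Points.schemeHomeo Z).injective ?_⟩
      rw [Points.map_ofPt, ← ha, ← Category.comp_id ((yon S).map (a i)), ofPt_yon_map_comp] at hx
      exact hx)
  let e := t.equivFin.symm
  let k : Fin t.card → κ := fun j => (e j).1
  let W : Fin t.card → Over S := fun j => Over.mk ((k j).2.1.ι ≫ (A (k j).1).hom)
  let w : ∀ j, W j ⟶ A (k j).1 := fun j => Over.homMk (k j).2.1.ι rfl
  refine ⟨t.card, W, fun j => w j ≫ a (k j).1, fun j => (k j).2.2, fun j => ?_, fun z => ?_, fun j =>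
    ⟨(k j).1, (yon S).map (w j) ≫ p (k j).1 ≫ pullback.fst (g (k j).1) h, ?_⟩⟩
  · have := haf (k j).1
    change Flat ((k j).2.1.ι ≫ (a (k j).1).left)
    infer_instance
  · obtain ⟨c, hc, v, hv, hvz⟩ := Set.mem_iUnion₂.1 (ht (Set.mem_univ z))
    have key : ∀ d : κ, d = c → z ∈ Set.range (d.2.1.ι ≫ (a d.1).left) := by
      rintro _ rfl
      exact ⟨⟨v, hv⟩, hvz⟩
    exact ⟨e.symm ⟨c, hc⟩, key _ (by simp [k])⟩
  · simp only [Category.assoc, (sq (k j).1).w, Functor.map_comp, ha]

/-- An etale surjective chart is an fpqc covering. -/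
theorem isFpqcCover_of_chart {Y : Sp S} (hY : IsAlgSpace Y) {V : Over S} {p : (yon S).obj V ⟶ Y}
    (hp : RepWith @Etale p) (hps : RepWith @Surjective p) :
    IsFpqcCover (fun _ : PUnit.{u+1} => (yon S).obj V) (fun _ => p) :=
  isFpqcCover_of_fppf hY (fun _ => IsAlgSpace.yon_obj V)
    (fun _ => locP_of_repWith (repWith_mono (fun _ _ g (hg : Etale g) => inferInstanceAs (Flat g)) hp))
    (fun _ => locP_of_repWith
      (repWith_mono (fun _ _ g (hg : Etale g) => inferInstanceAs (LocallyOfFinitePresentation g)) hp))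
    (fun y => ⟨PUnit.unit, surjective_map_of_repWith hps y⟩)

end Groth.Agent.ASp
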