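import Groth.Agent.ASp.Affine
import Groth.Agent.ASp.TopFpqc
import Groth.Agent.ASp.Univ
import Groth.Agent.ASp.LqfRep

/-!
Quasi-compact flat surjective monomorphisms; open images in separated quasi-finite spaces.
-/

set_option backward.isDefEq.respectTransparency false
set_option backward.isDefEq.respectTransparency.types false

universe u

open CategoryTheory CategoryTheory.Limits AlgebraicGeometry Opposite

namespace Groth.Agent.ASp

open _root_.AlgSp

variable {S : Scheme.{u}}

/-- A quasi-compact flat surjective morphism is an fpqc covering. -/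
theorem isFpqcCover_of_qc_flat {X Y : Sp S} (hX : IsAlgSpace X) (hY : IsAlgSpace Y) (f : X ⟶ Y)
    (hqc : IsQuasiCompactMor f) (hfl : LocP @Flat f) (hs : IsSurjectiveMor f) :
    IsFpqcCover (fun _ : PUnit.{u+1} => X) (fun _ => f) := by
  refine ⟨fun _ => hfl, fun Z hZ h => ?_⟩
  haveI : IsAffine Z.left := hZ
  have sq := IsPullback.of_hasPullback f h
  have hP : IsAlgSpace (pullback f h) := isAlgSpace_pullback hY.diag hX (IsAlgSpace.yon_obj Z) f h
  haveI := compactSpace_of_isQuasiCompactSp
    (hqc (IsAlgSpace.yon_obj Z) isQuasiCompactSp_yon h _ _ sq)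
  obtain ⟨A, p, hA, hpe, hps⟩ := exists_affine_chart hP
  obtain ⟨a, ha⟩ := (yon S).map_surjective (p ≫ pullback.snd f h)
  have haf : Flat a.left := locP_of_isPullback sq.flip hX hY (IsAlgSpace.yon_obj Z) hfl p (𝟙 _) a hpe
    (repWith_id _ Z) (by rw [ha, Category.comp_id])
  refine ⟨1, fun _ => A, fun _ => a, fun _ => hA, fun _ => haf, fun z => ⟨0, ?_⟩,
    fun _ => ⟨PUnit.unit, p ≫ pullback.fst f h, ?_⟩⟩
  · obtain ⟨y, hy⟩ := hs (Points.map h (Points.ofScheme Z z))
    obtain ⟨w, -, hw⟩ := points_exists_of_isPullback sq y (Points.ofScheme Z z) hy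
    obtain ⟨v, rfl⟩ := surjective_ofPt hps w
    refine ⟨v, (Points.schemeHomeo Z).injective ?_⟩
    rw [← Points.map_yon_map_apply, ha, Points.map_comp]
    refine Eq.trans (congrArg (Points.map (pullback.snd f h)) ?_) hw
    exact (Points.ofPt_eq_map_ofScheme p v).symm
  · rw [Category.assoc, sq.w, ha, Category.assoc]

/-- A quasi-compact flat surjective monomorphism is an isomorphism. -/
theorem isIso_of_mono_qc_flat {X Y : Sp S} (hX : IsAlgSpace X) (hY : IsAlgSpace Y) (f : X ⟶ Y) [Mono f]
    (hqc : IsQuasiCompactMor f) (hfl : LocP @Flat f) (hs : IsSurjectiveMor f) : IsIso f :=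
  isIso_of_fpqc (ι := PUnit.{u+1}) hX hY (fun _ => hX) (fun _ => hX) (q := fun _ => 𝟙 X) (p := fun _ => 𝟙 X)
    (fun _ => IsPullback.of_vert_isIso_mono ⟨rfl⟩) (isFpqcCover_of_qc_flat hX hY f hqc hfl hs)
    fun _ => inferInstance

end Groth.Agent.ASp
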