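import Groth.Agent.ASp.SchDesc
/-!
A sheaf with an etale surjective representable map from an algebraic space is an algebraic space.
-/

set_option backward.isDefEq.respectTransparency.types false

universe u

open CategoryTheory CategoryTheory.Limits AlgebraicGeometry Opposite

namespace Groth.Agent.ASp

open _root_.AlgSp

variable {S : Scheme.{u}}

theorem locallyQuasiFinite_of_mono {X Y : Scheme.{u}} (f : X ⟶ Y) [Mono f] [LocallyOfFiniteType f] :
    LocallyQuasiFinite f :=
  locallyQuasiFinite_iff_isDiscrete_preimage_singleton.mpr fun y =>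
    (Set.subsingleton_singleton.preimage f.injective).isDiscrete

theorem isAlgSpace_prod {X Y : Sp S} (hX : IsAlgSpace X) (hY : IsAlgSpace Y) : IsAlgSpace (X ⨯ Y) := by
  have h : IsIso (Limits.diag (⊤_ (Sp S))) :=
    ⟨prod.fst, prod.lift_fst _ _, prod.hom_ext (terminal.hom_ext _ _) (terminal.hom_ext _ _)⟩
  exact isAlgSpace_of_isPullback (H := ⊤_ (Sp S)) (repWith_of_isIso (P := @IsOpenImmersion) _).1 hX hY
    (IsPullback.of_hasBinaryProduct' X Y)

/-- The diagonal of an algebraic space is locally of finite type. -/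
theorem repWith_diag_locallyOfFiniteType {X : Sp S} (hX : IsAlgSpace X) :
    RepWith @LocallyOfFiniteType (Limits.diag X) := by
  have hXX : IsAlgSpace (X ⨯ X) := isAlgSpace_prod hX hX
  refine repWith_of_locP hXX hX.diag (locP_of_comp (Q := ⊤) (g := prod.fst) (fun {_ _ _} a b hab _ => ?_) hX ?_
    (show LocP ⊤ _ from fun _ _ _ _ _ _ _ _ => trivial))
  · have : LocallyOfFiniteType (a ≫ b) := hab
    exact locallyOfFiniteType_of_comp a b
  · rw [prod.lift_fst]
    exact locP_of_repWith (repWith_of_isIso (𝟙 X))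

theorem isPullback_equalizer_sections {C : Type*} [Category C] {X F T' K' : C} [HasBinaryProduct X X]
    {f : X ⟶ F} {x₁ x₂ : T' ⟶ X} {P : C} {π : P ⟶ T'} {q : P ⟶ X} (hP : IsPullback q π f (x₁ ≫ f))
    {e : K' ⟶ P} {d : K' ⟶ X} (hK : IsPullback d e (Limits.diag X) (prod.lift q (π ≫ x₂))) :
    (e ≫ π) ≫ x₁ ≫ f = (e ≫ π) ≫ x₂ ≫ f ∧ ∀ {Z : C} (z : Z ⟶ T'), z ≫ x₁ ≫ f = z ≫ x₂ ≫ f →
      ∃! l : Z ⟶ K', l ≫ e ≫ π = z := by
  have h1 : d = e ≫ q := by
    simpa only [Category.assoc, prod.lift_fst, Category.comp_id] using congrArg (· ≫ prod.fst) hK.w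
  have h2 : d = e ≫ π ≫ x₂ := by
    simpa only [Category.assoc, prod.lift_snd, Category.comp_id] using congrArg (· ≫ prod.snd) hK.w
  refine ⟨?_, fun {Z} z hz => ?_⟩
  · rw [Category.assoc, ← hP.w, ← Category.assoc, ← h1, h2]
    simp only [Category.assoc]
  · let p := hP.lift (z ≫ x₂) z (by rw [Category.assoc]; exact hz.symm)
    refine ⟨hK.lift (z ≫ x₂) p ?_, ?_, fun l hl => ?_⟩
    · apply prod.hom_ext
      · simp only [Category.assoc, prod.lift_fst, Category.comp_id, p, hP.lift_fst]
      · simp only [Category.assoc, prod.lift_snd, Category.comp_id, p, hP.lift_snd_assoc]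
    · change hK.lift (z ≫ x₂) p _ ≫ e ≫ π = z
      rw [← Category.assoc, hK.lift_snd, hP.lift_snd]
    · apply hK.hom_ext
      · rw [hK.lift_fst, h2, ← hl]; simp only [Category.assoc]
      · rw [hK.lift_snd]
        apply hP.hom_ext
        · rw [hP.lift_fst, Category.assoc, ← h1, h2, ← hl]; simp only [Category.assoc]
        · rw [hP.lift_snd, Category.assoc, hl]

theorem representable_diag_of_etale_surjective {X F : Sp S} (hX : IsAlgSpace X) (f : X ⟶ F)
    (he : RepWith @Etale f) (hs : RepWith @Surjective f) : Representable (Limits.diag F) := by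
  intro T ξ
  let t₁ := ξ ≫ prod.fst
  let t₂ := ξ ≫ prod.snd
  obtain ⟨T₁, c₁, a₁, sq₁⟩ := he.1 t₁
  have : Etale c₁.left := he.2 _ _ _ sq₁
  have : Surjective c₁.left := hs.2 _ _ _ sq₁
  obtain ⟨T₂, c₂, a₂, sq₂⟩ := he.1 ((yon S).map c₁ ≫ t₂)
  have : Etale c₂.left := he.2 _ _ _ sq₂
  have : Surjective c₂.left := hs.2 _ _ _ sq₂
  let c : T₂ ⟶ T := c₂ ≫ c₁
  have : Etale c.left := inferInstanceAs (Etale (c₂.left ≫ c₁.left))
  have : Surjective c.left := inferInstanceAs (Surjective (c₂.left ≫ c₁.left))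
  let x₁ := (yon S).map c₂ ≫ a₁
  have hx₁ : x₁ ≫ f = (yon S).map c ≫ t₁ := by
    simp only [x₁, c, Category.assoc, sq₁.w, Functor.map_comp]
  have hx₂ : a₂ ≫ f = (yon S).map c ≫ t₂ := by
    simp only [c, Functor.map_comp, Category.assoc]; exact sq₂.w
  obtain ⟨P, π, q, hP⟩ := he.1 (x₁ ≫ f)
  obtain ⟨K', e, d, hK⟩ := hX.diag (prod.lift q ((yon S).map π ≫ a₂))
  obtain ⟨hKw, hKu⟩ := isPullback_equalizer_sections hP hK
  have hπ : Etale π.left := he.2 _ _ _ hP
  have he' : LocallyOfFiniteType e.left := (repWith_diag_locallyOfFiniteType hX).2 _ _ _ hK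
  let v : K' ⟶ T₂ := e ≫ π
  have hvm : Mono ((yon S).map v) := by
    refine ⟨fun {Z} a b hab => ?_⟩
    simp only [v, Functor.map_comp] at hab
    exact (hKu (a ≫ (yon S).map e ≫ (yon S).map π) (by simp only [Category.assoc] at hKw ⊢; rw [hKw])).unique
      rfl hab.symm
  have : Mono v := (yon S).mono_of_mono_map hvm
  have : Mono v.left := Over.mono_left_of_mono v
  have : LocallyOfFiniteType v.left := inferInstanceAs (LocallyOfFiniteType (e.left ≫ π.left))
  have := locallyQuasiFinite_of_mono v.left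
  let ι : equalizer t₁ t₂ ⟶ (yon S).obj T := equalizer.ι t₁ t₂
  have hcond : ((yon S).map v ≫ (yon S).map c) ≫ t₁ = ((yon S).map v ≫ (yon S).map c) ≫ t₂ := by
    simp only [Category.assoc, ← hx₁, ← hx₂, v, Functor.map_comp] at hKw ⊢
    exact hKw
  let fst := equalizer.lift ((yon S).map v ≫ (yon S).map c) hcond
  have sqK : IsPullback fst ((yon S).map v) ι ((yon S).map c) := by
    have hc' : ∀ {Z : Sp S} (u : Z ⟶ equalizer t₁ t₂) (z : Z ⟶ (yon S).obj T₂), u ≫ ι = z ≫ (yon S).map c →
        z ≫ x₁ ≫ f = z ≫ a₂ ≫ f := fun u z h => by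
      rw [hx₁, hx₂, ← Category.assoc z _ t₁, ← Category.assoc z _ t₂, ← h, Category.assoc, Category.assoc]
      exact congrArg (u ≫ ·) (equalizer.condition t₁ t₂)
    refine IsPullback.of_isLimit' ⟨equalizer.lift_ι _ _⟩ (PullbackCone.IsLimit.mk _
      (fun s => (hKu s.snd (hc' _ _ s.condition)).exists.choose) (fun s => ?_) (fun s => ?_) (fun s m h1 h2 => ?_))
    · rw [← cancel_mono ι, s.condition, Category.assoc, equalizer.lift_ι, ← Category.assoc]
      congr 1
      simp only [v, Functor.map_comp]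
      exact (hKu s.snd (hc' _ _ s.condition)).exists.choose_spec
    · simp only [v, Functor.map_comp]
      exact (hKu s.snd (hc' _ _ s.condition)).exists.choose_spec
    · apply (hKu s.snd (hc' _ _ s.condition)).unique
      · simp only [v, Functor.map_comp] at h2; exact h2
      · exact (hKu s.snd (hc' _ _ s.condition)).exists.choose_spec
  have hKA : IsAlgSpace (equalizer t₁ t₂) := {
    diag := representable_diag_of_mono ι (IsAlgSpace.yon_obj T).diag
    atlas := ⟨K', fst, repWith_of_isPullback sqK.flip (repWith_yon_map ‹Etale c.left›),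
      repWith_of_isPullback sqK.flip (repWith_yon_map ‹Surjective c.left›)⟩ }
  obtain ⟨K, ⟨φ⟩⟩ := exists_scheme_of_lqf hKA ι c v fst sqK
  obtain ⟨k, hk⟩ := (yon S).map_surjective (φ.hom ≫ ι)
  refine ⟨K, k, (φ.hom ≫ ι) ≫ t₁, ?_⟩
  rw [hk]
  refine IsPullback.of_isLimit' ⟨?_⟩ (PullbackCone.IsLimit.mk _ (fun s => equalizer.lift s.snd ?_ ≫ φ.inv)
    (fun s => ?_) (fun s => ?_) (fun s m h1 h2 => ?_))
  · apply prod.hom_ext
    · simp only [Category.assoc, prod.lift_fst, Category.comp_id, t₁]
    · simp only [Category.assoc, prod.lift_snd, Category.comp_id, t₁, t₂]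
      exact congrArg (φ.hom ≫ ·) (equalizer.condition t₁ t₂)
  · have e1 := congrArg (· ≫ prod.fst) s.condition
    have e2 := congrArg (· ≫ prod.snd) s.condition
    simp only [Category.assoc, prod.lift_fst, prod.lift_snd, Category.comp_id] at e1 e2
    exact e1.symm.trans e2
  · have e1 := congrArg (· ≫ prod.fst) s.condition
    simp only [Category.assoc, prod.lift_fst, Category.comp_id] at e1
    simp only [Category.assoc, φ.inv_hom_id_assoc, ι, equalizer.lift_ι_assoc]
    exact e1.symm
  · rw [Category.assoc, φ.inv_hom_id_assoc, equalizer.lift_ι]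
  · rw [← cancel_mono φ.hom, Category.assoc, φ.inv_hom_id, Category.comp_id, ← cancel_mono ι,
      equalizer.lift_ι, Category.assoc, h2]

/-- A sheaf receiving a representable etale surjection from an algebraic space is an algebraic space. -/
theorem isAlgSpace_of_etale_surjective {X F : Sp S} (hX : IsAlgSpace X) (f : X ⟶ F)
    (he : RepWith @Etale f) (hs : RepWith @Surjective f) : IsAlgSpace F where
  diag := representable_diag_of_etale_surjective hX f he hs
  atlas := by
    obtain ⟨U, p, hpe, hps⟩ := hX.atlas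
    exact ⟨U, p ≫ f, repWith_comp hpe he, repWith_comp hps hs⟩

end Groth.Agent.ASp
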