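import Mathlib.AlgebraicGeometry.Gluing
import Groth.Agent.ASp.Affine
import Groth.Agent.ASp.Univ
/-!
An algebraic space covered by open subspaces which are schemes is a scheme.
-/

set_option backward.isDefEq.respectTransparency.types false

universe u

open CategoryTheory CategoryTheory.Limits AlgebraicGeometry Opposite

namespace Groth.Agent.ASp

open _root_.AlgSp

variable {S : Scheme.{u}}

/-- Maps out of a coproduct of schemes into a sheaf are given by their restrictions to the summands. -/
theorem exists_sigma_desc {ι : Type u} (Z : Over S) (U : ι → Over S) (ζ : ∀ i, U i ⟶ Z)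
    (e : Z.left = ∐ fun i => (U i).left)
    (hζ : ∀ i, (ζ i).left ≫ eqToHom e = Sigma.ι (fun i => (U i).left) i) {F : Sp S}
    (f : ∀ i, (yon S).obj (U i) ⟶ F) :
    ∃ p : (yon S).obj Z ⟶ F, ∀ i, (yon S).map (ζ i) ≫ p = f i := by
  obtain ⟨ZL, Zr, Zh⟩ := Z
  change ZL = _ at e
  subst e
  simp only [eqToHom_refl, Category.comp_id] at hζ
  have hcov : Sieve.ofArrows U ζ ∈ (J S) _ := by
    rw [GrothendieckTopology.mem_over_iff]
    refine GrothendieckTopology.superset_covering _ ?_
      (Precoverage.generate_mem_toGrothendieck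
        (Scheme.zariskiPrecoverage_le_fppfPrecoverage _ (sigmaOpenCover fun i => (U i).left).mem₀))
    rw [Sieve.generate_le_iff]
    rintro _ _ ⟨i⟩
    exact ⟨U i, ζ i, 𝟙 _, Sieve.ofArrows_mk _ _ i, ((Category.id_comp _).trans (hζ i)).symm⟩
  have hF := (isSheaf_iff_isSheaf_of_type _ _).1 F.2 _ hcov
  have hF' : Presieve.IsSheafFor F.obj (Presieve.ofArrows U ζ) :=
    (Presieve.isSheafFor_iff_generate _).2 hF
  obtain ⟨t, ht, -⟩ := (Presieve.isSheafFor_arrows_iff _ _).1 hF'
    (fun i => (J S).uliftYonedaEquiv.{u+1} (f i)) (by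
      intro i j W gi gj hij
      by_cases h : i = j
      · subst h
        have : Mono (ζ i) := by
          have : Mono (ζ i).left := by rw [hζ i]; infer_instance
          exact Over.mono_of_mono_left _
        rw [(cancel_mono (ζ i)).1 hij]
      · have : IsEmpty W.left := isEmpty_of_commSq_sigmaι_of_ne
          (g := fun i => (U i).left) (a := gi.left) (b := gj.left)
          ⟨by rw [← hζ i, ← hζ j]; exact congrArg CommaMorphism.left hij⟩ h
        have hbot : ⊥ ∈ (J S) W := by
          rw [GrothendieckTopology.mem_over_iff]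
          exact GrothendieckTopology.superset_covering _ bot_le
            (Precoverage.toGrothendieck_mono Scheme.zariskiPrecoverage_le_fppfPrecoverage _
              (Scheme.bot_mem_grothendieckTopology W.left))
        have := (Types.isTerminalEquivUnique _ (F.isTerminalOfBotCover W hbot))
        exact Subsingleton.elim _ _)
  refine ⟨(J S).uliftYonedaEquiv.{u+1}.symm t, fun i => (J S).uliftYonedaEquiv.{u+1}.injective ?_⟩
  rw [← GrothendieckTopology.uliftYonedaEquiv_naturality.{u+1}, Equiv.apply_symm_apply]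
  exact ht i

theorem exists_glued_desc (D : Scheme.GlueData.{u}) {T : Scheme.{u}} (h : ∀ i : D.J, D.U i ⟶ T)
    (e : ∀ i j, D.f i j ≫ h i = (D.t i j ≫ D.f j i) ≫ h j) :
    ∃ s : D.glued ⟶ T, ∀ i, D.ι i ≫ s = h i :=
  ⟨Multicoequalizer.desc D.diagram _ h (fun ⟨i, j⟩ => e i j), fun _ => Multicoequalizer.π_desc _ _ _ _ _⟩

theorem exists_scheme_of_openCover {X : Sp S} (hX : IsAlgSpace X) {ι : Type u} (U : ι → Over S)
    (f : ∀ i, (yon S).obj (U i) ⟶ X) (hf : ∀ i, RepWith @IsOpenImmersion (f i))
    (hs : ∀ x : Points X, ∃ i, x ∈ Set.range (Points.map (f i))) :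
    ∃ P : Over S, Nonempty ((yon S).obj P ≅ X) := by
  have hmono : ∀ i, Mono (f i) := fun i => mono_of_repWith (P := @IsOpenImmersion)
    (fun g hg => haveI : IsOpenImmersion g := hg; inferInstance) (hf i)
  have hV : ∀ i j, IsOpenImmersion ((hf i).1.fst' (f j)).left := fun i j =>
    (hf j).2 _ _ _ ((hf i).1.isPullback' (f j)).flip
  let D₀ : CategoryTheory.GlueData (Over S) :=
  { J := ι
    U := U
    V := fun p => (hf p.1).1.pullback (f p.2)
    f := fun i j => (hf i).1.fst' (f j)
    f_mono := fun i j => by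
      have := hV i j
      exact Over.mono_of_mono_left _
    f_hasPullback := fun i j k => inferInstance
    f_id := fun i => by
      have := ((hf i).1.isPullback' (f i)).isIso_fst_of_mono
      exact isIso_of_fully_faithful (yon S) _
    t := fun i j => (hf i).1.symmetry (hf j).1
    t_id := fun i => by
      have e : (hf i).1.fst' (f i) = (hf i).1.snd (f i) :=
        (yon S).map_injective ((cancel_mono (f i)).1 ((hf i).1.isPullback' (f i)).w)
      apply (hf i).1.hom_ext' <;> simp [e]
    t' := fun i j k => Functor.relativelyRepresentable.lift₃ (hf j).1 (f k) (f i)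
      (Functor.relativelyRepresentable.pullback₃.p₂ (hf i).1 (f j) (f k))
      (Functor.relativelyRepresentable.pullback₃.p₃ (hf i).1 (f j) (f k))
      (Functor.relativelyRepresentable.pullback₃.p₁ (hf i).1 (f j) (f k))
      ((Functor.relativelyRepresentable.pullback₃.map_p₂_comp _ _ _).trans
        (Functor.relativelyRepresentable.pullback₃.map_p₃_comp _ _ _).symm)
      ((Functor.relativelyRepresentable.pullback₃.map_p₂_comp _ _ _).trans
        (Functor.relativelyRepresentable.pullback₃.map_p₁_comp _ _ _).symm)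
    t_fac := fun i j k => (hf j).1.hom_ext'
      (by set_option backward.isDefEq.respectTransparency false in simp)
      (by set_option backward.isDefEq.respectTransparency false in simp)
    cocycle := fun i j k =>
      Functor.relativelyRepresentable.pullback₃.hom_ext
      (by set_option backward.isDefEq.respectTransparency false in simp)
      (by set_option backward.isDefEq.respectTransparency false in simp)
      (by set_option backward.isDefEq.respectTransparency false in simp) }
  let D : Scheme.GlueData :=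
  { toGlueData := D₀.mapGlueData (Over.forget S)
    f_open := fun i j => hV i j }
  obtain ⟨s, hs'⟩ := exists_glued_desc D (fun i => (U i).hom) (fun i j => by
    change ((hf i).1.fst' (f j)).left ≫ (U i).hom =
      (((hf i).1.symmetry (hf j).1).left ≫ ((hf j).1.fst' (f i)).left) ≫ (U j).hom
    rw [Category.assoc, Over.w, Over.w, Over.w])
  let G : Over S := Over.mk s
  let γ : ∀ i, U i ⟶ G := fun i => Over.homMk (D.ι i) (hs' i)
  -- the disjoint union of the members
  let Z : Over S := Over.mk (Limits.Sigma.desc fun i => (U i).hom)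
  let ζ : ∀ i, U i ⟶ Z := fun i =>
    Over.homMk (Sigma.ι (fun i => (U i).left) i) (Sigma.ι_desc _ _)
  let γZ : Z ⟶ G := Over.homMk (Limits.Sigma.desc fun i => D.ι i) (Sigma.hom_ext _ _ fun i => by
    change Sigma.ι (fun i => (U i).left) i ≫ Limits.Sigma.desc _ ≫ s =
      Sigma.ι (fun i => (U i).left) i ≫ Limits.Sigma.desc _
    rw [Sigma.ι_desc_assoc, Sigma.ι_desc]
    exact hs' i)
  have hζγ : ∀ i, ζ i ≫ γZ = γ i := fun i => Over.OverMorphism.ext (Sigma.ι_desc _ _)
  obtain ⟨p, hp⟩ := exists_sigma_desc Z U ζ rfl (fun i => Category.comp_id _) f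
  have hpe : RepWith @Etale p := repWith_of_locP hX (hX.representable_from_yon p) (by
    intro A B a b h ha hb e
    obtain ⟨a, rfl⟩ := (yon S).map_surjective a
    have hae : Etale a.left := (repWith_yon_map_iff _ _).1 ha
    rw [IsZariskiLocalAtSource.iff_of_openCover (P := @Etale)
      ((sigmaOpenCover fun i => (U i).left).pullback₁ a.left)]
    intro i
    let W : Over S := Over.mk (pullback.fst a.left ((sigmaOpenCover fun i => (U i).left).f i) ≫ A.hom)
    let w₁ : W ⟶ A := Over.homMk (pullback.fst a.left ((sigmaOpenCover fun i => (U i).left).f i)) rfl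
    let w₂ : W ⟶ U i := Over.homMk (pullback.snd a.left ((sigmaOpenCover fun i => (U i).left).f i)) (by
      change _ ≫ (U i).hom = pullback.fst _ _ ≫ A.hom
      rw [← Over.w a, ← Category.assoc, pullback.condition, Category.assoc]
      exact congrArg _ (Over.w (ζ i)).symm)
    have hw : w₁ ≫ a = w₂ ≫ ζ i := Over.OverMorphism.ext pullback.condition
    have hw2 : Etale w₂.left := MorphismProperty.pullback_snd _ _ hae
    exact locP_of_repWith (repWith_mono (fun _ _ g (hg : IsOpenImmersion g) => inferInstanceAs (Etale g)) (hf i))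
      ((yon S).map w₂) b (w₁ ≫ h) (repWith_yon_map hw2) hb
      (by rw [← hp i, ← Functor.map_comp_assoc, ← hw, Functor.map_comp_assoc, e, Functor.map_comp_assoc]))
  have hps : RepWith @Surjective p := by
    rw [repWith_surjective_iff hpe.1]
    intro x
    obtain ⟨i, u, rfl⟩ := hs x
    exact ⟨Points.map ((yon S).map (ζ i)) u, by rw [← Points.map_comp, hp]⟩
  have hls : Sheaf.IsLocallySurjective p := isLocallySurjective_of_repWith
    (repWith_mono (fun _ _ g (hg : Etale g) => inferInstanceAs (Flat g)) hpe)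
    (repWith_mono (fun _ _ g (hg : Etale g) => inferInstanceAs (LocallyOfFinitePresentation g)) hpe) hps
  have : Epi p := inferInstance
  obtain ⟨R, r₁, r₂, hR⟩ := exists_isPullback_yon hpe.1 p
  have hγ : r₁ ≫ γZ = r₂ ≫ γZ := by
    apply Over.OverMorphism.ext
    refine Scheme.Cover.hom_ext ((sigmaOpenCover fun i => (U i).left).pullback₁ r₁.left) _ _ fun i => ?_
    refine Scheme.Cover.hom_ext ((sigmaOpenCover fun i => (U i).left).pullback₁
      (pullback.fst r₁.left ((sigmaOpenCover fun i => (U i).left).f i) ≫ r₂.left)) _ _ fun j => ?_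
    let c₁ := pullback.fst r₁.left ((sigmaOpenCover fun i => (U i).left).f i)
    let c₂ := pullback.fst (c₁ ≫ r₂.left) ((sigmaOpenCover fun i => (U i).left).f j)
    let W : Over S := Over.mk ((c₂ ≫ c₁) ≫ R.hom)
    let wR : W ⟶ R := Over.homMk (c₂ ≫ c₁) rfl
    let wi : W ⟶ U i := Over.homMk
      (c₂ ≫ pullback.snd r₁.left ((sigmaOpenCover fun i => (U i).left).f i)) (by
        change (c₂ ≫ _) ≫ (U i).hom = (c₂ ≫ c₁) ≫ R.hom
        rw [← Over.w r₁, Category.assoc, Category.assoc, pullback.condition_assoc]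
        exact congrArg (fun z => c₂ ≫ _ ≫ z) (Over.w (ζ i)).symm)
    let wj : W ⟶ U j := Over.homMk (pullback.snd (c₁ ≫ r₂.left) ((sigmaOpenCover fun i => (U i).left).f j)) (by
        change _ ≫ (U j).hom = (c₂ ≫ c₁) ≫ R.hom
        rw [← Over.w r₂, ← Over.w (ζ j), ← Category.assoc, ← Category.assoc]
        refine congrArg (· ≫ Z.hom) ?_
        rw [Category.assoc c₂ c₁]
        exact (pullback.condition (f := c₁ ≫ r₂.left)).symm)
    have hwi : wR ≫ r₁ = wi ≫ ζ i := Over.OverMorphism.ext (by
      change (c₂ ≫ c₁) ≫ r₁.left = (c₂ ≫ _) ≫ _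
      rw [Category.assoc, Category.assoc]
      exact congrArg _ pullback.condition)
    have hwj : wR ≫ r₂ = wj ≫ ζ j := Over.OverMorphism.ext (by
      change (c₂ ≫ c₁) ≫ r₂.left = _ ≫ _
      rw [Category.assoc]
      exact pullback.condition)
    have e : (yon S).map wi ≫ f i = (yon S).map wj ≫ f j := by
      rw [← hp i, ← hp j, ← Functor.map_comp_assoc, ← Functor.map_comp_assoc, ← hwi, ← hwj,
        Functor.map_comp_assoc, Functor.map_comp_assoc, hR.w]
    have hl1 := (hf i).1.lift'_fst wi wj e
    have hl2 := (hf i).1.lift'_snd wi wj e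
    let l := (hf i).1.lift' wi wj e
    have : wi.left ≫ D.ι i = wj.left ≫ D.ι j := by
      have hg : ((hf i).1.symmetry (hf j).1).left ≫ ((hf j).1.fst' (f i)).left ≫ D.ι j =
          ((hf i).1.fst' (f j)).left ≫ D.ι i := D.glue_condition i j
      rw [← Over.comp_left_assoc, Functor.relativelyRepresentable.symmetry_fst] at hg
      refine ((congrArg (fun k : W ⟶ U i => k.left ≫ D.ι i) hl1).symm.trans ?_).trans
        (congrArg (fun k : W ⟶ U j => k.left ≫ D.ι j) hl2)
      simp only [Over.comp_left, Category.assoc]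
      rw [← hg]
    change c₂ ≫ c₁ ≫ (r₁ ≫ γZ).left = c₂ ≫ c₁ ≫ (r₂ ≫ γZ).left
    have h1 : wR ≫ r₁ ≫ γZ = wi ≫ γ i := by rw [reassoc_of% hwi, hζγ]
    have h2 : wR ≫ r₂ ≫ γZ = wj ≫ γ j := by rw [reassoc_of% hwj, hζγ]
    calc c₂ ≫ c₁ ≫ (r₁ ≫ γZ).left = (wR ≫ r₁ ≫ γZ).left := (Category.assoc c₂ c₁ _).symm
      _ = (wR ≫ r₂ ≫ γZ).left := by rw [h1, h2, Over.comp_left, Over.comp_left]; exact this
      _ = c₂ ≫ c₁ ≫ (r₂ ≫ γZ).left := Category.assoc c₂ c₁ _
  obtain ⟨φ, hφ⟩ := exists_desc_of_epi p hR ((yon S).map γZ) (by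
    rw [← Functor.map_comp, hγ, Functor.map_comp])
  have hfφ : ∀ i, f i ≫ φ = (yon S).map (γ i) := fun i => by
    rw [← hp i, Category.assoc, hφ, ← Functor.map_comp, hζγ]
  have hG := IsAlgSpace.yon_obj G
  have hγe : ∀ i, RepWith @IsOpenImmersion ((yon S).map (γ i)) := fun i =>
    (repWith_yon_map_iff _ _).2 (D.ι_isOpenImmersion i)
  refine ⟨G, ⟨(@asIso _ _ _ _ φ ?_).symm⟩⟩
  refine isIso_of_fpqc (f := φ) (p := fun i => 𝟙 _) (q := f) hX hG (fun i => IsAlgSpace.yon_obj (U i))
    (fun i => IsAlgSpace.yon_obj (U i)) (g := fun i => (yon S).map (γ i)) (fun i => ?_)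
    (isFpqcCover_of_fppf hG (fun i => IsAlgSpace.yon_obj (U i))
      (fun i => locP_of_repWith (repWith_mono (fun _ _ g (hg : IsOpenImmersion g) => inferInstanceAs (Flat g)) (hγe i)))
      (fun i => locP_of_repWith (repWith_mono
        (fun _ _ g (hg : IsOpenImmersion g) => inferInstanceAs (LocallyOfFinitePresentation g)) (hγe i)))
      fun y => ?_) (fun i => inferInstance)
  · -- the fibre product of `X` and a member over the glued scheme is the member
    obtain ⟨Q, a, b, hQ⟩ : ∃ (Q : Sp S) (a : Q ⟶ X) (b : Q ⟶ (yon S).obj (U i)),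
        IsPullback a b φ ((yon S).map (γ i)) := ⟨_, _, _, IsPullback.of_hasPullback _ _⟩
    have hQa := isAlgSpace_of_isPullback hG.diag hX (IsAlgSpace.yon_obj (U i)) hQ
    obtain ⟨σ, hσa, hσb⟩ : ∃ σ : (yon S).obj (U i) ⟶ Q, σ ≫ a = f i ∧ σ ≫ b = 𝟙 _ :=
      ⟨hQ.lift (f i) (𝟙 _) (by rw [hfφ, Category.id_comp]), hQ.lift_fst _ _ _, hQ.lift_snd _ _ _⟩
    have : Mono (σ ≫ a) := by rw [hσa]; exact hmono i
    have : Mono σ := mono_of_mono σ a
    have hae : LocP @Etale a := locP_of_repWith (repWith_mono
      (fun _ _ g (hg : IsOpenImmersion g) => inferInstanceAs (Etale g)) (repWith_of_isPullback hQ.flip (hγe i)))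
    have hσe : LocP @Etale σ :=
      locP_of_comp (Q := @Etale) (fun u v h1 h2 => MorphismProperty.of_postcomp @Etale u v h2 h1) hX (g := a)
        (by rw [hσa]; exact locP_of_repWith (repWith_mono
          (fun _ _ g (hg : IsOpenImmersion g) => inferInstanceAs (Etale g)) (hf i))) hae
    have : IsIso σ := isIso_of_mono_etale_surjective (IsAlgSpace.yon_obj (U i)) hQa σ hσe fun z => by
      obtain ⟨j, u, hu⟩ := hs (Points.map a z)
      obtain ⟨v, hv⟩ := (Points.schemeHomeo (U i)).surjective (Points.map b z)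
      obtain ⟨w, rfl⟩ := (Points.schemeHomeo (U j)).surjective u
      have h1 : Points.map ((yon S).map (γ j)) (Points.schemeHomeo (U j) w) =
          Points.map ((yon S).map (γ i)) (Points.schemeHomeo (U i) v) := by
        rw [← hfφ j, Points.map_comp, hu, ← Points.map_comp, hQ.w, Points.map_comp, hv]
      rw [Points.map_yon_map_apply, Points.map_yon_map_apply] at h1
      obtain ⟨x, hx1, hx2⟩ := (D.ι_eq_iff j i w v).1 ((Points.schemeHomeo G).injective h1)
      have hgi : (yon S).map ((hf j).1.fst' (f i)) ≫ f j = (yon S).map ((hf j).1.snd (f i)) ≫ f i :=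
        ((hf j).1.isPullback' (f i)).w
      refine ⟨Points.schemeHomeo (U i) v, ?_⟩
      have : Mono a := mono_of_repWith (P := @IsOpenImmersion)
        (fun g hg => haveI : IsOpenImmersion g := hg; inferInstance) (repWith_of_isPullback hQ.flip (hγe i))
      refine injective_map_of_repWith (P := @IsOpenImmersion)
        (fun g hg => haveI : IsOpenImmersion g := hg; g.isOpenEmbedding.injective)
        (repWith_of_isPullback hQ.flip (hγe i)) ?_
      rw [← Points.map_comp, hσa, ← hu]
      have hx1' : ((hf j).1.fst' (f i)).left x = w := hx1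
      have hx2' : ((hf j).1.snd (f i)).left x = v := by
        have h : (((hf j).1.symmetry (hf i).1).left ≫ ((hf i).1.fst' (f j)).left) x = v := hx2
        rw [← Over.comp_left, Functor.relativelyRepresentable.symmetry_fst] at h
        exact h
      rw [← hx1', ← hx2', ← Points.map_yon_map_apply, ← Points.map_yon_map_apply, ← Points.map_comp,
        ← Points.map_comp, hgi]
    exact IsPullback.of_iso hQ (asIso σ).symm (Iso.refl _) (Iso.refl _) (Iso.refl _)
      (by simp [← hσa]) (by
        simp only [asIso_hom, Iso.symm_hom, asIso_inv, Iso.refl_hom, Category.comp_id]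
        exact IsIso.eq_inv_of_hom_inv_id hσb) (by simp) (by simp)
  · obtain ⟨t, rfl⟩ := (Points.schemeHomeo G).surjective y
    obtain ⟨i, u, rfl⟩ := D.ι_jointly_surjective t
    exact ⟨i, Points.schemeHomeo (U i) u, Points.map_yon_map_apply (γ i) u⟩

end Groth.Agent.ASp
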