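import Mathlib.CategoryTheory.Sites.LocallyBijective
import Groth.Agent.ASp.LocP
import Groth.Agent.ASp.Morph
/-!
Representable fppf surjections are locally surjective; criteria for isomorphisms.
-/

set_option backward.isDefEq.respectTransparency.types false

universe u

open CategoryTheory CategoryTheory.Limits AlgebraicGeometry Opposite

namespace Groth.Agent.ASp

open _root_.AlgSp

variable {S : Scheme.{u}}

theorem isLocallySurjective_of_repWith {F G : Sp S} {f : F ⟶ G} (h₁ : RepWith @Flat f)
    (h₂ : RepWith @LocallyOfFinitePresentation f) (h₃ : RepWith @Surjective f) :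
    Sheaf.IsLocallySurjective f := by
  refine ⟨fun {U} s => ?_⟩
  obtain ⟨g, rfl⟩ := (J S).uliftYonedaEquiv.{u+1}.surjective s
  obtain ⟨V, fst, snd, hV⟩ : ∃ (V : Over S) (fst : (yon S).obj V ⟶ F) (snd : V ⟶ U),
      IsPullback fst ((yon S).map snd) f g := ⟨_, _, _, h₁.1.isPullback g⟩
  have : Flat snd.left := h₁.2 g _ _ hV
  have : LocallyOfFinitePresentation snd.left := h₂.2 g _ _ hV
  have : Surjective snd.left := h₃.2 g _ _ hV
  rw [GrothendieckTopology.mem_over_iff]
  refine GrothendieckTopology.superset_covering _ ?_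
    (Precoverage.generate_mem_toGrothendieck snd.left.singleton_mem_fppfPrecoverage)
  rw [Sieve.generate_le_iff]
  rintro _ _ ⟨⟩
  have hmem : Presheaf.imageSieve f.hom ((J S).uliftYonedaEquiv.{u+1} g) snd := by
    refine ⟨(J S).uliftYonedaEquiv.{u+1} fst, ?_⟩
    have e1 : f.hom.app (op V) ((J S).uliftYonedaEquiv.{u+1} fst) = (J S).uliftYonedaEquiv.{u+1} (fst ≫ f) := rfl
    rw [e1, hV.w]
    exact (GrothendieckTopology.uliftYonedaEquiv_naturality.{u+1} (J S) g snd).symm
  exact ⟨V, snd, 𝟙 _, hmem, by simp⟩

theorem app_injective_of_mono {F G : Sp S} (f : F ⟶ G) [Mono f] (U : Over S) :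
    Function.Injective (f.hom.app (op U)) := by
  intro x y hxy
  obtain ⟨a, rfl⟩ := (J S).uliftYonedaEquiv.{u+1}.surjective x
  obtain ⟨b, rfl⟩ := (J S).uliftYonedaEquiv.{u+1}.surjective y
  have e : ∀ c : (yon S).obj U ⟶ F,
      f.hom.app (op U) ((J S).uliftYonedaEquiv.{u+1} c) = (J S).uliftYonedaEquiv.{u+1} (c ≫ f) := fun _ => rfl
  rw [e, e] at hxy
  rw [(cancel_mono f).1 ((J S).uliftYonedaEquiv.{u+1}.injective hxy)]

theorem isIso_of_mono_of_locallySurjective {F G : Sp S} (f : F ⟶ G) [Mono f]
    (h : Sheaf.IsLocallySurjective f) : IsIso f := by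
  have : Sheaf.IsLocallyInjective f := by
    refine Presheaf.isLocallyInjective_of_injective _ _ fun U => ?_
    exact app_injective_of_mono f U.unop
  exact (Sheaf.isLocallyBijective_iff_isIso f).1 ⟨this, h⟩

/-- A monomorphism of algebraic spaces which is etale and surjective on points is an isomorphism. -/
theorem isIso_of_mono_etale_surjective {F G : Sp S} (hF : IsAlgSpace F) (hG : IsAlgSpace G)
    (f : F ⟶ G) [Mono f] (he : LocP @Etale f) (hs : Function.Surjective (Points.map f)) : IsIso f := by
  obtain ⟨U, p, hpe, hps⟩ := hF.atlas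
  have hrep : Representable (p ≫ f) := hG.representable_from_yon _
  have h1 : RepWith @Etale (p ≫ f) := repWith_of_locP hG hrep (locP_comp hF (locP_of_repWith hpe) he)
  have h3 : RepWith @Surjective (p ≫ f) := by
    rw [repWith_surjective_iff hrep]
    have : Points.map (p ≫ f) = Points.map f ∘ Points.map p := funext (Points.map_comp p f)
    rw [this]
    exact hs.comp (surjective_map_of_repWith hps)
  have hl : Sheaf.IsLocallySurjective (p ≫ f) := isLocallySurjective_of_repWith
    (repWith_mono (fun _ _ g (hg : Etale g) => inferInstanceAs (Flat g)) h1)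
    (repWith_mono (fun _ _ g (hg : Etale g) => inferInstanceAs (LocallyOfFinitePresentation g)) h1) h3
  haveI : Presheaf.IsLocallySurjective (J S) (p.hom ≫ f.hom) := hl
  exact isIso_of_mono_of_locallySurjective f
    (Presheaf.isLocallySurjective_of_isLocallySurjective (J S) p.hom f.hom)

end Groth.Agent.ASp
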