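import Groth.Agent.ASp.Diag
import Groth.Agent.ASp.Sheaf
/-!
Etale monomorphisms of algebraic spaces are open immersions.
-/

set_option backward.isDefEq.respectTransparency.types false

universe u

open CategoryTheory CategoryTheory.Limits AlgebraicGeometry Opposite

namespace Groth.Agent.ASp

open _root_.AlgSp

variable {S : Scheme.{u}}

/-- An etale monomorphism of algebraic spaces is representable by open immersions. -/
theorem repWith_isOpenImmersion_of_mono_etale {F G : Sp S} (hF : IsAlgSpace F) (hG : IsAlgSpace G)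
    (f : F ⟶ G) [Mono f] (he : LocP @Etale f) : RepWith @IsOpenImmersion f := by
  refine repWith_of_exists fun U g => ?_
  obtain ⟨X', a, b, hX'⟩ : ∃ (X' : Sp S) (a : X' ⟶ F) (b : X' ⟶ (yon S).obj U),
      IsPullback a b f g := ⟨_, _, _, IsPullback.of_hasPullback f g⟩
  have hX'a : IsAlgSpace X' := isAlgSpace_of_isPullback hG.diag hF (IsAlgSpace.yon_obj U) hX'
  have hb : LocP @Etale b := locP_of_isPullback hX'.flip hF hG (IsAlgSpace.yon_obj U) he
  have hbm : Mono b := ⟨fun x y e => hX'.hom_ext ((cancel_mono f).1 (by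
    rw [Category.assoc, Category.assoc, hX'.w, reassoc_of% e])) e⟩
  obtain ⟨A, p, hpe, hps⟩ := hX'a.atlas
  obtain ⟨q, hq⟩ := (yon S).map_surjective (p ≫ b)
  have : Etale q.left := hb p (𝟙 _) q hpe (repWith_id _ U) (by rw [hq, Category.comp_id])
  let O : U.left.Opens := ⟨Set.range q.left, q.left.isOpenMap.isOpen_range⟩
  let V : Over S := Over.mk (O.ι ≫ U.hom)
  let z : V ⟶ U := Over.homMk O.ι rfl
  have hz : RepWith @IsOpenImmersion ((yon S).map z) :=
    (repWith_yon_map_iff _ z).2 (inferInstanceAs (IsOpenImmersion O.ι))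
  have hze : RepWith @Etale ((yon S).map z) :=
    (repWith_yon_map_iff _ z).2 (inferInstanceAs (Etale O.ι))
  obtain ⟨Q, c, d, hQ⟩ : ∃ (Q : Sp S) (c : Q ⟶ X') (d : Q ⟶ (yon S).obj V),
      IsPullback c d b ((yon S).map z) := ⟨_, _, _, IsPullback.of_hasPullback _ _⟩
  have hQa : IsAlgSpace Q :=
    isAlgSpace_of_isPullback (IsAlgSpace.yon_obj U).diag hX'a (IsAlgSpace.yon_obj V) hQ
  have hd : LocP @Etale d :=
    locP_of_isPullback hQ.flip hX'a (IsAlgSpace.yon_obj U) (IsAlgSpace.yon_obj V) hb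
  have hdm : Mono d := ⟨fun x y e => hQ.hom_ext ((cancel_mono b).1 (by
    rw [Category.assoc, Category.assoc, hQ.w, reassoc_of% e])) e⟩
  have hzm : Mono ((yon S).map z) := mono_of_repWith (P := @IsOpenImmersion)
    (fun g hg => haveI : IsOpenImmersion g := hg; inferInstance) hz
  have hcm : Mono c := ⟨fun x y e => hQ.hom_ext e ((cancel_mono ((yon S).map z)).1 (by
    rw [Category.assoc, Category.assoc, ← hQ.w, reassoc_of% e]))⟩
  have hrange : ∀ x : Points X', ∃ v : ↥V.left,
      Points.map b x = Points.map ((yon S).map z) (Points.ofPt (𝟙 _) v) := by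
    intro x
    obtain ⟨t, rfl⟩ := surjective_ofPt hps x
    refine ⟨(⟨q.left t, t, rfl⟩ : O), ?_⟩
    have e1 : (yon S).map q = (yon S).map q ≫ 𝟙 _ := (Category.comp_id _).symm
    have e2 : (yon S).map z = (yon S).map z ≫ 𝟙 _ := (Category.comp_id _).symm
    rw [Points.map_ofPt, Points.map_ofPt, Category.id_comp, ← hq, e1, e2, ofPt_yon_map_comp, ofPt_yon_map_comp]
    rfl
  have hc : IsIso c := isIso_of_mono_etale_surjective hQa hX'a c
    (locP_of_repWith (repWith_of_isPullback hQ.flip hze))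
    (fun x => by
      obtain ⟨v, hv⟩ := hrange x
      obtain ⟨y, hy, -⟩ := points_exists_of_isPullback hQ x _ hv
      exact ⟨y, hy⟩)
  have hd' : IsIso d := isIso_of_mono_etale_surjective hQa (IsAlgSpace.yon_obj V) d hd
    (fun y => by
      obtain ⟨v, rfl⟩ := (Points.schemeHomeo V).surjective y
      obtain ⟨t, ht⟩ : v.1 ∈ Set.range q.left := v.2
      obtain ⟨w, -, hw⟩ := points_exists_of_isPullback hQ (Points.ofPt p t) (Points.ofPt (𝟙 _) v) (by
        rw [Points.map_ofPt, Points.map_ofPt, Category.id_comp, ← hq,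
          ← Category.comp_id ((yon S).map q), ← Category.comp_id ((yon S).map z),
          ofPt_yon_map_comp, ofPt_yon_map_comp, ht]
        rfl)
      exact ⟨w, hw⟩)
  refine ⟨V, inv d ≫ c ≫ a, z, ?_, inferInstanceAs (IsOpenImmersion O.ι)⟩
  exact IsPullback.of_iso hX' ((asIso c).symm ≪≫ asIso d) (Iso.refl _) (Iso.refl _) (Iso.refl _)
    (by simp) (by simp [← hQ.w]) (by simp) (by simp)

end Groth.Agent.ASp
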