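import Groth.Agent.ASp.Points
import Groth.Agent.ASp.Sheaf
import Mathlib.CategoryTheory.Sites.Subsheaf
/-!
The open subspace of an algebraic space attached to an open set of points.
-/

set_option backward.isDefEq.respectTransparency.types false

universe u

open CategoryTheory CategoryTheory.Limits AlgebraicGeometry Opposite

namespace Groth.Agent.ASp

open _root_.AlgSp

variable {S : Scheme.{u}}

theorem exists_mem_of_mem_J {T : Over S} {R : Sieve T} (h : R ∈ (J S) T) (t : ↥T.left) :
    ∃ (V : Over S) (k : V ⟶ T), R k ∧ t ∈ Set.range k.left := by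
  rw [GrothendieckTopology.mem_over_iff] at h
  have hle : Scheme.fppfPrecoverage.toGrothendieck ≤ Scheme.jointlySurjectiveTopology.{u} := by
    rw [Precoverage.toGrothendieck_le_iff_le_toPrecoverage]
    intro X R hR x
    obtain ⟨Y, g, ⟨hg⟩, hx⟩ := hR.1 x
    exact ⟨_, _, Presieve.map_map (Sieve.le_generate _ _ _ hg), hx⟩
  obtain ⟨Y, g, ⟨hg⟩, ht⟩ := (Scheme.mem_jointlySurjectiveTopology_iff_jointlySurjectivePretopology.1
    (hle _ h)) t
  obtain ⟨Z, p, g', hR, e⟩ := hg
  obtain ⟨w, hw⟩ := ht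
  refine ⟨Z, p, hR, g'.base w, ?_⟩
  subst e
  rw [← hw]
  rfl

/-- The sections of `F` all of whose points lie in `W`. -/
def subOfSet (F : Sp S) (W : Set (Points F)) : Subfunctor F.obj where
  obj U := {s | ∀ t, Points.ofPt ((J S).uliftYonedaEquiv.{u+1}.symm s : (yon S).obj U.unop ⟶ F) t ∈ W}
  map := by
    intro U V i s hs t
    have e : ((J S).uliftYonedaEquiv.{u+1}.symm (F.obj.map i s) : (yon S).obj V.unop ⟶ F) =
        (yon S).map i.unop ≫ (J S).uliftYonedaEquiv.{u+1}.symm s := by
      apply (J S).uliftYonedaEquiv.{u+1}.injective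
      rw [← GrothendieckTopology.uliftYonedaEquiv_naturality.{u+1}, Equiv.apply_symm_apply,
        Equiv.apply_symm_apply]
      rfl
    rw [e, ofPt_yon_map_comp]
    exact hs _

theorem subOfSet_isSheaf (F : Sp S) (W : Set (Points F)) :
    Presheaf.IsSheaf (J S) (subOfSet F W).toFunctor := by
  rw [isSheaf_iff_isSheaf_of_type, Subfunctor.isSheaf_iff _ ((isSheaf_iff_isSheaf_of_type _ _).1 F.2)]
  intro U s hs t
  obtain ⟨V, k, hk, v, rfl⟩ := exists_mem_of_mem_J hs t
  have e : ((J S).uliftYonedaEquiv.{u+1}.symm (F.obj.map k.op s) : (yon S).obj V ⟶ F) =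
      (yon S).map k ≫ (J S).uliftYonedaEquiv.{u+1}.symm s := by
    apply (J S).uliftYonedaEquiv.{u+1}.injective
    rw [← GrothendieckTopology.uliftYonedaEquiv_naturality.{u+1}, Equiv.apply_symm_apply,
      Equiv.apply_symm_apply]
  have h1 := hk v
  rw [show ((J S).uliftYonedaEquiv.{u+1}.symm (F.obj.map k.op s) : (yon S).obj V ⟶ F) = _ from e,
    ofPt_yon_map_comp] at h1
  exact h1

/-- The subsheaf of `F` attached to a set of points. -/
def subSp (F : Sp S) (W : Set (Points F)) : Sp S := ⟨(subOfSet F W).toFunctor, subOfSet_isSheaf F W⟩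

/-- Its inclusion. -/
def subι (F : Sp S) (W : Set (Points F)) : subSp F W ⟶ F := ⟨(subOfSet F W).ι⟩

instance (F : Sp S) (W : Set (Points F)) : Mono (subι F W) := by
  refine ⟨fun a b h => Sheaf.hom_ext ?_⟩
  ext U x
  exact Subtype.ext (congr_fun (congr_arg (fun φ => (φ.hom.app U : _ → _)) h) x)

theorem range_map_comp_subι (F : Sp S) (W : Set (Points F)) {U : Over S} (a : (yon S).obj U ⟶ subSp F W)
    (t : ↥U.left) : Points.ofPt (a ≫ subι F W) t ∈ W := by
  have h := ((J S).uliftYonedaEquiv.{u+1} a).2 t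
  rwa [show ((J S).uliftYonedaEquiv.{u+1}.symm ((J S).uliftYonedaEquiv.{u+1} a).1 : (yon S).obj U ⟶ F)
    = a ≫ subι F W from (J S).uliftYonedaEquiv.{u+1}.injective (Equiv.apply_symm_apply _ _)] at h

theorem exists_lift_subι (F : Sp S) (W : Set (Points F)) {U : Over S} (g : (yon S).obj U ⟶ F)
    (h : ∀ t, Points.ofPt g t ∈ W) : ∃ a : (yon S).obj U ⟶ subSp F W, a ≫ subι F W = g := by
  refine ⟨(J S).uliftYonedaEquiv.{u+1}.symm ⟨(J S).uliftYonedaEquiv.{u+1} g, fun t => ?_⟩,
    (J S).uliftYonedaEquiv.{u+1}.injective ?_⟩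
  · rw [show ((J S).uliftYonedaEquiv.{u+1}.symm ((J S).uliftYonedaEquiv.{u+1} g) : (yon S).obj U ⟶ F) = g
      from Equiv.symm_apply_apply _ _]
    exact h t
  · exact congrArg Subtype.val ((J S).uliftYonedaEquiv.{u+1} (X := U) (F := subSp F W) |>.apply_symm_apply _)

theorem range_map_subι (F : Sp S) (W : Set (Points F)) : Set.range (Points.map (subι F W)) = W := by
  ext x
  constructor
  · rintro ⟨y, rfl⟩
    obtain ⟨U, a, t, rfl⟩ := exists_ofPt_eq y
    rw [Points.map_ofPt]
    exact range_map_comp_subι F W a t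
  · intro hx
    obtain ⟨⟨K, str, v⟩, rfl⟩ := Points.mk_surjective x
    let g : (yon S).obj (Over.mk str) ⟶ F := (J S).uliftYonedaEquiv.{u+1}.symm v
    have key : ∀ t, Points.ofPt g t = Points.mk ⟨K, str, v⟩ := fun t => by
      rw [Points.ofPt_eq_map_ofScheme, show t = (𝟙 (Spec (.of K))) (IsLocalRing.closedPoint K) from
        @Subsingleton.elim _ (inferInstanceAs (Subsingleton ↥(Spec (.of K)))) _ _]
      refine (congrArg _ (Points.ofScheme_apply_eq_mk (Over.mk str) (𝟙 _) (Category.id_comp _))).trans ?_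
      have e : g.hom.app (op (Over.mk str)) (ULift.up (𝟙 _)) = v :=
        (J S).uliftYonedaEquiv.{u+1}.apply_symm_apply v
      exact congrArg (fun w => Points.mk (F := F) ⟨K, str, w⟩) e
    obtain ⟨a, ha⟩ := exists_lift_subι F W g fun t => by rw [key]; exact hx
    exact ⟨Points.ofPt a (IsLocalRing.closedPoint K), by rw [Points.map_ofPt, ha, key]⟩

theorem repWith_subι (F : Sp S) (W : Set (Points F)) (hW : IsOpen W) :
    RepWith @IsOpenImmersion (subι F W) := by
  refine repWith_of_exists fun T g => ?_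
  let O : T.left.Opens := ⟨Points.ofPt g ⁻¹' W, Points.isOpen_iff.1 hW T g⟩
  let V : Over S := Over.mk (O.ι ≫ T.hom)
  let z : V ⟶ T := Over.homMk O.ι rfl
  obtain ⟨a, ha⟩ := exists_lift_subι F W ((yon S).map z ≫ g) (fun v => by
    rw [ofPt_yon_map_comp]; exact v.2)
  obtain ⟨Q, c, d, hQ⟩ : ∃ (Q : Sp S) (c : Q ⟶ subSp F W) (d : Q ⟶ (yon S).obj T),
      IsPullback c d (subι F W) g := ⟨_, _, _, IsPullback.of_hasPullback _ _⟩
  let l : (yon S).obj V ⟶ Q := hQ.lift a ((yon S).map z) ha
  have : Mono z := Over.mono_of_mono_left (hk := (inferInstance : Mono O.ι))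
  have : Mono l := mono_of_mono_fac (hQ.lift_snd _ _ _)
  have : Mono d := ⟨fun x y e => hQ.hom_ext ((cancel_mono (subι F W)).1 (by
    rw [Category.assoc, Category.assoc, hQ.w, reassoc_of% e])) e⟩
  have hl : IsIso l := by
    refine isIso_of_mono_of_locallySurjective l ?_
    refine Presheaf.isLocallySurjective_of_surjective _ _ fun U s => ?_
    obtain ⟨x, rfl⟩ := (J S).uliftYonedaEquiv.{u+1}.surjective s
    obtain ⟨k, hk⟩ := (yon S).map_surjective (x ≫ d)
    have hr : Set.range k.left ⊆ Set.range O.ι := by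
      rintro _ ⟨t, rfl⟩
      rw [Scheme.Opens.range_ι]
      change Points.ofPt g (k.left t) ∈ W
      rw [← ofPt_yon_map_comp, hk, Category.assoc, ← hQ.w, ← Category.assoc]
      exact range_map_comp_subι F W _ t
    let k' : U.unop ⟶ V := Over.homMk (IsOpenImmersion.lift O.ι k.left hr) (by
      change IsOpenImmersion.lift O.ι k.left hr ≫ O.ι ≫ T.hom = U.unop.hom
      rw [← Category.assoc, IsOpenImmersion.lift_fac]
      exact Over.w k)
    have e : (yon S).map k' ≫ l = x := by
      rw [← cancel_mono d, Category.assoc, hQ.lift_snd, ← Functor.map_comp, ← hk]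
      exact congrArg _ (Over.OverMorphism.ext (IsOpenImmersion.lift_fac _ _ _))
    exact ⟨(J S).uliftYonedaEquiv.{u+1} ((yon S).map k'),
      (show l.hom.app U ((J S).uliftYonedaEquiv.{u+1} ((yon S).map k')) =
        (J S).uliftYonedaEquiv.{u+1} ((yon S).map k' ≫ l) from rfl).trans (congrArg _ e)⟩
  exact ⟨V, a, z, IsPullback.of_iso hQ (asIso l).symm (Iso.refl _) (Iso.refl _) (Iso.refl _)
    (by simp [l]) (by simp [l]) (by simp) (by simp), (inferInstanceAs (IsOpenImmersion O.ι))⟩

theorem isAlgSpace_subSp {F : Sp S} (hF : IsAlgSpace F) {W : Set (Points F)} (hW : IsOpen W) :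
    IsAlgSpace (subSp F W) where
  diag := representable_diag_of_mono (subι F W) hF.diag
  atlas := by
    obtain ⟨U, p, hpe, hps⟩ := hF.atlas
    have h := repWith_subι F W hW
    exact ⟨h.1.pullback p, h.1.fst p, repWith_of_isPullback (h.1.isPullback p).flip hpe,
      repWith_of_isPullback (h.1.isPullback p).flip hps⟩

/-- A map whose points lie in `W` factors through `subSp F W`. -/
theorem exists_fac_subι {F G : Sp S} (f : G ⟶ F) {W : Set (Points F)}
    (h : Set.range (Points.map f) ⊆ W) : ∃ k : G ⟶ subSp F W, k ≫ subι F W = f := by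
  have key : ∀ (U : (Over S)ᵒᵖ) (s : G.obj.obj U), f.hom.app U s ∈ (subOfSet F W).obj U := by
    intro U s t
    obtain ⟨x, rfl⟩ := (J S).uliftYonedaEquiv.{u+1}.surjective s
    rw [show ((J S).uliftYonedaEquiv.{u+1}.symm (f.hom.app U ((J S).uliftYonedaEquiv.{u+1} x)) :
        (yon S).obj U.unop ⟶ F) = x ≫ f from Equiv.symm_apply_eq _ |>.2 rfl, ← Points.map_ofPt]
    exact h ⟨_, rfl⟩
  exact ⟨⟨{ app := fun U => ↾fun s => ⟨f.hom.app U s, key U s⟩
            naturality := fun U V i => by
              ext s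
              exact Subtype.ext (ConcreteCategory.congr_hom (f.hom.naturality i) s :) }⟩,
    rfl⟩

end Groth.Agent.ASp
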