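import Mathlib.AlgebraicGeometry.ZariskisMainTheorem
import Groth.Agent.ASp.QAffine
import Groth.Agent.ASp.AffMor
import Groth.Agent.ASp.Sub
import Groth.Agent.ASp.Glue
/-!
Descent of separated, locally quasi-finite morphisms inside algebraic spaces.
-/

set_option backward.isDefEq.respectTransparency.types false

universe u

open CategoryTheory CategoryTheory.Limits AlgebraicGeometry Opposite

namespace Groth.Agent.ASp

open _root_.AlgSp

variable {S : Scheme.{u}}

theorem isPullback_of_comp_mono {C : Type*} [Category C] {P A B D D' : C} {f : P ⟶ A} {g : P ⟶ B} {a : A ⟶ D}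
    {b : B ⟶ D} {u : D ⟶ D'} [Mono u] (h : IsPullback f g (a ≫ u) (b ≫ u)) : IsPullback f g a b :=
  IsPullback.of_isLimit' ⟨(cancel_mono u).1 (by simpa using h.w)⟩ (PullbackCone.IsLimit.mk _
    (fun s => h.lift s.fst s.snd (by rw [reassoc_of% s.condition])) (fun s => h.lift_fst _ _ _)
    (fun s => h.lift_snd _ _ _) (fun s m h1 h2 => h.hom_ext (by rw [h.lift_fst, h1]) (by rw [h.lift_snd, h2])))

/-- Zariski's main theorem: separated quasi-finite over affine is quasi-affine. -/
theorem isQuasiAffine_of_lqf {V T : Scheme.{u}} (v : V ⟶ T) [IsAffine T] [LocallyQuasiFinite v]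
    [LocallyOfFiniteType v] [IsSeparated v] [QuasiCompact v] : V.IsQuasiAffine := by
  have := QuasiCompact.compactSpace_of_compactSpace v
  have : IsAffine v.normalization := isAffine_of_isAffineHom v.fromNormalization
  exact Scheme.IsQuasiAffine.of_isImmersion v.toNormalization

/-- Quasi-affine schemes descend along finite flat coverings of an affine scheme by affines. -/
theorem exists_quasiAffine_of_flatCover {T : Over S} [IsAffine T.left] {m : ℕ} (W : Fin m → Over S)
    (c : ∀ j, W j ⟶ T) (hW : ∀ j, IsAffine (W j).left) (hf : ∀ j, Flat (c j).left)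
    (hs : ∀ z : ↥T.left, ∃ j, z ∈ Set.range (c j).left) {X : Sp S} (hX : IsAlgSpace X) (x : X ⟶ (yon S).obj T)
    (V : Fin m → Over S) (hV : ∀ j, (V j).left.IsQuasiAffine) (fst : ∀ j, (yon S).obj (V j) ⟶ X)
    (v : ∀ j, V j ⟶ W j) (sq : ∀ j, IsPullback (fst j) ((yon S).map (v j)) x ((yon S).map (c j))) :
    ∃ P : Over S, P.left.IsQuasiAffine ∧ Nonempty ((yon S).obj P ≅ X) := by
  let O : CommRingCat.{u} := Γ(T.left, ⊤)
  let oS : Spec O ⟶ S := T.left.isoSpec.inv ≫ T.hom
  let e : Over.mk oS ≅ T := Over.isoMk T.left.isoSpec.symm rfl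
  let O' : ULift.{u} (Fin m) → CommRingCat.{u} := fun j => Γ((W j.down).left, ⊤)
  have hc' : ∀ j : ULift.{u} (Fin m), ∃ r : O ⟶ O' j,
      Spec.map r = (W j.down).left.isoSpec.inv ≫ (c j.down).left ≫ T.left.isoSpec.hom := fun j =>
    have := hW j.down
    ⟨Spec.preimage _, Spec.map_preimage _⟩
  choose r hr using hc'
  let W₁ : Fin m → Over S := fun j => Over.mk (Spec.map (r ⟨j⟩) ≫ oS)
  let cS : ∀ j, Over.mk (Spec.map (r j) ≫ oS) ⟶ Over.mk oS := fun j => Over.homMk (Spec.map (r j)) rfl
  have key : ∀ j, ∃ k : W₁ j ⟶ W j, IsIso k ∧ k ≫ c j = cS ⟨j⟩ ≫ e.hom := by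
    intro j
    have := hW j
    have e0 : (W j).left.isoSpec.inv ≫ (W j).hom = Spec.map (r ⟨j⟩) ≫ oS := by
      rw [hr, Category.assoc, Category.assoc, show oS = T.left.isoSpec.inv ≫ T.hom from rfl,
        Iso.hom_inv_id_assoc, Over.w]
    refine ⟨(Over.isoMk (W j).left.isoSpec.symm e0 : W₁ j ≅ W j).hom, inferInstance,
      Over.OverMorphism.ext ?_⟩
    change (W j).left.isoSpec.inv ≫ (c j).left = Spec.map (r ⟨j⟩) ≫ T.left.isoSpec.inv
    rw [hr, Category.assoc, Category.assoc, Iso.hom_inv_id, Category.comp_id]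
  choose k hki hk using key
  have hcov : IsFpqcCover (fun j : ULift.{u} (Fin m) => (yon S).obj (W₁ j.down))
      (fun j => (yon S).map (cS j)) := by
    have : IsAffine (Over.mk oS).left := inferInstanceAs (IsAffine (Spec O))
    refine isFpqcCover_yon (T := Over.mk oS) W₁ (fun j => cS ⟨j⟩) (fun j => inferInstanceAs (IsAffine (Spec _)))
      (fun j => ?_) (fun z => ?_)
    · change Flat (Spec.map (r ⟨j⟩))
      rw [hr]
      have := hf j
      have := hW j
      infer_instance
    · obtain ⟨j, w, hw⟩ := hs (T.left.isoSpec.inv z)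
      have := hW j
      refine ⟨j, (W j).left.isoSpec.hom w, ?_⟩
      change Spec.map (r ⟨j⟩) ((W j).left.isoSpec.hom w) = z
      rw [← Scheme.Hom.comp_apply, hr, Iso.hom_inv_id_assoc, Scheme.Hom.comp_apply, hw,
        ← Scheme.Hom.comp_apply, Iso.inv_hom_id]
      rfl
  refine exists_quasiAffine_of_fpqc O oS hX (x ≫ (yon S).map e.inv) O' r cS (fun _ => rfl) hcov (fun j => V j.down)
    (fun j => hV j.down) (fun j => fst j.down) (fun j => v j.down ≫ (have := hki j.down; inv (k j.down)))
    (fun j => ?_)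
  obtain ⟨j⟩ := j
  have := hki j
  refine IsPullback.of_iso (sq j) (Iso.refl _) (Iso.refl _) ((yon S).mapIso (asIso (k j)).symm)
    ((yon S).mapIso e.symm) (by simp) ?_ (by simp) ?_
  · simp
  · simp only [Functor.mapIso_hom, Iso.symm_hom, ← Functor.map_comp]
    congr 1
    rw [asIso_inv, IsIso.eq_inv_comp]
    rw [reassoc_of% (hk j), Iso.hom_inv_id]
    exact Category.comp_id _

/-- An algebraic space over a scheme which becomes, after a flat, surjective, locally finitely presented base
change, a scheme separated and locally quasi-finite over the base, is a scheme. -/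
theorem exists_scheme_of_lqf {X : Sp S} (hX : IsAlgSpace X) {T W V : Over S} (x : X ⟶ (yon S).obj T)
    (c : W ⟶ T) [Flat c.left] [LocallyOfFinitePresentation c.left] [Surjective c.left] (v : V ⟶ W)
    (fst : (yon S).obj V ⟶ X) (sq : IsPullback fst ((yon S).map v) x ((yon S).map c))
    [IsSeparated v.left] [LocallyQuasiFinite v.left] [LocallyOfFiniteType v.left] :
    ∃ P : Over S, Nonempty ((yon S).obj P ≅ X) := by
  obtain ⟨A, p, hpe, hps⟩ := hX.atlas
  obtain ⟨a, ha⟩ := (yon S).map_surjective (p ≫ x)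
  have key : ∀ t : ↥A.left, ∃ (P : Over S) (f : (yon S).obj P ⟶ X),
      RepWith @IsOpenImmersion f ∧ Points.ofPt p t ∈ Set.range (Points.map f) := by
    intro t
    obtain ⟨U, hU, hxU, -⟩ := exists_isAffineOpen_mem_and_subset (x := a.left t) (U := (⊤ : T.left.Opens)) (by simp)
    obtain ⟨E, hE, htE, hEU⟩ := exists_isAffineOpen_mem_and_subset (x := t) (U := a.left ⁻¹ᵁ U) hxU
    let Ω : Set (Points X) := Points.ofPt p '' E
    have hΩ : IsOpen Ω := isOpenMap_ofPt_of_etale hpe _ E.isOpen
    have hΩc : IsCompact Ω := hE.isCompact.image (Points.continuous_ofPt p)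
    have hj := repWith_subι X Ω hΩ
    have hX' := isAlgSpace_subSp hX hΩ
    have : CompactSpace (Points (subSp X Ω)) := by
      rw [← isCompact_univ_iff, (isEmbedding_of_immersion hX
        (repWith_mono (fun _ _ g (hg : IsOpenImmersion g) => (inferInstance : IsImmersion g)) hj)).1.isCompact_iff,
        Set.image_univ, range_map_subι]
      exact hΩc
    have hX'c := isQuasiCompactSp_of_compactSpace hX'
    let TU : Over S := Over.mk (U.ι ≫ T.hom)
    let u : TU ⟶ T := Over.homMk U.ι rfl
    have : IsAffine TU.left := hU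
    have hfac : ∀ y, Points.map (subι X Ω ≫ x) y ∈ Set.range (Points.map ((yon S).map u)) := by
      intro y
      obtain ⟨e', he', hye⟩ : Points.map (subι X Ω) y ∈ Ω := (range_map_subι X Ω).le ⟨y, rfl⟩
      refine ⟨Points.schemeHomeo TU ⟨a.left e', hEU he'⟩, ?_⟩
      rw [Points.map_comp, ← hye, Points.map_ofPt, ← ha, Points.map_yon_map_apply]
      rw [show (yon S).map a = (yon S).map a ≫ 𝟙 _ from (Category.comp_id _).symm, ofPt_yon_map_comp]
      rfl
    obtain ⟨x', hx'⟩ : ∃ x' : subSp X Ω ⟶ (yon S).obj TU, x' ≫ (yon S).map u = subι X Ω ≫ x := by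
      have hu : RepWith @IsOpenImmersion ((yon S).map u) := repWith_yon_map (inferInstanceAs (IsOpenImmersion U.ι))
      have hum : Mono ((yon S).map u) := mono_of_repWith (P := @IsOpenImmersion)
        (fun g hg => haveI : IsOpenImmersion g := hg; inferInstance) hu
      have sq' := IsPullback.of_hasPullback (subι X Ω ≫ x) ((yon S).map u)
      have hopen : RepWith @IsOpenImmersion (pullback.fst (subι X Ω ≫ x) ((yon S).map u)) :=
        repWith_of_isPullback sq'.flip hu
      have : Mono (pullback.fst (subι X Ω ≫ x) ((yon S).map u)) := mono_of_repWith (P := @IsOpenImmersion)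
        (fun g hg => haveI : IsOpenImmersion g := hg; inferInstance) hopen
      have : IsIso (pullback.fst (subι X Ω ≫ x) ((yon S).map u)) :=
        isIso_of_mono_etale_surjective (isAlgSpace_of_isPullback (IsAlgSpace.yon_obj T).diag hX'
          (IsAlgSpace.yon_obj TU) sq') hX' _ (locP_of_repWith (repWith_mono
          (fun _ _ g (hg : IsOpenImmersion g) => (inferInstance : Etale g)) hopen)) (fun y => by
          obtain ⟨w, hw⟩ := hfac y
          obtain ⟨q, hq, -⟩ := points_exists_of_isPullback sq' y w hw.symm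
          exact ⟨q, hq⟩)
      exact ⟨inv (pullback.fst (subι X Ω ≫ x) ((yon S).map u)) ≫ pullback.snd (subι X Ω ≫ x) ((yon S).map u), by rw [Category.assoc, ← pullback.condition, IsIso.inv_hom_id_assoc]⟩
    let cU : Set ↥W.left := c.left ⁻¹' (U : Set ↥T.left)
    have hopenc : IsOpenMap c.left := c.left.isOpenMap
    have hW' : ∀ w : cU, ∃ B : W.left.Opens, IsAffineOpen B ∧ (w : ↥W.left) ∈ B ∧ B ≤ c.left ⁻¹ᵁ U := fun w =>
      exists_isAffineOpen_mem_and_subset (x := (w : ↥W.left)) (U := c.left ⁻¹ᵁ U) w.2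
    choose B hB hwB hBU using hW'
    obtain ⟨fin, hfin⟩ := hU.isCompact.elim_finite_subcover (fun w : cU => c.left '' (B w))
      (fun w => hopenc _ (B w).isOpen) (fun z hz => by
        obtain ⟨w, rfl⟩ := c.left.surjective z
        exact Set.mem_iUnion.2 ⟨⟨w, hz⟩, w, hwB ⟨w, hz⟩, rfl⟩)
    let m := fin.card
    let idx : Fin m → cU := fun j => (fin.equivFin.symm j).1
    let Wj : Fin m → Over S := fun j => Over.mk ((B (idx j)).ι ≫ W.hom)
    let wj : ∀ j, Wj j ⟶ W := fun j => Over.homMk (B (idx j)).ι rfl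
    let cj : ∀ j, Wj j ⟶ TU := fun j => Over.homMk (c.left.resLE U (B (idx j)) (hBU _)) (by
      change c.left.resLE U (B (idx j)) _ ≫ U.ι ≫ T.hom = (B (idx j)).ι ≫ W.hom
      rw [Scheme.Hom.resLE_comp_ι_assoc, Over.w])
    have hcj : ∀ j, cj j ≫ u = wj j ≫ c := fun j =>
      Over.OverMorphism.ext (Scheme.Hom.resLE_comp_ι _ _)
    have hum' : Mono ((yon S).map u) := mono_of_repWith (P := @IsOpenImmersion)
      (fun g hg => haveI : IsOpenImmersion g := hg; inferInstance)
      (repWith_yon_map (inferInstanceAs (IsOpenImmersion U.ι)))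
    have hV' : ∀ j, ∃ (Vj : Over S) (fj : (yon S).obj Vj ⟶ subSp X Ω) (vj : Vj ⟶ Wj j),
        IsPullback fj ((yon S).map vj) x' ((yon S).map (cj j)) ∧ Vj.left.IsQuasiAffine := by
      intro j
      have sqw : IsPullback ((yon S).map (pullback.fst v (wj j))) ((yon S).map (pullback.snd v (wj j)))
          ((yon S).map v) ((yon S).map (wj j)) := isPullback_yon_map (IsPullback.of_hasPullback v (wj j))
      have sq2 : IsPullback ((yon S).map (pullback.fst v (wj j)) ≫ fst) ((yon S).map (pullback.snd v (wj j))) x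
          ((yon S).map (cj j) ≫ (yon S).map u) := by
        rw [← Functor.map_comp, hcj, Functor.map_comp]
        exact sqw.paste_horiz sq
      have sq3 := hj.1.isPullback ((yon S).map (pullback.fst v (wj j)) ≫ fst)
      have sq4 := sq3.paste_vert sq2
      rw [← Functor.map_comp, ← hx'] at sq4
      have sq5 := isPullback_of_comp_mono sq4
      let vv := hj.1.snd ((yon S).map (pullback.fst v (wj j)) ≫ fst) ≫ pullback.snd v (wj j)
      refine ⟨_, _, vv, sq5, ?_⟩
      have : IsAffine (Wj j).left := hB (idx j)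
      have hsl := isPullback_left (IsPullback.of_hasPullback v (wj j))
      have : IsSeparated (pullback.snd v (wj j)).left := MorphismProperty.of_isPullback hsl ‹_›
      have : LocallyQuasiFinite (pullback.snd v (wj j)).left := MorphismProperty.of_isPullback hsl ‹_›
      have : LocallyOfFiniteType (pullback.snd v (wj j)).left := MorphismProperty.of_isPullback hsl ‹_›
      have : IsOpenImmersion (hj.1.snd ((yon S).map (pullback.fst v (wj j)) ≫ fst)).left := hj.2 _ _ _ sq3
      have hqc : RepWith @QuasiCompact ((yon S).map (cj j)) := repWith_yon_map (by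
        have : IsAffine TU.left := hU
        exact (inferInstance : QuasiCompact (cj j).left))
      have := compactSpace_of_isQuasiCompactSp
        (isQuasiCompactMor_of_repWith hqc hX' hX'c x' _ _ sq5.flip)
      have : CompactSpace ↥(hj.1.pullback ((yon S).map (pullback.fst v (wj j)) ≫ fst)).left :=
        (Points.schemeHomeo _).symm.surjective.compactSpace (Points.schemeHomeo _).symm.continuous
      have : QuasiCompact vv.left := by
        rw [quasiCompact_iff_compactSpace]; infer_instance
      have : IsSeparated vv.left := inferInstanceAs (IsSeparated (_ ≫ _))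
      have : LocallyQuasiFinite vv.left := inferInstanceAs (LocallyQuasiFinite (_ ≫ _))
      have : LocallyOfFiniteType vv.left := inferInstanceAs (LocallyOfFiniteType (_ ≫ _))
      exact isQuasiAffine_of_lqf vv.left
    choose Vj fj vj sqj hVj using hV'
    obtain ⟨P, -, ⟨e⟩⟩ := exists_quasiAffine_of_flatCover Wj cj (fun j => hB _) (fun j => by
        have : Flat c.left := inferInstance
        exact (inferInstance : Flat (c.left.resLE U (B (idx j)) (hBU _))))
      (fun z => by
        obtain ⟨w, hwf, b, hb, hbz⟩ := Set.mem_iUnion₂.1 (hfin z.2)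
        refine ⟨fin.equivFin ⟨w, hwf⟩, ⟨b, by simpa [idx] using hb⟩, Subtype.ext ?_⟩
        rw [← hbz]
        exact congr($(Scheme.Hom.resLE_comp_ι c.left (hBU (idx _))) ⟨b, _⟩)) hX' x' Vj hVj fj vj sqj
    refine ⟨P, e.hom ≫ subι X Ω, repWith_comp (repWith_of_isIso e.hom) hj, ?_⟩
    obtain ⟨y, hy⟩ := (range_map_subι X Ω).ge ⟨t, htE, rfl⟩
    exact ⟨Points.map e.inv y, by rw [← Points.map_comp, e.inv_hom_id_assoc]; exact hy⟩
  choose P f hf hfp using key
  exact exists_scheme_of_openCover hX P f hf fun y => by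
    obtain ⟨t, rfl⟩ := surjective_ofPt hps y
    exact ⟨t, hfp t⟩

end Groth.Agent.ASp
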