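import Groth.Agent.ASp.MonoDesc
import Groth.Agent.ASp.SchDesc
import Groth.Agent.ASp.Quot
/-!
A subsheaf of a scheme which becomes, after an fppf base change, a scheme locally of finite type is a scheme.
-/

set_option backward.isDefEq.respectTransparency.types false

universe u

open CategoryTheory CategoryTheory.Limits AlgebraicGeometry Opposite

namespace Groth.Agent.ASp

open _root_.AlgSp

variable {S : Scheme.{u}}

/-- The affine case of `exists_quasiAffine_of_mono`, without coordinates. -/
theorem exists_quasiAffine_of_mono' {T W : Over S} [IsAffine T.left] [IsAffine W.left] {X : Sp S}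
    (x : X ⟶ (yon S).obj T) [Mono x] (c : W ⟶ T) [Flat c.left] [LocallyOfFinitePresentation c.left]
    [Surjective c.left] (V : Over S) (hV : V.left.IsQuasiAffine) (fst : (yon S).obj V ⟶ X) (v : V ⟶ W)
    (sq : IsPullback fst ((yon S).map v) x ((yon S).map c)) :
    ∃ P : Over S, P.left.IsQuasiAffine ∧ Nonempty ((yon S).obj P ≅ X) := by
  let O : CommRingCat.{u} := Γ(T.left, ⊤)
  let oS : Spec O ⟶ S := T.left.isoSpec.inv ≫ T.hom
  let e : Over.mk oS ≅ T := Over.isoMk T.left.isoSpec.symm rfl
  let O' : CommRingCat.{u} := Γ(W.left, ⊤)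
  obtain ⟨r, hr⟩ : ∃ r : O ⟶ O', Spec.map r = W.left.isoSpec.inv ≫ c.left ≫ T.left.isoSpec.hom :=
    ⟨Spec.preimage _, Spec.map_preimage _⟩
  have e0 : W.left.isoSpec.inv ≫ W.hom = Spec.map r ≫ oS := by
    rw [hr, Category.assoc, Category.assoc, show oS = T.left.isoSpec.inv ≫ T.hom from rfl,
      Iso.hom_inv_id_assoc, Over.w]
  let k : Over.mk (Spec.map r ≫ oS) ≅ W := Over.isoMk W.left.isoSpec.symm e0
  let cS : Over.mk (Spec.map r ≫ oS) ⟶ Over.mk oS := Over.homMk (Spec.map r) rfl
  have hk : k.hom ≫ c = cS ≫ e.hom := Over.OverMorphism.ext (by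
    change W.left.isoSpec.inv ≫ c.left = Spec.map r ≫ T.left.isoSpec.inv
    rw [hr, Category.assoc, Category.assoc, Iso.hom_inv_id, Category.comp_id])
  have : Mono (x ≫ (yon S).map e.inv) := mono_comp _ _
  refine exists_quasiAffine_of_mono O O' oS (x ≫ (yon S).map e.inv) r cS rfl ?_ ?_ ?_ V hV fst (v ≫ k.inv) ?_
  · change Flat (Spec.map r)
    rw [hr]; infer_instance
  · change LocallyOfFinitePresentation (Spec.map r)
    rw [hr]; infer_instance
  · change Surjective (Spec.map r)
    rw [hr]; infer_instance
  · refine IsPullback.of_iso sq (Iso.refl _) (Iso.refl _) ((yon S).mapIso k.symm)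
      ((yon S).mapIso e.symm) (by simp) (by simp) (by simp) ?_
    simp only [Functor.mapIso_hom, Iso.symm_hom, ← Functor.map_comp]
    congr 1
    rw [Iso.eq_inv_comp, reassoc_of% hk, Iso.hom_inv_id]
    exact Category.comp_id _

/-- A subsheaf of a scheme which becomes, after a flat, surjective, locally finitely presented base change, a
scheme locally of finite type over the base is a scheme. -/
theorem exists_scheme_of_mono {X : Sp S} {T W V : Over S} (x : X ⟶ (yon S).obj T) [Mono x]
    (c : W ⟶ T) [Flat c.left] [LocallyOfFinitePresentation c.left] [Surjective c.left] (v : V ⟶ W)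
    (fst : (yon S).obj V ⟶ X) (sq : IsPullback fst ((yon S).map v) x ((yon S).map c))
    [LocallyOfFiniteType v.left] :
    ∃ P : Over S, Nonempty ((yon S).obj P ≅ X) := by
  have hvm : Mono v := (yon S).mono_of_mono_map ⟨fun a b hab => sq.hom_ext
    ((cancel_mono x).1 (by rw [Category.assoc, Category.assoc, sq.w, reassoc_of% hab])) hab⟩
  have : Mono v.left := Over.mono_left_of_mono v
  have := locallyQuasiFinite_of_mono v.left
  have hfo : RepWith @UniversallyOpen fst :=
    repWith_of_isPullback sq.flip (repWith_yon_map (inferInstance : UniversallyOpen c.left))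
  have hfs : Function.Surjective (Points.map fst) := surjective_map_of_isPullback sq.flip
    (surjective_map_of_repWith (repWith_yon_map (P := @Surjective) ‹_›))
  have key : ∀ t : ↥V.left, ∃ (P : Over S) (f : (yon S).obj P ⟶ X),
      RepWith @IsOpenImmersion f ∧ Points.ofPt fst t ∈ Set.range (Points.map f) := by
    intro t
    obtain ⟨U, hU, hxU, -⟩ := exists_isAffineOpen_mem_and_subset (x := c.left (v.left t)) (U := (⊤ : T.left.Opens)) (by simp)
    obtain ⟨E, hE, htE, hEU⟩ := exists_isAffineOpen_mem_and_subset (x := t) (U := (v.left ≫ c.left) ⁻¹ᵁ U) hxU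
    let Ω : Set (Points X) := Points.ofPt fst '' E
    have hΩ : IsOpen Ω := by
      refine IsOpenMap.comp ?_ (Points.schemeHomeo V).isOpenMap _ E.isOpen |> fun h => by
        rwa [← ofPt_comp_eq_map] at h
      exact isOpenMap_map_of_repWith (fun g hg => haveI : UniversallyOpen g := hg; g.isOpenMap) hfo
    have hj := repWith_subι X Ω hΩ
    let TU : Over S := Over.mk (U.ι ≫ T.hom)
    let u : TU ⟶ T := Over.homMk U.ι rfl
    have : IsAffine TU.left := hU
    have hum : Mono ((yon S).map u) := mono_of_repWith (P := @IsOpenImmersion)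
      (fun g hg => haveI : IsOpenImmersion g := hg; inferInstance)
      (repWith_yon_map (inferInstanceAs (IsOpenImmersion U.ι)))
    obtain ⟨x', hx'⟩ : ∃ x' : subSp X Ω ⟶ (yon S).obj TU, x' ≫ (yon S).map u = subι X Ω ≫ x := by
      have hu : RepWith @IsOpenImmersion ((yon S).map u) := repWith_yon_map (inferInstanceAs (IsOpenImmersion U.ι))
      have sq' := IsPullback.of_hasPullback (subι X Ω ≫ x) ((yon S).map u)
      have hopen : RepWith @IsOpenImmersion (pullback.fst (subι X Ω ≫ x) ((yon S).map u)) :=
        repWith_of_isPullback sq'.flip hu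
      have : Mono (pullback.fst (subι X Ω ≫ x) ((yon S).map u)) := mono_of_repWith (P := @IsOpenImmersion)
        (fun g hg => haveI : IsOpenImmersion g := hg; inferInstance) hopen
      have hs : RepWith @Surjective (pullback.fst (subι X Ω ≫ x) ((yon S).map u)) := by
        rw [repWith_surjective_iff hopen.1]
        intro y
        obtain ⟨e', he', hye⟩ : Points.map (subι X Ω) y ∈ Ω := (range_map_subι X Ω).le ⟨y, rfl⟩
        obtain ⟨q, hq, -⟩ := points_exists_of_isPullback sq' y (Points.schemeHomeo TU ⟨c.left (v.left e'), hEU he'⟩) (by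
          rw [Points.map_comp, ← hye, Points.map_ofPt, sq.w, Points.map_yon_map_apply, ofPt_yon_map_comp,
            show (yon S).map c = (yon S).map c ≫ 𝟙 _ from (Category.comp_id _).symm, ofPt_yon_map_comp]
          rfl)
        exact ⟨q, hq⟩
      have hl : Sheaf.IsLocallySurjective (pullback.fst (subι X Ω ≫ x) ((yon S).map u)) :=
        isLocallySurjective_of_repWith
          (repWith_mono (fun _ _ g (hg : IsOpenImmersion g) => (inferInstance : Flat g)) hopen)
          (repWith_mono (fun _ _ g (hg : IsOpenImmersion g) => (inferInstance : LocallyOfFinitePresentation g)) hopen) hs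
      have : IsIso (pullback.fst (subι X Ω ≫ x) ((yon S).map u)) := isIso_of_mono_of_locallySurjective _ hl
      exact ⟨inv (pullback.fst (subι X Ω ≫ x) ((yon S).map u)) ≫ pullback.snd (subι X Ω ≫ x) ((yon S).map u),
        by rw [Category.assoc, ← pullback.condition, IsIso.inv_hom_id_assoc]⟩
    have : Mono (x' ≫ (yon S).map u) := by rw [hx']; exact mono_comp _ _
    have : Mono x' := mono_of_mono x' ((yon S).map u)
    let cU : Set ↥W.left := c.left ⁻¹' (U : Set ↥T.left)
    have hW' : ∀ w : cU, ∃ B : W.left.Opens, IsAffineOpen B ∧ (w : ↥W.left) ∈ B ∧ B ≤ c.left ⁻¹ᵁ U := fun w =>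
      exists_isAffineOpen_mem_and_subset (x := (w : ↥W.left)) (U := c.left ⁻¹ᵁ U) w.2
    choose B hB hwB hBU using hW'
    obtain ⟨fin, hfin⟩ := hU.isCompact.elim_finite_subcover (fun w : cU => c.left '' (B w))
      (fun w => c.left.isOpenMap _ (B w).isOpen) (fun z hz => by
        obtain ⟨w, rfl⟩ := c.left.surjective z
        exact Set.mem_iUnion.2 ⟨⟨w, hz⟩, w, hwB ⟨w, hz⟩, rfl⟩)
    let f₀ : ∀ i : fin, (B i.1).toScheme ⟶ W.left := fun i => (B i.1).ι
    let W' : Over S := Over.mk (Limits.Sigma.desc f₀ ≫ W.hom)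
    let w' : W' ⟶ W := Over.homMk (Limits.Sigma.desc f₀) rfl
    have : ∀ i : fin, IsAffine (B i.1).toScheme := fun i => hB _
    have : IsAffine W'.left := inferInstanceAs (IsAffine (∐ fun i : fin => (B i.1).toScheme))
    let c₀ : W'.left ⟶ TU.left := Limits.Sigma.desc fun i : fin => c.left.resLE U (B i.1) (hBU _)
    have hc₀ : c₀ ≫ U.ι = w'.left ≫ c.left := Sigma.hom_ext _ _ fun i => by
      change Sigma.ι (fun i : fin => (B i.1).toScheme) i ≫ Limits.Sigma.desc _ ≫ U.ι =
        Sigma.ι (fun i : fin => (B i.1).toScheme) i ≫ Limits.Sigma.desc f₀ ≫ c.left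
      rw [Sigma.ι_desc_assoc, Sigma.ι_desc_assoc, Scheme.Hom.resLE_comp_ι]
    let c' : W' ⟶ TU := Over.homMk c₀ (by
      change c₀ ≫ U.ι ≫ T.hom = Limits.Sigma.desc f₀ ≫ W.hom
      rw [reassoc_of% hc₀, Over.w]; rfl)
    have hcj : c' ≫ u = w' ≫ c := Over.OverMorphism.ext hc₀
    have : Flat c'.left := IsZariskiLocalAtSource.sigmaDesc fun i =>
      (inferInstance : Flat (c.left.resLE U (B i.1) (hBU _)))
    have : LocallyOfFinitePresentation c'.left := IsZariskiLocalAtSource.sigmaDesc fun i =>
      (inferInstance : LocallyOfFinitePresentation (c.left.resLE U (B i.1) (hBU _)))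
    have : Surjective c'.left := ⟨fun z => by
      obtain ⟨w, hwf, b, hb, hbz⟩ := Set.mem_iUnion₂.1 (hfin z.2)
      refine ⟨Sigma.ι (fun i : fin => (B i.1).toScheme) ⟨w, hwf⟩ ⟨b, hb⟩, Subtype.ext ?_⟩
      change U.ι ((Sigma.ι (fun i : fin => (B i.1).toScheme) ⟨w, hwf⟩ ≫ c₀) ⟨b, hb⟩) = z.1
      rw [Sigma.ι_desc, ← Scheme.Hom.comp_apply, Scheme.Hom.resLE_comp_ι, ← hbz]
      rfl⟩
    have sqw : IsPullback ((yon S).map (pullback.fst v w')) ((yon S).map (pullback.snd v w'))
        ((yon S).map v) ((yon S).map w') := isPullback_yon_map (IsPullback.of_hasPullback v w')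
    have sq2 : IsPullback ((yon S).map (pullback.fst v w') ≫ fst) ((yon S).map (pullback.snd v w')) x
        ((yon S).map c' ≫ (yon S).map u) := by
      rw [← Functor.map_comp, hcj, Functor.map_comp]
      exact sqw.paste_horiz sq
    have sq3 := hj.1.isPullback ((yon S).map (pullback.fst v w') ≫ fst)
    let k' := (yon S).map (pullback.fst v w') ≫ fst
    have sq4 := sq3.paste_vert sq2
    rw [← Functor.map_comp, ← hx'] at sq4
    have sq5 := isPullback_of_comp_mono sq4
    let vv := hj.1.snd ((yon S).map (pullback.fst v w') ≫ fst) ≫ pullback.snd v w'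
    -- an affine scheme surjecting onto the piece
    obtain ⟨σ, hσ⟩ := exists_lift_subι X Ω (U := Over.mk (E.ι ≫ V.hom))
      ((yon S).map (Over.homMk E.ι rfl : Over.mk (E.ι ≫ V.hom) ⟶ V) ≫ fst) (fun s => by
        rw [ofPt_yon_map_comp]; exact ⟨_, s.2, rfl⟩)
    obtain ⟨ε, hε⟩ := (yon S).map_surjective (σ ≫ x')
    have sqε := isPullback_yon_map (IsPullback.of_hasPullback ε c')
    have : IsAffine (pullback ε c').left := by
      have : IsAffine (Over.mk (E.ι ≫ V.hom)).left := hE
      exact IsAffine.of_isIso (isPullback_left (IsPullback.of_hasPullback ε c')).isoPullback.hom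
    obtain ⟨l, hl⟩ := (yon S).map_surjective (sq5.lift ((yon S).map (pullback.fst ε c') ≫ σ)
      ((yon S).map (pullback.snd ε c')) (by rw [Category.assoc, ← hε, sqε.w]))
    have hls : Function.Surjective l.left := by
      intro z
      obtain ⟨e', he', hye⟩ : Points.map (subι X Ω) (Points.map (hj.1.fst k') (Points.schemeHomeo _ z)) ∈ Ω :=
        (range_map_subι X Ω).le ⟨_, rfl⟩
      have sqb : IsPullback ((yon S).map (pullback.fst ε c')) ((yon S).map l) σ (hj.1.fst k') := by
        refine IsPullback.of_bot (h₃₁ := (yon S).map c') (v₂₁ := (yon S).map vv) (v₂₂ := x') ?_ ?_ sq5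
        · rw [hl, sq5.lift_snd, ← hε]; exact sqε
        · rw [hl, sq5.lift_fst]
      have hinj : Function.Injective (Points.map (subι X Ω)) := injective_map_of_repWith (P := @IsOpenImmersion)
        (fun g hg => haveI : IsOpenImmersion g := hg; g.isOpenEmbedding.injective) hj
      obtain ⟨q, -, hq⟩ := points_exists_of_isPullback sqb (Points.schemeHomeo _ (⟨e', he'⟩ : E))
        (Points.schemeHomeo _ z) (hinj (by
          refine Eq.trans ?_ hye
          rw [← Points.map_comp, hσ, Points.map_comp, Points.map_yon_map_apply, ofPt_comp_eq_map]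
          rfl))
      obtain ⟨q', rfl⟩ := (Points.schemeHomeo _).surjective q
      rw [Points.map_yon_map_apply] at hq
      exact ⟨q', (Points.schemeHomeo _).injective hq⟩
    have : CompactSpace ↥(hj.1.pullback ((yon S).map (pullback.fst v w') ≫ fst)).left :=
      hls.compactSpace l.left.continuous
    have hsl := isPullback_left (IsPullback.of_hasPullback v w')
    have : IsSeparated (pullback.snd v w').left := MorphismProperty.of_isPullback hsl (inferInstance : IsSeparated v.left)
    have : LocallyQuasiFinite (pullback.snd v w').left := MorphismProperty.of_isPullback hsl ‹_›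
    have : LocallyOfFiniteType (pullback.snd v w').left := MorphismProperty.of_isPullback hsl ‹_›
    have : IsOpenImmersion (hj.1.snd ((yon S).map (pullback.fst v w') ≫ fst)).left := hj.2 _ _ _ sq3
    have : QuasiCompact vv.left := by rw [quasiCompact_iff_compactSpace]; infer_instance
    have : IsSeparated vv.left := inferInstanceAs (IsSeparated (_ ≫ _))
    have : LocallyQuasiFinite vv.left := inferInstanceAs (LocallyQuasiFinite (_ ≫ _))
    have : LocallyOfFiniteType vv.left := inferInstanceAs (LocallyOfFiniteType (_ ≫ _))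
    obtain ⟨P, -, ⟨e⟩⟩ := exists_quasiAffine_of_mono' x' c' _ (isQuasiAffine_of_lqf vv.left) _ vv sq5
    refine ⟨P, e.hom ≫ subι X Ω, repWith_comp (repWith_of_isIso e.hom) hj, ?_⟩
    obtain ⟨y, hy⟩ := (range_map_subι X Ω).ge ⟨t, htE, rfl⟩
    exact ⟨Points.map e.inv y, by rw [← Points.map_comp, e.inv_hom_id_assoc]; exact hy⟩
  choose P f hf hfp using key
  have hcov : ∀ y, ∃ t, y ∈ Set.range (Points.map (f t)) := fun y => by
    obtain ⟨y', rfl⟩ := hfs y
    obtain ⟨t, rfl⟩ := (Points.schemeHomeo V).surjective y'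
    exact ⟨t, by rw [← show Points.ofPt fst t = Points.map fst (Points.schemeHomeo V t) from
      congrFun (ofPt_comp_eq_map fst) t]; exact hfp t⟩
  -- the pieces form an etale atlas
  have hdiag : Representable (Limits.diag X) := representable_diag_of_mono x (IsAlgSpace.yon_obj T).diag
  let Z : Over S := Over.mk (Limits.Sigma.desc fun t => (P t).hom)
  let ζ : ∀ t, P t ⟶ Z := fun t => Over.homMk (Sigma.ι (fun t => (P t).left) t) (Sigma.ι_desc _ _)
  obtain ⟨p, hp⟩ := exists_sigma_desc Z P ζ rfl (fun t => Category.comp_id _) f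
  have hprep : Representable p := Functor.relativelyRepresentable.of_diag hdiag p
  have hps : RepWith @Surjective p := by
    rw [repWith_surjective_iff hprep]
    intro y
    obtain ⟨t, q, rfl⟩ := hcov y
    exact ⟨Points.map ((yon S).map (ζ t)) q, by rw [← Points.map_comp, hp]⟩
  have hpe : RepWith @Etale p := by
    refine ⟨hprep, fun A Q g a q hQ => ?_⟩
    change Etale q.left
    obtain ⟨a', rfl⟩ := (yon S).map_surjective a
    rw [IsZariskiLocalAtSource.iff_of_openCover (P := @Etale)
      ((sigmaOpenCover fun t => (P t).left).pullback₁ a'.left)]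
    intro t
    have sqa : IsPullback ((yon S).map (pullback.snd a' (ζ t))) ((yon S).map (pullback.fst a' (ζ t)))
        ((yon S).map (ζ t)) ((yon S).map a') := (isPullback_yon_map (IsPullback.of_hasPullback a' (ζ t))).flip
    have sqt : IsPullback ((yon S).map (pullback.snd a' (ζ t))) ((yon S).map (pullback.fst a' (ζ t) ≫ q))
        (f t) g := by
      rw [Functor.map_comp, ← hp t]
      exact sqa.paste_vert hQ
    have h1 : IsOpenImmersion (pullback.fst a' (ζ t) ≫ q).left := (hf t).2 _ _ _ sqt
    have hl := isPullback_left (IsPullback.of_hasPullback a' (ζ t))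
    have e1 : pullback.fst a'.left ((sigmaOpenCover fun t => (P t).left).f t) =
        hl.isoPullback.inv ≫ (pullback.fst a' (ζ t)).left := (hl.isoPullback_inv_fst).symm
    change Etale (pullback.fst a'.left ((sigmaOpenCover fun t => (P t).left).f t) ≫ q.left)
    rw [e1]
    have : IsOpenImmersion ((pullback.fst a' (ζ t)).left ≫ q.left) := h1
    have h : Etale (hl.isoPullback.inv ≫ (pullback.fst a' (ζ t)).left ≫ q.left) := inferInstance
    have h2 : Etale ((hl.isoPullback.inv ≫ (pullback.fst a' (ζ t)).left) ≫ q.left) := by rw [Category.assoc]; exact h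
    exact h2
  exact exists_scheme_of_openCover ⟨hdiag, Z, p, hpe, hps⟩ P f hf hcov

end Groth.Agent.ASp
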