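import Groth.Agent.ASp.Graph
import Groth.Agent.ASp.Quot

/-!
Separatedness through universally closed or proper diagonals.
-/

set_option backward.isDefEq.respectTransparency false
set_option backward.isDefEq.respectTransparency.types false

universe u

open CategoryTheory CategoryTheory.Limits AlgebraicGeometry Opposite

namespace Groth.Agent.ASp

open _root_.AlgSp

variable {S : Scheme.{u}} {F G : Sp S}

/-- The diagonal of a morphism out of an algebraic space is locally of finite type. -/
theorem repWith_diagonal_locallyOfFiniteType (hF : IsAlgSpace F) (f : F ⟶ G) :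
    RepWith @LocallyOfFiniteType (pullback.diagonal f) := by
  let m : pullback f f ⟶ F ⨯ F := prod.lift (pullback.fst f f) (pullback.snd f f)
  haveI : Mono m := ⟨fun a b h => by
    apply pullback.hom_ext
    · simpa [m] using congrArg (· ≫ prod.fst) h
    · simpa [m] using congrArg (· ≫ prod.snd) h⟩
  have e : pullback.diagonal f ≫ m = Limits.diag F := by
    apply prod.hom_ext <;> simp [m]
  refine repWith_of_isPullback (f := Limits.diag F) (g' := 𝟙 F) (g := m) ?_ (repWith_diag_locallyOfFiniteType hF)
  rw [← e]
  exact IsPullback.of_id_fst.paste_vert (IsKernelPair.id_of_mono m)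

/-- A universally closed diagonal is a closed immersion. -/
theorem isSeparatedMor_of_univClosed_diag (hF : IsAlgSpace F) (f : F ⟶ G)
    (h : IsUnivClosedMor (pullback.diagonal f)) : IsSeparatedMor f := by
  have h1 := repWith_diagonal_locallyOfFiniteType hF f
  have h2 := (repWith_universallyClosed_iff h1.1).2 h
  refine ⟨h1.1, fun {U V} g fst snd sq => ?_⟩
  haveI : LocallyOfFiniteType snd.left := h1.2 g fst snd sq
  haveI : UniversallyClosed snd.left := h2.2 g fst snd sq
  haveI : Mono (pullback.diagonal f) := inferInstance
  haveI : Mono ((yon S).map snd) := MorphismProperty.of_isPullback (P := MorphismProperty.monomorphisms (Sp S)) sq ‹_›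
  haveI : Mono snd := (yon S).mono_of_mono_map inferInstance
  haveI : Mono snd.left := (Over.forget S).map_mono snd
  exact (IsClosedImmersion.iff_isProper_and_mono snd.left).2 ⟨{ }, inferInstance⟩

theorem isProperMor_diag_of_separated {f : F ⟶ G} (h : IsSeparatedMor f) :
    IsProperMor (pullback.diagonal f) :=
  isProperMor_of_repWith (repWith_mono (fun _ _ k hk => by have : IsClosedImmersion k := hk; exact inferInstance) h)

theorem isSeparatedMor_iff_univClosed_diag (hF : IsAlgSpace F) (f : F ⟶ G) :
    IsSeparatedMor f ↔ IsUnivClosedMor (pullback.diagonal f) :=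
  ⟨fun h => (isProperMor_diag_of_separated h).2.2, isSeparatedMor_of_univClosed_diag hF f⟩

theorem isSeparatedMor_iff_proper_diag (hF : IsAlgSpace F) (f : F ⟶ G) :
    IsSeparatedMor f ↔ IsProperMor (pullback.diagonal f) :=
  ⟨isProperMor_diag_of_separated, fun h => isSeparatedMor_of_univClosed_diag hF f h.2.2⟩

end Groth.Agent.ASp
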