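import Groth.Agent.ASp.AffMor
import Groth.Agent.ASp.Univ
/-!
Graph factorisation, composition of diagonals, properness from representable properness.
-/

set_option backward.isDefEq.respectTransparency.types false

universe u

open CategoryTheory CategoryTheory.Limits AlgebraicGeometry Opposite

namespace Groth.Agent.ASp

open _root_.AlgSp

variable {S : Scheme.{u}}

theorem graph_fac {P : MorphismProperty Scheme.{u}} [P.IsStableUnderBaseChange] [P.IsStableUnderComposition]
    [P.RespectsIso] {X Y B : Sp S} {g : X ⟶ Y} {q : Y ⟶ B} {p : X ⟶ B} (comm : g ≫ q = p)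
    (hp : RepWith P p) (hd : RepWith P (pullback.diagonal q)) : RepWith P g := by
  let Γ : X ⟶ pullback p q := pullback.lift (𝟙 X) g (by rw [Category.id_comp, comm])
  have h1 : RepWith P (pullback.snd p q) := repWith_of_isPullback (IsPullback.of_hasPullback p q) hp
  have h2 : IsPullback g Γ (pullback.diagonal q) (pullback.map p q q q g (𝟙 Y) (𝟙 B) (by simp [comm]) (by simp)) := by
    subst comm
    exact pullback_lift_diagonal_isPullback g q
  have h3 : Γ ≫ pullback.snd p q = g := pullback.lift_snd _ _ _
  rw [← h3]
  exact repWith_comp (repWith_of_isPullback h2 hd) h1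

theorem isProperMor_of_repWith {X Y : Sp S} {f : X ⟶ Y} (h : RepWith @IsProper f) : IsProperMor f :=
  ⟨(isSeparatedMor_iff h.1).2 (repWith_mono (fun _ _ k hk => by have : IsProper k := hk; infer_instance) h),
    ⟨locP_of_repWith (repWith_mono (fun _ _ k hk => by have : IsProper k := hk; infer_instance) h),
      isQuasiCompactMor_of_repWith (repWith_mono (fun _ _ k hk => by have : IsProper k := hk; infer_instance) h)⟩,
    (repWith_universallyClosed_iff h.1).1
      (repWith_mono (fun _ _ k hk => by have : IsProper k := hk; infer_instance) h)⟩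

theorem isPullback_map_comp {X Y Z : Sp S} (f : X ⟶ Y) (g : Y ⟶ Z) :
    ∃ m : pullback f f ⟶ pullback (f ≫ g) (f ≫ g), pullback.diagonal (f ≫ g) = pullback.diagonal f ≫ m ∧
      IsPullback (pullback.fst f f ≫ f) m (pullback.diagonal g)
        (pullback.map (f ≫ g) (f ≫ g) g g f f (𝟙 Z) (by simp) (by simp)) :=
  ⟨pullback.map f f (f ≫ g) (f ≫ g) _ _ g (Category.id_comp _).symm (Category.id_comp _).symm,
    by
      apply pullback.hom_ext
      · rw [pullback.diagonal_fst, Category.assoc, pullback.map, pullback.lift_fst, Category.comp_id, pullback.diagonal_fst]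
      · rw [pullback.diagonal_snd, Category.assoc, pullback.map, pullback.lift_snd, Category.comp_id, pullback.diagonal_snd], pullback_map_diagonal_isPullback f f g⟩

end Groth.Agent.ASp
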