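import Groth.Agent.ASp.LocP
import Groth.Agent.ASp.Points
import Groth.Prelude.Def_AlgSpCov
/-!
Descent of properties of morphisms of algebraic spaces along coverings of the source.
-/

set_option backward.isDefEq.respectTransparency.types false

universe u

open CategoryTheory CategoryTheory.Limits AlgebraicGeometry Opposite

namespace Groth.Agent.ASp

open _root_.AlgSp

variable {S : Scheme.{u}}

/-- A jointly surjective family of maps with property `Q` on charts covers every etale chart by a scheme. -/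
theorem exists_source_cover {P Q : MorphismProperty Scheme.{u}} [IsEtLocal P]
    [IsZariskiLocalAtSource P] [IsZariskiLocalAtSource Q]
    {ι : Type u} {X Y : Sp S} {Xi : ι → Sp S} {g : ∀ i, Xi i ⟶ X} {f : X ⟶ Y}
    (hXi : ∀ i, IsAlgSpace (Xi i)) (hsurj : ∀ x : Points X, ∃ i, x ∈ Set.range (Points.map (g i)))
    (hg : ∀ i, LocP Q (g i)) (h : ∀ i, LocP P (g i ≫ f))
    {U V : Over S} {a : (yon S).obj U ⟶ X} {b : (yon S).obj V ⟶ Y} {k : U ⟶ V}
    (ha : RepWith @Etale a) (hb : RepWith @Etale b) (e : a ≫ f = (yon S).map k ≫ b) :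
    ∃ (T : Scheme.{u}) (t : T ⟶ U.left), Q t ∧ Surjective t ∧ P (t ≫ k.left) := by
  choose A p hpe hps using fun i => (hXi i).atlas
  choose B t b₁ hB using fun i => exists_isPullback_yon ha.1 (p i ≫ g i)
  have hb₁ : ∀ i, Etale (b₁ i).left := fun i => ha.2 _ _ _ (hB i)
  have hBp : ∀ i, RepWith @Etale ((yon S).map (b₁ i) ≫ p i) := fun i =>
    repWith_comp (repWith_yon_map (hb₁ i)) (hpe i)
  refine ⟨∐ fun i => (B i).left, Limits.Sigma.desc fun i => (t i).left, ?_, ⟨fun u => ?_⟩, ?_⟩
  · rw [IsZariskiLocalAtSource.iff_of_openCover (P := Q) (sigmaOpenCover fun i => (B i).left)]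
    intro i
    have e' : (sigmaOpenCover fun i => (B i).left).f i ≫ (Limits.Sigma.desc fun i => (t i).left) =
        (t i).left := Sigma.ι_desc _ _
    rw [e']
    exact hg i ((yon S).map (b₁ i) ≫ p i) a (t i) (hBp i) ha
      (by rw [Category.assoc]; exact (hB i).w.symm)
  · obtain ⟨i, x, hx⟩ := hsurj (Points.ofPt a u)
    obtain ⟨v, rfl⟩ := surjective_ofPt (hps i) x
    rw [Points.map_ofPt] at hx
    obtain ⟨w, hw, -⟩ := (ofPt_eq_ofPt_iff (hB i) u v).1 hx.symm
    refine ⟨Sigma.ι (fun i => (B i).left) i w, ?_⟩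
    rw [← Scheme.Hom.comp_apply, Sigma.ι_desc]
    exact hw
  · rw [IsZariskiLocalAtSource.iff_of_openCover (P := P) (sigmaOpenCover fun i => (B i).left)]
    intro i
    have e' : (sigmaOpenCover fun i => (B i).left).f i ≫ (Limits.Sigma.desc fun i => (t i).left) =
        (t i).left := Sigma.ι_desc _ _
    rw [← Category.assoc, e']
    change P (t i ≫ k).left
    exact h i ((yon S).map (b₁ i) ≫ p i) b (t i ≫ k) (hBp i) hb
      (by rw [Functor.map_comp, Category.assoc, Category.assoc, ← e]
          simpa using ((hB i).w =≫ f).symm)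

theorem isLocalOnSource_locP_etale {P : MorphismProperty Scheme.{u}} [IsEtLocal P] [IsZariskiLocalAtSource P] :
    IsLocalOnSource (IsEtCover (S := S)) (LocP P) := by
  intro ι X Xi g hX hXi hτ Y f hY
  have hg : ∀ i, LocP @Etale (g i) := fun i => (isEtaleMor_iff_locP hX).1 (hτ.1 i)
  refine ⟨fun h i => locP_comp hX ?_ h, fun h U V a b k ha hb e => ?_⟩
  · exact fun U V a b k ha hb e => IsEtLocal.etale_le _ (hg i a b k ha hb e)
  · obtain ⟨T, t, ht, hts, htk⟩ := exists_source_cover hXi hτ.2 hg h ha hb e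
    exact IsEtLocal.of_precomp t k.left ht hts htk

end Groth.Agent.ASp
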