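import Groth.Agent.EtDescent.Smooth
import Groth.Agent.ASp.Fpqc
import Groth.Agent.ASp.Source
/-!
Smoothness is local for the etale topology on the source and target.
-/

set_option backward.isDefEq.respectTransparency.types false

universe u

open CategoryTheory CategoryTheory.Limits AlgebraicGeometry

namespace Groth.Agent.ASp

instance : IsEtLocal @Smooth.{u} where
  etale_le f h := by have : Etale f := h; infer_instance
  of_precomp f g _ _ h := by have : Smooth (f ≫ g) := h; exact EtDescent.smooth_of_precomp f g

end Groth.Agent.ASp
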