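import Groth.Agent.ASp.Fpqc
import Groth.Agent.ASp.Morph
import Groth.Agent.ASp.Sheaf
/-!
Diagonals of morphisms of algebraic spaces; descent of representable properties.
-/

set_option backward.isDefEq.respectTransparency.types false

universe u

open CategoryTheory CategoryTheory.Limits AlgebraicGeometry Opposite

namespace Groth.Agent.ASp

open _root_.AlgSp

attribute [local simp] prod.lift_fst prod.lift_snd prod.lift_fst_assoc prod.lift_snd_assoc pullback.lift_fst
  pullback.lift_snd pullback.lift_fst_assoc pullback.lift_snd_assoc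

variable {S : Scheme.{u}}

/-- If `f ≫ m` is representable and `m` is a monomorphism then `f` is representable. -/
lemma representable_of_comp_mono {F G H : Sp S} {f : F ⟶ G} (m : G ⟶ H) [Mono m]
    (h : Representable (f ≫ m)) : Representable f := by
  intro U g
  obtain ⟨V, fst, snd, hV⟩ : ∃ (V : Over S) (fst : (yon S).obj V ⟶ F) (snd : V ⟶ U),
      IsPullback fst ((yon S).map snd) (f ≫ m) (g ≫ m) := ⟨_, _, _, h.isPullback (g ≫ m)⟩
  have hw : fst ≫ f = (yon S).map snd ≫ g := (cancel_mono m).1 (by simpa using hV.w)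
  refine ⟨V, snd, fst, IsPullback.of_isLimit' ⟨hw⟩ ?_⟩
  exact PullbackCone.IsLimit.mk _
    (fun s => hV.lift s.fst s.snd (by simp [s.condition_assoc]))
    (fun s => hV.lift_fst _ _ _) (fun s => hV.lift_snd _ _ _)
    (fun s l h1 h2 => hV.hom_ext (by simp [h1]) (by simp [h2]))

lemma representable_diagonal {F G : Sp S} (hF : Representable (Limits.diag F)) (f : F ⟶ G) :
    Representable (pullback.diagonal f) := by
  have : Mono (prod.lift (pullback.fst f f) (pullback.snd f f)) := ⟨fun a b hab => pullback.hom_ext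
    (by simpa using congrArg (· ≫ prod.fst) hab) (by simpa using congrArg (· ≫ prod.snd) hab)⟩
  refine representable_of_comp_mono (prod.lift (pullback.fst f f) (pullback.snd f f)) ?_
  have e : pullback.diagonal f ≫ prod.lift (pullback.fst f f) (pullback.snd f f) = Limits.diag F := by
    apply prod.hom_ext <;> simp
  rw [e]
  exact hF

/-- The diagonal of a base change is a base change of the diagonal. -/
lemma isPullback_diagonal_baseChange {F G F' G' : Sp S} {f : F ⟶ G} {g : G' ⟶ G} {p : F' ⟶ G'}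
    {q : F' ⟶ F} (h : IsPullback q p f g) :
    ∃ s : pullback p p ⟶ pullback f f,
      IsPullback q (pullback.diagonal p) (pullback.diagonal f) s ∧
      IsPullback s (pullback.fst p p ≫ p) (pullback.fst f f ≫ f) g := by
  let s : pullback p p ⟶ pullback f f := pullback.lift (pullback.fst p p ≫ q) (pullback.snd p p ≫ q)
    (by rw [Category.assoc, Category.assoc, h.w, pullback.condition_assoc])
  have hA : IsPullback s (pullback.fst p p) (pullback.fst f f) q := by
    refine IsPullback.of_right (h₁₂ := pullback.snd f f) (v₁₃ := f) (h₂₂ := f) ?_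
      (pullback.lift_fst _ _ _) (IsPullback.of_hasPullback f f).flip
    rw [pullback.lift_snd, h.w]
    exact (IsPullback.of_hasPullback p p).flip.paste_horiz h
  refine ⟨s, IsPullback.of_bot (h₃₁ := q) (v₂₁ := pullback.fst p p) (v₂₂ := pullback.fst f f) ?_ ?_ hA,
    hA.paste_vert h⟩
  · simp only [pullback.diagonal_fst]
    exact IsPullback.of_vert_isIso ⟨by simp⟩
  · apply pullback.hom_ext <;> simp [s]

/-- A property of representable maps descends along fpqc coverings of the base. -/
theorem repWith_of_fpqc {P : MorphismProperty Scheme.{u}}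
    [P.DescendsAlong (@Surjective ⊓ @Flat ⊓ @QuasiCompact)] [IsZariskiLocalAtTarget P]
    {ι : Type u} {X Y : Sp S} {f : X ⟶ Y} {Yi Xi : ι → Sp S} {g : ∀ i, Yi i ⟶ Y}
    {p : ∀ i, Xi i ⟶ Yi i} {q : ∀ i, Xi i ⟶ X} (hf : Representable f)
    (hsq : ∀ i, IsPullback (q i) (p i) f (g i)) (hτ : IsFpqcCover Yi g)
    (h : ∀ i, RepWith P (p i)) : RepWith P f := by
  refine ⟨hf, fun V U b fst snd sq => prop_of_fpqc hτ b snd fun W T c t r sq' i l hl => ?_⟩
  have hbig : IsPullback ((yon S).map t ≫ fst) ((yon S).map r) f (l ≫ g i) := by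
    rw [hl]
    exact (isPullback_yon_map sq').paste_horiz sq
  refine (h i).2 l ((hsq i).lift ((yon S).map t ≫ fst) ((yon S).map r ≫ l) (by rw [hbig.w, Category.assoc])) r
    (IsPullback.of_right ?_ ((hsq i).lift_snd _ _ _) (hsq i))
  rw [(hsq i).lift_fst]
  exact hbig

/-- An fpqc covering pulls back to an fpqc covering. -/
theorem isFpqcCover_baseChange {ι : Type u} {Y Z : Sp S} {Yi Zi : ι → Sp S} {g : ∀ i, Yi i ⟶ Y}
    {c : Z ⟶ Y} {cz : ∀ i, Zi i ⟶ Yi i} {gz : ∀ i, Zi i ⟶ Z} (hY : IsAlgSpace Y) (hZ : IsAlgSpace Z)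
    (hYi : ∀ i, IsAlgSpace (Yi i)) (hsq : ∀ i, IsPullback (cz i) (gz i) (g i) c)
    (hτ : IsFpqcCover Yi g) : IsFpqcCover Zi gz := by
  refine ⟨fun i => locP_of_isPullback (hsq i).flip (hYi i) hY hZ (hτ.1 i), fun V hV h => ?_⟩
  obtain ⟨m, W, e, h1, h2, h3, h4⟩ := hτ.2 V hV (h ≫ c)
  refine ⟨m, W, e, h1, h2, h3, fun j => ?_⟩
  obtain ⟨i, l, hl⟩ := h4 j
  exact ⟨i, (hsq i).lift l ((yon S).map (e j) ≫ h) (by rw [hl, Category.assoc]), (hsq i).lift_snd _ _ _⟩

/-- Diagonal conditions descend along fpqc coverings of the base. -/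
theorem repWith_diagonal_of_fpqc {P : MorphismProperty Scheme.{u}}
    [P.DescendsAlong (@Surjective ⊓ @Flat ⊓ @QuasiCompact)] [IsZariskiLocalAtTarget P]
    {ι : Type u} {X Y : Sp S} {f : X ⟶ Y} {Yi Xi : ι → Sp S} {g : ∀ i, Yi i ⟶ Y}
    {p : ∀ i, Xi i ⟶ Yi i} {q : ∀ i, Xi i ⟶ X} (hX : IsAlgSpace X) (hY : IsAlgSpace Y)
    (hYi : ∀ i, IsAlgSpace (Yi i)) (hsq : ∀ i, IsPullback (q i) (p i) f (g i)) (hτ : IsFpqcCover Yi g)
    (h : ∀ i, RepWith P (pullback.diagonal (p i))) : RepWith P (pullback.diagonal f) := by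
  choose s h1 h2 using fun i => isPullback_diagonal_baseChange (hsq i)
  exact repWith_of_fpqc (representable_diagonal hX.diag f) h1
    (isFpqcCover_baseChange hY (isAlgSpace_pullback hY.diag hX hX f f) hYi (fun i => (h2 i).flip) hτ) h

lemma mono_iff_repWith_diagonal {F G : Sp S} {f : F ⟶ G} :
    Mono f ↔ RepWith (MorphismProperty.isomorphisms Scheme.{u}) (pullback.diagonal f) := by
  refine ⟨fun _ => repWith_diagonal_of_mono _, fun h => ?_⟩
  haveI : IsIso (pullback.diagonal f) := isIso_of_repWith h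
  refine ⟨fun a b hab => ?_⟩
  obtain ⟨l, hl⟩ : ∃ l, l ≫ pullback.diagonal f = pullback.lift a b hab :=
    ⟨pullback.lift a b hab ≫ inv (pullback.diagonal f), by simp⟩
  have h1 := congrArg (· ≫ pullback.fst f f) hl
  have h2 := congrArg (· ≫ pullback.snd f f) hl
  simp at h1 h2
  exact h1.symm.trans h2

end Groth.Agent.ASp
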