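import Groth.Agent.ASp.MonoScheme
import Groth.Agent.ASp.Fpqc
import Groth.Agent.FpqcDesc.Basic
/-!
Immersions descend along fppf coverings.
-/

set_option backward.isDefEq.respectTransparency.types false

universe u

open CategoryTheory CategoryTheory.Limits AlgebraicGeometry Opposite MorphismProperty

namespace Groth.Agent.ASp

open _root_.AlgSp

theorem isImmersion_descends :
    DescendsAlong @IsImmersion (@Surjective ⊓ @Flat ⊓ @LocallyOfFinitePresentation : MorphismProperty Scheme.{u}) := by
  have := Groth.Agent.FpqcDesc.isClosedImmersion_descends.{u}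
  apply DescendsAlong.mk'
  intro Y W X c f _ hc h
  have hcs : Surjective c := hc.1.1
  have hcf : Flat c := hc.1.2
  have hcl : LocallyOfFinitePresentation c := hc.2
  have hf' : IsImmersion (pullback.fst c f) := h
  let U : X.Opens := ⟨coborder (Set.range f), by
    have e : c ⁻¹' Set.range f = Set.range (pullback.fst c f) := (Scheme.Pullback.range_fst c f).symm
    have h1 : IsOpen (c ⁻¹' coborder (Set.range f)) := by
      rw [← coborder_preimage c.isOpenMap c.continuous, e]
      exact (pullback.fst c f).isLocallyClosed_range.isOpen_coborder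
    have h2 : coborder (Set.range f) = c '' (c ⁻¹' coborder (Set.range f)) :=
      (Set.image_preimage_eq _ c.surjective).symm
    rw [h2]
    exact c.isOpenMap _ h1⟩
  have hU : Set.range f ⊆ Set.range U.ι := by
    rw [Scheme.Opens.range_ι]; exact subset_coborder
  let g : W ⟶ U.toScheme := IsOpenImmersion.lift U.ι f hU
  have hg : g ≫ U.ι = f := IsOpenImmersion.lift_fac _ _ _
  let Y' := pullback c U.ι
  let g' : pullback (pullback.snd c U.ι) g ⟶ Y' := pullback.fst _ _
  have sq : IsPullback g' (pullback.snd (pullback.snd c U.ι) g) (pullback.snd c U.ι) g := IsPullback.of_hasPullback _ _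
  have sq2 : IsPullback (g' ≫ pullback.fst c U.ι) (pullback.snd (pullback.snd c U.ι) g) c f := by
    rw [← hg]
    exact sq.paste_horiz (IsPullback.of_hasPullback c U.ι) |> fun h => h
  have : IsImmersion (g' ≫ pullback.fst c U.ι) := by
    rw [← sq2.isoPullback_hom_fst]; infer_instance
  have : IsImmersion g' := IsImmersion.of_comp g' (pullback.fst c U.ι)
  have : IsClosedImmersion g' := by
    refine IsClosedImmersion.of_isPreimmersion g' ?_
    rw [Scheme.Pullback.range_fst]
    refine IsClosed.preimage (pullback.snd c U.ι).continuous ?_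
    have e : Set.range g = U.ι ⁻¹' Set.range f := by
      rw [← hg]
      ext y
      constructor
      · rintro ⟨w, rfl⟩; exact ⟨w, rfl⟩
      · rintro ⟨w, hw⟩; exact ⟨w, U.ι.isOpenEmbedding.injective hw⟩
    rw [e]
    exact isClosed_preimage_val_coborder
  have hQ : (@Surjective ⊓ @Flat ⊓ @LocallyOfFinitePresentation : MorphismProperty Scheme.{u}) (pullback.snd c U.ι) :=
    MorphismProperty.pullback_snd _ _ hc
  have : IsClosedImmersion g := MorphismProperty.of_isPullback_of_descendsAlong sq hQ ‹IsClosedImmersion g'›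
  rw [← hg]
  infer_instance

variable {S : Scheme.{u}}

/-- Monomorphisms locally of finite type become representable by descent along fppf coverings of schemes. -/
theorem representable_of_mono_fppf {X Y : Sp S} {f : X ⟶ Y} [Mono f]
    (h : ∀ ⦃T : Over S⦄ (g : (yon S).obj T ⟶ Y), ∃ (W : Over S) (c : W ⟶ T) (V : Over S) (v : V ⟶ W)
      (fst : (yon S).obj V ⟶ X), Flat c.left ∧ LocallyOfFinitePresentation c.left ∧ Surjective c.left ∧
      LocallyOfFiniteType v.left ∧ IsPullback fst ((yon S).map v) f ((yon S).map c ≫ g)) : Representable f := by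
  intro T g
  obtain ⟨W, c, V, v, fst, h1, h2, h3, h4, sq⟩ := h g
  obtain ⟨XT, a, x, hXT⟩ : ∃ (XT : Sp S) (a : XT ⟶ X) (x : XT ⟶ (yon S).obj T),
      IsPullback a x f g := ⟨_, _, _, IsPullback.of_hasPullback _ _⟩
  have : Mono x := ⟨fun p q hpq => hXT.hom_ext ((cancel_mono f).1 (by
    rw [Category.assoc, Category.assoc, hXT.w, reassoc_of% hpq])) hpq⟩
  have sq' : IsPullback (hXT.lift fst ((yon S).map v ≫ (yon S).map c) (by rw [sq.w, Category.assoc]))
      ((yon S).map v) x ((yon S).map c) := by
    refine IsPullback.of_right ?_ (hXT.lift_snd _ _ _) hXT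
    rw [hXT.lift_fst]
    exact sq
  obtain ⟨P, ⟨φ⟩⟩ := exists_scheme_of_mono x c v _ sq'
  obtain ⟨i₀, hi₀⟩ := (yon S).map_surjective (φ.hom ≫ x)
  refine ⟨P, i₀, φ.hom ≫ a, ?_⟩
  rw [hi₀]
  exact IsPullback.of_iso hXT φ.symm (Iso.refl _) (Iso.refl _) (Iso.refl _) (by simp) (by simp) (by simp) (by simp)

end Groth.Agent.ASp
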