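import Groth.Agent.ASp.ValCompact
import Groth.Agent.ASp.SepDiag
import Groth.Agent.ASt.Local

/-!
Cancellation for universally closed, quasi-compact and separated morphisms of algebraic spaces.
-/

set_option backward.isDefEq.respectTransparency false
set_option backward.isDefEq.respectTransparency.types false

universe u

open CategoryTheory CategoryTheory.Limits AlgebraicGeometry Opposite

namespace Groth.Agent.ASp

open _root_.AlgSp

variable {S : Scheme.{u}}

theorem univSp_baseChange {Q : MorphismProperty (Sp S)} {X Y X' Y' : Sp S} {f : X ⟶ Y} {g : Y' ⟶ Y}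
    {g' : X' ⟶ X} {f' : X' ⟶ Y'} (h : IsPullback g' f' f g) (hf : UnivSp Q f) : UnivSp Q f' :=
  fun _ _ hZ k a b sq => hf hZ (k ≫ g) (a ≫ g') b (sq.paste_horiz h)

theorem univClosed_comp {X Y Z : Sp S} {f : X ⟶ Y} {g : Y ⟶ Z} (hY : IsAlgSpace Y) (hZ : IsAlgSpace Z)
    (hf : IsUnivClosedMor f) (hg : IsUnivClosedMor g) : IsUnivClosedMor (f ≫ g) :=
  Groth.Agent.ASt.univSp_comp (fun _ _ _ _ _ => Groth.Agent.ASt.isClosedMor_comp) hY hZ hf hg

theorem quasiCompact_baseChange {X Y X' Y' : Sp S} {f : X ⟶ Y} {g : Y' ⟶ Y}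
    {g' : X' ⟶ X} {f' : X' ⟶ Y'} (h : IsPullback g' f' f g) (hf : IsQuasiCompactMor f) : IsQuasiCompactMor f' :=
  fun _ _ hZ hZc k a b sq => hf hZ hZc (k ≫ g) (a ≫ g') b (sq.paste_horiz h)

theorem univClosed_closed {X Y : Sp S} {f : X ⟶ Y} (hY : IsAlgSpace Y) (hf : IsUnivClosedMor f) :
    IsClosedMap (Points.map f) := by
  have h := hf hY (𝟙 Y) (𝟙 X) f (IsPullback.of_horiz_isIso ⟨by simp⟩)
  exact h

/-- Universal closedness cancels a surjective map on the source. -/
theorem univClosed_of_comp_surjective {X Y B : Sp S} (f : X ⟶ Y) (q : Y ⟶ B)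
    (hp : IsUnivClosedMor (f ≫ q)) (hf : Function.Surjective (Points.map f)) : IsUnivClosedMor q := by
  intro Z Z' hZ k a b sq C hC
  have h1 : IsPullback (pullback.fst f a) (pullback.snd f a ≫ b) (f ≫ q) k :=
    (IsPullback.of_hasPullback f a).paste_vert sq
  have h2 := surjective_map_of_isPullback (IsPullback.of_hasPullback f a) hf
  have e : Points.map b '' C = Points.map (pullback.snd f a ≫ b) '' (Points.map (pullback.snd f a) ⁻¹' C) := by
    have e' : Points.map (pullback.snd f a ≫ b) = Points.map b ∘ Points.map (pullback.snd f a) :=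
      funext (Points.map_comp _ _)
    rw [e', Set.image_comp, Set.image_preimage_eq _ h2]
  rw [e]
  exact hp hZ k _ _ h1 _ (hC.preimage (Points.continuous_map _))

/-- Quasi-compactness cancels a surjective map on the source. -/
theorem quasiCompact_of_comp_surjective {X Y B : Sp S} (hY : IsAlgSpace Y) (hB : IsAlgSpace B)
    (f : X ⟶ Y) (q : Y ⟶ B) (hp : IsQuasiCompactMor (f ≫ q))
    (hf : Function.Surjective (Points.map f)) : IsQuasiCompactMor q := by
  intro Z Z' hZ hZc k a b sq
  have h1 : IsPullback (pullback.fst f a) (pullback.snd f a ≫ b) (f ≫ q) k :=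
    (IsPullback.of_hasPullback f a).paste_vert sq
  have h2 := surjective_map_of_isPullback (IsPullback.of_hasPullback f a) hf
  have := compactSpace_of_isQuasiCompactSp (hp hZ hZc k _ _ h1)
  have : CompactSpace (Points Z') := h2.compactSpace (Points.continuous_map _)
  exact isQuasiCompactSp_of_compactSpace (isAlgSpace_of_isPullback hB.diag hY hZ sq)

theorem repWith_le_univClosed {X Y : Sp S} {f : X ⟶ Y} (h : RepWith @IsClosedImmersion f) : IsUnivClosedMor f :=
  (repWith_universallyClosed_iff h.1).1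
    (repWith_mono (fun _ _ k hk => by have : IsClosedImmersion k := hk; exact (inferInstance : UniversallyClosed k)) h)

theorem repWith_le_quasiCompact {X Y : Sp S} {f : X ⟶ Y} (h : RepWith @IsClosedImmersion f) : IsQuasiCompactMor f :=
  isQuasiCompactMor_of_repWith
    (repWith_mono (fun _ _ k hk => by have : IsClosedImmersion k := hk; exact (inferInstance : QuasiCompact k)) h)

theorem repWith_le_lft {X Y : Sp S} {f : X ⟶ Y} (h : RepWith @IsClosedImmersion f) :
    LocP @LocallyOfFiniteType f :=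
  locP_of_repWith (repWith_mono
    (fun _ _ k hk => by have : IsClosedImmersion k := hk; exact (inferInstance : LocallyOfFiniteType k)) h)

theorem repWith_le_separated {X Y : Sp S} {f : X ⟶ Y} (h : RepWith @IsClosedImmersion f) : IsSeparatedMor f :=
  (isSeparatedMor_iff h.1).2
    (repWith_mono (fun _ _ k hk => by have : IsClosedImmersion k := hk; exact (inferInstance : IsSeparated k)) h)

theorem proper_of_closedImmersion {X Y : Sp S} {f : X ⟶ Y} (h : RepWith @IsClosedImmersion f) : IsProperMor f :=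
  ⟨repWith_le_separated h, ⟨repWith_le_lft h, repWith_le_quasiCompact h⟩, repWith_le_univClosed h⟩

theorem proper_comp {X Y Z : Sp S} {f : X ⟶ Y} {g : Y ⟶ Z} (hY : IsAlgSpace Y) (hZ : IsAlgSpace Z)
    (hf : IsProperMor f) (hg : IsProperMor g) : IsProperMor (f ≫ g) :=
  ⟨Groth.Agent.ASt.repWith_diagonal_comp hf.1 hg.1,
    ⟨locP_comp hY hf.2.1.1 hg.2.1.1, Groth.Agent.ASt.isQuasiCompactMor_comp hY hZ hf.2.1.2 hg.2.1.2⟩,
    univClosed_comp hY hZ hf.2.2 hg.2.2⟩

theorem proper_baseChange {X Y X' Y' : Sp S} {f : X ⟶ Y} {g : Y' ⟶ Y}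
    {g' : X' ⟶ X} {f' : X' ⟶ Y'} (hX : IsAlgSpace X) (hY : IsAlgSpace Y) (hY' : IsAlgSpace Y')
    (h : IsPullback g' f' f g) (hf : IsProperMor f) : IsProperMor f' := by
  refine ⟨?_, ⟨locP_of_isPullback h.flip hX hY hY' hf.2.1.1, quasiCompact_baseChange h hf.2.1.2⟩,
    univSp_baseChange h hf.2.2⟩
  obtain ⟨s, h1, -⟩ := isPullback_diagonal_baseChange h
  exact repWith_of_isPullback h1 hf.1

/-- The graph of a map into `Y`, relative to `B`, is a base change of the diagonal of `Y` over `B`. -/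
theorem exists_graph {X Y B : Sp S} (f : X ⟶ Y) (q : Y ⟶ B) :
    ∃ (Γ : X ⟶ pullback (f ≫ q) q) (m : pullback (f ≫ q) q ⟶ pullback q q),
      IsPullback f Γ (pullback.diagonal q) m ∧ Γ ≫ pullback.snd (f ≫ q) q = f ∧ Γ ≫ pullback.fst (f ≫ q) q = 𝟙 X :=
  ⟨_, _, pullback_lift_diagonal_isPullback f q, pullback.lift_snd _ _ _, pullback.lift_fst _ _ _⟩

/-- A separated composite with any second map gives a separated first map. -/
theorem separated_of_comp {X Y B : Sp S} (hX : IsAlgSpace X) (f : X ⟶ Y) (q : Y ⟶ B)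
    (h : IsSeparatedMor (f ≫ q)) : IsSeparatedMor f := by
  obtain ⟨m, hm, sqm⟩ := isPullback_map_comp f q
  have : Mono (pullback.diagonal q) := inferInstance
  have : Mono m := MorphismProperty.of_isPullback (P := MorphismProperty.monomorphisms (Sp S)) sqm ‹_›
  refine repWith_of_isPullback (f := pullback.diagonal (f ≫ q)) (g' := 𝟙 X) (g := m) ?_ h
  rw [hm]
  exact IsPullback.of_id_fst.paste_vert (IsKernelPair.id_of_mono m)

/-- A map between spaces over `B` from a universally closed one to a separated one is universally closed. -/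
theorem univClosed_of_comp_separated {X Y B : Sp S} (hX : IsAlgSpace X) (hY : IsAlgSpace Y) (hB : IsAlgSpace B)
    (f : X ⟶ Y) (q : Y ⟶ B) (hq : IsSeparatedMor q) (hp : IsUnivClosedMor (f ≫ q)) : IsUnivClosedMor f := by
  obtain ⟨Γ, m, h, e, -⟩ := exists_graph f q
  rw [← e]
  exact univClosed_comp (isAlgSpace_pullback hB.diag hX hY _ _) hY
    (repWith_le_univClosed (repWith_of_isPullback h hq))
    (univSp_baseChange (IsPullback.of_hasPullback (f ≫ q) q) hp)

theorem quasiCompact_of_comp_separated {X Y B : Sp S} (hX : IsAlgSpace X) (hY : IsAlgSpace Y) (hB : IsAlgSpace B)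
    (f : X ⟶ Y) (q : Y ⟶ B) (hq : IsSeparatedMor q) (hp : IsQuasiCompactMor (f ≫ q)) : IsQuasiCompactMor f := by
  obtain ⟨Γ, m, h, e, -⟩ := exists_graph f q
  rw [← e]
  exact Groth.Agent.ASt.isQuasiCompactMor_comp (isAlgSpace_pullback hB.diag hX hY _ _) hY
    (repWith_le_quasiCompact (repWith_of_isPullback h hq))
    (quasiCompact_baseChange (IsPullback.of_hasPullback (f ≫ q) q) hp)

theorem proper_of_comp_separated {X Y B : Sp S} (hX : IsAlgSpace X) (hY : IsAlgSpace Y) (hB : IsAlgSpace B)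
    (f : X ⟶ Y) (q : Y ⟶ B) (hq : IsSeparatedMor q) (hp : IsProperMor (f ≫ q)) : IsProperMor f := by
  obtain ⟨Γ, m, h, e, -⟩ := exists_graph f q
  rw [← e]
  exact proper_comp (isAlgSpace_pullback hB.diag hX hY _ _) hY
    (proper_of_closedImmersion (repWith_of_isPullback h hq))
    (proper_baseChange hX hB hY (IsPullback.of_hasPullback (f ≫ q) q) hp)

/-- The square of a map with itself, over a common base, followed through one factor at a time. -/
theorem exists_prodSelf {X Y B : Sp S} (f : X ⟶ Y) (q : Y ⟶ B) :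
    ∃ (m₁ : pullback (f ≫ q) (f ≫ q) ⟶ pullback q (f ≫ q)) (m₂ : pullback q (f ≫ q) ⟶ pullback q q),
      IsPullback (pullback.fst (f ≫ q) (f ≫ q)) m₁ f (pullback.fst q (f ≫ q)) ∧
      IsPullback (pullback.snd q (f ≫ q)) m₂ f (pullback.snd q q) ∧
      f ≫ pullback.diagonal q = pullback.diagonal (f ≫ q) ≫ m₁ ≫ m₂ := by
  refine ⟨pullback.lift (pullback.fst _ _ ≫ f) (pullback.snd _ _) (by rw [Category.assoc, pullback.condition]),
    pullback.lift (pullback.fst _ _) (pullback.snd _ _ ≫ f) (by rw [Category.assoc, pullback.condition]), ?_, ?_, ?_⟩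
  · refine IsPullback.of_bot (h₃₁ := f ≫ q) (v₂₁ := pullback.snd q (f ≫ q)) (v₂₂ := q) ?_
      (by rw [pullback.lift_fst]) (IsPullback.of_hasPullback q (f ≫ q))
    rw [pullback.lift_snd]
    exact IsPullback.of_hasPullback (f ≫ q) (f ≫ q)
  · refine IsPullback.of_bot (h₃₁ := q) (v₂₁ := pullback.fst q q) (v₂₂ := q) ?_
      (by rw [pullback.lift_snd]) (IsPullback.of_hasPullback q q).flip
    rw [pullback.lift_fst]
    exact (IsPullback.of_hasPullback q (f ≫ q)).flip
  · apply pullback.hom_ext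
    · simp only [Category.assoc, pullback.diagonal_fst, Category.comp_id, pullback.lift_fst, pullback.lift_fst_assoc]
      rw [pullback.diagonal_fst_assoc]
    · simp only [Category.assoc, pullback.diagonal_snd, Category.comp_id, pullback.lift_snd, pullback.lift_snd_assoc]
      rw [pullback.diagonal_snd_assoc]

section Image

variable {X Z Z' : Sp S}

theorem map_eq_range_of_eq {Y : Sp S} {i : Z ⟶ X} {i' : Z' ⟶ X} (f : X ⟶ Y)
    (heq : Set.range (Points.map i) = Set.range (Points.map i')) :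
    Set.range (Points.map (i ≫ f)) = Set.range (Points.map (i' ≫ f)) := by
  rw [show Points.map (i ≫ f) = Points.map f ∘ Points.map i from funext (Points.map_comp _ _),
    show Points.map (i' ≫ f) = Points.map f ∘ Points.map i' from funext (Points.map_comp _ _),
    Set.range_comp, Set.range_comp, heq]

theorem range_map_snd {P F G : Sp S} {a : P ⟶ Z} {b : P ⟶ F} {i : Z ⟶ G} {p : F ⟶ G} (h : IsPullback a b i p) :
    Set.range (Points.map b) = Points.map p ⁻¹' Set.range (Points.map i) := by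
  ext x
  constructor
  · rintro ⟨y, rfl⟩
    exact ⟨Points.map a y, by rw [← Points.map_comp, h.w, Points.map_comp]⟩
  · rintro ⟨z, hz⟩
    obtain ⟨y, -, hy⟩ := points_exists_of_isPullback h z x hz
    exact ⟨y, hy⟩

/-- Two closed subspaces with the same points: universal closedness transfers. -/
theorem univClosed_of_range_eq {Y : Sp S} (hX : IsAlgSpace X) (hY : IsAlgSpace Y) {i : Z ⟶ X} {i' : Z' ⟶ X}
    (hi' : RepWith @IsClosedImmersion i')
    (heq : Set.range (Points.map i) = Set.range (Points.map i')) (f : X ⟶ Y)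
    (h : IsUnivClosedMor (i ≫ f)) : IsUnivClosedMor (i' ≫ f) := by
  intro T T' hT k a b sq C hC
  obtain ⟨P, p₁, p₂, hP⟩ : ∃ (P : Sp S) (p₁ : P ⟶ X) (p₂ : P ⟶ T), IsPullback p₁ p₂ f k :=
    ⟨_, _, _, IsPullback.of_hasPullback _ _⟩
  obtain ⟨Q, a₁, b₁, hQ⟩ : ∃ (Q : Sp S) (a₁ : Q ⟶ Z) (b₁ : Q ⟶ P), IsPullback a₁ b₁ i p₁ :=
    ⟨_, _, _, IsPullback.of_hasPullback _ _⟩
  obtain ⟨l, hla, hlb⟩ : ∃ l : T' ⟶ P, l ≫ p₁ = a ≫ i' ∧ l ≫ p₂ = b :=
    ⟨hP.lift (a ≫ i') b (by rw [Category.assoc]; exact sq.w), hP.lift_fst _ _ _, hP.lift_snd _ _ _⟩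
  have hl : IsPullback a l i' p₁ := IsPullback.of_bot (by rw [hlb]; exact sq) hla.symm hP
  have hPa : IsAlgSpace P := isAlgSpace_of_isPullback hY.diag hX hT hP
  have hlc : IsClosedMap (Points.map l) :=
    univClosed_closed hPa (repWith_le_univClosed (repWith_of_isPullback hl hi'))
  have hsub : Points.map l '' C ⊆ Set.range (Points.map b₁) := by
    rw [range_map_snd hQ, heq, ← range_map_snd hl]
    exact Set.image_subset_range _ _
  have hpost : Points.map b '' C = Points.map (b₁ ≫ p₂) '' (Points.map b₁ ⁻¹' (Points.map l '' C)) := by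
    rw [show Points.map (b₁ ≫ p₂) = Points.map p₂ ∘ Points.map b₁ from funext (Points.map_comp _ _),
      Set.image_comp, Set.image_preimage_eq_of_subset hsub, ← Set.image_comp,
      show Points.map p₂ ∘ Points.map l = Points.map (l ≫ p₂) from (funext (Points.map_comp _ _)).symm, hlb]
  rw [hpost]
  exact h hT k a₁ (b₁ ≫ p₂) (hQ.paste_vert hP) _ ((hlc _ hC).preimage (Points.continuous_map _))

/-- Two closed subspaces with the same points: quasi-compactness transfers. -/
theorem quasiCompact_of_range_eq {Y : Sp S} (hX : IsAlgSpace X) (hY : IsAlgSpace Y) (hZ' : IsAlgSpace Z')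
    {i : Z ⟶ X} {i' : Z' ⟶ X} (hi' : RepWith @IsClosedImmersion i')
    (heq : Set.range (Points.map i) = Set.range (Points.map i')) (f : X ⟶ Y)
    (h : IsQuasiCompactMor (i ≫ f)) : IsQuasiCompactMor (i' ≫ f) := by
  intro T T' hT hTc k a b sq
  obtain ⟨P, p₁, p₂, hP⟩ : ∃ (P : Sp S) (p₁ : P ⟶ X) (p₂ : P ⟶ T), IsPullback p₁ p₂ f k :=
    ⟨_, _, _, IsPullback.of_hasPullback _ _⟩
  obtain ⟨Q, a₁, b₁, hQ⟩ : ∃ (Q : Sp S) (a₁ : Q ⟶ Z) (b₁ : Q ⟶ P), IsPullback a₁ b₁ i p₁ :=
    ⟨_, _, _, IsPullback.of_hasPullback _ _⟩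
  obtain ⟨l, hla, hlb⟩ : ∃ l : T' ⟶ P, l ≫ p₁ = a ≫ i' ∧ l ≫ p₂ = b :=
    ⟨hP.lift (a ≫ i') b (by rw [Category.assoc]; exact sq.w), hP.lift_fst _ _ _, hP.lift_snd _ _ _⟩
  have hl : IsPullback a l i' p₁ := IsPullback.of_bot (by rw [hlb]; exact sq) hla.symm hP
  have hPa : IsAlgSpace P := isAlgSpace_of_isPullback hY.diag hX hT hP
  have hlr := repWith_of_isPullback hl hi'
  have hemb := (isEmbedding_of_immersion hPa (i := l)
    (repWith_mono (fun _ _ k hk => by have : IsClosedImmersion k := hk; exact (inferInstance : IsImmersion k)) hlr)).1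
  have := compactSpace_of_isQuasiCompactSp (h hT hTc k a₁ (b₁ ≫ p₂) (hQ.paste_vert hP))
  have hcl : IsCompact (Set.range (Points.map b₁)) := isCompact_range (Points.continuous_map _)
  rw [range_map_snd hQ, heq, ← range_map_snd hl, ← Set.image_univ] at hcl
  have : CompactSpace (Points T') := ⟨hemb.isInducing.isCompact_iff.2 hcl⟩
  exact isQuasiCompactSp_of_compactSpace (isAlgSpace_of_isPullback hY.diag hZ' hT sq)

/-- Two closed subspaces with the same points: properness over the base transfers. -/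
theorem proper_of_range_eq {Y : Sp S} (hX : IsAlgSpace X) (hY : IsAlgSpace Y) (hZ' : IsAlgSpace Z')
    {i : Z ⟶ X} {i' : Z' ⟶ X} (hi : RepWith @IsClosedImmersion i) (hi' : RepWith @IsClosedImmersion i')
    (hZ : IsAlgSpace Z) (heq : Set.range (Points.map i) = Set.range (Points.map i')) (f : X ⟶ Y)
    (hf : LocP @LocallyOfFiniteType f) (h : IsProperMor (i ≫ f)) : IsProperMor (i' ≫ f) := by
  refine ⟨?_, ⟨locP_comp hX (repWith_le_lft hi') hf, quasiCompact_of_range_eq hX hY hZ' hi' heq f h.2.1.2⟩,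
    univClosed_of_range_eq hX hY hi' heq f h.2.2⟩
  refine isSeparatedMor_of_univClosed_diag hZ' _ ?_
  have hXX := isAlgSpace_pullback hY.diag hX hX f f
  -- compare inside `X ×_Y X`
  have hZZ := isAlgSpace_pullback hY.diag hZ hZ (i ≫ f) (i ≫ f)
  obtain ⟨m₁, m₂, s₁, s₂, e⟩ := exists_prodSelf i f
  have h1 : IsUnivClosedMor (i ≫ pullback.diagonal f) := by
    rw [e]
    exact univClosed_comp hZZ hXX (isProperMor_diag_of_separated h.1).2.2
      (univClosed_comp (isAlgSpace_pullback hY.diag hX hZ _ _) hXX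
        (univSp_baseChange s₁ (repWith_le_univClosed hi)) (univSp_baseChange s₂ (repWith_le_univClosed hi)))
  have h2 := univClosed_of_range_eq hX hXX hi' heq (pullback.diagonal f) h1
  obtain ⟨n₁, n₂, t₁, t₂, e'⟩ := exists_prodSelf i' f
  haveI : Mono i' := mono_of_repWith (P := @IsClosedImmersion)
    (fun g hg => haveI : IsClosedImmersion g := hg; inferInstance) hi'
  haveI : Mono n₁ := MorphismProperty.of_isPullback (P := MorphismProperty.monomorphisms (Sp S)) t₁ ‹_›
  haveI : Mono n₂ := MorphismProperty.of_isPullback (P := MorphismProperty.monomorphisms (Sp S)) t₂ ‹_›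
  refine univSp_baseChange (g' := 𝟙 Z') (f := i' ≫ pullback.diagonal f) (g := n₁ ≫ n₂) ?_ h2
  rw [e']
  exact IsPullback.of_id_fst.paste_vert (IsKernelPair.id_of_mono (n₁ ≫ n₂))

end Image

end Groth.Agent.ASp
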