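import Groth.Agent.ASp.UnramDiag
import Groth.Agent.ASp.LqfRep
import Groth.Agent.ASp.Points

/-!
Unramified monomorphisms of algebraic spaces.
-/

set_option autoImplicit false
set_option backward.isDefEq.respectTransparency false
set_option backward.isDefEq.respectTransparency.types false

universe u

open CategoryTheory CategoryTheory.Limits AlgebraicGeometry Opposite

namespace Groth.Agent.ASp

open _root_.AlgSp

variable {S : Scheme.{u}} {F G : Sp S} {f : F ⟶ G}

/-- Monomorphisms are universally injective. -/
theorem isUnivInjectiveMor_of_mono [Mono f] : IsUnivInjectiveMor f := by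
  intro T T' hT k a b sq
  haveI : Mono b := MorphismProperty.of_isPullback (P := MorphismProperty.monomorphisms (Sp S)) sq ‹_›
  intro x y h
  obtain ⟨c, hc1, hc2⟩ := points_exists_of_isPullback (IsPullback.of_vert_isIso_mono (f := b) (g := b)
    (fst := 𝟙 T') (snd := 𝟙 T') ⟨rfl⟩) x y h
  rw [← hc1, ← hc2]

/-- Unramified universally injective morphisms are monomorphisms. -/
theorem mono_of_unramified_univInjective (hF : IsAlgSpace F) (hG : IsAlgSpace G)
    (h : LocP (@LocallyOfFiniteType ⊓ @FormallyUnramified) f) (hinj : IsUnivInjectiveMor f) : Mono f := by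
  have hP := isAlgSpace_pullback hG.diag hF hF f f
  have h2 : LocP @Etale (pullback.diagonal f) := locP_of_repWith
    (repWith_mono (fun _ _ g hg => by have : IsOpenImmersion g := hg; exact inferInstance)
      (repWith_diagonal_isOpenImmersion_of_unramified hF hG h))
  have hinj' := hinj hF f _ _ (IsPullback.of_hasPullback f f)
  have hiso : IsIso (pullback.diagonal f) := isIso_of_mono_etale_surjective hF hP _ h2 (fun y =>
    ⟨Points.map (pullback.snd f f) y, hinj' (by
      rw [← Points.map_comp, pullback.diagonal_snd, Points.map_id])⟩)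
  exact pullback.isIso_diagonal_iff f |>.1 hiso

/-- Monomorphisms locally of finite type are unramified. -/
theorem unramified_of_mono [Mono f] (hft : LocP @LocallyOfFiniteType f) :
    LocP (@LocallyOfFiniteType ⊓ @FormallyUnramified) f :=
  locP_unramified_of_diagonal hft (repWith_diagonal_of_mono f)

/-- Unramified morphisms are formally unramified in the lifting sense. -/
theorem isFormallyUnramifiedMor_of_unramified (hF : IsAlgSpace F) (hG : IsAlgSpace G)
    (h : LocP (@LocallyOfFiniteType ⊓ @FormallyUnramified) f) : IsFormallyUnramifiedMor f := by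
  obtain ⟨U, V, p, q, k, hp, hps, hq, hqs, e⟩ := Inf.exists_chart (f := f) hF hG
  exact Inf.isFormallyUnramifiedMor_of_chart hp hps hq e (h p q k hp hq e).2

/-- Formally unramified morphisms locally of finite type are unramified. -/
theorem unramified_of_isFormallyUnramifiedMor (hft : LocP @LocallyOfFiniteType f)
    (h : IsFormallyUnramifiedMor f) : LocP (@LocallyOfFiniteType ⊓ @FormallyUnramified) f :=
  fun U V a b k ha hb e => ⟨hft a b k ha hb e, Inf.locP_formallyUnramified_of h a b k ha hb e⟩

/-- Unramified monomorphisms, in four forms. -/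
theorem unramified_mono_iff (hF : IsAlgSpace F) (hG : IsAlgSpace G) :
    ((LocP (@LocallyOfFiniteType ⊓ @FormallyUnramified) f ∧ Mono f) ↔
      (LocP (@LocallyOfFiniteType ⊓ @FormallyUnramified) f ∧ IsUnivInjectiveMor f)) ∧
    ((LocP (@LocallyOfFiniteType ⊓ @FormallyUnramified) f ∧ Mono f) ↔
      (LocP @LocallyOfFiniteType f ∧ Mono f)) ∧
    ((LocP (@LocallyOfFiniteType ⊓ @FormallyUnramified) f ∧ Mono f) ↔
      (IsUnivInjectiveMor f ∧ LocP @LocallyOfFiniteType f ∧ IsFormallyUnramifiedMor f)) :=
  ⟨⟨fun ⟨h, _⟩ => ⟨h, isUnivInjectiveMor_of_mono⟩,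
      fun ⟨h, hi⟩ => ⟨h, mono_of_unramified_univInjective hF hG h hi⟩⟩,
    ⟨fun ⟨h, hm⟩ => ⟨fun U V a b k ha hb e => (h a b k ha hb e).1, hm⟩,
      fun ⟨h, hm⟩ => ⟨haveI := hm; unramified_of_mono h, hm⟩⟩,
    ⟨fun ⟨h, _⟩ => ⟨isUnivInjectiveMor_of_mono, fun U V a b k ha hb e => (h a b k ha hb e).1,
        isFormallyUnramifiedMor_of_unramified hF hG h⟩,
      fun ⟨hi, hft, hu⟩ => ⟨unramified_of_isFormallyUnramifiedMor hft hu,
        mono_of_unramified_univInjective hF hG (unramified_of_isFormallyUnramifiedMor hft hu) hi⟩⟩⟩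

/-- Monomorphisms are separated. -/
theorem isSeparatedMor_of_mono [Mono f] : IsSeparatedMor f :=
  repWith_diagonal_of_mono (P := @IsClosedImmersion) f

/-- Monomorphisms locally of finite type are representable. -/
theorem representable_of_mono_lft (hF : IsAlgSpace F) (hG : IsAlgSpace G) [Mono f]
    (hft : LocP @LocallyOfFiniteType f) : Representable f :=
  representable_of_sep_lqf hF hG f (locP_lqf_of_mono hft) isSeparatedMor_of_mono

end Groth.Agent.ASp
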