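import Groth.Agent.ASp.LimDescend
import Groth.Agent.ASp.UnramMono
import Groth.Agent.ASp.MonoScheme
import Groth.Agent.ASp.MorCancel
import Groth.Agent.ASp.LqfRep
import Groth.Agent.AffLim.DescendQF
import Groth.Agent.S9920
import Groth.Agent.S9912
import Groth.Agent.S9960
import Groth.Agent.ASp.MonoFlat
import Groth.Agent.FpqcDesc.Basic
/-!
# Universally injective, monomorphisms, isomorphisms, closed immersions, separated and finite morphisms
descend along limits of algebraic spaces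
-/

set_option autoImplicit false
set_option backward.isDefEq.respectTransparency false
set_option backward.isDefEq.respectTransparency.types false

universe u

open CategoryTheory CategoryTheory.Limits AlgebraicGeometry Opposite

noncomputable section

namespace Groth.Agent.ASp

open _root_.AlgSp

variable {S : Scheme.{u}}

theorem isSurjectiveMor_of_isIso {X Y : Sp S} (f : X ⟶ Y) [IsIso f] : IsSurjectiveMor f :=
  fun y => ⟨Points.map (inv f) y, by rw [← Points.map_comp, IsIso.inv_hom_id, Points.map_id]⟩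

theorem isUnivInjective_iff {X Y : Sp S} (hX : IsAlgSpace X) (hY : IsAlgSpace Y) (f : X ⟶ Y) :
    IsUnivInjectiveMor f ↔ IsSurjectiveMor (pullback.diagonal f) :=
  (S9938.result (X := ⟨X, hX⟩) (Y := ⟨Y, hY⟩) (ObjectProperty.homMk f)).2

theorem lfp_diagonal {X Y : Sp S} (hX : IsAlgSpace X) (hY : IsAlgSpace Y) (f : X ⟶ Y)
    (hf : LocP @LocallyOfFiniteType f) : LocP @LocallyOfFinitePresentation (pullback.diagonal f) :=
  (S9960.result (X := ⟨X, hX⟩) (Y := ⟨Y, hY⟩) (ObjectProperty.homMk f) hf).1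

theorem lft_diagonal {X Y : Sp S} (hX : IsAlgSpace X) (f : X ⟶ Y) :
    LocP @LocallyOfFiniteType (pullback.diagonal f) :=
  locP_of_repWith (repWith_diagonal_locallyOfFiniteType hX f)

theorem repWith_quasiCompact_of_qc [QuasiSeparatedSpace ↥S] {X Y : Sp S} (hX : IsAlgSpace X) (hY : IsAlgSpace Y)
    (f : X ⟶ Y) (hf : Representable f) (hXqc : IsQuasiCompactSp X) (hYqs : IsQuasiSeparatedSp Y) :
    RepWith @QuasiCompact f :=
  (S9912.result (X := ⟨X, hX⟩) (Y := ⟨Y, hY⟩) (ObjectProperty.homMk f) hf).2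
    (S9920.result (X := ⟨X, hX⟩) (Y := ⟨Y, hY⟩) (ObjectProperty.homMk f) hXqc hYqs)

theorem qcqs_pullback [QuasiSeparatedSpace ↥S] {X Y Z P : Sp S} {f : X ⟶ Y} {g : Z ⟶ Y} {fst : P ⟶ X}
    {snd : P ⟶ Z} (sq : IsPullback fst snd f g) (hXc : IsQuasiCompactSp X) (hXs : IsQuasiSeparatedSp X)
    (hYs : IsQuasiSeparatedSp Y) (hZc : IsQuasiCompactSp Z) (hZs : IsQuasiSeparatedSp Z) :
    IsQuasiCompactSp P ∧ IsQuasiSeparatedSp P := by
  refine ⟨isQuasiCompactSp_of_isPullback sq hXc hYs hZc, isQuasiSeparatedSp_of_mor (f := snd) hZs ?_⟩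
  obtain ⟨σ, hσ, -⟩ := isPullback_diagonal_baseChange sq
  exact repWith_of_isPullback hσ (isQuasiSeparatedMor_of_sp hXs f)

theorem qcqs_of_isAffineMor {X Y : Sp S} (hX : IsAlgSpace X) (hY : IsAlgSpace Y) {f : X ⟶ Y}
    (hf : IsAffineMor f) (hYc : IsQuasiCompactSp Y) (hYs : IsQuasiSeparatedSp Y) :
    IsQuasiCompactSp X ∧ IsQuasiSeparatedSp X := by
  have hR := repWith_isAffineHom_of_isAffineMor hX hY hf
  refine ⟨?_, isQuasiSeparatedSp_of_mor (f := f) hYs ?_⟩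
  · obtain ⟨V, v, hv, hvs, hV⟩ := hYc
    haveI : IsAffineHom (hR.1.snd v).left := hR.2 v _ _ (hR.1.isPullback v)
    haveI : CompactSpace ↥V.left := hV
    exact ⟨_, hR.1.fst v, repWith_of_isPullback (hR.1.isPullback v).flip hv,
      repWith_of_isPullback (hR.1.isPullback v).flip hvs,
      QuasiCompact.compactSpace_of_compactSpace (hR.1.snd v).left⟩
  · exact (isQuasiSeparatedMor_iff hR.1).2
      (repWith_mono (fun _ _ g (hg : IsAffineHom g) => inferInstanceAs (QuasiSeparated g)) hR)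

/-- A chart of the base change of a representable morphism. -/
theorem exists_chart_lift_rep {X₀ Y₀ Xi Yi : Sp S} {f₀ : X₀ ⟶ Y₀} {V Z E : Over S}
    {v : (yon S).obj V ⟶ Y₀} {a : (yon S).obj Z ⟶ X₀} {z : Z ⟶ V}
    (hZ : IsPullback a ((yon S).map z) f₀ v)
    {pX : Xi ⟶ X₀} {fi : Xi ⟶ Yi} {pY : Yi ⟶ Y₀} (hX : IsPullback pX fi f₀ pY)
    {m : (yon S).obj E ⟶ Yi} {w : E ⟶ V} (hw : m ≫ pY = (yon S).map w ≫ v) :
    ∃ n : (yon S).obj (pullback z w) ⟶ Xi, IsPullback n ((yon S).map (pullback.snd z w)) fi m := by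
  have sU : IsPullback ((yon S).map (pullback.fst z w)) ((yon S).map (pullback.snd z w))
      ((yon S).map z) ((yon S).map w) := isPullback_yon_map (IsPullback.of_hasPullback z w)
  have s := sU.paste_horiz hZ
  rw [← hw] at s
  have e : ((yon S).map (pullback.fst z w) ≫ a) ≫ f₀ = ((yon S).map (pullback.snd z w) ≫ m) ≫ pY := by
    rw [Category.assoc _ m pY]; exact s.w
  exact ⟨hX.lift _ _ e, IsPullback.of_right (by rw [hX.lift_fst]; exact s) (hX.lift_snd _ _ _) hX⟩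

/-- What it means for a property to descend along affine limits of schemes, for morphisms locally of
finite type with affine target and quasi-compact quasi-separated source. -/
def DescendsLimQS (P : MorphismProperty Scheme.{u}) : Prop :=
  ∀ {I : Type u} [SmallCategory I] [IsCofiltered I] (D : I ⥤ Scheme.{u})
    [∀ {i j : I} (f : i ⟶ j), IsAffineHom (D.map f)] (c : Cone D) (_ : IsLimit c) (i₀ : I)
    {X₀ Y₀ X Y : Scheme.{u}} [CompactSpace X₀] [QuasiSeparatedSpace X₀] [IsAffine Y₀]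
    (f₀ : X₀ ⟶ Y₀) (g₀ : Y₀ ⟶ D.obj i₀)
    {f : X ⟶ Y} {g : Y ⟶ c.pt} {qY : Y ⟶ Y₀} {qX : X ⟶ X₀}, LocallyOfFiniteType f₀ →
    IsPullback qY g g₀ (c.π.app i₀) → IsPullback qX f f₀ qY → P f →
    ∃ k : CategoryTheory.Over i₀, P ((AffLim.baseChangeMap D i₀ f₀ g₀).app k)

theorem descendsLimQS_isClosedImmersion : DescendsLimQS.{u} @IsClosedImmersion := by
  intro I _ _ D _ c hc i₀ X₀ Y₀ X Y _ _ _ f₀ g₀ f g qY qX hQ hY hX hP
  haveI : LocallyOfFiniteType f₀ := hQ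
  haveI : IsClosedImmersion f := hP
  exact AffLim.exists_isClosedImmersion_baseChange D c hc i₀ f₀ g₀ hY hX

theorem descendsLimQS_isFinite : DescendsLimQS.{u} @IsFinite := by
  intro I _ _ D _ c hc i₀ X₀ Y₀ X Y _ _ _ f₀ g₀ f g qY qX hQ hY hX hP
  haveI : LocallyOfFiniteType f₀ := hQ
  haveI : IsFinite f := hP
  exact AffLim.exists_isFinite_baseChange D c hc i₀ f₀ g₀ hY hX

theorem descendsLim_lqf : DescendsLim.{u} (@LocallyQuasiFinite ⊓ @LocallyOfFiniteType) @LocallyOfFiniteType := by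
  intro I _ _ D _ c hc i₀ X₀ Y₀ X Y _ _ f₀ g₀ f g qY qX hQ hY hX hP
  haveI : LocallyOfFiniteType f₀ := hQ
  haveI : LocallyQuasiFinite f := hP.1
  obtain ⟨k, hk⟩ := AffLim.exists_locallyQuasiFinite_baseChange D c hc i₀ f₀ g₀ hY hX
  exact ⟨k, hk, MorphismProperty.of_isPullback (AffLim.isPullback_baseChangeMap D i₀ f₀ g₀ k) hQ⟩

variable [QuasiSeparatedSpace ↥S] {I : Type u} [SmallCategory I] [IsCofiltered I]
  (D : I ⥤ Sp S) (hD : ∀ i, IsAlgSpace (D.obj i))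
  (hDa : ∀ (i j : I) (φ : i ⟶ j), IsAffineMor (D.map φ)) (c : Cone D) (hc : IsLimit c) (i₀ : I)
  {X₀ Y₀ : Sp S} (hXa : IsAlgSpace X₀) (hYa : IsAlgSpace Y₀) (f₀ : X₀ ⟶ Y₀) (b₀ : Y₀ ⟶ D.obj i₀)
  (hXqc : IsQuasiCompactSp X₀) (hYqc : IsQuasiCompactSp Y₀) (hYqs : IsQuasiSeparatedSp Y₀)
  {X Y : Sp S} {f : X ⟶ Y} {pY : Y ⟶ Y₀} {qY : Y ⟶ c.pt}
  (hY : IsPullback pY qY b₀ (c.π.app i₀)) {pX : X ⟶ X₀} (hX : IsPullback pX f f₀ pY)

include hD hDa hc hXa hYa hXqc hYqc hYqs hY hX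

/-- A property of representable morphisms which descends for schemes descends for algebraic spaces. -/
theorem exists_stage_repWith {P : MorphismProperty Scheme.{u}} [P.RespectsIso] [P.IsStableUnderBaseChange]
    [P.DescendsAlong (@Surjective ⊓ @Flat ⊓ @QuasiCompact)] [IsZariskiLocalAtTarget P] (H : DescendsLimQS P)
    (hf₀ : RepWith (@LocallyOfFiniteType ⊓ @IsSeparated) f₀) (hf : RepWith P f) :
    ∃ (i : I) (φ : i ⟶ i₀), ∀ (Xi Yi : Sp S) (fi : Xi ⟶ Yi) (pYi : Yi ⟶ Y₀) (qYi : Yi ⟶ D.obj i)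
      (_ : IsPullback pYi qYi b₀ (D.map φ)) (pXi : Xi ⟶ X₀) (_ : IsPullback pXi fi f₀ pYi),
      RepWith P fi := by
  haveI := compactSpace_of_isQuasiCompactSp hYqc
  obtain ⟨V, v, hV, hv, hvs⟩ := exists_affine_chart hYa
  haveI := hV
  obtain ⟨F⟩ := exists_frame D hD hDa c hc i₀ (v ≫ b₀)
  let z := hf₀.1.snd v
  have hZ := hf₀.1.isPullback v
  have hz : (@LocallyOfFiniteType ⊓ @IsSeparated : MorphismProperty Scheme.{u}) z.left := hf₀.2 v _ _ hZ
  haveI : QuasiCompact z.left := (repWith_quasiCompact_of_qc hXa hYa f₀ hf₀.1 hXqc hYqs).2 v _ _ hZ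
  haveI : IsSeparated z.left := hz.2
  haveI : CompactSpace ↥(hf₀.1.pullback v).left := QuasiCompact.compactSpace_of_compactSpace z.left
  haveI : QuasiSeparatedSpace ↥(hf₀.1.pullback v).left := quasiSeparatedSpace_of_quasiSeparated z.left
  -- the chart over the limit
  have eL : ((yon S).map F.wLim ≫ v) ≫ b₀ = F.qLim ≫ c.π.app i₀ := by
    rw [Category.assoc]; exact F.sqLim.w.symm
  have sm : IsPullback (hY.lift _ _ eL) ((yon S).map F.wLim) pY v := by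
    refine IsPullback.of_right (h₁₂ := qY) (h₂₂ := b₀) (v₁₃ := c.π.app i₀) ?_ (hY.lift_fst _ _ _) hY.flip
    rw [hY.lift_snd]; exact F.sqLim
  obtain ⟨n, hn⟩ := exists_chart_lift_rep hZ hX (m := hY.lift _ _ eL) sm.w
  have hP : P (pullback.snd z F.wLim).left := hf.2 _ _ _ hn
  -- descent for the schemes
  haveI : ∀ {k l : CategoryTheory.Over i₀} (φ : k ⟶ l), IsAffineHom ((F.E ⋙ Over.forget S).map φ) :=
    fun φ => F.affine φ
  haveI := F.isIso_w
  let o : CategoryTheory.Over i₀ := CategoryTheory.Over.mk (𝟙 i₀)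
  let g₀ : V.left ⟶ (F.E ⋙ Over.forget S).obj o := inv (F.w o).left
  have hY' : IsPullback F.wLim.left (𝟙 F.cone.pt.left) g₀ (((Over.forget S).mapCone F.cone).π.app o) := by
    refine IsPullback.of_vert_isIso ⟨?_⟩
    rw [← F.π_w o]
    simp [g₀]
  obtain ⟨kk, hkk⟩ := H (F.E ⋙ Over.forget S) _ F.isLimit o z.left g₀ hz.1 hY'
    (isPullback_left (IsPullback.of_hasPullback z F.wLim)) hP
  refine ⟨kk.left.left, kk.left.hom, fun Xi Yi fi pYi qYi hYi pXi hXi => ?_⟩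
  let k : CategoryTheory.Over i₀ := kk.left
  haveI : IsIso g₀ := inferInstanceAs (IsIso (inv (F.w o).left))
  have hkk' : P (pullback.snd z (F.w k)).left := by
    refine (AffLim.prop_iff_of_isPullback P (AffLim.isPullback_baseChangeMap _ o z.left g₀ kk)
      (isPullback_left (IsPullback.of_hasPullback z (F.w k))) (asIso (pullback.snd g₀ _)) ?_).1 hkk
    change pullback.snd g₀ ((F.E.map kk.hom).left) ≫ (F.w k).left = pullback.fst g₀ _
    have h1 : (F.E.map kk.hom).left ≫ (F.w o).left = (F.w k).left := by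
      rw [← Over.comp_left, F.map_w]
    rw [← h1, ← Category.assoc, ← pullback.condition, Category.assoc]
    simp [g₀]
  have ek : ((yon S).map (F.w k) ≫ v) ≫ b₀ = F.q k ≫ D.map k.hom := by
    rw [Category.assoc]; exact (F.sq k).w.symm
  have sk : IsPullback (hYi.lift _ _ ek) ((yon S).map (F.w k)) pYi v := by
    refine IsPullback.of_right (h₁₂ := qYi) (h₂₂ := b₀) (v₁₃ := D.map k.hom) ?_ (hYi.lift_fst _ _ _) hYi.flip
    rw [hYi.lift_snd]; exact F.sq k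
  obtain ⟨n', hn'⟩ := exists_chart_lift_rep hZ hXi (m := hYi.lift _ _ ek) sk.w
  have hYia := isAlgSpace_of_isPullback (hD i₀).diag hYa (hD k.left) hYi
  have hYis := (qcqs_of_isAffineMor hYia hYa
    (isAffineMor_baseChange hYi.flip (hDa _ _ _)) hYqc hYqs).2
  obtain ⟨fl1, fl2⟩ := isEtLocal_of_list @Flat (.inr <| .inr <| .inl rfl)
  haveI : IsAffineHom (F.w k).left := F.affine_w k
  haveI : IsAffine (F.E.obj k).left := isAffine_of_isAffineHom (F.w k).left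
  refine repWith_of_fpqc (representable_of_isPullback hXi hf₀.1) (fun _ : PUnit.{u+1} => hn')
    (isFpqcCover_of_qc_flat (IsAlgSpace.yon_obj _) hYia _
      (S9920.result (X := ⟨_, IsAlgSpace.yon_obj _⟩) (Y := ⟨Yi, hYia⟩) (ObjectProperty.homMk _)
        ⟨F.E.obj k, 𝟙 _, repWith_of_isIso _, repWith_of_isIso _, inferInstance⟩ hYis)
      (locP_of_repWith (repWith_mono (fun _ _ g (hg : Etale g) => inferInstanceAs (Flat g))
        (repWith_of_isPullback sk.flip hv)))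
      (surjective_map_of_repWith (repWith_of_isPullback sk.flip hvs))) (fun _ => repWith_yon_map hkk')

variable (hXqs : IsQuasiSeparatedSp X₀)

include hXqs

omit hc hDa hY hX in
theorem qcqs_diag_target : IsQuasiCompactSp (pullback f₀ f₀) ∧ IsQuasiSeparatedSp (pullback f₀ f₀) :=
  qcqs_pullback (IsPullback.of_hasPullback f₀ f₀) hXqc hXqs hYqs hXqc hXqs

theorem exists_stage_univInjective (hf₀ : LocP @LocallyOfFiniteType f₀) (hf : IsUnivInjectiveMor f) :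
    ∃ (i : I) (φ : i ⟶ i₀), ∀ (Xi Yi : Sp S) (fi : Xi ⟶ Yi) (pYi : Yi ⟶ Y₀) (qYi : Yi ⟶ D.obj i)
      (_ : IsPullback pYi qYi b₀ (D.map φ)) (pXi : Xi ⟶ X₀) (_ : IsPullback pXi fi f₀ pYi),
      IsUnivInjectiveMor fi := by
  have hYc := isAlgSpace_limit_baseChange D hD hDa c hc i₀ hYa b₀ hY
  have hXc := isAlgSpace_of_isPullback hYa.diag hXa hYc hX
  obtain ⟨s, h1, h2⟩ := isPullback_diagonal_baseChange hX
  obtain ⟨hPc, hPs⟩ := qcqs_pullback (IsPullback.of_hasPullback f₀ f₀) hXqc hXqs hYqs hXqc hXqs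
  obtain ⟨i, φ, h⟩ := exists_stage_surjective D hD hDa c hc i₀ hXa (isAlgSpace_pullback hYa.diag hXa hXa f₀ f₀)
    (pullback.diagonal f₀) ((pullback.fst f₀ f₀ ≫ f₀) ≫ b₀) hXqc hPc hPs (h2.paste_vert hY) h1
    (lfp_diagonal hXa hYa f₀ hf₀) ((isUnivInjective_iff hXc hYc f).1 hf)
  refine ⟨i, φ, fun Xi Yi fi pYi qYi hYi pXi hXi => ?_⟩
  have hYia := isAlgSpace_of_isPullback (hD i₀).diag hYa (hD i) hYi
  have hXia := isAlgSpace_of_isPullback hYa.diag hXa hYia hXi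
  obtain ⟨s', h1', h2'⟩ := isPullback_diagonal_baseChange hXi
  exact (isUnivInjective_iff hXia hYia fi).2 (h _ _ _ _ _ (h2'.paste_vert hYi) _ h1')

theorem exists_stage_isIso (hf₀ : LocP @LocallyOfFinitePresentation f₀) (hf : IsIso f) :
    ∃ (i : I) (φ : i ⟶ i₀), ∀ (Xi Yi : Sp S) (fi : Xi ⟶ Yi) (pYi : Yi ⟶ Y₀) (qYi : Yi ⟶ D.obj i)
      (_ : IsPullback pYi qYi b₀ (D.map φ)) (pXi : Xi ⟶ X₀) (_ : IsPullback pXi fi f₀ pYi),
      IsIso fi := by
  have hYc := isAlgSpace_limit_baseChange D hD hDa c hc i₀ hYa b₀ hY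
  have hft : LocP @LocallyOfFiniteType f₀ := fun U V a b h ha hb e => by
    have := hf₀ a b h ha hb e; infer_instance
  obtain ⟨e1, e2⟩ := isEtLocal_of_list @Etale (.inr <| .inr <| .inr <| .inr <| .inl rfl)
  have hfe : IsEtaleMor f := (isEtaleMor_iff_locP hYc).2 (locP_of_repWith (repWith_of_isIso f))
  obtain ⟨i1, φ1, h1⟩ := exists_stage_etale D hD hDa c hc i₀ hXa hYa f₀ b₀ hXqc hYqc hYqs hY hX hf₀ hfe
  obtain ⟨i2, φ2, h2⟩ := exists_stage_surjective D hD hDa c hc i₀ hXa hYa f₀ b₀ hXqc hYqc hYqs hY hX hf₀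
    (isSurjectiveMor_of_isIso f)
  obtain ⟨i3, φ3, h3⟩ := exists_stage_univInjective D hD hDa c hc i₀ hXa hYa f₀ b₀ hXqc hYqc hYqs hY hX
    hXqs hft isUnivInjectiveMor_of_mono
  -- a common stage
  obtain ⟨k, ψ, a1, a2, a3, ea1, ea2, ea3⟩ : ∃ (k : I) (ψ : k ⟶ i₀) (a1 : k ⟶ i1) (a2 : k ⟶ i2) (a3 : k ⟶ i3),
      a1 ≫ φ1 = ψ ∧ a2 ≫ φ2 = ψ ∧ a3 ≫ φ3 = ψ := by
    obtain ⟨j, p, q, e⟩ := IsCofiltered.cospan φ1 φ2
    obtain ⟨k, r, t, e'⟩ := IsCofiltered.cospan (p ≫ φ1) φ3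
    exact ⟨k, r ≫ p ≫ φ1, r ≫ p, r ≫ q, t, Category.assoc _ _ _, by rw [Category.assoc, e], e'.symm⟩
  refine ⟨k, ψ, fun Xi Yi fi pYi qYi hYi pXi hXi => ?_⟩
  have hYia := isAlgSpace_of_isPullback (hD i₀).diag hYa (hD k) hYi
  have hXia := isAlgSpace_of_isPullback hYa.diag hXa hYia hXi
  have hmor : ∀ {A B A' B' : Sp S} {f : A ⟶ B} {g : B' ⟶ B} {f' : A' ⟶ B'} {g' : A' ⟶ A},
      IsPullback g' f' f g → IsAlgSpace A → IsAlgSpace B → IsAlgSpace B' → LocP @Etale f → LocP @Etale f' :=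
    fun sq hA hB hB' h => locP_of_isPullback sq.flip hA hB hB' h
  have g1 : LocP @Etale fi := stage_mono (Q := LocP @Etale) hmor hD hXa hYa a1
    (fun _ _ _ _ _ hY' _ hX' => (isEtaleMor_iff_locP (isAlgSpace_of_isPullback (hD i₀).diag hYa (hD _) hY')).1
      (h1 _ _ _ _ _ hY' _ hX')) Xi Yi fi pYi qYi (by rw [ea1]; exact hYi) pXi hXi
  have g2 : IsSurjectiveMor fi := stage_mono (Q := IsSurjectiveMor)
    (fun sq _ _ _ h => surjective_map_of_isPullback sq h) hD hXa hYa a2 h2 Xi Yi fi pYi qYi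
    (by rw [ea2]; exact hYi) pXi hXi
  have g3 : IsUnivInjectiveMor fi := stage_mono (Q := IsUnivInjectiveMor)
    (fun sq _ _ _ h => univSp_baseChange sq h) hD hXa hYa a3 h3 Xi Yi fi pYi qYi
    (by rw [ea3]; exact hYi) pXi hXi
  obtain ⟨u1, u2⟩ := isEtLocal_of_list (@LocallyOfFiniteType ⊓ @FormallyUnramified : MorphismProperty Scheme.{u})
    (.inr <| .inr <| .inr <| .inr <| .inr <| .inr fun _ _ _ => Iff.rfl)
  haveI : Mono fi := mono_of_unramified_univInjective hXia hYia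
    (fun U V a b h ha hb e => by have := g1 a b h ha hb e; exact ⟨inferInstance, inferInstance⟩) g3
  have ho := repWith_isOpenImmersion_of_mono_etale hXia hYia fi g1
  refine isIso_of_repWith ⟨ho.1, fun {T U} g fst snd sq => ?_⟩
  haveI : IsOpenImmersion snd.left := ho.2 g fst snd sq
  haveI : Surjective snd.left := ⟨fun y => by
    obtain ⟨z, hz⟩ := surjective_map_of_isPullback sq g2 (Points.schemeHomeo _ y)
    obtain ⟨x, rfl⟩ := (Points.schemeHomeo _).surjective z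
    rw [Points.map_yon_map_apply] at hz
    exact ⟨x, (Points.schemeHomeo _).injective hz⟩⟩
  change IsIso snd.left
  haveI : Epi snd.left.base := (TopCat.epi_iff_surjective _).mpr snd.left.surjective
  exact IsOpenImmersion.isIso _

theorem exists_stage_mono (hf₀ : LocP @LocallyOfFiniteType f₀) (hf : Mono f) :
    ∃ (i : I) (φ : i ⟶ i₀), ∀ (Xi Yi : Sp S) (fi : Xi ⟶ Yi) (pYi : Yi ⟶ Y₀) (qYi : Yi ⟶ D.obj i)
      (_ : IsPullback pYi qYi b₀ (D.map φ)) (pXi : Xi ⟶ X₀) (_ : IsPullback pXi fi f₀ pYi),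
      Mono fi := by
  obtain ⟨s, h1, h2⟩ := isPullback_diagonal_baseChange hX
  obtain ⟨hPc, hPs⟩ := qcqs_pullback (IsPullback.of_hasPullback f₀ f₀) hXqc hXqs hYqs hXqc hXqs
  obtain ⟨i, φ, h⟩ := exists_stage_isIso D hD hDa c hc i₀ hXa (isAlgSpace_pullback hYa.diag hXa hXa f₀ f₀)
    (pullback.diagonal f₀) ((pullback.fst f₀ f₀ ≫ f₀) ≫ b₀) hXqc hPc hPs (h2.paste_vert hY) h1 hXqs
    (lfp_diagonal hXa hYa f₀ hf₀) ((pullback.isIso_diagonal_iff f).mpr hf)
  refine ⟨i, φ, fun Xi Yi fi pYi qYi hYi pXi hXi => ?_⟩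
  obtain ⟨s', h1', h2'⟩ := isPullback_diagonal_baseChange hXi
  exact (pullback.isIso_diagonal_iff fi).mp (h _ _ _ _ _ (h2'.paste_vert hYi) _ h1')

omit hDa hc hY hX in
/-- The morphism at a stage has quasi-compact quasi-separated source and target. -/
theorem qcqs_stage {i : I} (φ : i ⟶ i₀) (hφ : IsAffineMor (D.map φ)) :
    (IsQuasiCompactSp (pullback b₀ (D.map φ)) ∧ IsQuasiSeparatedSp (pullback b₀ (D.map φ))) ∧
      (IsQuasiCompactSp (pullback f₀ (pullback.fst b₀ (D.map φ))) ∧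
        IsQuasiSeparatedSp (pullback f₀ (pullback.fst b₀ (D.map φ)))) := by
  have hYi := qcqs_of_isAffineMor (isAlgSpace_pullback (hD i₀).diag hYa (hD i) _ _) hYa
    (isAffineMor_baseChange (IsPullback.of_hasPullback b₀ (D.map φ)).flip hφ) hYqc hYqs
  exact ⟨hYi, qcqs_pullback (IsPullback.of_hasPullback f₀ _) hXqc hXqs hYqs hYi.1 hYi.2⟩

/-- Descent of a property of representable morphisms, once representability holds at some stage. -/
theorem exists_stage_repWith_of_stage {P : MorphismProperty Scheme.{u}} [P.RespectsIso]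
    [P.IsStableUnderBaseChange] [P.DescendsAlong (@Surjective ⊓ @Flat ⊓ @QuasiCompact)] [IsZariskiLocalAtTarget P] (H : DescendsLimQS P)
    {i : I} (φ : i ⟶ i₀) (hst : RepWith (@LocallyOfFiniteType ⊓ @IsSeparated)
      (pullback.snd f₀ (pullback.fst b₀ (D.map φ))))
    (hf : RepWith P f) :
    ∃ (j : I) (ψ : j ⟶ i₀), ∀ (Xi Yi : Sp S) (fi : Xi ⟶ Yi) (pYi : Yi ⟶ Y₀) (qYi : Yi ⟶ D.obj j)
      (_ : IsPullback pYi qYi b₀ (D.map ψ)) (pXi : Xi ⟶ X₀) (_ : IsPullback pXi fi f₀ pYi),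
      RepWith P fi := by
  obtain ⟨⟨hYc, hYs⟩, hXc, -⟩ := qcqs_stage D hD i₀ hXa hYa f₀ b₀ hXqc hYqc hYqs hXqs φ (hDa _ _ _)
  have hYia := isAlgSpace_pullback (hD i₀).diag hYa (hD i) b₀ (D.map φ)
  have sYi := IsPullback.of_hasPullback b₀ (D.map φ)
  have sXi := IsPullback.of_hasPullback f₀ (pullback.fst b₀ (D.map φ))
  have e1 : pY ≫ b₀ = (qY ≫ c.π.app i) ≫ D.map φ := by rw [Category.assoc, c.w]; exact hY.w
  have hl := sYi.lift_fst _ _ e1
  have sY' : IsPullback (sYi.lift _ _ e1) qY (pullback.snd b₀ (D.map φ)) (c.π.app i) :=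
    IsPullback.of_right (by rw [hl, c.w]; exact hY) (sYi.lift_snd _ _ _) sYi
  have e2 : pX ≫ f₀ = (f ≫ sYi.lift _ _ e1) ≫ pullback.fst b₀ (D.map φ) := by
    rw [Category.assoc, hl]; exact hX.w
  have sX' : IsPullback (sXi.lift _ _ e2) f (pullback.snd f₀ (pullback.fst b₀ (D.map φ))) (sYi.lift _ _ e1) :=
    IsPullback.of_right (by rw [sXi.lift_fst, hl]; exact hX) (sXi.lift_snd _ _ _) sXi
  obtain ⟨j, ψ, h⟩ := exists_stage_repWith D hD hDa c hc i (isAlgSpace_pullback hYa.diag hXa hYia _ _) hYia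
    (pullback.snd f₀ (pullback.fst b₀ (D.map φ))) (pullback.snd b₀ (D.map φ)) hXc hYc hYs sY' sX' H hst hf
  refine ⟨j, ψ ≫ φ, fun Xj Yj fj pYj qYj hYj pXj hXj => ?_⟩
  have e1' : pYj ≫ b₀ = (qYj ≫ D.map ψ) ≫ D.map φ := by
    rw [Category.assoc, ← D.map_comp]; exact hYj.w
  have hl' := sYi.lift_fst _ _ e1'
  have sYj : IsPullback (sYi.lift _ _ e1') qYj (pullback.snd b₀ (D.map φ)) (D.map ψ) :=
    IsPullback.of_right (by rw [hl', ← D.map_comp]; exact hYj) (sYi.lift_snd _ _ _) sYi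
  have e2' : pXj ≫ f₀ = (fj ≫ sYi.lift _ _ e1') ≫ pullback.fst b₀ (D.map φ) := by
    rw [Category.assoc, hl']; exact hXj.w
  exact h _ _ _ _ _ sYj _ (IsPullback.of_right (h₁₁ := sXi.lift _ _ e2')
    (by rw [sXi.lift_fst, hl']; exact hXj) (sXi.lift_snd _ _ _) sXi)

theorem exists_stage_isClosedImmersion (hf₀ : LocP @LocallyOfFiniteType f₀) (hf : RepWith @IsClosedImmersion f) :
    ∃ (i : I) (φ : i ⟶ i₀), ∀ (Xi Yi : Sp S) (fi : Xi ⟶ Yi) (pYi : Yi ⟶ Y₀) (qYi : Yi ⟶ D.obj i)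
      (_ : IsPullback pYi qYi b₀ (D.map φ)) (pXi : Xi ⟶ X₀) (_ : IsPullback pXi fi f₀ pYi),
      RepWith @IsClosedImmersion fi := by
  obtain ⟨i, φ, h⟩ := exists_stage_mono D hD hDa c hc i₀ hXa hYa f₀ b₀ hXqc hYqc hYqs hY hX hXqs hf₀
    (mono_of_repWith (fun g (hg : IsClosedImmersion g) => inferInstance) hf)
  haveI := h _ _ _ _ _ (IsPullback.of_hasPullback b₀ (D.map φ)) _ (IsPullback.of_hasPullback f₀ _)
  have hYia := isAlgSpace_pullback (hD i₀).diag hYa (hD i) b₀ (D.map φ)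
  have hXia := isAlgSpace_pullback hYa.diag hXa hYia f₀ (pullback.fst b₀ (D.map φ))
  obtain ⟨e1, e2⟩ := isEtLocal_of_list @LocallyOfFiniteType (.inl rfl)
  haveI := FpqcDesc.isClosedImmersion_descends.{u}
  have hft := locP_of_isPullback (IsPullback.of_hasPullback f₀ (pullback.fst b₀ (D.map φ))).flip hXa hYa hYia hf₀
  have hr := representable_of_mono_lft hXia hYia hft
  refine exists_stage_repWith_of_stage D hD hDa c hc i₀ hXa hYa f₀ b₀ hXqc hYqc hYqs hY hX hXqs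
    descendsLimQS_isClosedImmersion φ (repWith_inf (repWith_of_locP hYia hr hft) ?_) hf
  exact (isSeparatedMor_iff hr).1 isSeparatedMor_of_mono

theorem exists_stage_separated (hf : IsSeparatedMor f) :
    ∃ (i : I) (φ : i ⟶ i₀), ∀ (Xi Yi : Sp S) (fi : Xi ⟶ Yi) (pYi : Yi ⟶ Y₀) (qYi : Yi ⟶ D.obj i)
      (_ : IsPullback pYi qYi b₀ (D.map φ)) (pXi : Xi ⟶ X₀) (_ : IsPullback pXi fi f₀ pYi),
      IsSeparatedMor fi := by
  obtain ⟨s, h1, h2⟩ := isPullback_diagonal_baseChange hX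
  obtain ⟨hPc, hPs⟩ := qcqs_pullback (IsPullback.of_hasPullback f₀ f₀) hXqc hXqs hYqs hXqc hXqs
  obtain ⟨i, φ, h⟩ := exists_stage_isClosedImmersion D hD hDa c hc i₀ hXa (isAlgSpace_pullback hYa.diag hXa hXa f₀ f₀)
    (pullback.diagonal f₀) ((pullback.fst f₀ f₀ ≫ f₀) ≫ b₀) hXqc hPc hPs (h2.paste_vert hY) h1 hXqs
    (lft_diagonal hXa f₀) hf
  refine ⟨i, φ, fun Xi Yi fi pYi qYi hYi pXi hXi => ?_⟩
  obtain ⟨s', h1', h2'⟩ := isPullback_diagonal_baseChange hXi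
  exact h _ _ _ _ _ (h2'.paste_vert hYi) _ h1'

theorem exists_stage_finite (hf₀ : LocP @LocallyOfFiniteType f₀) (hf : IsFiniteMor f) :
    ∃ (i : I) (φ : i ⟶ i₀), ∀ (Xi Yi : Sp S) (fi : Xi ⟶ Yi) (pYi : Yi ⟶ Y₀) (qYi : Yi ⟶ D.obj i)
      (_ : IsPullback pYi qYi b₀ (D.map φ)) (pXi : Xi ⟶ X₀) (_ : IsPullback pXi fi f₀ pYi),
      IsFiniteMor fi := by
  have hYc := isAlgSpace_limit_baseChange D hD hDa c hc i₀ hYa b₀ hY
  have hXc := isAlgSpace_of_isPullback hYa.diag hXa hYc hX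
  have hfr := (isFiniteMor_iff hXc hYc).1 hf
  obtain ⟨q1, q2⟩ := isEtLocal_of_list (@LocallyQuasiFinite ⊓ @LocallyOfFiniteType : MorphismProperty Scheme.{u})
    (.inr <| .inr <| .inr <| .inr <| .inr <| .inl fun _ _ _ => Iff.rfl)
  obtain ⟨i1, φ1, h1⟩ := exists_stage_locP descendsLim_lqf D hD hDa c hc i₀ hXa hYa f₀ b₀ hXqc hYqc hYqs hY hX
    hf₀ hYc (locP_of_repWith (repWith_mono
      (fun _ _ g (hg : IsFinite g) => ⟨inferInstance, inferInstance⟩) hfr))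
  obtain ⟨i2, φ2, h2⟩ := exists_stage_separated D hD hDa c hc i₀ hXa hYa f₀ b₀ hXqc hYqc hYqs hY hX hXqs
    ((isSeparatedMor_iff hfr.1).2 (repWith_mono (fun _ _ g (hg : IsFinite g) => inferInstanceAs (IsSeparated g)) hfr))
  obtain ⟨k, a1, a2, e⟩ := IsCofiltered.cospan φ1 φ2
  have sYk := IsPullback.of_hasPullback b₀ (D.map (a1 ≫ φ1))
  have sXk := IsPullback.of_hasPullback f₀ (pullback.fst b₀ (D.map (a1 ≫ φ1)))
  have hYka := isAlgSpace_pullback (hD i₀).diag hYa (hD k) b₀ (D.map (a1 ≫ φ1))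
  have hXka := isAlgSpace_pullback hYa.diag hXa hYka f₀ (pullback.fst b₀ (D.map (a1 ≫ φ1)))
  have g1 := stage_mono (Q := LocP (@LocallyQuasiFinite ⊓ @LocallyOfFiniteType))
    (fun sq hA hB hB' h => locP_of_isPullback sq.flip hA hB hB' h) hD hXa hYa a1 h1 _ _ _ _ _ sYk _ sXk
  have g2 : IsSeparatedMor (pullback.snd f₀ (pullback.fst b₀ (D.map (a1 ≫ φ1)))) :=
    stage_mono (Q := IsSeparatedMor) (fun sq _ _ _ h => by
      obtain ⟨σ, hσ, -⟩ := isPullback_diagonal_baseChange sq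
      exact repWith_of_isPullback hσ h) hD hXa hYa a2 h2 _ _ _ _ (pullback.snd b₀ (D.map (a1 ≫ φ1)))
      (by rw [← e]; exact sYk) _ sXk
  obtain ⟨e1, e2⟩ := isEtLocal_of_list @LocallyOfFiniteType (.inl rfl)
  haveI := FpqcDesc.isFinite_descends.{u}
  have hr := representable_of_sep_lqf hXka hYka _ g1 g2
  obtain ⟨j, ψ, h⟩ := exists_stage_repWith_of_stage D hD hDa c hc i₀ hXa hYa f₀ b₀ hXqc hYqc hYqs hY hX hXqs
    descendsLimQS_isFinite (a1 ≫ φ1) (repWith_inf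
      (repWith_of_locP hYka hr (locP_of_isPullback sXk.flip hXa hYa hYka hf₀)) ((isSeparatedMor_iff hr).1 g2)) hfr
  refine ⟨j, ψ, fun Xi Yi fi pYi qYi hYi pXi hXi => ?_⟩
  have hYia := isAlgSpace_of_isPullback (hD i₀).diag hYa (hD j) hYi
  exact (isFiniteMor_iff (isAlgSpace_of_isPullback hYa.diag hXa hYia hXi) hYia).2 (h _ _ _ _ _ hYi _ hXi)

end Groth.Agent.ASp
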