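import Groth.Prelude.Def_AlgSp3
import Groth.Agent.ASp.Morph
import Mathlib.CategoryTheory.Limits.Constructions.Over.Connected
/-!
Quasi-separatedness over the base as a property of the structure morphism.
-/

set_option backward.isDefEq.respectTransparency false
set_option backward.isDefEq.respectTransparency.types false

universe u

open CategoryTheory CategoryTheory.Limits AlgebraicGeometry Opposite

namespace Groth.Agent.ASp

open _root_.AlgSp

variable {S : Scheme.{u}}

/-- `h_S` is terminal. -/
noncomputable def isTerminalYonBase : IsTerminal ((yon S).obj (Over.mk (𝟙 S))) :=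
  @IsTerminal.ofUniqueHom (Sp S) _ ((yon S).obj (Over.mk (𝟙 S)))
    (fun F => ObjectProperty.homMk
      { app := fun T => ↾fun _ => ULift.up (Over.homMk (V := Over.mk (𝟙 S)) T.unop.hom (Category.comp_id _))
        naturality := fun T T' g => by
          ext x
          refine ULift.ext _ _ (Over.OverMorphism.ext ?_)
          exact (Over.w g.unop).symm })
    (fun F m => by
      refine Sheaf.hom_ext ?_
      ext T x
      exact ULift.ext _ _ (Over.OverMorphism.ext ((Category.comp_id _).symm.trans (Over.w (m.hom.app T x).down))))

theorem isQuasiSeparatedMor_toBase {X : Sp S} (hX : IsQuasiSeparatedSp X)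
    (π : X ⟶ (yon S).obj (Over.mk (𝟙 S))) : IsQuasiSeparatedMor π := by
  haveI : IsIso (pullback.lift (f := π) (g := π) (prod.fst : X ⨯ X ⟶ X) prod.snd (isTerminalYonBase.hom_ext _ _)) := by
    refine ⟨prod.lift (pullback.fst π π) (pullback.snd π π), ?_, ?_⟩
    · ext <;> simp
    · ext <;> simp
  have e : pullback.diagonal π = Limits.diag X ≫
      pullback.lift (f := π) (g := π) (prod.fst : X ⨯ X ⟶ X) prod.snd (isTerminalYonBase.hom_ext _ _) := by
    ext <;> simp [Limits.diag]
  change RepWith @QuasiCompact (pullback.diagonal π)
  rw [e]
  exact repWith_comp hX (repWith_of_isIso _)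

end Groth.Agent.ASp
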