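import Groth.Agent.ASp.LocP
/-!
Quasi-separatedness over the base passes to the source of a quasi-separated morphism.
-/

set_option backward.isDefEq.respectTransparency false
set_option backward.isDefEq.respectTransparency.types false

universe u

open CategoryTheory CategoryTheory.Limits AlgebraicGeometry

namespace Groth.Agent.ASp

open _root_.AlgSp

variable {S : Scheme.{u}}

/-- The fibre square of a map is a base change of the diagonal of the target. -/
theorem exists_isPullback_diag {X Y : Sp S} (f : X ⟶ Y) :
    ∃ b : pullback f f ⟶ X ⨯ X, IsPullback (pullback.fst f f ≫ f) b (Limits.diag Y) (prod.map f f) ∧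
      pullback.diagonal f ≫ b = Limits.diag X := by
  refine ⟨prod.lift (pullback.fst f f) (pullback.snd f f), ?_, by ext <;> simp [Limits.diag]⟩
  refine IsPullback.of_isLimit' ⟨by ext <;> simp [Limits.diag, pullback.condition]⟩ (PullbackCone.IsLimit.mk _
    (fun s => pullback.lift (s.snd ≫ prod.fst) (s.snd ≫ prod.snd) ?_) (fun s => ?_) (fun s => ?_) (fun s l h1 h2 => ?_))
  · have e1 := congrArg (· ≫ prod.fst) s.condition
    have e2 := congrArg (· ≫ prod.snd) s.condition
    simp [Limits.diag] at e1 e2
    rw [Category.assoc, Category.assoc, ← e1, ← e2]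
  · have e1 := congrArg (· ≫ prod.fst) s.condition
    simp [Limits.diag] at e1
    rw [pullback.lift_fst_assoc, Category.assoc, ← e1]
  · ext <;> simp
  · apply pullback.hom_ext
    · rw [pullback.lift_fst, ← h2]; simp
    · rw [pullback.lift_snd, ← h2]; simp

theorem isQuasiSeparatedSp_of_mor {X Y : Sp S} {f : X ⟶ Y} (hY : IsQuasiSeparatedSp Y)
    (hf : IsQuasiSeparatedMor f) : IsQuasiSeparatedSp X := by
  obtain ⟨b, hb, e⟩ := exists_isPullback_diag f
  have h : RepWith @QuasiCompact (pullback.diagonal f ≫ b) := repWith_comp hf (repWith_of_isPullback hb hY)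
  rwa [e] at h

end Groth.Agent.ASp
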