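import Groth.Agent.ASp.LimDerived
import Groth.Agent.ASp.Univ
/-!
# Properties of the members of a limit of algebraic spaces which hold eventually
-/

set_option autoImplicit false
set_option backward.isDefEq.respectTransparency false
set_option backward.isDefEq.respectTransparency.types false

universe u

open CategoryTheory CategoryTheory.Limits AlgebraicGeometry Opposite

noncomputable section

namespace Groth.Agent.ASp

open _root_.AlgSp

variable {S : Scheme.{u}}

theorem separatedMor_comp {X Y Z : Sp S} {f : X ⟶ Y} {g : Y ⟶ Z} (hf : IsSeparatedMor f)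
    (hg : IsSeparatedMor g) : IsSeparatedMor (f ≫ g) := by
  change RepWith @IsClosedImmersion (pullback.diagonal (f ≫ g))
  rw [pullback.diagonal_comp]
  exact repWith_comp hf (repWith_comp (repWith_of_isIso _)
    (repWith_of_isPullback (IsPullback.of_hasPullback _ _) hg))

theorem isAffineMor_of_closedImmersion {X Y : Sp S} {f : X ⟶ Y} (h : RepWith @IsClosedImmersion f) :
    IsAffineMor f :=
  isAffineMor_of_repWith (P := @IsClosedImmersion) (fun k (hk : IsClosedImmersion k) => inferInstance) h

theorem mono_of_closedImmersion {X Y : Sp S} {f : X ⟶ Y} (h : RepWith @IsClosedImmersion f) : Mono f :=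
  mono_of_repWith (fun _ (hg : IsClosedImmersion _) => inferInstance) h

theorem lft_of_closedImmersion {X Y : Sp S} {f : X ⟶ Y} (h : RepWith @IsClosedImmersion f) :
    LocP @LocallyOfFiniteType f := by
  obtain ⟨e1, e2⟩ := isEtLocal_of_list.{u} @LocallyOfFiniteType (.inl rfl)
  exact locP_of_repWith (repWith_mono (fun _ _ g (hg : IsClosedImmersion g) => inferInstanceAs (LocallyOfFiniteType g)) h)

/-- If the transition maps of a cofiltered system are monomorphisms, so are the projections. -/
theorem mono_π {C : Type*} [Category C] {I : Type*} [Category I] [IsCofiltered I] {D : I ⥤ C} {c : Cone D}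
    (hc : IsLimit c) (hm : ∀ (i j : I) (φ : i ⟶ j), Mono (D.map φ)) (i : I) : Mono (c.π.app i) := by
  refine ⟨fun a b e => hc.hom_ext fun j => ?_⟩
  let k := IsCofiltered.min i j
  have h : a ≫ c.π.app k = b ≫ c.π.app k := by
    haveI := hm _ _ (IsCofiltered.minToLeft i j)
    rw [← cancel_mono (D.map (IsCofiltered.minToLeft i j)), Category.assoc, Category.assoc, c.w, e]
  rw [← c.w (IsCofiltered.minToRight i j), ← Category.assoc, ← Category.assoc, h]

variable {I : Type u} [SmallCategory I] [IsCofiltered I] (D : I ⥤ Sp S) (hD : ∀ i, IsAlgSpace (D.obj i))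

include hD in
/-- For closed immersions as transition maps, a limit of finite presentation is reached at a stage. -/
theorem exists_isIso_π (hDc : ∀ (i j : I) (φ : i ⟶ j), RepWith @IsClosedImmersion (D.map φ))
    (c : Cone D) (hc : IsLimit c) (i₁ : I) (hqc : IsQuasiCompactSp (D.obj i₁))
    (hX : LocP @LocallyOfFinitePresentation (c.π.app i₁)) :
    ∃ i₀ : I, ∀ (i : I) (_ : i ⟶ i₀), IsIso (c.π.app i) := by
  have hDa : ∀ (i j : I) (φ : i ⟶ j), IsAffineMor (D.map φ) := fun i j φ =>
    isAffineMor_of_closedImmersion (hDc i j φ)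
  have hm : ∀ (i j : I) (φ : i ⟶ j), Mono (D.map φ) := fun i j φ => mono_of_closedImmersion (hDc i j φ)
  obtain ⟨hXa, hπa⟩ := isAlgSpace_limit_and_isAffineMor D hD hDa c hc
  haveI := compactSpace_of_isQuasiCompactSp hqc
  obtain ⟨V, v, hV, hv, hvs⟩ := exists_affine_chart (hD i₁)
  obtain ⟨F⟩ := exists_frame D hD hDa c hc i₁ v
  haveI := hV
  haveI : ∀ {k l : CategoryTheory.Over i₁} (φ : k ⟶ l), IsAffineHom ((F.E ⋙ Over.forget S).map φ) :=
    fun φ => F.affine φ
  haveI : ∀ k, IsAffine ((F.E ⋙ Over.forget S).obj k) := fun k =>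
    haveI := F.affine_w k
    isAffine_of_isAffineHom (F.w k).left
  haveI : ∀ k, CompactSpace ((F.E ⋙ Over.forget S).obj k) := fun k => inferInstance
  haveI : ∀ k, QuasiSeparatedSpace ((F.E ⋙ Over.forget S).obj k) := fun k => inferInstance
  have hLV : LocallyOfFinitePresentation F.wLim.left :=
    hX F.qLim v F.wLim (repWith_of_isPullback F.sqLim.flip hv) hv F.sqLim.w
  have hmw : ∀ k, Mono (F.w k).left := fun k => by
    haveI : Mono ((yon S).map (F.w k)) :=
      MorphismProperty.of_isPullback (P := MorphismProperty.monomorphisms (Sp S)) (F.sq k) (hm _ _ k.hom)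
    haveI : Mono (F.w k) := (yon S).mono_of_mono_map inferInstance
    infer_instance
  let t : F.E ⋙ Over.forget S ⟶ (Functor.const _).obj V.left :=
    { app := fun k => (F.w k).left
      naturality := fun k l φ => by
        change (F.E.map φ).left ≫ (F.w l).left = (F.w k).left ≫ 𝟙 _
        rw [Category.comp_id, ← Over.comp_left, F.map_w] }
  obtain ⟨k, a, ha1, ha2⟩ := Scheme.exists_π_app_comp_eq_of_locallyOfFinitePresentation
    (F.E ⋙ Over.forget S) t F.wLim.left ((Over.forget S).mapCone F.cone) F.isLimit (𝟙 _) (by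
      ext l
      change (F.cone.π.app l).left ≫ (F.w l).left = 𝟙 _ ≫ F.wLim.left
      rw [Category.id_comp, ← Over.comp_left, F.π_w])
  haveI : IsIso (F.cone.π.app k).left := ⟨⟨a, ha1, by
    haveI := hmw k
    rw [← cancel_mono (F.w k).left, Category.assoc, ← Over.comp_left, F.π_w, ha2, Category.id_comp]⟩⟩
  haveI : Mono (c.π.app k.left) := mono_π hc hm _
  obtain ⟨e1, e2⟩ := isEtLocal_of_list.{u} @Etale (.inr <| .inr <| .inr <| .inr <| .inl rfl)
  have hq : RepWith @Etale (F.qLim) := repWith_of_isPullback F.sqLim.flip hv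
  have hqs : RepWith @Surjective (F.qLim) := repWith_of_isPullback F.sqLim.flip hvs
  have hqk : RepWith @Etale (F.q k) := repWith_of_isPullback (F.sq k).flip hv
  have he : LocP @Etale (c.π.app k.left) :=
    locP_of_chart hq hqs hqk (F.qLim_π k) (inferInstanceAs (Etale (F.cone.π.app k).left))
  have hs : IsSurjectiveMor (c.π.app k.left) := fun y => by
    obtain ⟨z, rfl⟩ := surjective_map_of_repWith (repWith_of_isPullback (F.sq k).flip hvs) y
    obtain ⟨e, rfl⟩ := (Points.schemeHomeo _).surjective z
    obtain ⟨l, rfl⟩ := (F.cone.π.app k).left.surjective e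
    refine ⟨Points.map F.qLim (Points.schemeHomeo _ l), ?_⟩
    rw [← Points.map_yon_map_apply, ← Points.map_comp, ← Points.map_comp, F.qLim_π]
    rfl
  haveI := isIso_of_mono_etale_surjective hXa (hD _) (c.π.app k.left) he hs
  refine ⟨k.left, fun i φ => ?_⟩
  haveI := hm _ _ φ
  haveI : IsIso (c.π.app i ≫ D.map φ) := by rw [c.w]; infer_instance
  haveI : IsSplitEpi (D.map φ) := IsSplitEpi.mk' ⟨inv (c.π.app i ≫ D.map φ) ≫ c.π.app i, by simp⟩
  haveI : IsIso (D.map φ) := isIso_of_mono_of_isSplitEpi _
  exact IsIso.of_isIso_comp_right (c.π.app i) (D.map φ)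

section Pairs

variable {Y : Sp S} (t : D ⟶ (Functor.const I).obj Y)

/-- The system `D i ×_Y D i`. -/
def pairs : I ⥤ Sp S where
  obj i := pullback (t.app i) (t.app i)
  map {i j} φ := pullback.map _ _ _ _ (D.map φ) (D.map φ) (𝟙 Y) (by simp) (by simp)
  map_id i := by apply pullback.hom_ext <;> simp
  map_comp φ ψ := by apply pullback.hom_ext <;> simp

/-- The cone `X ×_Y X` over `D i ×_Y D i`. -/
def pairsCone (c : Cone D) (g : c.pt ⟶ Y) (hg : ∀ i, c.π.app i ≫ t.app i = g) : Cone (pairs D t) where
  pt := pullback g g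
  π :=
    { app := fun i => pullback.map _ _ _ _ (c.π.app i) (c.π.app i) (𝟙 Y) (by simp [hg]) (by simp [hg])
      naturality := fun i j φ => by apply pullback.hom_ext <;> simp [pairs] }

/-- The cone `X ×_Y X` is a limit cone. -/
def isLimitPairsCone (c : Cone D) (hc : IsLimit c) (g : c.pt ⟶ Y) (hg : ∀ i, c.π.app i ≫ t.app i = g) :
    IsLimit (pairsCone D t c g hg) := by
  let p1 : Cone (pairs D t) → Cone D := fun s =>
    { pt := s.pt
      π := { app := fun i => s.π.app i ≫ pullback.fst _ _
             naturality := fun i j φ => by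
               have := s.w φ
               simp only [Functor.const_obj_obj, Functor.const_obj_map, Category.id_comp] at *
               rw [← this]
               simp [pairs] } }
  let p2 : Cone (pairs D t) → Cone D := fun s =>
    { pt := s.pt
      π := { app := fun i => s.π.app i ≫ pullback.snd _ _
             naturality := fun i j φ => by
               have := s.w φ
               simp only [Functor.const_obj_obj, Functor.const_obj_map, Category.id_comp] at *
               rw [← this]
               simp [pairs] } }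
  have w : ∀ s, hc.lift (p1 s) ≫ g = hc.lift (p2 s) ≫ g := fun s => by
    have i := (IsCofiltered.nonempty (C := I)).some
    rw [← hg i, ← Category.assoc, ← Category.assoc, hc.fac, hc.fac]
    simp [p1, p2, pullback.condition]
  exact
    { lift := fun s => pullback.lift (hc.lift (p1 s)) (hc.lift (p2 s)) (w s)
      fac := fun s i => by apply pullback.hom_ext <;> simp [pairsCone, p1, p2]
      uniq := fun s m hm => by
        apply pullback.hom_ext <;> refine hc.hom_ext fun i => ?_
        · rw [pullback.lift_fst, hc.fac]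
          change _ = s.π.app i ≫ pullback.fst _ _
          rw [← hm i]
          simp [pairsCone]
        · rw [pullback.lift_snd, hc.fac]
          change _ = s.π.app i ≫ pullback.snd _ _
          rw [← hm i]
          simp [pairsCone] }

include hD in
theorem isAlgSpace_pairs (hY : IsAlgSpace Y) (i : I) : IsAlgSpace ((pairs D t).obj i) :=
  isAlgSpace_pullback hY.diag (hD i) (hD i) _ _

omit [IsCofiltered I] in
theorem isAffineMor_pairs {P : MorphismProperty Scheme.{u}}
    (hP : ∀ {A B : Scheme.{u}} (k : A ⟶ B), P k → IsAffineHom k) [P.IsStableUnderComposition]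
    (hDa : ∀ (i j : I) (φ : i ⟶ j), RepWith P (D.map φ)) (i j : I) (φ : i ⟶ j) :
    IsAffineMor ((pairs D t).map φ) := by
  have ei : D.map φ ≫ t.app j = t.app i := by simp
  -- factor through `D j ×_Y D i`
  let a : pullback (t.app i) (t.app i) ⟶ pullback (t.app j) (t.app i) :=
    pullback.map _ _ _ _ (D.map φ) (𝟙 _) (𝟙 _) (by simp) (by simp)
  let b : pullback (t.app j) (t.app i) ⟶ pullback (t.app j) (t.app j) :=
    pullback.map _ _ _ _ (𝟙 _) (D.map φ) (𝟙 _) (by simp) (by simp)
  have sa : IsPullback (pullback.fst (t.app i) (t.app i)) a (D.map φ) (pullback.fst (t.app j) (t.app i)) :=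
    IsPullback.of_bot (by simpa [a, ei] using IsPullback.of_hasPullback (t.app i) (t.app i))
      (by simp [a]) (IsPullback.of_hasPullback (t.app j) (t.app i))
  have sb : IsPullback (pullback.snd (t.app j) (t.app i)) b (D.map φ) (pullback.snd (t.app j) (t.app j)) :=
    IsPullback.of_bot (by simpa [b, ei] using (IsPullback.of_hasPullback (t.app j) (t.app i)).flip)
      (by simp [b]) (IsPullback.of_hasPullback (t.app j) (t.app j)).flip
  have : (pairs D t).map φ = a ≫ b := by apply pullback.hom_ext <;> simp [pairs, a, b]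
  rw [this]
  exact isAffineMor_of_repWith hP (repWith_comp (repWith_of_isPullback sa (hDa i j φ))
    (repWith_of_isPullback sb (hDa i j φ)))

include hD in
theorem separated_monotone (hY : IsAlgSpace Y) (hDa : ∀ (i j : I) (φ : i ⟶ j), IsAffineMor (D.map φ))
    {i i₀ : I} (φ : i ⟶ i₀) (h : IsSeparatedMor (t.app i₀)) : IsSeparatedMor (t.app i) := by
  have hR := repWith_isAffineHom_of_isAffineMor (hD i) (hD i₀) (hDa i i₀ φ)
  have e : D.map φ ≫ t.app i₀ = t.app i := by simp
  have h2 : IsSeparatedMor (D.map φ) := (isSeparatedMor_iff hR.1).2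
    (repWith_mono (fun _ _ g (hg : IsAffineHom g) => inferInstanceAs (IsSeparated g)) hR)
  rw [← e]
  exact separatedMor_comp h2 h

end Pairs

end Groth.Agent.ASp
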