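import Groth.Agent.ASp.MonoScheme
import Groth.Prelude.Def_QuotSh
import Groth.Prelude.Def_AlgSpRep
import Mathlib.CategoryTheory.Limits.Types.Pullbacks
import Mathlib.CategoryTheory.Limits.Preserves.Shapes.Equalizers
/-!
The quotient sheaf of an etale equivalence relation is an algebraic space.
-/

set_option backward.isDefEq.respectTransparency.types false

universe u

open CategoryTheory CategoryTheory.Limits AlgebraicGeometry Opposite

namespace Groth.Agent.ASp

open _root_.AlgSp

variable {S : Scheme.{u}}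

/-- An equivalence relation of representable presheaves is the kernel pair of its coequalizer. -/
theorem isPullback_of_eqvRel {R U : Over S} {s t : R ⟶ U} (h : IsEqvRel s t) :
    IsPullback ((pyon S).map t) ((pyon S).map s) (coequalizer.π ((pyon S).map s) ((pyon S).map t))
      (coequalizer.π ((pyon S).map s) ((pyon S).map t)) := by
  let rs := (pyon S).map s
  let rt := (pyon S).map t
  refine IsPullback.of_forall_isPullback_app fun T => ?_
  rw [Types.isPullback_iff]
  refine ⟨?_, fun x y ⟨h1, h2⟩ => ?_, fun a b hab => ?_⟩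
  · exact (congrArg (fun φ => φ.app T) (coequalizer.condition rs rt)).symm
  · exact ULift.ext _ _ (h.injective T.unop x.down y.down (congrArg ULift.down h1) (congrArg ULift.down h2))
  · let Setd : Setoid (T.unop ⟶ U) := ⟨_, h.equivalence T.unop⟩
    let hc := isColimitCoforkMapOfIsColimit ((evaluation _ _).obj T) (coequalizer.condition rs rt)
      (coequalizerIsCoequalizer rs rt)
    let q : ((pyon S).obj U).obj T ⟶ ULift.{u + 1} (Quotient Setd) :=
      ↾fun a => (⟨Quotient.mk Setd (a : ULift.{u + 1} (T.unop ⟶ U)).down⟩ : ULift.{u + 1} (Quotient Setd))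
    have hq : ((evaluation _ _).obj T).map rs ≫ q = ((evaluation _ _).obj T).map rt ≫ q := by
      ext r
      exact (Quotient.sound (s := Setd) (a := r.down ≫ s) (b := r.down ≫ t)
        ((h.equivalence T.unop).symm ⟨r.down, rfl, rfl⟩))
    obtain ⟨d, hd⟩ := Cofork.IsColimit.desc' hc q hq
    have e : q a = q b := by
      rw [← hd]
      exact congrArg (fun z => d z) hab
    obtain ⟨r, hr1, hr2⟩ := Quotient.exact (congrArg ULift.down e)
    exact ⟨⟨r⟩, ULift.ext _ _ hr1, ULift.ext _ _ hr2⟩

/-- The kernel pair of the quotient map of an equivalence relation is the relation. -/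
theorem isPullback_quot {R U : Over S} {s t : R ⟶ U} (h : IsEqvRel s t) :
    IsPullback ((yon S).map t) ((yon S).map s)
      ((QuotSh.repIsoUliftYoneda Scheme.fppfPrecoverage U).inv ≫ QuotSh.quotπ Scheme.fppfPrecoverage s t)
      ((QuotSh.repIsoUliftYoneda Scheme.fppfPrecoverage U).inv ≫ QuotSh.quotπ Scheme.fppfPrecoverage s t) := by
  let G := presheafToSheaf (J S) (Type (u + 1))
  have h1 := (isPullback_of_eqvRel h).map G
  let c := PreservesCoequalizer.iso G ((pyon S).map s) ((pyon S).map t)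
  have hnat : ∀ {V W : Over S} (g : V ⟶ W), QuotSh.repMap Scheme.fppfPrecoverage g ≫
      (QuotSh.repIsoUliftYoneda Scheme.fppfPrecoverage W).hom =
        (QuotSh.repIsoUliftYoneda Scheme.fppfPrecoverage V).hom ≫ (yon S).map g := fun {V W} g => by
    simp only [QuotSh.repIsoUliftYoneda, Iso.symm_hom]
    rw [Iso.eq_inv_comp, ← Category.assoc, Iso.comp_inv_eq]
    exact (sheafificationNatIso (J S) (Type (u + 1))).hom.naturality ((yon S).map g) |>.symm
  exact IsPullback.of_iso h1 (QuotSh.repIsoUliftYoneda Scheme.fppfPrecoverage R)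
    (QuotSh.repIsoUliftYoneda Scheme.fppfPrecoverage U) (QuotSh.repIsoUliftYoneda Scheme.fppfPrecoverage U)
    c.symm (hnat t) (hnat s)
    (Eq.trans (map_π_preserves_coequalizer_inv G _ _) (Iso.hom_inv_id_assoc _ _).symm)
    (Eq.trans (map_π_preserves_coequalizer_inv G _ _) (Iso.hom_inv_id_assoc _ _).symm)

/-- Maps out of a coproduct of schemes into a sheaf are determined by their restrictions. -/
theorem sigma_hom_ext {ι : Type u} {X : ι → Scheme.{u}} (str : ∐ X ⟶ S) {F : Sp S}
    (a b : (yon S).obj (Over.mk str) ⟶ F)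
    (h : ∀ i, (yon S).map (Over.homMk (Sigma.ι X i) rfl : Over.mk (Sigma.ι X i ≫ str) ⟶ Over.mk str) ≫ a =
      (yon S).map (Over.homMk (Sigma.ι X i) rfl : Over.mk (Sigma.ι X i ≫ str) ⟶ Over.mk str) ≫ b) : a = b := by
  let U : ι → Over S := fun i => Over.mk (Sigma.ι X i ≫ str)
  let ζ : ∀ i, U i ⟶ Over.mk str := fun i => Over.homMk (Sigma.ι X i) rfl
  have hcov : Sieve.ofArrows U ζ ∈ (J S) _ := by
    rw [GrothendieckTopology.mem_over_iff]
    refine GrothendieckTopology.superset_covering _ ?_
      (Precoverage.generate_mem_toGrothendieck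
        (Scheme.zariskiPrecoverage_le_fppfPrecoverage _ (sigmaOpenCover X).mem₀))
    rw [Sieve.generate_le_iff]
    rintro _ _ ⟨i⟩
    exact ⟨U i, ζ i, 𝟙 _, Sieve.ofArrows_mk _ _ i, (Category.id_comp _).symm⟩
  apply (J S).uliftYonedaEquiv.{u+1}.injective
  refine ((isSheaf_iff_isSheaf_of_type _ _).1 F.2).isSeparated _ hcov |>.ext fun Y k hk => ?_
  obtain ⟨Y', l, m, ⟨i⟩, rfl⟩ := hk
  rw [op_comp, Functor.map_comp]
  refine congrArg (F.obj.map l.op) ?_
  exact (GrothendieckTopology.uliftYonedaEquiv_naturality.{u+1} (J S) a (ζ i)).trans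
    ((congrArg (J S).uliftYonedaEquiv.{u+1} (h i)).trans
      (GrothendieckTopology.uliftYonedaEquiv_naturality.{u+1} (J S) b (ζ i)).symm)

/-- A locally surjective map onto a sheaf has, over every scheme, sections after an fppf covering. -/
theorem exists_fppf_lift {U T : Over S} {F : Sp S} (p : (yon S).obj U ⟶ F) [Sheaf.IsLocallySurjective p]
    (g : (yon S).obj T ⟶ F) : ∃ (W : Over S) (c : W ⟶ T) (l : W ⟶ U), Flat c.left ∧
      LocallyOfFinitePresentation c.left ∧ Surjective c.left ∧ (yon S).map l ≫ p = (yon S).map c ≫ g := by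
  have : (min (α := MorphismProperty Scheme.{u}) @Flat @LocallyOfFinitePresentation).ContainsIdentities :=
    ⟨fun X => ⟨(inferInstance : Flat (𝟙 X)), (inferInstance : LocallyOfFinitePresentation (𝟙 X))⟩⟩
  have : Scheme.fppfPrecoverage.{u}.HasIsos := inferInstanceAs
    ((Scheme.precoverage (min (α := MorphismProperty Scheme.{u}) @Flat @LocallyOfFinitePresentation)).HasIsos)
  have : Scheme.fppfPrecoverage.{u}.HasPullbacks := inferInstanceAs
    ((Scheme.precoverage (min (α := MorphismProperty Scheme.{u}) @Flat @LocallyOfFinitePresentation)).HasPullbacks)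
  have hR := Presheaf.imageSieve_mem (J S) p.hom (U := op T) ((J S).uliftYonedaEquiv.{u+1} g)
  rw [GrothendieckTopology.mem_over_iff, Precoverage.mem_toGrothendieck_iff_of_isStableUnderComposition] at hR
  obtain ⟨R₀, hR₀, hle⟩ := hR
  have hex : ∀ x : ↥T.left, ∃ (Y : Scheme.{u}) (k : Y ⟶ T.left), R₀ k ∧ x ∈ Set.range k := fun x => by
    obtain ⟨Y, k, ⟨hk⟩, hY⟩ := hR₀.1 x
    exact ⟨_, _, hk, hY⟩
  choose Y k hk hY using hex
  have hmem : ∀ x, ∃ l : Over.mk (k x ≫ T.hom) ⟶ U,
      (yon S).map l ≫ p = (yon S).map (Over.homMk (k x) rfl : Over.mk (k x ≫ T.hom) ⟶ T) ≫ g := fun x => by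
    obtain ⟨Z, a, b, ha, hb⟩ := hle _ _ (hk x)
    obtain ⟨t, ht⟩ := ha
    obtain ⟨t, rfl⟩ := (J S).uliftYonedaEquiv.{u+1}.surjective t
    obtain ⟨t, rfl⟩ := (yon S).map_surjective t
    let b' : Over.mk (k x ≫ T.hom) ⟶ Z := Over.homMk b (by
      change b ≫ Z.hom = k x ≫ T.hom
      rw [← Over.w a]
      exact (Category.assoc _ _ _).symm.trans (congrArg (· ≫ T.hom) hb.symm))
    refine ⟨b' ≫ t, ?_⟩
    have e : (yon S).map t ≫ p = (yon S).map a ≫ g := (J S).uliftYonedaEquiv.{u+1}.injective
      (Eq.trans ht (GrothendieckTopology.uliftYonedaEquiv_naturality.{u+1} (J S) g a))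
    rw [Functor.map_comp, Category.assoc, e, ← Functor.map_comp_assoc]
    congr 2
    exact Over.OverMorphism.ext hb.symm
  choose l hl using hmem
  let str : ∐ Y ⟶ S := Limits.Sigma.desc k ≫ T.hom
  let c : Over.mk str ⟶ T := Over.homMk (Limits.Sigma.desc k) rfl
  let lW : Over.mk str ⟶ U := Over.homMk (Limits.Sigma.desc fun x => (l x).left) (Sigma.hom_ext _ _ fun x => by
    change Sigma.ι Y x ≫ Limits.Sigma.desc _ ≫ U.hom = Sigma.ι Y x ≫ Limits.Sigma.desc k ≫ T.hom
    rw [Sigma.ι_desc_assoc, Sigma.ι_desc_assoc]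
    exact Over.w (l x))
  refine ⟨_, c, lW, IsZariskiLocalAtSource.sigmaDesc fun x => (hR₀.2 (hk x)).1,
    IsZariskiLocalAtSource.sigmaDesc fun x => (hR₀.2 (hk x)).2, ⟨fun z => ?_⟩, sigma_hom_ext str _ _ fun x => ?_⟩
  · obtain ⟨w, hw⟩ := hY z
    refine ⟨Sigma.ι Y z w, ?_⟩
    change (Sigma.ι Y z ≫ Limits.Sigma.desc k) w = z
    rw [Sigma.ι_desc]
    exact hw
  · let e : Over.mk (Sigma.ι Y x ≫ str) ⟶ Over.mk (k x ≫ T.hom) := Over.homMk (𝟙 _) (by
      change 𝟙 _ ≫ k x ≫ T.hom = Sigma.ι Y x ≫ Limits.Sigma.desc k ≫ T.hom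
      rw [Sigma.ι_desc_assoc, Category.id_comp])
    have e1 : Over.homMk (Sigma.ι Y x) rfl ≫ lW = e ≫ l x := Over.OverMorphism.ext (by
      change Sigma.ι Y x ≫ Limits.Sigma.desc _ = 𝟙 _ ≫ (l x).left
      rw [Sigma.ι_desc]; exact (Category.id_comp _).symm)
    have e2 : Over.homMk (Sigma.ι Y x) rfl ≫ c = e ≫ Over.homMk (k x) rfl := Over.OverMorphism.ext (by
      change Sigma.ι Y x ≫ Limits.Sigma.desc k = 𝟙 _ ≫ k x
      rw [Sigma.ι_desc]; exact (Category.id_comp _).symm)
    rw [← Functor.map_comp_assoc, ← Functor.map_comp_assoc, e1, e2, Functor.map_comp_assoc,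
      Functor.map_comp_assoc, hl]

/-- A locally surjective map from a scheme whose kernel pair is an etale equivalence relation is
representable, etale and surjective. -/
theorem repWith_etale_surjective_of_kernelPair {U R : Over S} {F : Sp S} (p : (yon S).obj U ⟶ F)
    [Sheaf.IsLocallySurjective p] {s t : R ⟶ U} [Etale s.left] [Etale t.left]
    (hR : IsPullback ((yon S).map t) ((yon S).map s) p p) :
    RepWith @Etale p ∧ RepWith @Surjective p := by
  have hrep : ∀ ⦃T : Over S⦄ (g : (yon S).obj T ⟶ F), ∃ (P : Over S) (q : P ⟶ T) (fst : (yon S).obj P ⟶ (yon S).obj U),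
      IsPullback fst ((yon S).map q) p g ∧ Etale q.left ∧ Surjective q.left := by
    intro T g
    obtain ⟨W, c, l, hcf, hcl, hcs, hl⟩ := exists_fppf_lift p g
    obtain ⟨P, π₁, π₂, hP⟩ : ∃ (P : Sp S) (π₁ : P ⟶ (yon S).obj U) (π₂ : P ⟶ (yon S).obj T),
        IsPullback π₁ π₂ p g := ⟨_, _, _, IsPullback.of_hasPullback p g⟩
    let x : P ⟶ (yon S).obj (U ⨯ T) := prod.lift π₁ π₂ ≫ inv (prodComparison (yon S) U T)
    have hx1 : x ≫ (yon S).map prod.fst = π₁ := by
      simp only [x, Category.assoc, inv_prodComparison_map_fst, prod.lift_fst]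
    have hx2 : x ≫ (yon S).map prod.snd = π₂ := by
      simp only [x, Category.assoc, inv_prodComparison_map_snd, prod.lift_snd]
    have : Mono x := ⟨fun a b hab => hP.hom_ext (by rw [← hx1, reassoc_of% hab]) (by rw [← hx2, reassoc_of% hab])⟩
    let V := pullback t l
    have hV := isPullback_yon_map (IsPullback.of_hasPullback t l)
    let v₁ : V ⟶ U := pullback.fst t l ≫ s
    let vW : V ⟶ W := pullback.snd t l
    have : Etale vW.left := MorphismProperty.of_isPullback (isPullback_left (IsPullback.of_hasPullback t l)) ‹Etale t.left›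
    have hbig : IsPullback ((yon S).map v₁) ((yon S).map vW) p ((yon S).map l ≫ p) := by
      rw [Functor.map_comp]
      exact hV.paste_horiz hR.flip
    have sqP : IsPullback (hP.lift ((yon S).map v₁) ((yon S).map vW ≫ (yon S).map c) (by
        rw [hbig.w, hl, Category.assoc])) ((yon S).map vW) π₂ ((yon S).map c) := by
      refine IsPullback.of_right ?_ (hP.lift_snd _ _ _) hP
      rw [hP.lift_fst, ← hl]
      exact hbig
    let fst := hP.lift ((yon S).map v₁) ((yon S).map vW ≫ (yon S).map c) (by rw [hbig.w, hl, Category.assoc])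
    let c' : U ⨯ W ⟶ U ⨯ T := prod.map (𝟙 U) c
    have sqc : IsPullback (prod.snd : U ⨯ W ⟶ W) c' c prod.snd := by
      refine IsPullback.of_isLimit' ⟨(prod.map_snd _ _).symm⟩ (PullbackCone.IsLimit.mk _
        (fun k => prod.lift (k.snd ≫ prod.fst) k.fst) (fun k => prod.lift_snd _ _) (fun k => ?_) (fun k m h1 h2 => ?_))
      · apply prod.hom_ext
        · rw [Category.assoc, prod.map_fst, Category.comp_id, prod.lift_fst]
        · rw [Category.assoc, prod.map_snd, prod.lift_snd_assoc]; exact k.condition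
      · apply prod.hom_ext
        · rw [prod.lift_fst, ← h2, Category.assoc, prod.map_fst, Category.comp_id]
        · rw [prod.lift_snd]; exact h1
    have hcl' := isPullback_left sqc
    have : Flat c'.left := MorphismProperty.of_isPullback hcl' hcf
    have : LocallyOfFinitePresentation c'.left := MorphismProperty.of_isPullback hcl' hcl
    have : Surjective c'.left := MorphismProperty.of_isPullback hcl' hcs
    let v : V ⟶ U ⨯ W := prod.lift v₁ vW
    have hvw : v ≫ prod.snd = vW := prod.lift_snd _ _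
    have : LocallyOfFiniteType v.left := by
      have : LocallyOfFiniteType (v.left ≫ (prod.snd : U ⨯ W ⟶ W).left) := by
        rw [← Over.comp_left, hvw]; infer_instance
      exact locallyOfFiniteType_of_comp v.left (prod.snd : U ⨯ W ⟶ W).left
    have sqx : IsPullback fst ((yon S).map v) x ((yon S).map c') := by
      refine IsPullback.of_bot (h₃₁ := (yon S).map c) (v₂₁ := (yon S).map (prod.snd : U ⨯ W ⟶ W))
        (v₂₂ := (yon S).map (prod.snd : U ⨯ T ⟶ T)) ?_ ?_ (isPullback_yon_map sqc).flip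
      · rw [← Functor.map_comp, hvw, hx2]
        exact sqP
      · rw [← cancel_mono (prodComparison (yon S) U T)]
        apply prod.hom_ext
        · simp only [Category.assoc, prodComparison_fst, hx1, ← Functor.map_comp, c', prod.map_fst, Category.comp_id,
            v, prod.lift_fst, fst, hP.lift_fst]
        · simp only [Category.assoc, prodComparison_snd, hx2, ← Functor.map_comp, c', prod.map_snd,
            v, prod.lift_snd_assoc, fst, hP.lift_snd]
    obtain ⟨P', ⟨φ⟩⟩ := exists_scheme_of_mono x c' v fst sqx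
    obtain ⟨q, hq⟩ := (yon S).map_surjective (φ.hom ≫ π₂)
    obtain ⟨f', hf'⟩ := (yon S).map_surjective (fst ≫ φ.inv)
    have sq' : IsPullback ((yon S).map f') ((yon S).map vW) ((yon S).map q) ((yon S).map c) := by
      rw [hf', hq]
      exact IsPullback.of_iso sqP (Iso.refl _) φ.symm (Iso.refl _) (Iso.refl _)
        (by simp [fst]) (by simp) (by simp) (by simp)
    have hsl := (isPullback_left (isPullback_of_yon_map sq')).flip
    have hQ : (@Surjective ⊓ @Flat ⊓ @LocallyOfFinitePresentation : MorphismProperty Scheme.{u}) c.left :=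
      ⟨⟨hcs, hcf⟩, hcl⟩
    have hvs : Surjective vW.left := by
      refine ⟨fun w => ?_⟩
      obtain ⟨r, hr1, -⟩ : ∃ r : U ⟶ R, r ≫ t = 𝟙 U ∧ r ≫ s = 𝟙 U := by
        obtain ⟨r, hr⟩ := (yon S).map_surjective (hR.lift (𝟙 _) (𝟙 _) rfl)
        exact ⟨r, (yon S).map_injective (by rw [Functor.map_comp, hr, hR.lift_fst, CategoryTheory.Functor.map_id]),
          (yon S).map_injective (by rw [Functor.map_comp, hr, hR.lift_snd, CategoryTheory.Functor.map_id])⟩
      refine ⟨(pullback.lift (l ≫ r) (𝟙 W) (by rw [Category.assoc, hr1, Category.comp_id, Category.id_comp]) : W ⟶ V).left w, ?_⟩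
      rw [← Scheme.Hom.comp_apply, ← Over.comp_left, pullback.lift_snd]
      rfl
    refine ⟨P', q, φ.hom ≫ π₁, ?_, MorphismProperty.of_isPullback_of_descendsAlong hsl hQ ‹Etale vW.left›, ⟨fun z => ?_⟩⟩
    · rw [hq]
      exact IsPullback.of_iso hP φ.symm (Iso.refl _) (Iso.refl _) (Iso.refl _)
        (by simp) (by simp) (by simp) (by simp)
    · obtain ⟨w, hw⟩ := hcs.surj z
      obtain ⟨v', hv'⟩ := hvs.surj w
      refine ⟨f'.left v', ?_⟩
      rw [← Scheme.Hom.comp_apply, hsl.w.symm.trans rfl, Scheme.Hom.comp_apply, hv', hw]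
  have he : ∀ {Q : MorphismProperty Scheme.{u}} [Q.RespectsIso], (∀ {X Y : Scheme.{u}} (k : X ⟶ Y),
      Etale k → Surjective k → Q k) → RepWith Q p := fun hQ => repWith_of_exists fun T g => by
    obtain ⟨P, q, fst, h1, h2, h3⟩ := hrep g
    exact ⟨P, fst, q, h1, hQ _ h2 h3⟩
  exact ⟨he fun _ h _ => h, he fun _ _ h => h⟩

/-- The quotient sheaf of an etale equivalence relation: the quotient map is representable etale and surjective. -/
theorem isPresentation_quot {R U : Over S} {s t : R ⟶ U} (h : IsEtaleEqvRel s t) :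
    IsPresentation s t
      ((QuotSh.repIsoUliftYoneda Scheme.fppfPrecoverage U).inv ≫ QuotSh.quotπ Scheme.fppfPrecoverage s t) := by
  have := h.etale_left
  have := h.etale_right
  have hepi : Epi (QuotSh.quotπ Scheme.fppfPrecoverage s t) :=
    inferInstanceAs (Epi (coequalizer.π (QuotSh.repMap Scheme.fppfPrecoverage s) (QuotSh.repMap Scheme.fppfPrecoverage t)))
  have : Sheaf.IsLocallySurjective
      ((QuotSh.repIsoUliftYoneda Scheme.fppfPrecoverage U).inv ≫ QuotSh.quotπ Scheme.fppfPrecoverage s t) :=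
    (Sheaf.isLocallySurjective_iff_epi _).2 (epi_comp _ _)
  have hR := isPullback_quot h.toIsEqvRel
  exact ⟨h, (repWith_etale_surjective_of_kernelPair _ hR).1, (repWith_etale_surjective_of_kernelPair _ hR).2, hR⟩

theorem isAlgSpace_quot {R U : Over S} {s t : R ⟶ U} (h : IsEtaleEqvRel s t) :
    IsAlgSpace (QuotSh.quot Scheme.fppfPrecoverage s t) :=
  isAlgSpace_of_etale_surjective (IsAlgSpace.yon_obj U) _ (isPresentation_quot h).etale (isPresentation_quot h).surjective

end Groth.Agent.ASp
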