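import Groth.Agent.ASp.Glue
import Groth.Agent.ASp.EqvQuot
import Groth.Agent.ASp.Quot
import Groth.Agent.ASp.Sub
import Groth.Agent.ASt.FibMaps
/-!
A sheaf covered by representable etale maps from schemes is an algebraic space.
-/

set_option backward.isDefEq.respectTransparency.types false

universe u

open CategoryTheory CategoryTheory.Limits AlgebraicGeometry Opposite

namespace Groth.Agent.ASp

open _root_.AlgSp

variable {S : Scheme.{u}}

theorem hom_eq_of_app {F : Sp S} {W A B : Over S} {p : (yon S).obj A ⟶ F} {g : (yon S).obj B ⟶ F}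
    {k : W ⟶ A} {j : W ⟶ B} (h : p.hom.app (op W) ⟨k⟩ = g.hom.app (op W) ⟨j⟩) :
    (yon S).map k ≫ p = (yon S).map j ≫ g := by
  refine (J S).uliftYonedaEquiv.{u+1}.injective ?_
  change p.hom.app (op W) ⟨𝟙 W ≫ k⟩ = g.hom.app (op W) ⟨𝟙 W ≫ j⟩
  rw [Category.id_comp, Category.id_comp]
  exact h

/-- The pullback of a disjoint union of charts is the disjoint union of the pullbacks. -/
theorem isPullback_sigma {ι : Type u} {U V : ι → Over S} {Z Z' T : Over S} {F : Sp S}
    (ζ : ∀ i, U i ⟶ Z) (eZ : Z.left = ∐ fun i => (U i).left)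
    (hζ : ∀ i, (ζ i).left ≫ eqToHom eZ = Sigma.ι (fun i => (U i).left) i)
    (σ : ∀ i, V i ⟶ Z') (eZ' : Z'.left = ∐ fun i => (V i).left)
    (hσ : ∀ i, (σ i).left ≫ eqToHom eZ' = Sigma.ι (fun i => (V i).left) i)
    (a : ∀ i, V i ⟶ U i) (b : ∀ i, V i ⟶ T) (A : Z' ⟶ Z) (B : Z' ⟶ T)
    (hA : ∀ i, σ i ≫ A = a i ≫ ζ i) (hB : ∀ i, σ i ≫ B = b i)
    (p : (yon S).obj Z ⟶ F) (g : (yon S).obj T ⟶ F)
    (hpb : ∀ i, IsPullback ((yon S).map (a i)) ((yon S).map (b i)) ((yon S).map (ζ i) ≫ p) g) :
    IsPullback ((yon S).map A) ((yon S).map B) p g := by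
  obtain ⟨ZL, Zr, Zh⟩ := Z
  change ZL = _ at eZ
  subst eZ
  obtain ⟨ZL', Zr', Zh'⟩ := Z'
  change ZL' = _ at eZ'
  subst eZ'
  simp only [eqToHom_refl, Category.comp_id] at hζ hσ
  have hσm : ∀ i, Mono (σ i) := fun i => by
    have : Mono (σ i).left := by rw [hσ i]; infer_instance
    exact Over.mono_of_mono_left _
  have hw : (yon S).map A ≫ p = (yon S).map B ≫ g := by
    have hh : ∀ i, (yon S).map (σ i) ≫ (yon S).map A ≫ p = (yon S).map (σ i) ≫ (yon S).map B ≫ g := fun i => by
      rw [← Functor.map_comp_assoc, hA i, ← Functor.map_comp_assoc, hB i, Functor.map_comp_assoc]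
      exact (hpb i).w
    refine sigma_hom_ext (X := fun i => (V i).left) Zh' _ _ fun i => ?_
    have hV : Sigma.ι (fun i => (V i).left) i ≫ Zh' = (V i).hom := by rw [← hσ i]; exact Over.w (σ i)
    let m : Over.mk (Sigma.ι (fun i => (V i).left) i ≫ Zh') ⟶ V i := Over.homMk (𝟙 _) (by
      change 𝟙 _ ≫ (V i).hom = _
      rw [Category.id_comp, hV]; rfl)
    have hm : (Over.homMk (Sigma.ι (fun i => (V i).left) i) rfl :
        Over.mk (Sigma.ι (fun i => (V i).left) i ≫ Zh') ⟶ Over.mk Zh') = m ≫ σ i :=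
      Over.OverMorphism.ext ((hσ i).symm.trans (Category.id_comp _).symm)
    rw [hm, Functor.map_comp]
    exact ((Category.assoc _ _ _).trans (congrArg ((yon S).map m ≫ ·) (hh i))).trans (Category.assoc _ _ _).symm
  refine IsPullback.of_map_of_faithful (sheafToPresheaf (J S) (Type (u + 1)))
    (Groth.Agent.ASt.isPullback_of_pointwise (congrArg InducedCategory.Hom.hom hw) ?_ ?_)
  · rintro W ⟨m⟩ ⟨m'⟩ e1 e2
    replace e1 : m ≫ A = m' ≫ A := congrArg ULift.down e1
    replace e2 : m ≫ B = m' ≫ B := congrArg ULift.down e2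
    refine ULift.ext _ _ (Over.OverMorphism.ext
      (Scheme.Cover.hom_ext ((sigmaOpenCover fun i => (V i).left).pullback₁ m.left) _ _ fun i => ?_))
    let c := pullback.fst m.left ((sigmaOpenCover fun i => (V i).left).f i)
    let d := pullback.snd m.left ((sigmaOpenCover fun i => (V i).left).f i)
    have hcd : c ≫ m.left = d ≫ Sigma.ι (fun i => (V i).left) i := pullback.condition
    have hr : Set.range (c ≫ m'.left) ⊆ Set.range (Sigma.ι (fun i => (V i).left) i) := by
      rintro _ ⟨w, rfl⟩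
      obtain ⟨j, v, hv⟩ := (sigmaOpenCover fun i => (V i).left).exists_eq ((c ≫ m'.left) w)
      change Sigma.ι (fun i => (V i).left) j v = _ at hv
      have hAi : ∀ k, Sigma.ι (fun i => (V i).left) k ≫ A.left = (a k).left ≫ Sigma.ι (fun i => (U i).left) k :=
        fun k => by rw [← hσ k, ← hζ k]; exact congrArg CommaMorphism.left (hA k)
      have h1 : Sigma.ι (fun i => (U i).left) j ((a j).left v) =
          Sigma.ι (fun i => (U i).left) i ((a i).left (d w)) := by
        have e1' : m'.left ≫ A.left = m.left ≫ A.left := (congrArg CommaMorphism.left e1).symm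
        calc Sigma.ι (fun i => (U i).left) j ((a j).left v)
            = ((a j).left ≫ Sigma.ι (fun i => (U i).left) j) v := rfl
          _ = (Sigma.ι (fun i => (V i).left) j ≫ A.left) v := congrArg (fun q => q v) (hAi j).symm
          _ = A.left ((c ≫ m'.left) w) := congrArg A.left hv
          _ = (c ≫ m'.left ≫ A.left) w := rfl
          _ = (c ≫ m.left ≫ A.left) w := congrArg (fun q => (c ≫ q) w) e1'
          _ = A.left ((c ≫ m.left) w) := rfl
          _ = A.left ((d ≫ Sigma.ι (fun i => (V i).left) i) w) := congrArg (fun q => A.left (q w)) hcd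
          _ = (Sigma.ι (fun i => (V i).left) i ≫ A.left) (d w) := rfl
          _ = ((a i).left ≫ Sigma.ι (fun i => (U i).left) i) (d w) := congrArg (fun q => q (d w)) (hAi i)
          _ = Sigma.ι (fun i => (U i).left) i ((a i).left (d w)) := rfl
      by_cases hji : j = i
      · subst hji
        exact ⟨v, hv⟩
      · exfalso
        have hd := disjoint_opensRange_sigmaι (fun i => (U i).left) j i hji
        exact (disjoint_iff.1 hd).le (⟨⟨_, h1⟩, ⟨_, rfl⟩⟩ :
          Sigma.ι (fun i => (U i).left) i ((a i).left (d w)) ∈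
            (Sigma.ι (fun i => (U i).left) j).opensRange ⊓ (Sigma.ι (fun i => (U i).left) i).opensRange)
    let d' := IsOpenImmersion.lift (Sigma.ι (fun i => (V i).left) i) (c ≫ m'.left) hr
    have hd' : d' ≫ Sigma.ι (fun i => (V i).left) i = c ≫ m'.left := IsOpenImmersion.lift_fac _ _ _
    let Wi : Over S := Over.mk (c ≫ W.hom)
    let cc : Wi ⟶ W := Over.homMk c rfl
    have hVi : Sigma.ι (fun i => (V i).left) i ≫ Zh' = (V i).hom := by rw [← hσ i]; exact Over.w (σ i)
    let dd : Wi ⟶ V i := Over.homMk d (by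
      exact (congrArg (d ≫ ·) hVi).symm.trans ((Category.assoc _ _ _).symm.trans ((congrArg (· ≫ Zh') hcd.symm).trans
        ((Category.assoc _ _ _).trans (congrArg (c ≫ ·) (Over.w m))))))
    let dd' : Wi ⟶ V i := Over.homMk d' (by
      exact (congrArg (d' ≫ ·) hVi).symm.trans ((Category.assoc _ _ _).symm.trans ((congrArg (· ≫ Zh') hd').trans
        ((Category.assoc _ _ _).trans (congrArg (c ≫ ·) (Over.w m'))))))
    have f1 : dd ≫ σ i = cc ≫ m := Over.OverMorphism.ext ((congrArg (d ≫ ·) (hσ i)).trans hcd.symm)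
    have f2 : dd' ≫ σ i = cc ≫ m' := Over.OverMorphism.ext ((congrArg (d' ≫ ·) (hσ i)).trans hd')
    haveI : Mono (ζ i) := by
      have : Mono (ζ i).left := by rw [hζ i]; infer_instance
      exact Over.mono_of_mono_left _
    have hdd : dd = dd' := by
      apply (yon S).map_injective
      apply (hpb i).hom_ext
      · rw [← Functor.map_comp, ← Functor.map_comp]
        refine congrArg _ ((cancel_mono (ζ i)).1 ?_)
        rw [Category.assoc, Category.assoc, ← hA, ← Category.assoc, ← Category.assoc, f1, f2,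
          Category.assoc, Category.assoc, e1]
      · rw [← Functor.map_comp, ← Functor.map_comp, ← hB i, ← Category.assoc, ← Category.assoc, f1, f2,
          Category.assoc, Category.assoc, e2]
    exact congrArg CommaMorphism.left (f1.symm.trans ((congrArg (· ≫ σ i) hdd).trans f2))
  · rintro W ⟨k⟩ ⟨j⟩ e
    have he : (yon S).map k ≫ p = (yon S).map j ≫ g := hom_eq_of_app e
    let 𝒲 := (sigmaOpenCover fun i => (U i).left).pullback₁ k.left
    let W' : ι → Over S := fun i => Over.mk (𝒲.f i ≫ W.hom)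
    let w : ∀ i, W' i ⟶ W := fun i => Over.homMk (𝒲.f i) rfl
    have hUi : ∀ i, Sigma.ι (fun i => (U i).left) i ≫ Zh = (U i).hom := fun i => by
      rw [← hζ i]; exact Over.w (ζ i)
    let u : ∀ i, W' i ⟶ U i := fun i =>
      Over.homMk (pullback.snd k.left ((sigmaOpenCover fun i => (U i).left).f i)) (by
        change pullback.snd _ _ ≫ (U i).hom = pullback.fst _ _ ≫ W.hom
        rw [← hUi i, ← Category.assoc]
        exact (congrArg (· ≫ Zh) pullback.condition.symm).trans ((Category.assoc _ _ _).trans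
          (congrArg (pullback.fst _ _ ≫ ·) (Over.w k))))
    have huw : ∀ i, u i ≫ ζ i = w i ≫ k := fun i =>
      Over.OverMorphism.ext ((congrArg ((u i).left ≫ ·) (hζ i)).trans pullback.condition.symm)
    have hl : ∀ i, ∃ l : W' i ⟶ V i, l ≫ a i = u i ∧ l ≫ b i = w i ≫ j := fun i => by
      have e' : (yon S).map (u i) ≫ (yon S).map (ζ i) ≫ p = (yon S).map (w i ≫ j) ≫ g := by
        rw [← Functor.map_comp_assoc, huw i, Functor.map_comp_assoc, he, Functor.map_comp_assoc]
      obtain ⟨l, hl⟩ := (yon S).map_surjective ((hpb i).lift _ _ e')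
      exact ⟨l, (yon S).map_injective (by rw [Functor.map_comp, hl, (hpb i).lift_fst]),
        (yon S).map_injective (by rw [Functor.map_comp, hl, (hpb i).lift_snd])⟩
    choose l hla hlb using hl
    have hdisj : Pairwise (Function.onFun Disjoint fun i => (𝒲.f i).opensRange) := fun i i' hii => by
      rw [Function.onFun, disjoint_iff, eq_bot_iff]
      rintro x ⟨⟨y, hy⟩, ⟨y', hy'⟩⟩
      have hd := disjoint_opensRange_sigmaι (fun i => (U i).left) i i' hii
      refine (disjoint_iff.1 hd).le (⟨⟨(u i).left y, ?_⟩, ⟨(u i').left y', ?_⟩⟩ :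
        k.left x ∈ (Sigma.ι (fun i => (U i).left) i).opensRange ⊓ (Sigma.ι (fun i => (U i).left) i').opensRange)
      · rw [← hy, ← Scheme.Hom.comp_apply, ← Scheme.Hom.comp_apply, ← hζ i]
        exact congrArg (fun q => q.left y) (huw i)
      · rw [← hy', ← Scheme.Hom.comp_apply, ← Scheme.Hom.comp_apply, ← hζ i']
        exact congrArg (fun q => q.left y') (huw i')
    obtain ⟨hc⟩ := nonempty_isColimit_cofanMk_of (fun i => 𝒲.f i) (Scheme.OpenCover.iSup_opensRange 𝒲) hdisj
    let mL : W.left ⟶ ∐ fun i => (V i).left :=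
      Cofan.IsColimit.desc hc fun i => (l i).left ≫ Sigma.ι (fun i => (V i).left) i
    have hmL : ∀ i, 𝒲.f i ≫ mL = (l i).left ≫ Sigma.ι (fun i => (V i).left) i :=
      fun i => Cofan.IsColimit.fac hc _ i
    let m : W ⟶ Over.mk Zh' := Over.homMk mL (Scheme.Cover.hom_ext 𝒲 _ _ fun i => by
      change 𝒲.f i ≫ mL ≫ Zh' = 𝒲.f i ≫ W.hom
      rw [← Category.assoc, hmL, Category.assoc]
      have hV : Sigma.ι (fun i => (V i).left) i ≫ Zh' = (V i).hom := by rw [← hσ i]; exact Over.w (σ i)
      rw [hV]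
      exact Over.w (l i))
    have hm : ∀ i, w i ≫ m = l i ≫ σ i := fun i =>
      Over.OverMorphism.ext ((hmL i).trans (congrArg ((l i).left ≫ ·) (hσ i)).symm)
    refine ⟨⟨m⟩, congrArg ULift.up ?_, congrArg ULift.up ?_⟩
    · refine Over.OverMorphism.ext (Scheme.Cover.hom_ext 𝒲 _ _ fun i => ?_)
      exact congrArg CommaMorphism.left
        (show w i ≫ m ≫ A = w i ≫ k by rw [← Category.assoc, hm, Category.assoc, hA, ← Category.assoc, hla, huw])
    · refine Over.OverMorphism.ext (Scheme.Cover.hom_ext 𝒲 _ _ fun i => ?_)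
      exact congrArg CommaMorphism.left
        (show w i ≫ m ≫ B = w i ≫ j by rw [← Category.assoc, hm, Category.assoc, hB, hlb])

/-- A sheaf with a jointly surjective family of representable etale maps from schemes is an algebraic space. -/
theorem isAlgSpace_of_etale_cover {F : Sp S} {ι : Type u} (U : ι → Over S) (q : ∀ i, (yon S).obj (U i) ⟶ F)
    (hq : ∀ i, RepWith @Etale (q i)) (hs : ∀ x : Points F, ∃ i, x ∈ Set.range (Points.map (q i))) :
    IsAlgSpace F := by
  let Z : Over S := Over.mk (Limits.Sigma.desc fun i => (U i).hom)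
  let ζ : ∀ i, U i ⟶ Z := fun i =>
    Over.homMk (Sigma.ι (fun i => (U i).left) i) (Sigma.ι_desc _ _)
  obtain ⟨p, hp⟩ := exists_sigma_desc Z U ζ rfl (fun i => Category.comp_id _) q
  have hpe : RepWith @Etale p := repWith_of_exists fun T g => by
    choose V a b hpb using fun i => exists_isPullback_yon (U := U i) (V := T) (g := q i) (hq i).1 g
    let Z' : Over S := Over.mk (Limits.Sigma.desc fun i => (V i).hom)
    let σ : ∀ i, V i ⟶ Z' := fun i =>
      Over.homMk (Sigma.ι (fun i => (V i).left) i) (Sigma.ι_desc _ _)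
    let A : Z' ⟶ Z := Over.homMk (Limits.Sigma.desc fun i => (a i).left ≫ Sigma.ι (fun i => (U i).left) i)
      (Sigma.hom_ext _ _ fun i => by
        change Sigma.ι (fun i => (V i).left) i ≫ Limits.Sigma.desc _ ≫ Limits.Sigma.desc _ =
          Sigma.ι (fun i => (V i).left) i ≫ Limits.Sigma.desc _
        rw [Sigma.ι_desc_assoc, Category.assoc, Sigma.ι_desc, Sigma.ι_desc]
        exact Over.w (a i))
    let B : Z' ⟶ T := Over.homMk (Limits.Sigma.desc fun i => (b i).left)
      (Sigma.hom_ext _ _ fun i => by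
        change Sigma.ι (fun i => (V i).left) i ≫ Limits.Sigma.desc _ ≫ T.hom =
          Sigma.ι (fun i => (V i).left) i ≫ Limits.Sigma.desc _
        rw [Sigma.ι_desc_assoc, Sigma.ι_desc]
        exact Over.w (b i))
    refine ⟨Z', (yon S).map A, B, isPullback_sigma ζ rfl (fun i => Category.comp_id _) σ rfl
      (fun i => Category.comp_id _) a b A B (fun i => Over.OverMorphism.ext (Sigma.ι_desc _ _))
      (fun i => Over.OverMorphism.ext (Sigma.ι_desc _ _)) p g (fun i => (hp i).symm ▸ hpb i), ?_⟩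
    change Etale (Limits.Sigma.desc fun i => (b i).left)
    rw [IsZariskiLocalAtSource.iff_of_openCover (P := @Etale) (sigmaOpenCover fun i => (V i).left)]
    intro i
    rw [show (sigmaOpenCover fun i => (V i).left).f i ≫ Limits.Sigma.desc (fun i => (b i).left) = (b i).left from
      Sigma.ι_desc _ _]
    exact (hq i).2 _ _ _ (hpb i)
  refine isAlgSpace_of_etale_surjective (IsAlgSpace.yon_obj Z) p hpe ((repWith_surjective_iff hpe.1).2 fun x => ?_)
  obtain ⟨i, u, rfl⟩ := hs x
  exact ⟨Points.map ((yon S).map (ζ i)) u, by rw [← Points.map_comp, hp]⟩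

/-- A sheaf covered by open algebraic subspaces is an algebraic space. -/
theorem isAlgSpace_of_openCover {F : Sp S} {ι : Type u} (Fi : ι → Sp S) (f : ∀ i, Fi i ⟶ F)
    (ha : ∀ i, IsAlgSpace (Fi i)) (hf : ∀ i, RepWith @IsOpenImmersion (f i))
    (hs : ∀ x : Points F, ∃ i, x ∈ Set.range (Points.map (f i))) : IsAlgSpace F := by
  choose U p hpe hps using fun i => (ha i).atlas
  refine isAlgSpace_of_etale_cover U (fun i => p i ≫ f i)
    (fun i => repWith_comp (hpe i) (repWith_mono (fun _ _ g (hg : IsOpenImmersion g) => inferInstanceAs (Etale g)) (hf i)))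
    fun x => ?_
  obtain ⟨i, y, rfl⟩ := hs x
  obtain ⟨z, rfl⟩ := surjective_map_of_repWith (hps i) y
  exact ⟨i, z, Points.map_comp _ _ _⟩

/-- A locally surjective family of open immersions is surjective on points. -/
theorem points_cover_of_isLocallySurjective {F : Sp S} {ι : Type u} (Fi : ι → Sp S) (f : ∀ i, Fi i ⟶ F)
    (hf : ∀ i, IsOpenMap (Points.map (f i))) (c : Cofan Fi) (hc : IsColimit c)
    (hsurj : Sheaf.IsLocallySurjective (Cofan.IsColimit.desc hc f)) (x : Points F) :
    ∃ i, x ∈ Set.range (Points.map (f i)) := by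
  let Ω : Set (Points F) := ⋃ i, Set.range (Points.map (f i))
  have hΩ : IsOpen Ω := isOpen_iUnion fun i => (hf i).isOpen_range
  have hle : ∀ i, Subfunctor.range (f i).hom ≤ subOfSet F Ω := fun i U => by
    rintro _ ⟨s, rfl⟩ t
    obtain ⟨g, rfl⟩ := (J S).uliftYonedaEquiv.{u+1}.surjective s
    refine Set.mem_iUnion.2 ⟨i, Points.ofPt g t, ?_⟩
    rw [Points.map_ofPt]
    exact congrArg (Points.ofPt · t) (((J S).uliftYonedaEquiv.{u+1}).symm_apply_apply (g ≫ f i)).symm
  have hfac : ∀ i, ∃ a : Fi i ⟶ subSp F Ω, a ≫ subι F Ω = f i := fun i =>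
    ⟨⟨Subfunctor.lift (f i).hom (hle i)⟩, Sheaf.hom_ext (Subfunctor.lift_ι (f i).hom (hle i))⟩
  choose a ha using hfac
  have e : Cofan.IsColimit.desc hc a ≫ subι F Ω = Cofan.IsColimit.desc hc f :=
    Cofan.IsColimit.hom_ext hc _ _ fun i => by
      rw [← Category.assoc, Cofan.IsColimit.fac, Cofan.IsColimit.fac, ha]
  have hl : Sheaf.IsLocallySurjective (subι F Ω) := by
    haveI : Presheaf.IsLocallySurjective (J S) ((Cofan.IsColimit.desc hc a).hom ≫ (subι F Ω).hom) := by
      rw [show (Cofan.IsColimit.desc hc a).hom ≫ (subι F Ω).hom = (Cofan.IsColimit.desc hc f).hom from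
        congrArg InducedCategory.Hom.hom e]
      exact hsurj
    exact Presheaf.isLocallySurjective_of_isLocallySurjective (J S) (Cofan.IsColimit.desc hc a).hom (subι F Ω).hom
  haveI : IsIso (subι F Ω) := isIso_of_mono_of_locallySurjective _ hl
  have hx : x ∈ Set.range (Points.map (subι F Ω)) :=
    ⟨Points.map (inv (subι F Ω)) x, by rw [← Points.map_comp, IsIso.inv_hom_id, Points.map_id]⟩
  rw [range_map_subι] at hx
  exact Set.mem_iUnion.1 hx

end Groth.Agent.ASp
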