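import Groth.Agent.ASp.QSComp
import Groth.Agent.ASp.QSBase
import Groth.Agent.ASp.Points
import Groth.Agent.ASp.MorCancel
/-!
Fibre products of quasi-compact quasi-separated algebraic spaces.
-/

set_option autoImplicit false
set_option backward.isDefEq.respectTransparency false
set_option backward.isDefEq.respectTransparency.types false

universe u

open CategoryTheory CategoryTheory.Limits AlgebraicGeometry Opposite

namespace Groth.Agent.ASp

open _root_.AlgSp

variable {S : Scheme.{u}}

/-- A morphism out of a space quasi-separated over the base is quasi-separated. -/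
theorem isQuasiSeparatedMor_of_sp {X Y : Sp S} (hX : IsQuasiSeparatedSp X) (f : X ⟶ Y) : IsQuasiSeparatedMor f := by
  obtain ⟨b, hb, e⟩ := exists_isPullback_diag f
  haveI : Mono (Limits.diag Y) := SplitMono.mono ⟨prod.fst, by simp [Limits.diag]⟩
  haveI : Mono b := MorphismProperty.of_isPullback (P := MorphismProperty.monomorphisms (Sp S)) hb ‹_›
  have sq : IsPullback (𝟙 X) (pullback.diagonal f) (Limits.diag X) b :=
    IsPullback.of_isLimit' ⟨by rw [Category.id_comp, e]⟩ (PullbackCone.IsLimit.mk _ (fun t => t.fst)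
      (fun t => Category.comp_id _) (fun t => by rw [← cancel_mono b, Category.assoc, e, t.condition])
      (fun t l h1 _ => by rw [← h1, Category.comp_id]))
  exact repWith_of_isPullback sq hX

/-- Fibre products of quasi-compact spaces over a quasi-separated one are quasi-compact. -/
theorem isQuasiCompactSp_of_isPullback [QuasiSeparatedSpace ↥S] {X Y Z P : Sp S} {f : X ⟶ Y} {g : Z ⟶ Y}
    {fst : P ⟶ X} {snd : P ⟶ Z} (sq : IsPullback fst snd f g) (hX : IsQuasiCompactSp X) (hY : IsQuasiSeparatedSp Y)
    (hZ : IsQuasiCompactSp Z) : IsQuasiCompactSp P := by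
  obtain ⟨U, a, ha, has, hU⟩ := hX
  obtain ⟨V, b, hb, hbs, hV⟩ := hZ
  haveI : CompactSpace ↥U.left := hU
  haveI : CompactSpace ↥V.left := hV
  let tU : U ⟶ Over.mk (𝟙 S) := Over.homMk U.hom (Category.comp_id _)
  let tV : V ⟶ Over.mk (𝟙 S) := Over.homMk V.hom (Category.comp_id _)
  have hT := IsPullback.of_hasPullback tU tV
  haveI : QuasiCompact V.hom := quasiCompact_of_compactSpace _
  haveI : QuasiCompact (pullback.fst tU tV).left :=
    MorphismProperty.of_isPullback (P := @QuasiCompact) (isPullback_left hT).flip ‹QuasiCompact V.hom›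
  haveI : CompactSpace ↥(pullback tU tV).left := QuasiCompact.compactSpace_of_compactSpace (pullback.fst tU tV).left
  let c : (yon S).obj (pullback tU tV) ⟶ Y ⨯ Y :=
    prod.lift ((yon S).map (pullback.fst tU tV) ≫ a ≫ f) ((yon S).map (pullback.snd tU tV) ≫ b ≫ g)
  have sD := hY.1.isPullback c
  let w := hY.1.snd c
  haveI : QuasiCompact w.left := hY.2 c _ w sD
  haveI : CompactSpace ↥(hY.1.pullback c).left := QuasiCompact.compactSpace_of_compactSpace w.left
  have e1 : hY.1.fst c = (yon S).map (w ≫ pullback.fst tU tV) ≫ a ≫ f := by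
    simpa [c, Limits.diag] using sD.w =≫ prod.fst
  have e2 : hY.1.fst c = (yon S).map (w ≫ pullback.snd tU tV) ≫ b ≫ g := by
    simpa [c, Limits.diag] using sD.w =≫ prod.snd
  have big : IsPullback ((yon S).map (w ≫ pullback.fst tU tV)) ((yon S).map (w ≫ pullback.snd tU tV))
      (a ≫ f) (b ≫ g) := by
    have hyT := isPullback_yon_map hT
    let lT : ∀ (t : PullbackCone (a ≫ f) (b ≫ g)), t.pt ⟶ (yon S).obj (pullback tU tV) := fun t =>
      hyT.lift t.fst t.snd (isTerminalYonBase.hom_ext _ _)
    have hlT : ∀ t, (t.fst ≫ a ≫ f) ≫ Limits.diag Y = lT t ≫ c := fun t => by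
      apply prod.hom_ext
      · simp [c, lT, Limits.diag, hyT.lift_fst_assoc]
      · simp [c, lT, Limits.diag, hyT.lift_snd_assoc, t.condition]
    refine IsPullback.of_isLimit' ⟨e1.symm.trans e2⟩ (PullbackCone.IsLimit.mk _
      (fun t => sD.lift (t.fst ≫ a ≫ f) (lT t) (hlT t)) (fun t => ?_) (fun t => ?_) (fun t l h1 h2 => ?_))
    · rw [Functor.map_comp, reassoc_of% (sD.lift_snd _ _ (hlT t)), hyT.lift_fst]
    · rw [Functor.map_comp, reassoc_of% (sD.lift_snd _ _ (hlT t)), hyT.lift_snd]
    · refine sD.hom_ext ?_ ?_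
      · rw [sD.lift_fst, e1, reassoc_of% h1]
      · rw [sD.lift_snd]
        refine hyT.hom_ext ?_ ?_
        · rw [hyT.lift_fst, Category.assoc, ← Functor.map_comp]; exact h1
        · rw [hyT.lift_snd, Category.assoc, ← Functor.map_comp]; exact h2
  -- the base change of the two charts
  have s1 := IsPullback.of_hasPullback a fst
  let q := pullback.snd a fst
  have hq : RepWith @Etale q := repWith_of_isPullback s1 ha
  have hqs : RepWith @Surjective q := repWith_of_isPullback s1 has
  have s1' : IsPullback (pullback.fst a fst) (q ≫ snd) (a ≫ f) g := (s1.flip.paste_horiz sq.flip).flip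
  let l := s1'.lift ((yon S).map (w ≫ pullback.fst tU tV)) ((yon S).map (w ≫ pullback.snd tU tV) ≫ b)
    (big.w.trans (Category.assoc _ _ _).symm)
  have s2 : IsPullback l ((yon S).map (w ≫ pullback.snd tU tV)) (q ≫ snd) b :=
    IsPullback.of_right (h₁₂ := pullback.fst a fst) (v₁₃ := a ≫ f) (h₂₂ := g)
      (by rw [s1'.lift_fst]; exact big) (s1'.lift_snd _ _ _) s1'
  exact ⟨hY.1.pullback c, l ≫ q, repWith_comp (repWith_of_isPullback s2.flip hb) hq,
    repWith_comp (repWith_of_isPullback s2.flip hbs) hqs, inferInstance⟩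

end Groth.Agent.ASp
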