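import Groth.Agent.ASp.AffMor
import Groth.Agent.ASp.LocP
import Groth.Agent.ASp.EtaleCover
import Groth.Agent.ASp.QcqsPullback
import Groth.Agent.AffLim.DescendMore
import Mathlib.CategoryTheory.Limits.Constructions.Over.Connected
/-!
# Limits of algebraic spaces with affine transition maps, seen in a scheme chart

For a cofiltered system of algebraic spaces `D` with affine transition maps and a map
`a : h_U ⟶ D i₀`, the fibre products `h_U ×_{D i₀} D k` form a system of schemes affine over `U`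
(`Frame`), whose limit represents `h_U ×_{D i₀} lim D`. A property of morphisms of schemes which
descends along such systems then descends for algebraic spaces (`exists_stage_locP`).
-/

set_option autoImplicit false
set_option backward.isDefEq.respectTransparency false
set_option backward.isDefEq.respectTransparency.types false

universe u

open CategoryTheory CategoryTheory.Limits AlgebraicGeometry Opposite

noncomputable section

namespace Groth.Agent.ASp

open _root_.AlgSp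

attribute [local instance] CategoryTheory.isConnected_of_hasTerminal

variable {S : Scheme.{u}}

/-- The system of schemes `h_U ×_{D i₀} D k` and its limit. -/
structure Frame {I : Type u} [SmallCategory I] (D : I ⥤ Sp S) (c : Cone D) (i₀ : I) {U : Over S}
    (a : (yon S).obj U ⟶ D.obj i₀) where
  E : CategoryTheory.Over i₀ ⥤ Over S
  cone : Cone E
  isLimit : IsLimit ((Over.forget S).mapCone cone)
  q : ∀ k : CategoryTheory.Over i₀, (yon S).obj (E.obj k) ⟶ D.obj k.left
  w : ∀ k : CategoryTheory.Over i₀, E.obj k ⟶ U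
  sq : ∀ k : CategoryTheory.Over i₀, IsPullback (q k) ((yon S).map (w k)) (D.map k.hom) a
  map_w : ∀ ⦃k l : CategoryTheory.Over i₀⦄ (f : k ⟶ l), E.map f ≫ w l = w k
  map_q : ∀ ⦃k l : CategoryTheory.Over i₀⦄ (f : k ⟶ l), (yon S).map (E.map f) ≫ q l = q k ≫ D.map f.left
  affine : ∀ ⦃k l : CategoryTheory.Over i₀⦄ (f : k ⟶ l), IsAffineHom (E.map f).left
  affine_w : ∀ k : CategoryTheory.Over i₀, IsAffineHom (w k).left
  isIso_w : IsIso (w (Over.mk (𝟙 i₀))).left
  qLim : (yon S).obj cone.pt ⟶ c.pt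
  wLim : cone.pt ⟶ U
  sqLim : IsPullback qLim ((yon S).map wLim) (c.π.app i₀) a
  π_w : ∀ k : CategoryTheory.Over i₀, cone.π.app k ≫ w k = wLim
  qLim_π : ∀ k : CategoryTheory.Over i₀, qLim ≫ c.π.app k.left = (yon S).map (cone.π.app k) ≫ q k

theorem yon_preservesLimit {J : Type u} [SmallCategory J] (E : J ⥤ Over S) : PreservesLimit E (yon S) := by
  have h1 : PreservesLimit E (yon S ⋙ sheafToPresheaf (AlgSp.J S) (Type (u + 1))) :=
    inferInstanceAs (PreservesLimit E (CategoryTheory.uliftYoneda.{u + 1}))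
  exact preservesLimit_of_reflects_of_preserves (yon S) (sheafToPresheaf (AlgSp.J S) (Type (u + 1)))

theorem isIso_of_isPullback_id {C : Type*} [Category C] {P X A : C} {fst : P ⟶ A} {snd : P ⟶ X}
    {g : X ⟶ A} (h : IsPullback fst snd (𝟙 A) g) : IsIso snd :=
  ⟨⟨h.lift g (𝟙 X) (by simp), h.hom_ext (by simpa using h.w.symm) (by simp), h.lift_snd _ _ _⟩⟩

theorem exists_frame {I : Type u} [SmallCategory I] [IsCofiltered I] (D : I ⥤ Sp S)
    (hD : ∀ i, IsAlgSpace (D.obj i)) (hDa : ∀ (i j : I) (φ : i ⟶ j), IsAffineMor (D.map φ))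
    (c : Cone D) (hc : IsLimit c) (i₀ : I) {U : Over S} (a : (yon S).obj U ⟶ D.obj i₀) :
    Nonempty (Frame D c i₀ a) := by
  have hR : ∀ k : CategoryTheory.Over i₀, RepWith @IsAffineHom (D.map k.hom) := fun k =>
    repWith_isAffineHom_of_isAffineMor (hD _) (hD _) (hDa _ _ _)
  let W : CategoryTheory.Over i₀ → Over S := fun k => (hR k).1.pullback a
  let w : ∀ k, W k ⟶ U := fun k => (hR k).1.snd a
  let q : ∀ k, (yon S).obj (W k) ⟶ D.obj k.left := fun k => (hR k).1.fst a
  have sq : ∀ k, IsPullback (q k) ((yon S).map (w k)) (D.map k.hom) a := fun k => (hR k).1.isPullback a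
  have haw : ∀ k, IsAffineHom (w k).left := fun k => (hR k).2 a _ _ (sq k)
  have hl : ∀ {k l : CategoryTheory.Over i₀} (f : k ⟶ l), ∃ e : W k ⟶ W l,
      (yon S).map e ≫ q l = q k ≫ D.map f.left ∧ e ≫ w l = w k := fun {k l} f => by
    have e0 : (q k ≫ D.map f.left) ≫ D.map l.hom = (yon S).map (w k) ≫ a := by
      rw [Category.assoc, ← D.map_comp, Over.w f, (sq k).w]
    obtain ⟨e, he⟩ := (yon S).map_surjective ((sq l).lift _ _ e0)
    refine ⟨e, by rw [he, (sq l).lift_fst], (yon S).map_injective ?_⟩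
    rw [Functor.map_comp, he, (sq l).lift_snd]
  choose e he1 he2 using @hl
  have huniq : ∀ {k : CategoryTheory.Over i₀} {Z : Over S} (x y : Z ⟶ W k),
      (yon S).map x ≫ q k = (yon S).map y ≫ q k → x ≫ w k = y ≫ w k → x = y := fun {k Z} x y h1 h2 =>
    (yon S).map_injective ((sq k).hom_ext h1 (by rw [← Functor.map_comp, ← Functor.map_comp, h2]))
  let E : CategoryTheory.Over i₀ ⥤ Over S :=
    { obj := W
      map := fun f => e f
      map_id := fun k => huniq _ _ (by rw [he1, Over.id_left, D.map_id, Category.comp_id,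
        CategoryTheory.Functor.map_id, Category.id_comp]) (by rw [he2, Category.id_comp])
      map_comp := fun {k l m} f g => huniq _ _ (by
          rw [he1, Functor.map_comp, Category.assoc, he1, ← Category.assoc, he1, Category.assoc,
            Over.comp_left, D.map_comp])
        (by rw [he2, Category.assoc, he2, he2]) }
  have hEa : ∀ ⦃k l : CategoryTheory.Over i₀⦄ (f : k ⟶ l), IsAffineHom (E.map f).left := fun k l f => by
    have := haw l
    have : IsAffineHom ((E.map f).left ≫ (w l).left) := by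
      rw [← Over.comp_left]
      exact (congrArg (fun z => IsAffineHom z.left) (he2 f)).mpr (haw k)
    exact IsAffineHom.of_comp _ (w l).left
  haveI : ∀ {k l : CategoryTheory.Over i₀} (f : k ⟶ l), IsAffineHom ((E ⋙ Over.forget S).map f) :=
    fun f => hEa f
  obtain ⟨cL, ⟨hcL⟩⟩ := AffLim.exists_isLimit (E ⋙ Over.forget S)
  let cE : Cone E := liftLimit hcL
  have hcE : IsLimit cE := liftedLimitIsLimit hcL
  have hcE' : IsLimit ((Over.forget S).mapCone cE) :=
    IsLimit.ofIsoLimit hcL (liftedLimitMapsToOriginal hcL).symm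
  haveI := yon_preservesLimit E
  let hY : IsLimit ((yon S).mapCone cE) := isLimitOfPreserves (yon S) hcE
  let hci : IsLimit (c.whisker (CategoryTheory.Over.forget i₀)) :=
    (Functor.Initial.isLimitWhiskerEquiv (CategoryTheory.Over.forget i₀) c).symm hc
  let qc : Cone (CategoryTheory.Over.forget i₀ ⋙ D) :=
    { pt := (yon S).obj cE.pt
      π :=
        { app := fun k => (yon S).map (cE.π.app k) ≫ q k
          naturality := fun k l f => by
            change 𝟙 _ ≫ (yon S).map (cE.π.app l) ≫ q l = ((yon S).map (cE.π.app k) ≫ q k) ≫ D.map f.left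
            rw [Category.id_comp, ← cE.w f, Functor.map_comp, Category.assoc, Category.assoc]
            exact congrArg _ (he1 f) } }
  let qLim : (yon S).obj cE.pt ⟶ c.pt := hci.lift qc
  have hq : ∀ k : CategoryTheory.Over i₀, qLim ≫ c.π.app k.left = (yon S).map (cE.π.app k) ≫ q k :=
    fun k => hci.fac qc k
  let o : CategoryTheory.Over i₀ := CategoryTheory.Over.mk (𝟙 i₀)
  have hπw : ∀ k, cE.π.app k ≫ w k = cE.π.app o ≫ w o := fun k => by
    rw [← cE.w (CategoryTheory.Over.homMk k.hom (Category.comp_id _) : k ⟶ o), Category.assoc]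
    exact congrArg _ (he2 _).symm
  have hiso : IsIso (w o).left := by
    haveI : IsIso ((yon S).map (w o)) := isIso_of_isPullback_id (fst := q o) (g := a) (by
      simpa [o] using sq o)
    haveI : IsIso (w o) := isIso_of_fully_faithful (yon S) (w o)
    infer_instance
  have hlim : IsPullback qLim ((yon S).map (cE.π.app o ≫ w o)) (c.π.app i₀) a := by
    have e0 : qLim ≫ c.π.app i₀ = (yon S).map (cE.π.app o ≫ w o) ≫ a := by
      have h1 : qLim ≫ c.π.app i₀ = (qLim ≫ c.π.app o.left) ≫ D.map o.hom := by simp [o]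
      rw [h1, hq, Category.assoc, (sq o).w, Functor.map_comp, Category.assoc]
    have et : ∀ (t : PullbackCone (c.π.app i₀) a) (k : CategoryTheory.Over i₀),
        (t.fst ≫ c.π.app k.left) ≫ D.map k.hom = t.snd ≫ a := fun t k => by
      rw [Category.assoc, c.w, t.condition]
    let fam : ∀ t : PullbackCone (c.π.app i₀) a, Cone (E ⋙ yon S) := fun t =>
      { pt := t.pt
        π :=
          { app := fun k => (sq k).lift _ _ (et t k)
            naturality := fun k l f => by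
              change 𝟙 _ ≫ (sq l).lift _ _ _ = (sq k).lift _ _ _ ≫ (yon S).map (e f)
              rw [Category.id_comp]
              apply (sq l).hom_ext
              · rw [(sq l).lift_fst, Category.assoc, he1, ← Category.assoc, (sq k).lift_fst,
                  Category.assoc, c.w]
              · rw [(sq l).lift_snd, Category.assoc, ← Functor.map_comp, he2, (sq k).lift_snd] } }
    have hfac : ∀ t k, hY.lift (fam t) ≫ (yon S).map (cE.π.app k) = (sq k).lift _ _ (et t k) :=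
      fun t k => hY.fac (fam t) k
    refine IsPullback.of_isLimit' ⟨e0⟩ (PullbackCone.IsLimit.mk _ (fun t => hY.lift (fam t))
      (fun t => hci.hom_ext fun k => ?_) (fun t => ?_) (fun t l h1 h2 => hY.hom_ext fun k => ?_))
    · change (hY.lift (fam t) ≫ qLim) ≫ c.π.app k.left = t.fst ≫ c.π.app k.left
      rw [Category.assoc, hq, ← Category.assoc, hfac, (sq k).lift_fst]
    · rw [Functor.map_comp, ← Category.assoc, hfac, (sq o).lift_snd]
    · change l ≫ (yon S).map (cE.π.app k) = hY.lift (fam t) ≫ (yon S).map (cE.π.app k)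
      rw [hfac]
      apply (sq k).hom_ext
      · rw [(sq k).lift_fst, Category.assoc, ← hq, ← Category.assoc, h1]
      · rw [(sq k).lift_snd, Category.assoc, ← Functor.map_comp, hπw, h2]
  exact ⟨⟨E, cE, hcE', q, w, sq, fun k l f => he2 f, fun k l f => he1 f, hEa, haw, hiso, qLim, _, hlim, hπw, hq⟩⟩

/-- A chart of a base change from a chart of the original morphism. -/
theorem exists_chart_lift' {X₀ Y₀ Xi Yi : Sp S} {f₀ : X₀ ⟶ Y₀} {V U E : Over S}
    {v : (yon S).obj V ⟶ Y₀} {u : (yon S).obj U ⟶ pullback f₀ v} {h₀ : U ⟶ V}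
    (hu : RepWith @Etale u) (hus : RepWith @Surjective u)
    (hh : (yon S).map h₀ = u ≫ pullback.snd f₀ v)
    {pX : Xi ⟶ X₀} {fi : Xi ⟶ Yi} {pY : Yi ⟶ Y₀} (hX : IsPullback pX fi f₀ pY)
    {m : (yon S).obj E ⟶ Yi} (hm : RepWith @Etale m) (hms : RepWith @Surjective m) {w : E ⟶ V}
    (hw : m ≫ pY = (yon S).map w ≫ v) :
    ∃ n : (yon S).obj (pullback h₀ w) ⟶ Xi, RepWith @Etale n ∧ RepWith @Surjective n ∧
      n ≫ fi = (yon S).map (pullback.snd h₀ w) ≫ m ∧
      ∃ r : (yon S).obj (pullback h₀ w) ⟶ pullback fi m, RepWith @Surjective r ∧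
        r ≫ pullback.snd fi m = (yon S).map (pullback.snd h₀ w) := by
  have sT := IsPullback.of_hasPullback fi m
  have sP := IsPullback.of_hasPullback f₀ v
  have s1 : IsPullback (pullback.fst fi m ≫ pX) (pullback.snd fi m) f₀ ((yon S).map w ≫ v) := by
    have := sT.paste_horiz hX
    rwa [hw] at this
  have et : (pullback.fst fi m ≫ pX) ≫ f₀ = (pullback.snd fi m ≫ (yon S).map w) ≫ v := by
    rw [Category.assoc]; exact s1.w
  have s2 : IsPullback (sP.lift _ _ et) (pullback.snd fi m) (pullback.snd f₀ v) ((yon S).map w) :=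
    IsPullback.of_right (by rw [sP.lift_fst]; exact s1) (sP.lift_snd _ _ _) sP
  have sU : IsPullback ((yon S).map (pullback.fst h₀ w)) ((yon S).map (pullback.snd h₀ w))
      ((yon S).map h₀) ((yon S).map w) := isPullback_yon_map (IsPullback.of_hasPullback h₀ w)
  have eb : ((yon S).map (pullback.fst h₀ w) ≫ u) ≫ pullback.snd f₀ v =
      (yon S).map (pullback.snd h₀ w) ≫ (yon S).map w := by
    rw [Category.assoc, ← hh]; exact sU.w
  let r := s2.lift _ _ eb
  have hr : r ≫ pullback.snd fi m = (yon S).map (pullback.snd h₀ w) := s2.lift_snd _ _ _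
  have s3 : IsPullback ((yon S).map (pullback.fst h₀ w)) r u (sP.lift _ _ et) :=
    IsPullback.of_bot (by rw [hr, ← hh]; exact sU) (s2.lift_fst _ _ _).symm s2
  refine ⟨r ≫ pullback.fst fi m, repWith_comp (repWith_of_isPullback s3 hu) (repWith_of_isPullback sT.flip hm),
    repWith_comp (repWith_of_isPullback s3 hus) (repWith_of_isPullback sT.flip hms), ?_,
    r, repWith_of_isPullback s3 hus, hr⟩
  rw [Category.assoc, pullback.condition, ← Category.assoc, hr]

/-- An affine chart of a quasi-compact morphism over a chart of its target. -/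
theorem exists_affine_chart_pair [QuasiSeparatedSpace ↥S] {X₀ Y₀ : Sp S} (hX : IsAlgSpace X₀)
    (hY : IsAlgSpace Y₀) (f₀ : X₀ ⟶ Y₀) (hXqc : IsQuasiCompactSp X₀) (hYqc : IsQuasiCompactSp Y₀)
    (hYqs : IsQuasiSeparatedSp Y₀) :
    ∃ (V U : Over S) (v : (yon S).obj V ⟶ Y₀) (u : (yon S).obj U ⟶ pullback f₀ v) (h₀ : U ⟶ V),
      IsAffine V.left ∧ IsAffine U.left ∧ RepWith @Etale v ∧ RepWith @Surjective v ∧
      RepWith @Etale u ∧ RepWith @Surjective u ∧ (yon S).map h₀ = u ≫ pullback.snd f₀ v := by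
  haveI := compactSpace_of_isQuasiCompactSp hYqc
  obtain ⟨V, v, hV, hv, hvs⟩ := exists_affine_chart hY
  haveI := hV
  have hP : IsAlgSpace (pullback f₀ v) := isAlgSpace_pullback hY.diag hX (IsAlgSpace.yon_obj V) f₀ v
  have hPqc : IsQuasiCompactSp (pullback f₀ v) :=
    isQuasiCompactSp_of_isPullback (IsPullback.of_hasPullback f₀ v) hXqc hYqs
      ⟨V, 𝟙 _, repWith_of_isIso _, repWith_of_isIso _, inferInstance⟩
  haveI := compactSpace_of_isQuasiCompactSp hPqc
  obtain ⟨U, u, hU, hu, hus⟩ := exists_affine_chart hP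
  obtain ⟨h₀, hh⟩ := (yon S).map_surjective (u ≫ pullback.snd f₀ v)
  exact ⟨V, U, v, u, h₀, hV, hU, hv, hvs, hu, hus, hh⟩

/-- What it means for a property of morphisms of schemes to descend along affine limits (source and
target of the morphism affine). -/
def DescendsLim (P Q : MorphismProperty Scheme.{u}) : Prop :=
  ∀ {I : Type u} [SmallCategory I] [IsCofiltered I] (D : I ⥤ Scheme.{u})
    [∀ {i j : I} (f : i ⟶ j), IsAffineHom (D.map f)] (c : Cone D) (_ : IsLimit c) (i₀ : I)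
    {X₀ Y₀ X Y : Scheme.{u}} [IsAffine X₀] [IsAffine Y₀] (f₀ : X₀ ⟶ Y₀) (g₀ : Y₀ ⟶ D.obj i₀)
    {f : X ⟶ Y} {g : Y ⟶ c.pt} {qY : Y ⟶ Y₀} {qX : X ⟶ X₀}, Q f₀ →
    IsPullback qY g g₀ (c.π.app i₀) → IsPullback qX f f₀ qY → P f →
    ∃ k : CategoryTheory.Over i₀, P ((AffLim.baseChangeMap D i₀ f₀ g₀).app k)

/-- A property, detected on charts, which descends along affine limits of schemes descends along limits of
algebraic spaces with affine transition maps. -/
theorem exists_stage_chart {P Q : MorphismProperty Scheme.{u}} [P.RespectsIso]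
    {R R' : MorphismProperty (Sp S)} (H : DescendsLim P Q)
    (hlim : ∀ {A B : Sp S} {U V : Over S} (g : A ⟶ B) (n : (yon S).obj U ⟶ A) (h : U ⟶ V)
      (m : (yon S).obj V ⟶ B) (r : (yon S).obj U ⟶ pullback g m), IsAlgSpace A → IsAlgSpace B →
      RepWith @Etale n → RepWith @Etale m → n ≫ g = (yon S).map h ≫ m → RepWith @Surjective r →
      r ≫ pullback.snd g m = (yon S).map h → R g → P h.left)
    (hstage : ∀ {A B : Sp S} {U V : Over S} (g : A ⟶ B) (n : (yon S).obj U ⟶ A) (h : U ⟶ V)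
      (m : (yon S).obj V ⟶ B), IsAlgSpace A → IsAlgSpace B →
      RepWith @Etale n → RepWith @Surjective n → RepWith @Etale m → RepWith @Surjective m →
      n ≫ g = (yon S).map h ≫ m → P h.left → R' g) [QuasiSeparatedSpace ↥S] {I : Type u} [SmallCategory I] [IsCofiltered I]
    (D : I ⥤ Sp S) (hD : ∀ i, IsAlgSpace (D.obj i))
    (hDa : ∀ (i j : I) (φ : i ⟶ j), IsAffineMor (D.map φ)) (c : Cone D) (hc : IsLimit c) (i₀ : I)
    {X₀ Y₀ : Sp S} (hXa : IsAlgSpace X₀) (hYa : IsAlgSpace Y₀) (f₀ : X₀ ⟶ Y₀) (b₀ : Y₀ ⟶ D.obj i₀)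
    (hXqc : IsQuasiCompactSp X₀) (hYqc : IsQuasiCompactSp Y₀) (hYqs : IsQuasiSeparatedSp Y₀)
    {X Y : Sp S} {f : X ⟶ Y} {pY : Y ⟶ Y₀} {qY : Y ⟶ c.pt}
    (hY : IsPullback pY qY b₀ (c.π.app i₀)) {pX : X ⟶ X₀} (hX : IsPullback pX f f₀ pY)
    (hYc : IsAlgSpace Y) (hf₀ : LocP Q f₀) (hf : R f) :
    ∃ (i : I) (φ : i ⟶ i₀), ∀ (Xi Yi : Sp S) (fi : Xi ⟶ Yi) (pYi : Yi ⟶ Y₀) (qYi : Yi ⟶ D.obj i)
      (_ : IsPullback pYi qYi b₀ (D.map φ)) (pXi : Xi ⟶ X₀) (_ : IsPullback pXi fi f₀ pYi),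
      R' fi := by
  obtain ⟨V, U, v, u, h₀, hV, hU, hv, hvs, hu, hus, hh⟩ :=
    exists_affine_chart_pair hXa hYa f₀ hXqc hYqc hYqs
  obtain ⟨F⟩ := exists_frame D hD hDa c hc i₀ (v ≫ b₀)
  haveI := hV
  haveI := hU
  -- the scheme chart of `f₀`
  have hQ : Q h₀.left := hf₀ (u ≫ pullback.fst f₀ v) v h₀
    (repWith_comp hu (repWith_of_isPullback (IsPullback.of_hasPullback f₀ v).flip hv)) hv
    (by rw [Category.assoc, pullback.condition, ← Category.assoc, hh])
  -- the chart over the limit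
  have eL : ((yon S).map F.wLim ≫ v) ≫ b₀ = F.qLim ≫ c.π.app i₀ := by
    rw [Category.assoc]; exact F.sqLim.w.symm
  have sm : IsPullback (hY.lift _ _ eL) ((yon S).map F.wLim) pY v := by
    refine IsPullback.of_right (h₁₂ := qY) (h₂₂ := b₀) (v₁₃ := c.π.app i₀) ?_ (hY.lift_fst _ _ _) hY.flip
    rw [hY.lift_snd]; exact F.sqLim
  obtain ⟨n, hn, -, hnf, r, hr, hrs⟩ := exists_chart_lift' hu hus hh hX (m := hY.lift _ _ eL)
    (repWith_of_isPullback sm.flip hv) (repWith_of_isPullback sm.flip hvs) sm.w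
  have hP : P (pullback.snd h₀ F.wLim).left := hlim f n _ _ r (isAlgSpace_of_isPullback hYa.diag hXa hYc hX) hYc hn
    (repWith_of_isPullback sm.flip hv) hnf hr hrs hf
  -- descent for the schemes
  haveI : ∀ {k l : CategoryTheory.Over i₀} (φ : k ⟶ l), IsAffineHom ((F.E ⋙ Over.forget S).map φ) :=
    fun φ => F.affine φ
  haveI := F.isIso_w
  let o : CategoryTheory.Over i₀ := CategoryTheory.Over.mk (𝟙 i₀)
  let g₀ : V.left ⟶ (F.E ⋙ Over.forget S).obj o := inv (F.w o).left
  have hY' : IsPullback F.wLim.left (𝟙 F.cone.pt.left) g₀ (((Over.forget S).mapCone F.cone).π.app o) := by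
    refine IsPullback.of_vert_isIso ⟨?_⟩
    rw [← F.π_w o]
    simp [g₀]
  obtain ⟨kk, hkk⟩ := H (F.E ⋙ Over.forget S) _ F.isLimit o h₀.left g₀ hQ hY'
    (isPullback_left (IsPullback.of_hasPullback h₀ F.wLim)) hP
  refine ⟨kk.left.left, kk.left.hom, fun Xi Yi fi pYi qYi hYi pXi hXi => ?_⟩
  let k : CategoryTheory.Over i₀ := kk.left
  haveI : IsAffineHom (F.w k).left := F.affine_w k
  have hkk' : P (pullback.snd h₀ (F.w k)).left := by
    haveI : IsIso g₀ := inferInstanceAs (IsIso (inv (F.w o).left))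
    refine (AffLim.prop_iff_of_isPullback P (AffLim.isPullback_baseChangeMap _ o h₀.left g₀ kk)
      (isPullback_left (IsPullback.of_hasPullback h₀ (F.w k))) (asIso (pullback.snd g₀ _)) ?_).1 hkk
    change pullback.snd g₀ ((F.E.map kk.hom).left) ≫ (F.w k).left = pullback.fst g₀ _
    have h1 : (F.E.map kk.hom).left ≫ (F.w o).left = (F.w k).left := by
      rw [← Over.comp_left, F.map_w]
    rw [← h1, ← Category.assoc, ← pullback.condition, Category.assoc]
    simp [g₀]
  have ek : ((yon S).map (F.w k) ≫ v) ≫ b₀ = F.q k ≫ D.map k.hom := by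
    rw [Category.assoc]; exact (F.sq k).w.symm
  have sk : IsPullback (hYi.lift _ _ ek) ((yon S).map (F.w k)) pYi v := by
    refine IsPullback.of_right (h₁₂ := qYi) (h₂₂ := b₀) (v₁₃ := D.map k.hom) ?_ (hYi.lift_fst _ _ _) hYi.flip
    rw [hYi.lift_snd]; exact F.sq k
  obtain ⟨n', hn', hns', hnf', -⟩ := exists_chart_lift' hu hus hh hXi (m := hYi.lift _ _ ek)
    (repWith_of_isPullback sk.flip hv) (repWith_of_isPullback sk.flip hvs) sk.w
  have hYia := isAlgSpace_of_isPullback (hD i₀).diag hYa (hD k.left) hYi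
  exact hstage fi n' _ _ (isAlgSpace_of_isPullback hYa.diag hXa hYia hXi) hYia hn' hns'
    (repWith_of_isPullback sk.flip hv) (repWith_of_isPullback sk.flip hvs) hnf' hkk'

/-- A property of morphisms which descends along affine limits of schemes descends along limits of
algebraic spaces with affine transition maps. -/
theorem exists_stage_locP {P Q : MorphismProperty Scheme.{u}} [P.RespectsIso] [IsEtLocal P]
    (H : DescendsLim P Q) [QuasiSeparatedSpace ↥S] {I : Type u} [SmallCategory I] [IsCofiltered I]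
    (D : I ⥤ Sp S) (hD : ∀ i, IsAlgSpace (D.obj i))
    (hDa : ∀ (i j : I) (φ : i ⟶ j), IsAffineMor (D.map φ)) (c : Cone D) (hc : IsLimit c) (i₀ : I)
    {X₀ Y₀ : Sp S} (hXa : IsAlgSpace X₀) (hYa : IsAlgSpace Y₀) (f₀ : X₀ ⟶ Y₀) (b₀ : Y₀ ⟶ D.obj i₀)
    (hXqc : IsQuasiCompactSp X₀) (hYqc : IsQuasiCompactSp Y₀) (hYqs : IsQuasiSeparatedSp Y₀)
    {X Y : Sp S} {f : X ⟶ Y} {pY : Y ⟶ Y₀} {qY : Y ⟶ c.pt}
    (hY : IsPullback pY qY b₀ (c.π.app i₀)) {pX : X ⟶ X₀} (hX : IsPullback pX f f₀ pY)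
    (hf₀ : LocP Q f₀) (hYc : IsAlgSpace Y) (hf : LocP P f) :
    ∃ (i : I) (φ : i ⟶ i₀), ∀ (Xi Yi : Sp S) (fi : Xi ⟶ Yi) (pYi : Yi ⟶ Y₀) (qYi : Yi ⟶ D.obj i)
      (_ : IsPullback pYi qYi b₀ (D.map φ)) (pXi : Xi ⟶ X₀) (_ : IsPullback pXi fi f₀ pYi),
      LocP P fi :=
  exists_stage_chart (R := LocP P) (R' := LocP P) H
    (fun _g n _h m _r _ _ hn hm e _ _ hg => hg n m _ hn hm e)
    (fun _g _n _h _m _ _ hn hns hm _ e hP => locP_of_chart hn hns hm e hP)
    D hD hDa c hc i₀ hXa hYa f₀ b₀ hXqc hYqc hYqs hY hX hYc hf₀ hf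

/-- The limit of the system is an algebraic space, affine over each member (scheme-chart version). -/
theorem isAlgSpace_limit_and_isAffineMor {I : Type u} [SmallCategory I] [IsCofiltered I] (D : I ⥤ Sp S)
    (hD : ∀ i, IsAlgSpace (D.obj i)) (hDa : ∀ (i j : I) (φ : i ⟶ j), IsAffineMor (D.map φ))
    (c : Cone D) (hc : IsLimit c) : IsAlgSpace c.pt ∧ ∀ i, IsAffineMor (c.π.app i) := by
  have aff : ∀ i, IsAffineMor (c.π.app i) := fun i Z hZ g => by
    obtain ⟨F⟩ := exists_frame D hD hDa c hc i g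
    haveI := hZ
    haveI : ∀ {k l : CategoryTheory.Over i} (φ : k ⟶ l), IsAffineHom ((F.E ⋙ Over.forget S).map φ) :=
      fun φ => F.affine φ
    haveI : ∀ k, IsAffine ((F.E ⋙ Over.forget S).obj k) := fun k =>
      haveI := F.affine_w k
      isAffine_of_isAffineHom (F.w k).left
    exact ⟨_, _, _, F.sqLim, Scheme.isAffine_of_isLimit _ F.isLimit⟩
  refine ⟨?_, aff⟩
  obtain ⟨i₀⟩ := IsCofiltered.nonempty (C := I)
  obtain ⟨V, v, hv, hvs⟩ := (hD i₀).atlas
  obtain ⟨F⟩ := exists_frame D hD hDa c hc i₀ v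
  exact isAlgSpace_of_etale_cover (fun _ : PUnit.{u+1} => F.cone.pt) (fun _ => F.qLim)
    (fun _ => repWith_of_isPullback F.sqLim.flip hv)
    (fun x => ⟨PUnit.unit, surjective_map_of_repWith (repWith_of_isPullback F.sqLim.flip hvs) x⟩)

/-- Base changes at a later stage of a morphism at an earlier stage. -/
theorem stage_mono {Q : MorphismProperty (Sp S)}
    (hQ : ∀ {A B A' B' : Sp S} {f : A ⟶ B} {g : B' ⟶ B} {f' : A' ⟶ B'} {g' : A' ⟶ A},
      IsPullback g' f' f g → IsAlgSpace A → IsAlgSpace B → IsAlgSpace B' → Q f → Q f')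
    {I : Type u} [SmallCategory I] {D : I ⥤ Sp S} (hD : ∀ i, IsAlgSpace (D.obj i)) {i₀ : I}
    {X₀ Y₀ : Sp S} (hXa : IsAlgSpace X₀) (hYa : IsAlgSpace Y₀) {f₀ : X₀ ⟶ Y₀} {b₀ : Y₀ ⟶ D.obj i₀}
    {i j : I} {φ : i ⟶ i₀} (ψ : j ⟶ i)
    (h : ∀ (Xi Yi : Sp S) (fi : Xi ⟶ Yi) (pYi : Yi ⟶ Y₀) (qYi : Yi ⟶ D.obj i)
      (_ : IsPullback pYi qYi b₀ (D.map φ)) (pXi : Xi ⟶ X₀) (_ : IsPullback pXi fi f₀ pYi), Q fi)
    (Xj Yj : Sp S) (fj : Xj ⟶ Yj) (pYj : Yj ⟶ Y₀) (qYj : Yj ⟶ D.obj j)
    (hYj : IsPullback pYj qYj b₀ (D.map (ψ ≫ φ))) (pXj : Xj ⟶ X₀)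
    (hXj : IsPullback pXj fj f₀ pYj) : Q fj := by
  have hYi := IsPullback.of_hasPullback b₀ (D.map φ)
  have hXi := IsPullback.of_hasPullback f₀ (pullback.fst b₀ (D.map φ))
  have h' := h _ _ _ _ _ hYi _ hXi
  have e1 : pYj ≫ b₀ = (qYj ≫ D.map ψ) ≫ D.map φ := by
    rw [Category.assoc, ← D.map_comp]; exact hYj.w
  have hl := hYi.lift_fst _ _ e1
  have e2 : pXj ≫ f₀ = (fj ≫ hYi.lift _ _ e1) ≫ pullback.fst b₀ (D.map φ) := by
    rw [Category.assoc, hl]; exact hXj.w
  have sq : IsPullback (hXi.lift _ _ e2) fj (pullback.snd f₀ (pullback.fst b₀ (D.map φ)))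
      (hYi.lift _ _ e1) :=
    IsPullback.of_right (by rw [hXi.lift_fst, hl]; exact hXj) (hXi.lift_snd _ _ _) hXi
  have hYia : IsAlgSpace (pullback b₀ (D.map φ)) := isAlgSpace_pullback (hD i₀).diag hYa (hD i) _ _
  exact hQ sq (isAlgSpace_of_isPullback hYa.diag hXa hYia hXi) hYia
    (isAlgSpace_of_isPullback (hD i₀).diag hYa (hD j) hYj) h'

end Groth.Agent.ASp
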