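import Groth.Agent.ASp.RelLPSpace
import Groth.Agent.ASp.LimFrame
import Groth.Agent.ASp.LimEventually
/-!
# Limit preservation for limits of quasi-compact quasi-separated algebraic spaces
-/

set_option autoImplicit false
set_option backward.isDefEq.respectTransparency false
set_option backward.isDefEq.respectTransparency.types false

universe u

open CategoryTheory CategoryTheory.Limits AlgebraicGeometry Opposite

noncomputable section

namespace Groth.Agent.ASp

open _root_.AlgSp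

attribute [local instance] CategoryTheory.isConnected_of_hasTerminal

variable {S : Scheme.{u}}

theorem epi_of_etale_surjective {X Y : Sp S} {p : X ⟶ Y} (he : RepWith @Etale p) (hs : RepWith @Surjective p) :
    Epi p := by
  haveI : Sheaf.IsLocallySurjective p := isLocallySurjective_of_repWith
    (repWith_mono (fun _ _ g (hg : Etale g) => inferInstanceAs (Flat g)) he)
    (repWith_mono (fun _ _ g (hg : Etale g) => inferInstanceAs (LocallyOfFinitePresentation g)) he) hs
  infer_instance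

theorem Frame.isAffine_stage {I : Type u} [SmallCategory I] {D : I ⥤ Sp S} {c : Cone D} {i₀ : I} {U : Over S}
    {a : (yon S).obj U ⟶ D.obj i₀} (F : Frame D c i₀ a) [IsAffine U.left] (k : CategoryTheory.Over i₀) :
    IsAffine (F.E.obj k).left :=
  haveI := F.affine_w k
  isAffine_of_isAffineHom (F.w k).left

theorem Frame.isAffine_lim {I : Type u} [SmallCategory I] [IsCofiltered I] {D : I ⥤ Sp S} {c : Cone D} {i₀ : I}
    {U : Over S} {a : (yon S).obj U ⟶ D.obj i₀} (F : Frame D c i₀ a) [IsAffine U.left] :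
    IsAffine F.cone.pt.left := by
  haveI : ∀ k, IsAffine ((F.E ⋙ Over.forget S).obj k) := F.isAffine_stage
  exact Scheme.isAffine_of_isLimit _ F.isLimit

variable {X Y : Sp S} {f : X ⟶ Y}

/-- Maps from a stage of a system of quasi-compact spaces agreeing on the limit agree at a later stage. -/
theorem exists_eq_stage_space (hf : SpLPUniq f) {I : Type u} [SmallCategory I] [IsCofiltered I] (D : I ⥤ Sp S)
    (hD : ∀ i, IsAlgSpace (D.obj i)) (hDa : ∀ (i j : I) (φ : i ⟶ j), IsAffineMor (D.map φ))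
    (c : Cone D) (hc : IsLimit c) (i : I) (hqc : IsQuasiCompactSp (D.obj i)) (x x' : D.obj i ⟶ X)
    (e : c.π.app i ≫ x = c.π.app i ≫ x') (ef : x ≫ f = x' ≫ f) :
    ∃ (j : I) (φ : j ⟶ i), D.map φ ≫ x = D.map φ ≫ x' := by
  haveI := compactSpace_of_isQuasiCompactSp hqc
  obtain ⟨U, p, hU, hp, hps⟩ := exists_affine_chart (hD i)
  haveI := hU
  obtain ⟨F⟩ := exists_frame D hD hDa c hc i p
  let o : CategoryTheory.Over i := Over.mk (𝟙 i)
  have hq : F.qLim ≫ c.π.app i = (yon S).map (F.cone.π.app o) ≫ F.q o := F.qLim_π o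
  obtain ⟨k, μ, hk⟩ := hf F.E F.cone F.isLimit F.isAffine_stage F.isAffine_lim o (F.q o ≫ x) (F.q o ≫ x')
    (by rw [← Category.assoc, ← hq, Category.assoc, e, ← Category.assoc, hq, Category.assoc])
    (congrArg (F.q o ≫ ·) ef)
  rw [← Category.assoc, ← Category.assoc, F.map_q, Category.assoc, Category.assoc] at hk
  haveI := epi_of_etale_surjective (repWith_of_isPullback (F.sq k).flip hp) (repWith_of_isPullback (F.sq k).flip hps)
  exact ⟨k.left, μ.left, (cancel_epi (F.q k)).1 hk⟩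

variable [QuasiSeparatedSpace ↥S]

/-- Maps from a limit of quasi-compact quasi-separated spaces over a stage map to `Y` come from stages. -/
theorem exists_lift_stage_space (he : SpLPExist f) (hu : SpLPUniq f) {I : Type u} [SmallCategory I] [IsCofiltered I]
    (D : I ⥤ Sp S) (hD : ∀ i, IsAlgSpace (D.obj i)) (hDa : ∀ (i j : I) (φ : i ⟶ j), IsAffineMor (D.map φ))
    (c : Cone D) (hc : IsLimit c) (hqc : ∀ i, IsQuasiCompactSp (D.obj i))
    (hqs : ∀ i, IsQuasiSeparatedSp (D.obj i)) (i : I) (x : c.pt ⟶ X) (y : D.obj i ⟶ Y)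
    (e : x ≫ f = c.π.app i ≫ y) :
    ∃ (j : I) (φ : j ⟶ i) (x' : D.obj j ⟶ X), c.π.app j ≫ x' = x ∧ x' ≫ f = D.map φ ≫ y := by
  haveI := compactSpace_of_isQuasiCompactSp (hqc i)
  obtain ⟨U, p, hU, hp, hps⟩ := exists_affine_chart (hD i)
  haveI := hU
  obtain ⟨F⟩ := exists_frame D hD hDa c hc i p
  let o : CategoryTheory.Over i := Over.mk (𝟙 i)
  have hq : F.qLim ≫ c.π.app i = (yon S).map (F.cone.π.app o) ≫ F.q o := F.qLim_π o
  obtain ⟨k, μ, g, hg1, hg2⟩ := he F.E F.cone F.isLimit F.isAffine_stage F.isAffine_lim (F.qLim ≫ x) o (F.q o ≫ y)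
    (by rw [Category.assoc, e, ← Category.assoc, hq, Category.assoc])
  rw [← Category.assoc ((yon S).map (F.E.map μ)), F.map_q, Category.assoc] at hg2
  have hμ : μ.left = k.hom := (Category.comp_id _).symm.trans (Over.w μ)
  rw [hμ] at hg2
  -- the overlaps
  obtain ⟨R, r₁, r₂, sqR⟩ := exists_isPullback_yon hp.1 p
  haveI : CompactSpace ↥R.left := by
    haveI := compactSpace_of_isQuasiCompactSp (isQuasiCompactSp_of_isPullback sqR
      isQuasiCompactSp_yon (hqs i) isQuasiCompactSp_yon)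
    exact (Points.schemeHomeo R).symm.compactSpace
  obtain ⟨FR⟩ := exists_frame D hD hDa c hc i ((yon S).map r₁ ≫ p)
  have sel : ∀ (r : R ⟶ U), (yon S).map r ≫ p = (yon S).map r₁ ≫ p → ∀ k : CategoryTheory.Over i,
      ∃ e : FR.E.obj k ⟶ F.E.obj k, (yon S).map e ≫ F.q k = FR.q k ∧ e ≫ F.w k = FR.w k ≫ r := fun r hr k => by
    have e0 : FR.q k ≫ D.map k.hom = (yon S).map (FR.w k ≫ r) ≫ p := by
      rw [(FR.sq k).w, Functor.map_comp, Category.assoc, hr]
    obtain ⟨l, hl⟩ := (yon S).map_surjective ((F.sq k).lift (FR.q k) _ e0)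
    exact ⟨l, by rw [hl, (F.sq k).lift_fst], (yon S).map_injective (by rw [Functor.map_comp, hl, (F.sq k).lift_snd])⟩
  obtain ⟨e₁, he₁q, he₁w⟩ := sel r₁ rfl k
  obtain ⟨e₂, he₂q, he₂w⟩ := sel r₂ sqR.w.symm k
  have lim : ∀ (l : FR.E.obj k ⟶ F.E.obj k), (yon S).map l ≫ F.q k = FR.q k → ∀ r : R ⟶ U,
      l ≫ F.w k = FR.w k ≫ r → (yon S).map r ≫ p = (yon S).map r₁ ≫ p →
      (yon S).map (FR.cone.π.app k) ≫ (yon S).map l ≫ g = FR.qLim ≫ x := fun l hlq r hlw hr => by
    have e0 : FR.qLim ≫ c.π.app i = (yon S).map (FR.wLim ≫ r) ≫ p := by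
      rw [FR.sqLim.w, Functor.map_comp, Category.assoc, hr]
    obtain ⟨ρ, hρ⟩ := (yon S).map_surjective (F.sqLim.lift FR.qLim _ e0)
    have h1 : (yon S).map ρ ≫ F.qLim = FR.qLim := by rw [hρ, F.sqLim.lift_fst]
    have h2 : ρ ≫ F.wLim = FR.wLim ≫ r :=
      (yon S).map_injective (by rw [Functor.map_comp, hρ, F.sqLim.lift_snd])
    have h3 : (yon S).map (FR.cone.π.app k) ≫ (yon S).map l = (yon S).map ρ ≫ (yon S).map (F.cone.π.app k) := by
      apply (F.sq k).hom_ext
      · rw [Category.assoc, Category.assoc, hlq, ← FR.qLim_π, ← F.qLim_π, reassoc_of% h1]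
      · simp only [← Functor.map_comp, Category.assoc, hlw, F.π_w, h2]
        rw [← Category.assoc, FR.π_w]
    rw [← Category.assoc, h3, Category.assoc, hg1, ← Category.assoc, h1]
  let G : CategoryTheory.Over i ⥤ Sp S := FR.E ⋙ yon S
  let cG : Cone G := (yon S).mapCone FR.cone
  have hcG : IsLimit cG :=
    haveI := yon_preservesLimit FR.E
    isLimitOfPreserves (yon S) (isLimitOfReflects (Over.forget S) FR.isLimit)
  haveI : CompactSpace ↥(FR.E.obj k).left := by
    haveI := FR.affine_w k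
    exact QuasiCompact.compactSpace_of_compactSpace (FR.w k).left
  obtain ⟨m, ν, hm⟩ := exists_eq_stage_space hu G (fun l => IsAlgSpace.yon_obj _)
    (fun a b φ => isAffineMor_of_repWith (P := @IsAffineHom) (fun z hz => hz) (repWith_yon_map (FR.affine φ)))
    cG hcG k isQuasiCompactSp_yon ((yon S).map e₁ ≫ g) ((yon S).map e₂ ≫ g)
    ((lim e₁ he₁q r₁ he₁w rfl).trans (lim e₂ he₂q r₂ he₂w sqR.w.symm).symm)
    (by rw [Category.assoc, Category.assoc, hg2, reassoc_of% he₁q, reassoc_of% he₂q])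
  -- glue
  haveI hepi := epi_of_etale_surjective (repWith_of_isPullback (F.sq m).flip hp) (repWith_of_isPullback (F.sq m).flip hps)
  obtain ⟨V, g₁, g₂, sqV⟩ := exists_isPullback_yon (repWith_of_isPullback (F.sq m).flip hp).1 (F.q m)
  have hv : (yon S).map (g₁ ≫ F.w m) ≫ p = (yon S).map (g₂ ≫ F.w m) ≫ p := by
    rw [Functor.map_comp, Functor.map_comp, Category.assoc, Category.assoc, ← (F.sq m).w, reassoc_of% sqV.w]
  obtain ⟨v, hv⟩ := (yon S).map_surjective (sqR.lift _ _ hv)
  have hv1 : v ≫ r₁ = g₁ ≫ F.w m := (yon S).map_injective (by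
    rw [Functor.map_comp, hv, sqR.lift_fst])
  have hv2 : v ≫ r₂ = g₂ ≫ F.w m := (yon S).map_injective (by
    rw [Functor.map_comp, hv, sqR.lift_snd])
  obtain ⟨τ, hτ⟩ := (yon S).map_surjective ((FR.sq m).lift ((yon S).map g₁ ≫ F.q m) ((yon S).map v) (by
    rw [Category.assoc, (F.sq m).w, ← Functor.map_comp_assoc, ← hv1, Functor.map_comp, Category.assoc]))
  have key : ∀ (l : FR.E.obj k ⟶ F.E.obj k) (r : R ⟶ U) (gj : V ⟶ F.E.obj m),
      (yon S).map l ≫ F.q k = FR.q k → l ≫ F.w k = FR.w k ≫ r → v ≫ r = gj ≫ F.w m →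
      (yon S).map g₁ ≫ F.q m = (yon S).map gj ≫ F.q m →
      (τ ≫ FR.E.map ν) ≫ l = gj ≫ F.E.map ν := fun l r gj hlq hlw hvr hgq => by
    apply (yon S).map_injective
    apply (F.sq k).hom_ext
    · simp only [Functor.map_comp, Category.assoc, hlq, FR.map_q, F.map_q]
      rw [← Category.assoc, hτ, (FR.sq m).lift_fst, hgq, Category.assoc]
    · simp only [← Functor.map_comp, Category.assoc, hlw, F.map_w]
      rw [← Category.assoc (FR.E.map ν), FR.map_w, ← Category.assoc τ]
      have : τ ≫ FR.w m = v := (yon S).map_injective (by rw [Functor.map_comp, hτ, (FR.sq m).lift_snd])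
      rw [this, hvr]
  have hm' := congrArg ((yon S).map τ ≫ ·) hm
  obtain ⟨x', hx'⟩ := exists_desc_of_epi (F.q m) sqV ((yon S).map (F.E.map ν) ≫ g) (by
    dsimp only [G, Functor.comp_map] at hm'
    simp only [← Category.assoc, ← Functor.map_comp] at hm' ⊢
    rw [key e₁ r₁ g₁ he₁q he₁w hv1 rfl, key e₂ r₂ g₂ he₂q he₂w hv2 sqV.w] at hm'
    exact hm')
  refine ⟨m.left, ν.left ≫ k.hom, x', ?_, ?_⟩
  · haveI := epi_of_etale_surjective (repWith_of_isPullback F.sqLim.flip hp) (repWith_of_isPullback F.sqLim.flip hps)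
    rw [← cancel_epi F.qLim, ← Category.assoc, F.qLim_π, Category.assoc, hx', ← Category.assoc,
      ← Functor.map_comp, F.cone.w, hg1]
  · rw [← cancel_epi (F.q m), reassoc_of% hx', hg2, ← Category.assoc, F.map_q, Category.assoc, D.map_comp,
      Category.assoc]

end Groth.Agent.ASp
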