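import Groth.Agent.ASp.AbsModel
import Groth.Agent.ASp.AffineQuot
import Groth.Agent.ASp.RelLPQcqs
import Groth.Agent.ASp.QSBase
import Groth.Agent.ASp.QSComp
import Groth.Agent.ASp.LimDerived
/-!
# If a limit of quasi-compact quasi-separated algebraic spaces is affine, so is a member
-/

set_option autoImplicit false
set_option backward.isDefEq.respectTransparency false
set_option backward.isDefEq.respectTransparency.types false

universe u

open CategoryTheory CategoryTheory.Limits AlgebraicGeometry Opposite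

noncomputable section

namespace Groth.Agent.ASp

open _root_.AlgSp

variable {S : Scheme.{u}} {I : Type u} [SmallCategory I] [IsCofiltered I] {D : I ⥤ Sp S}

/-- Affineness of a member passes to the later ones. -/
theorem affine_member_of_le (hDa : ∀ (i j : I) (φ : i ⟶ j), IsAffineMor (D.map φ)) {i j : I} (φ : j ⟶ i)
    (h : ∃ Q : Over S, IsAffine Q.left ∧ Nonempty ((yon S).obj Q ≅ D.obj i)) :
    ∃ Q : Over S, IsAffine Q.left ∧ Nonempty ((yon S).obj Q ≅ D.obj j) := by
  obtain ⟨Q, hQ, ⟨e⟩⟩ := h
  obtain ⟨V, v, fst, hV, hVa⟩ := hDa j i φ hQ e.hom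
  exact ⟨V, hVa, ⟨@asIso _ _ _ _ fst hV.isIso_fst_of_isIso⟩⟩

/-- The stage square of a frame. -/
theorem Frame.isPullback_stage {c : Cone D} {i₀ : I} {U : Over S} {a : (yon S).obj U ⟶ D.obj i₀}
    (F : Frame D c i₀ a) {k l : CategoryTheory.Over i₀} (f : k ⟶ l) :
    IsPullback ((yon S).map (F.E.map f)) (F.q k) (F.q l) (D.map f.left) := by
  refine IsPullback.of_right ?_ (F.map_q f) (F.sq l).flip
  rw [← Functor.map_comp, F.map_w, ← D.map_comp, Over.w f]
  exact (F.sq k).flip

/-- The limit square of a frame. -/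
theorem Frame.isPullback_lim {c : Cone D} {i₀ : I} {U : Over S} {a : (yon S).obj U ⟶ D.obj i₀}
    (F : Frame D c i₀ a) (k : CategoryTheory.Over i₀) :
    IsPullback ((yon S).map (F.cone.π.app k)) F.qLim (F.q k) (c.π.app k.left) := by
  refine IsPullback.of_right ?_ (F.qLim_π k).symm (F.sq k).flip
  rw [← Functor.map_comp, F.π_w, c.w]
  exact F.sqLim.flip

variable [QuasiSeparatedSpace ↥S]

omit [IsCofiltered I] in
theorem isQuasiSeparatedSp_yon_of_qs' (T : Over S) [QuasiSeparatedSpace T.left] :
    IsQuasiSeparatedSp ((yon S).obj T) := by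
  have hO : IsQuasiSeparatedSp ((yon S).obj (Over.mk (𝟙 S))) := by
    haveI : IsIso (Limits.diag ((yon S).obj (Over.mk (𝟙 S)))) :=
      ⟨⟨prod.fst, by simp [Limits.diag], prod.hom_ext (isTerminalYonBase.hom_ext _ _) (isTerminalYonBase.hom_ext _ _)⟩⟩
    exact repWith_of_isIso _
  refine isQuasiSeparatedSp_of_mor hO ((isQuasiSeparatedMor_yon_map_iff
    ((Over.mkIdTerminal (X := S)).from T)).2 ?_)
  exact inferInstanceAs (QuasiSeparated ((Over.mkIdTerminal (X := S)).from T).left)

theorem exists_affine_member (hD : ∀ i, IsAlgSpace (D.obj i))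
    (hDa : ∀ (i j : I) (φ : i ⟶ j), IsAffineMor (D.map φ)) (hqc : ∀ i, IsQuasiCompactSp (D.obj i))
    (hqs : ∀ i, IsQuasiSeparatedSp (D.obj i)) (c : Cone D) (hc : IsLimit c) (T : Over S) [IsAffine T.left]
    (e : (yon S).obj T ≅ c.pt) :
    ∃ (i : I) (Q : Over S), IsAffine Q.left ∧ Nonempty ((yon S).obj Q ≅ D.obj i) := by
  obtain ⟨i₀⟩ := IsCofiltered.nonempty (C := I)
  haveI := compactSpace_of_isQuasiCompactSp (hqc i₀)
  obtain ⟨U₀, a, hU₀, ha, has⟩ := exists_affine_chart (hD i₀)
  haveI := hU₀
  obtain ⟨F⟩ := exists_frame D hD hDa c hc i₀ a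
  haveI : IsAffine F.cone.pt.left := F.isAffine_lim
  obtain ⟨u, hu⟩ := (yon S).map_surjective (F.qLim ≫ e.inv)
  haveI : Etale u.left := (repWith_yon_map_iff @Etale u).1 (by
    rw [hu]; exact repWith_comp (repWith_of_isPullback F.sqLim.flip ha) (repWith_of_isIso _))
  haveI : Surjective u.left := (repWith_yon_map_iff @Surjective u).1 (by
    rw [hu]; exact repWith_comp (repWith_of_isPullback F.sqLim.flip has) (repWith_of_isIso _))
  obtain ⟨T', W', π, w, q, hT', hW', hwe, hws, hlfp, sq⟩ := exists_abs_model u.left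
  haveI := hT'
  haveI := hW'
  haveI := hwe
  haveI := hws
  haveI := hlfp
  let TS : Over S := Over.mk (pullback.snd (terminal.from T') (terminal.from S))
  let τ : TS.left ⟶ T' := pullback.fst _ _
  let WS : Over S := Over.mk (pullback.snd w τ ≫ TS.hom)
  let wS : WS ⟶ TS := Over.homMk (pullback.snd w τ) rfl
  let ω : WS.left ⟶ W' := pullback.fst w τ
  have hbase : IsPullback ω wS.left w τ := IsPullback.of_hasPullback _ _
  let πS : T ⟶ TS := Over.homMk (pullback.lift π T.hom (terminal.hom_ext _ _)) (pullback.lift_snd _ _ _)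
  have hπτ : πS.left ≫ τ = π := pullback.lift_fst _ _ _
  let qS : F.cone.pt ⟶ WS := Over.homMk (pullback.lift q (u ≫ πS).left (by
      rw [sq.w, Over.comp_left, Category.assoc, hπτ])) (by
    change pullback.lift _ _ _ ≫ pullback.snd _ _ ≫ TS.hom = _
    rw [pullback.lift_snd_assoc]
    exact Over.w (u ≫ πS))
  have sqT : IsPullback qS u wS πS := by
    refine IsPullback.of_map (Over.forget S) (Over.OverMorphism.ext (pullback.lift_snd _ _ _)) ?_
    refine IsPullback.of_right ?_ (pullback.lift_snd _ _ _) hbase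
    change IsPullback (pullback.lift q _ _ ≫ pullback.fst w τ) u.left w (πS.left ≫ τ)
    rw [pullback.lift_fst, hπτ]
    exact sq
  haveI hwSlfp : LocallyOfFinitePresentation wS.left :=
    MorphismProperty.of_isPullback hbase (inferInstance : LocallyOfFinitePresentation w)
  haveI hwSaff : IsAffineHom wS.left :=
    MorphismProperty.of_isPullback (P := @IsAffineHom) hbase (isAffineHom_of_isAffine w)
  haveI : Etale wS.left := MorphismProperty.of_isPullback hbase hwe
  haveI : Surjective wS.left := MorphismProperty.of_isPullback hbase hws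
  -- the limit comes from a stage
  haveI : LocallyOfFinitePresentation ((Over.mkIdTerminal (X := S)).from TS).left := by
    have e' : ((Over.mkIdTerminal (X := S)).from TS).left = TS.hom := by
      simpa using Over.w ((Over.mkIdTerminal (X := S)).from TS)
    rw [e']
    change LocallyOfFinitePresentation (pullback.snd (terminal.from T') (terminal.from S))
    infer_instance
  have hf : LocP @LocallyOfFinitePresentation ((yon S).map ((Over.mkIdTerminal (X := S)).from TS)) :=
    locP_of_repWith (repWith_yon_map ‹_›)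
  have hfu := spLPUniq_of_locP_lft (IsAlgSpace.yon_obj TS) (IsAlgSpace.yon_obj _)
    (locP_mono (fun _ _ g (hg : LocallyOfFinitePresentation g) => inferInstanceAs (LocallyOfFiniteType g)) hf)
  obtain ⟨j, φj, xj, hxj, -⟩ := exists_lift_stage_space (spLPExist_of_locP (IsAlgSpace.yon_obj TS)
    (IsAlgSpace.yon_obj _) hf) hfu D hD hDa c hc hqc hqs i₀ (e.inv ≫ (yon S).map πS)
    (isTerminalYonBase.from _) (isTerminalYonBase.hom_ext _ _)
  let kj : CategoryTheory.Over i₀ := Over.mk φj
  obtain ⟨k, ψ, g, hg1, hg2⟩ := exists_lift_of_repWith F.E F.cone F.isLimit F.isAffine_stage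
    (repWith_yon_map (P := @LocallyOfFinitePresentation) (g := wS) hwSlfp) (F.q kj ≫ xj) ((yon S).map qS) (by
      rw [← Functor.map_comp, sqT.w, Functor.map_comp, hu, ← Category.assoc ((yon S).map (F.cone.π.app kj)),
        ← F.qLim_π, Category.assoc F.qLim, Category.assoc F.qLim]
      exact congrArg (F.qLim ≫ ·) hxj.symm)
  rw [← Category.assoc ((yon S).map (F.E.map ψ)), F.map_q, Category.assoc] at hg2
  let xk : D.obj k.left ⟶ (yon S).obj TS := D.map ψ.left ≫ xj
  -- the comparison map
  let Pk := pullback xk ((yon S).map wS)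
  let φk : (yon S).obj (F.E.obj k) ⟶ Pk := pullback.lift (F.q k) g hg2.symm
  have hPa : IsAlgSpace Pk :=
    isAlgSpace_pullback (IsAlgSpace.yon_obj TS).diag (hD _) (IsAlgSpace.yon_obj _) _ _
  have hfstR : RepWith @IsAffineHom (pullback.fst xk ((yon S).map wS)) :=
    repWith_of_isPullback (IsPullback.of_hasPullback _ _).flip (repWith_yon_map hwSaff)
  have hfsta : IsAffineMor (pullback.fst xk ((yon S).map wS)) :=
    isAffineMor_of_repWith (P := @IsAffineHom) (fun z hz => hz) hfstR
  obtain ⟨hPqc, hPqs⟩ := qcqs_of_isAffineMor hPa (hD _) hfsta (hqc _) (hqs _)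
  have hwk : k.hom = ψ.left ≫ φj := (Over.w ψ).symm
  have hπk : c.π.app k.left ≫ xk = e.inv ≫ (yon S).map πS := by
    rw [← Category.assoc, c.w]
    exact hxj
  let pY : (yon S).obj F.cone.pt ⟶ Pk := pullback.lift (F.qLim ≫ c.π.app k.left) ((yon S).map qS) (by
    rw [Category.assoc, hπk, ← Category.assoc, ← hu, ← Functor.map_comp, ← Functor.map_comp, sqT.w])
  have hY : IsPullback pY F.qLim (pullback.fst xk ((yon S).map wS)) (c.π.app k.left) := by
    refine IsPullback.of_right ?_ (pullback.lift_fst _ _ _) (IsPullback.of_hasPullback _ _).flip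
    rw [pullback.lift_snd, hπk]
    exact (isPullback_yon_map sqT).of_iso (Iso.refl _) (Iso.refl _) e (Iso.refl _) (by simp)
      (by rw [hu]; simp) (by simp) (by simp)
  have hX : IsPullback ((yon S).map (F.cone.π.app k)) (𝟙 _) φk pY := by
    refine IsPullback.of_bot ?_ ?_ hY
    · rw [Category.id_comp, pullback.lift_fst]
      exact F.isPullback_lim k
    · rw [Category.id_comp]
      apply pullback.hom_ext
      · rw [Category.assoc, pullback.lift_fst, pullback.lift_fst]; exact (F.qLim_π k).symm
      · rw [Category.assoc, pullback.lift_snd, pullback.lift_snd]; exact hg1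
  have hEqc : IsQuasiCompactSp ((yon S).obj (F.E.obj k)) :=
    haveI := F.isAffine_stage k; isQuasiCompactSp_yon
  have hEqs : IsQuasiSeparatedSp ((yon S).obj (F.E.obj k)) :=
    haveI := F.isAffine_stage k; isQuasiSeparatedSp_yon_of_qs' _
  have hφk : LocP @LocallyOfFinitePresentation φk := by
    have h1 : RepWith @Etale (F.q k) := repWith_of_isPullback (F.sq k).flip ha
    have h2 : RepWith @Etale (pullback.fst xk ((yon S).map wS)) :=
      repWith_of_isPullback (IsPullback.of_hasPullback _ _).flip (repWith_yon_map ‹Etale wS.left›)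
    intro A B a' b' h ha' hb' e'
    haveI : Etale h.left := etale_of_comp_eq (repWith_comp ha' h1) (repWith_comp hb' h2) (by
      rw [← Category.assoc, ← e', Category.assoc, pullback.lift_fst])
    infer_instance
  obtain ⟨i, φ, hi⟩ := exists_stage_isIso D hD hDa c hc k.left (IsAlgSpace.yon_obj _) hPa φk
    (pullback.fst xk ((yon S).map wS)) hEqc hPqc hPqs hY hX hEqs hφk inferInstance
  let m : CategoryTheory.Over i₀ := Over.mk (φ ≫ k.hom)
  let ν : m ⟶ k := Over.homMk φ rfl
  have hνg : (F.q m ≫ D.map φ) ≫ xk = ((yon S).map (F.E.map ν) ≫ g) ≫ (yon S).map wS := by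
    rw [Category.assoc, Category.assoc, hg2, ← Category.assoc ((yon S).map (F.E.map ν)), F.map_q ν,
      Category.assoc]
    rfl
  let Pi := pullback (D.map φ ≫ xk) ((yon S).map wS)
  let pYi : Pi ⟶ Pk := pullback.lift (pullback.fst _ _ ≫ D.map φ) (pullback.snd _ _)
    (by rw [Category.assoc]; exact pullback.condition)
  let fi : (yon S).obj (F.E.obj m) ⟶ Pi := pullback.lift (F.q m) ((yon S).map (F.E.map ν) ≫ g)
    ((Category.assoc _ _ _).symm.trans hνg)
  have hYi : IsPullback pYi (pullback.fst _ _) (pullback.fst xk ((yon S).map wS)) (D.map φ) := by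
    refine IsPullback.of_right ?_ (pullback.lift_fst _ _ _) (IsPullback.of_hasPullback _ _).flip
    rw [pullback.lift_snd]
    exact (IsPullback.of_hasPullback _ _).flip
  have hXi : IsPullback ((yon S).map (F.E.map ν)) fi φk pYi := by
    refine IsPullback.of_bot ?_ ?_ hYi
    · rw [pullback.lift_fst, pullback.lift_fst]
      exact F.isPullback_stage ν
    · apply pullback.hom_ext
      · rw [Category.assoc, Category.assoc, pullback.lift_fst, pullback.lift_fst, pullback.lift_fst_assoc]
        exact F.map_q ν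
      · simp only [Category.assoc, φk, pYi, fi, pullback.lift_snd]
  haveI : IsIso fi := hi _ _ _ _ _ hYi _ hXi
  obtain ⟨gm, hgm⟩ := (yon S).map_surjective ((yon S).map (F.E.map ν) ≫ g)
  have sqm : IsPullback (F.q m) ((yon S).map gm) (D.map φ ≫ xk) ((yon S).map wS) := by
    rw [hgm]
    exact (IsPullback.of_hasPullback _ _).of_iso (asIso fi).symm (Iso.refl _) (Iso.refl _) (Iso.refl _)
      (by simp [fi]) (by simp [fi]) (by simp) (by simp)
  haveI : IsAffine (F.E.obj m).left := F.isAffine_stage m
  haveI : Epi (F.q m) := epi_of_etale_surjective (repWith_of_isPullback (F.sq m).flip ha)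
    (repWith_of_isPullback (F.sq m).flip has)
  obtain ⟨Q, hQ⟩ := exists_affine_of_cover w τ ω wS hbase (D.map φ ≫ xk) (F.q m) gm sqm
  exact ⟨i, Q, hQ⟩

end Groth.Agent.ASp
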