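import Groth.Agent.ASp.AffineLim
import Groth.Agent.ASp.Univ
import Groth.Agent.ASp.MorCancel
import Groth.Agent.ASt.Local
/-!
# Relatively affine members of limits
-/

set_option autoImplicit false
set_option backward.isDefEq.respectTransparency false
set_option backward.isDefEq.respectTransparency.types false

universe u

open CategoryTheory CategoryTheory.Limits AlgebraicGeometry Opposite

noncomputable section

namespace Groth.Agent.ASp

open _root_.AlgSp

variable {S : Scheme.{u}} {I : Type u} [SmallCategory I] [IsCofiltered I]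

omit [IsCofiltered I] in
/-- The base change of a system over `Y` along `v`. -/
theorem exists_pullback_system [IsConnected I] (D : I ⥤ Sp S) {Y V : Sp S} (t : D ⟶ (Functor.const I).obj Y) (v : V ⟶ Y)
    (c : Cone D) (hc : IsLimit c) (g : c.pt ⟶ Y) (hg : ∀ i, c.π.app i ≫ t.app i = g)
    {Z : Sp S} (p : Z ⟶ c.pt) (r : Z ⟶ V) (sq : IsPullback p r g v) :
    ∃ (P : I ⥤ Sp S) (pr : P ⟶ D) (sn : ∀ i, P.obj i ⟶ V) (π : (Functor.const I).obj Z ⟶ P),
      (∀ i, IsPullback (pr.app i) (sn i) (t.app i) v) ∧ Nonempty (IsLimit (⟨Z, π⟩ : Cone P)) ∧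
      (∀ {i j : I} (φ : i ⟶ j), IsPullback (P.map φ) (pr.app i) (pr.app j) (D.map φ)) ∧
      (∀ i, π.app i ≫ sn i = r) ∧ (∀ {i j : I} (φ : i ⟶ j), P.map φ ≫ sn j = sn i) ∧
      (∀ i, π.app i ≫ pr.app i = p ≫ c.π.app i) := by
  have ht : ∀ {i j : I} (φ : i ⟶ j), D.map φ ≫ t.app j = t.app i := fun φ => by
    simpa using t.naturality φ
  let P : I ⥤ Sp S :=
    { obj := fun i => pullback (t.app i) v
      map := fun {i j} φ => pullback.lift (pullback.fst _ _ ≫ D.map φ) (pullback.snd (t.app i) v)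
        (by rw [Category.assoc, ht, pullback.condition])
      map_id := fun i => by apply pullback.hom_ext <;> simp
      map_comp := fun φ ψ => by apply pullback.hom_ext <;> simp }
  let pr : P ⟶ D :=
    { app := fun i => pullback.fst _ _
      naturality := fun i j φ => by simp [P] }
  let π : (Functor.const I).obj Z ⟶ P :=
    { app := fun i => pullback.lift (p ≫ c.π.app i) r (by rw [Category.assoc, hg, sq.w])
      naturality := fun i j φ => by
        apply pullback.hom_ext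
        · simp only [P, Category.assoc, pullback.lift_fst, pullback.lift_fst_assoc, Functor.const_obj_map,
            Category.id_comp, c.w]
          exact Category.id_comp _
        · simp only [P, Category.assoc, pullback.lift_snd, Functor.const_obj_map, Category.id_comp]
          exact Category.id_comp _ }
  refine ⟨P, pr, fun i => pullback.snd _ _, π, fun i => IsPullback.of_hasPullback _ _, ⟨?_⟩, fun {i j} φ => ?_,
    fun i => pullback.lift_snd _ _ _, fun φ => pullback.lift_snd _ _ _, fun i => pullback.lift_fst _ _ _⟩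
  · let cs : ∀ s : Cone P, Cone D := fun s => ⟨s.pt, s.π ≫ pr⟩
    have hsn : ∀ (s : Cone P) (i j : I), s.π.app i ≫ pullback.snd (t.app i) v = s.π.app j ≫ pullback.snd (t.app j) v := by
      intro s
      refine fun i j => constant_of_preserves_morphisms (fun k => s.π.app k ≫ pullback.snd (t.app k) v)
        (fun k l φ => ?_) i j
      rw [← s.w φ]
      simp [P]
    let i₀ : I := Classical.arbitrary I
    have e : ∀ s : Cone P, hc.lift (cs s) ≫ g = (s.π.app i₀ ≫ pullback.snd (t.app i₀) v) ≫ v := fun s => by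
      rw [← hg i₀, ← Category.assoc, hc.fac]
      change (s.π.app i₀ ≫ pullback.fst _ _) ≫ _ = _
      rw [Category.assoc, Category.assoc, pullback.condition]
    refine ⟨fun s => sq.lift (hc.lift (cs s)) _ (e s), fun s j => ?_, fun s m hm => ?_⟩
    · apply pullback.hom_ext
      · simp only [π, Category.assoc, pullback.lift_fst]
        rw [← Category.assoc, sq.lift_fst, hc.fac]
        rfl
      · simp only [π, Category.assoc, pullback.lift_snd]
        rw [sq.lift_snd]
        exact hsn s i₀ j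
    · apply sq.hom_ext
      · rw [sq.lift_fst]
        refine hc.hom_ext fun j => ?_
        rw [hc.fac, Category.assoc]
        change _ = s.π.app j ≫ pullback.fst _ _
        rw [← hm j]
        simp [π]
      · rw [sq.lift_snd, ← hm i₀]
        simp [π]
  · refine IsPullback.of_right ?_ (by simp [P, pr]) (IsPullback.of_hasPullback (t.app j) v).flip
    simp only [P, pullback.lift_snd, ht]
    exact (IsPullback.of_hasPullback (t.app i) v).flip

variable [QuasiSeparatedSpace ↥S]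

/-- A system over `Y` with affine limit over `Y` is eventually affine over `Y`. -/
theorem exists_isAffineMor_member (D : I ⥤ Sp S) (hD : ∀ i, IsAlgSpace (D.obj i))
    (hDa : ∀ (i j : I) (φ : i ⟶ j), IsAffineMor (D.map φ)) (hqc : ∀ i, IsQuasiCompactSp (D.obj i))
    (hqs : ∀ i, IsQuasiSeparatedSp (D.obj i)) {Y : Sp S} (hY : IsAlgSpace Y) (hYqc : IsQuasiCompactSp Y)
    (hYqs : IsQuasiSeparatedSp Y) (t : D ⟶ (Functor.const I).obj Y) (c : Cone D) (hc : IsLimit c)
    (g : c.pt ⟶ Y) (hg : ∀ i, c.π.app i ≫ t.app i = g) (hX : IsAffineMor g) :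
    ∃ i₀ : I, ∀ (i : I) (_ : i ⟶ i₀), IsAffineMor (t.app i) := by
  haveI := IsCofiltered.isConnected I
  haveI := compactSpace_of_isQuasiCompactSp hYqc
  obtain ⟨V, v, hV, hv, hvs⟩ := exists_affine_chart hY
  haveI := hV
  obtain ⟨T, r, p, sq, hT⟩ := hX hV v
  obtain ⟨P, pr, sn, π, hsq, ⟨hl⟩, hmap, -, -⟩ := exists_pullback_system D t ((v)) c hc g hg p ((yon S).map r) sq
  have hPa : ∀ i, IsAlgSpace (P.obj i) := fun i =>
    isAlgSpace_of_isPullback hY.diag (hD i) (IsAlgSpace.yon_obj V) (hsq i)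
  have hPda : ∀ (i j : I) (φ : i ⟶ j), IsAffineMor (P.map φ) := fun i j φ =>
    isAffineMor_baseChange (hmap φ).flip (hDa i j φ)
  have hVq := (⟨isQuasiCompactSp_yon, isQuasiSeparatedSp_yon_of_qs' V⟩ : IsQuasiCompactSp ((yon S).obj V) ∧ IsQuasiSeparatedSp ((yon S).obj V))
  have hPq := fun i => qcqs_pullback (hsq i) (hqc i) (hqs i) hYqs hVq.1 hVq.2
  haveI := hT
  obtain ⟨i, hi⟩ := exists_affine_member hPa hPda (fun i => (hPq i).1) (fun i => (hPq i).2) ⟨_, π⟩ hl T (Iso.refl _)
  refine ⟨i, fun j φ => ?_⟩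
  obtain ⟨Q, hQ, ⟨e⟩⟩ := affine_member_of_le hPda φ hi
  obtain ⟨q, hq⟩ := (yon S).map_surjective (e.hom ≫ sn j)
  have sqQ : IsPullback (e.hom ≫ pr.app j) ((yon S).map q) (t.app j) v :=
    (hsq j).of_iso e.symm (Iso.refl _) (Iso.refl _) (Iso.refl _) (by simp) (by rw [hq]; simp) (by simp) (by simp)
  refine isAffineMor_of_fpqc (hD j) hY (fun _ : PUnit.{u+1} => sqQ)
    (isFpqcCover_of_chart hY hv hvs) fun _ => ?_
  exact isAffineMor_of_repWith (P := @IsAffineHom) (fun z hz => hz)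
    (repWith_yon_map (by haveI := hQ; exact isAffineHom_of_isAffine q.left))

omit [QuasiSeparatedSpace ↥S] in
/-- Cancellation for affine morphisms. -/
theorem isAffineMor_of_comp_affine {X Y B : Sp S} (hY : IsAlgSpace Y) (hB : IsAlgSpace B) (f : X ⟶ Y) (q : Y ⟶ B)
    (hq : IsAffineMor q) (hp : IsAffineMor (f ≫ q)) : IsAffineMor f := by
  obtain ⟨Γ, m, h, e, -⟩ := exists_graph f q
  rw [← e]
  refine Groth.Agent.ASt.isAffineMor_comp (isAffineMor_of_closedImmersion ?_)
    (isAffineMor_baseChange (IsPullback.of_hasPullback _ _) hp)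
  have hR := repWith_isAffineHom_of_isAffineMor hY hB hq
  have hd : RepWith @IsClosedImmersion (pullback.diagonal q) := (isSeparatedMor_iff hR.1).2
    (repWith_mono (fun _ _ k (hk : IsAffineHom k) => inferInstanceAs (IsSeparated k)) hR)
  exact repWith_of_isPullback h hd

/-- An affine morphism of the limit is affine at a stage. -/
theorem exists_isAffineMor_stage (D : I ⥤ Sp S) (hD : ∀ i, IsAlgSpace (D.obj i))
    (hDa : ∀ (i j : I) (φ : i ⟶ j), IsAffineMor (D.map φ)) (c : Cone D) (hc : IsLimit c) (i₀ : I)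
    {X₀ Y₀ : Sp S} (hXa : IsAlgSpace X₀) (hYa : IsAlgSpace Y₀) (f₀ : X₀ ⟶ Y₀) (b₀ : Y₀ ⟶ D.obj i₀)
    (hXqc : IsQuasiCompactSp X₀) (hXqs : IsQuasiSeparatedSp X₀)
    (hYqc : IsQuasiCompactSp Y₀) (hYqs : IsQuasiSeparatedSp Y₀)
    {X Y : Sp S} {f : X ⟶ Y} {pY : Y ⟶ Y₀} {qY : Y ⟶ c.pt}
    (hY : IsPullback pY qY b₀ (c.π.app i₀)) {pX : X ⟶ X₀} (hX : IsPullback pX f f₀ pY) (hf : IsAffineMor f) :
    ∃ (i : I) (φ : i ⟶ i₀), ∀ (Xi Yi : Sp S) (fi : Xi ⟶ Yi) (pYi : Yi ⟶ Y₀) (qYi : Yi ⟶ D.obj i)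
      (_ : IsPullback pYi qYi b₀ (D.map φ)) (pXi : Xi ⟶ X₀) (_ : IsPullback pXi fi f₀ pYi), IsAffineMor fi := by
  haveI := IsCofiltered.isConnected (CategoryTheory.Over i₀)
  let D' := CategoryTheory.Over.forget i₀ ⋙ D
  let t : D' ⟶ (Functor.const _).obj (D.obj i₀) :=
    { app := fun k => D.map k.hom
      naturality := fun k l ψ => by
        change D.map ψ.left ≫ D.map l.hom = D.map k.hom ≫ 𝟙 _
        rw [Category.comp_id, ← D.map_comp, Over.w ψ] }
  obtain ⟨P, pr, sn, π, hsq, ⟨hl⟩, hmap, hπ, hsn, -⟩ := exists_pullback_system D' t (f₀ ≫ b₀)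
    (c.whisker (CategoryTheory.Over.forget i₀)) ((Functor.Initial.isLimitWhiskerEquiv _ c).symm hc) (c.π.app i₀)
    (fun k => c.w k.hom) (f ≫ qY) pX (hX.paste_vert hY).flip
  have hPa : ∀ k, IsAlgSpace (P.obj k) := fun k =>
    isAlgSpace_of_isPullback (hD i₀).diag (hD k.left) hXa (hsq k)
  have hPda : ∀ k l (ψ : k ⟶ l), IsAffineMor (P.map ψ) := fun k l ψ =>
    isAffineMor_baseChange (hmap ψ).flip (hDa _ _ _)
  have hPq := fun k => qcqs_of_isAffineMor (hPa k) hXa (isAffineMor_baseChange (hsq k) (hDa _ _ k.hom)) hXqc hXqs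
  let t' : P ⟶ (Functor.const _).obj Y₀ :=
    { app := fun k => sn k ≫ f₀
      naturality := fun k l ψ => by
        change P.map ψ ≫ sn l ≫ f₀ = (sn k ≫ f₀) ≫ 𝟙 _
        rw [Category.comp_id, ← Category.assoc, hsn] }
  have hπ₀ : IsAffineMor (c.π.app i₀) := (isAlgSpace_limit_and_isAffineMor D hD hDa c hc).2 i₀
  have hg' : IsAffineMor (pX ≫ f₀) := by
    rw [hX.w]
    exact Groth.Agent.ASt.isAffineMor_comp hf (isAffineMor_baseChange hY.flip hπ₀)
  obtain ⟨k, hk⟩ := exists_isAffineMor_member P hPa hPda (fun k => (hPq k).1) (fun k => (hPq k).2) hYa hYqc hYqs t'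
    ⟨X, π⟩ hl (pX ≫ f₀) (fun k => by change π.app k ≫ sn k ≫ f₀ = _; rw [← Category.assoc, hπ]) hg'
  refine ⟨k.left, k.hom, fun Xi Yi fi pYi qYi hYi pXi hXi => ?_⟩
  have hbig : IsPullback (fi ≫ qYi) pXi (D.map k.hom) (f₀ ≫ b₀) := (hXi.paste_vert hYi).flip
  have he : (hbig.isoIsPullback _ _ (hsq k)).hom ≫ sn k = pXi := IsPullback.isoIsPullback_hom_snd _ _ _ _
  refine isAffineMor_of_comp_affine (isAlgSpace_of_isPullback (hD i₀).diag hYa (hD _) hYi) hYa fi pYi
    (isAffineMor_baseChange hYi.flip (hDa _ _ k.hom)) ?_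
  rw [← hXi.w, ← he, Category.assoc]
  exact Groth.Agent.ASt.isAffineMor_comp (isAffineMor_of_repWith (P := @IsAffineHom) (fun z hz => hz)
    (repWith_of_isIso _)) (hk k (𝟙 k))

end Groth.Agent.ASp
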