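import Groth.Agent.ASp.Affine
import Groth.Agent.ASp.AffMor
/-!
Monomorphisms to spectra of fields, and separatedness of field-valued sections along field extensions.
-/

set_option backward.isDefEq.respectTransparency false
set_option backward.isDefEq.respectTransparency.types false

universe u

open CategoryTheory CategoryTheory.Limits AlgebraicGeometry Opposite

namespace Groth.Agent.ASp

open _root_.AlgSp

variable {S : Scheme.{u}}

theorem flat_to_field {K : Type u} [Field K] {Ω : Type u} [CommRing Ω]
    (g : Spec (CommRingCat.of Ω) ⟶ Spec (CommRingCat.of K)) : Flat g := by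
  obtain ⟨φ, rfl⟩ := Spec.map_surjective g
  rw [HasRingHomProperty.Spec_iff (P := @Flat)]
  letI := φ.hom.toAlgebra
  exact RingHom.flat_algebraMap_iff.2 (inferInstance : Module.Flat K Ω)

theorem isFpqcCover_field {K Ω : Type u} [Field K] [Field Ω] {str : Spec (CommRingCat.of K) ⟶ S}
    {w : Spec (CommRingCat.of Ω) ⟶ S} (r : Over.mk w ⟶ Over.mk str) :
    IsFpqcCover (fun _ : ULift.{u} (Fin 1) => (yon S).obj (Over.mk w)) (fun _ => (yon S).map r) := by
  haveI : IsAffine (Over.mk str).left := inferInstanceAs (IsAffine (Spec _))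
  exact isFpqcCover_yon (fun _ => Over.mk w) (fun _ => r) (fun _ => inferInstanceAs (IsAffine (Spec _)))
    (fun _ => flat_to_field (K := K) (Ω := Ω) r.left) fun z => by
      haveI : Subsingleton ↥(Over.mk str).left := inferInstanceAs (Subsingleton ↥(Spec (CommRingCat.of K)))
      exact ⟨0, IsLocalRing.closedPoint Ω, Subsingleton.elim _ _⟩

/-- A monomorphism from an algebraic space to the spectrum of a field through which a field-valued point
factors is an isomorphism. -/
theorem isIso_of_mono_field {K Ω : Type u} [Field K] [Field Ω] {str : Spec (CommRingCat.of K) ⟶ S}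
    {w : Spec (CommRingCat.of Ω) ⟶ S} {Z : Sp S} (hZ : IsAlgSpace Z)
    (f : Z ⟶ (yon S).obj (Over.mk str)) [Mono f] (r : Over.mk w ⟶ Over.mk str)
    (x : (yon S).obj (Over.mk w) ⟶ Z) (hx : x ≫ f = (yon S).map r) : IsIso f := by
  refine isIso_of_fpqc hZ (IsAlgSpace.yon_obj _) (q := fun _ : ULift.{u} (Fin 1) => x) (p := fun _ => 𝟙 _)
    (fun _ => IsAlgSpace.yon_obj _) (fun _ => IsAlgSpace.yon_obj _) (fun _ => ?_) (isFpqcCover_field r)
    fun _ => inferInstance
  exact ⟨⟨by rw [hx, Category.id_comp]⟩, ⟨PullbackCone.IsLimit.mk _ (fun s => s.snd)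
    (fun s => (cancel_mono f).1 (by rw [Category.assoc, hx, s.condition]))
    (fun s => Category.comp_id _)
    (fun s m _ h2 => by rw [← h2, Category.comp_id])⟩⟩

/-- Two field-valued sections of an algebraic space which agree over a field extension are equal. -/
theorem eq_of_field_ext {K Ω : Type u} [Field K] [Field Ω] {str : Spec (CommRingCat.of K) ⟶ S}
    {w : Spec (CommRingCat.of Ω) ⟶ S} {X : Sp S} (hX : IsAlgSpace X)
    (r : Over.mk w ⟶ Over.mk str) {a b : (yon S).obj (Over.mk str) ⟶ X}
    (h : (yon S).map r ≫ a = (yon S).map r ≫ b) : a = b := by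
  have sq := hX.diag.isPullback (prod.lift a b)
  set c := hX.diag.fst (prod.lift a b)
  set e := hX.diag.snd (prod.lift a b)
  haveI : Mono (Limits.diag X) := ⟨fun u v huv => by simpa [Limits.diag] using congrArg (· ≫ prod.fst) huv⟩
  haveI : Mono ((yon S).map e) := ⟨fun u v huv => sq.hom_ext ((cancel_mono (Limits.diag X)).1 (by
    rw [Category.assoc, Category.assoc, sq.w, reassoc_of% huv])) huv⟩
  obtain ⟨l, hl⟩ : ∃ l, l ≫ (yon S).map e = (yon S).map r :=
    ⟨sq.lift ((yon S).map r ≫ a) ((yon S).map r) (by
      apply Limits.prod.hom_ext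
      · simp [Limits.diag]
      · simp [Limits.diag, h]), sq.lift_snd _ _ _⟩
  haveI := isIso_of_mono_field (IsAlgSpace.yon_obj _) ((yon S).map e) r l hl
  have h1 : c = (yon S).map e ≫ a := by simpa [Limits.diag] using congrArg (· ≫ prod.fst) sq.w
  have h2 : c = (yon S).map e ≫ b := by simpa [Limits.diag] using congrArg (· ≫ prod.snd) sq.w
  exact (cancel_epi ((yon S).map e)).1 (h1.symm.trans h2)

end Groth.Agent.ASp
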