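import Groth.Prelude.Def_AlgSpDec
import Groth.Agent.ASp.Morph
import Groth.Agent.ASp.LocP
import Groth.Agent.ASp.FieldMono
/-!
Decent sheaves: fibre criteria.
-/

set_option backward.isDefEq.respectTransparency false
set_option backward.isDefEq.respectTransparency.types false

universe u

open CategoryTheory CategoryTheory.Limits AlgebraicGeometry Opposite

namespace Groth.Agent.ASp

open _root_.AlgSp

variable {S : Scheme.{u}}

theorem ofPt_yon_mk {F : Sp S} {K : Type u} [Field K] {str : Spec (CommRingCat.of K) ⟶ S}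
    (g : (yon S).obj (Over.mk str) ⟶ F) (t : ↥(Spec (CommRingCat.of K))) :
    Points.ofPt g t = Points.mk (⟨K, str, (J S).uliftYonedaEquiv.{u+1} g⟩ : FieldPt F) := by
  have := Points.ofPt_toHom (⟨K, str, (J S).uliftYonedaEquiv.{u+1} g⟩ : FieldPt F) t
  rwa [show (⟨K, str, (J S).uliftYonedaEquiv.{u+1} g⟩ : FieldPt F).toHom = g from Equiv.symm_apply_apply _ _] at this

theorem quasiCompact_of_subsingleton {X Y : Scheme.{u}} [Subsingleton ↥X] (f : X ⟶ Y) : QuasiCompact f :=
  ⟨fun _ _ _ => (Set.toFinite _).isCompact⟩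

/-- Schemes are decent. -/
theorem isDecent_yon (T : Over S) : IsDecent ((yon S).obj T) := by
  intro x
  obtain ⟨t, rfl⟩ := (Points.schemeHomeo T).surjective x
  refine ⟨FieldPt.ofPt (𝟙 _) t, rfl, ?_, ?_⟩
  · rw [FieldPt.toHom_ofPt, Category.comp_id]
    haveI : Mono (Over.homMk (T.left.fromSpecResidueField t) rfl :
        Over.mk (T.left.fromSpecResidueField t ≫ T.hom) ⟶ T) :=
      Over.mono_of_mono_left (hk := (inferInstance : Mono (T.left.fromSpecResidueField t)))
    infer_instance
  · rw [FieldPt.toHom_ofPt, Category.comp_id]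
    haveI : Subsingleton ↥(FieldPt.ofPt (𝟙 ((yon S).obj T)) t).pt.left :=
      inferInstanceAs (Subsingleton ↥(Spec (CommRingCat.of (T.left.residueField t))))
    exact repWith_yon_map (P := @QuasiCompact) (quasiCompact_of_subsingleton _)

theorem isDecent_of_iso_yon {F : Sp S} {T : Over S} (e : (yon S).obj T ≅ F) : IsDecent F :=
  (isDecent_yon T).of_iso e

theorem isDecent_of_isRepresentable {F : Sp S} (h : F.obj.IsRepresentable) : IsDecent F := by
  obtain ⟨U, ⟨e⟩⟩ := h
  exact isDecent_of_iso_yon (isoOfRepresentableBy e)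

/-- A point in the image of a monomorphic quasi-compact map from a decent sheaf has a monomorphic
quasi-compact representative. -/
theorem exists_pt_of_mono {F G : Sp S} (j : G ⟶ F) [Mono j] (hj : RepWith @QuasiCompact j) (hG : IsDecent G)
    (y : Points G) : ∃ p : FieldPt F, Points.mk p = Points.map j y ∧ Mono p.toHom ∧ RepWith @QuasiCompact p.toHom := by
  obtain ⟨q, rfl, hm, hq⟩ := hG y
  exact ⟨q.map j, (Points.map_mk j q).symm, by rw [FieldPt.toHom_map]; infer_instance,
    by rw [FieldPt.toHom_map]; exact repWith_comp hq hj⟩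

/-- Decency is tested on the fibres over monomorphic quasi-compact field-valued points. -/
theorem isDecent_of_fibres {X Y : Sp S} (f : X ⟶ Y) (hY : IsDecent Y)
    (h : ∀ (p : FieldPt Y) (P : Sp S) (fst : P ⟶ X) (snd : P ⟶ (yon S).obj p.pt),
      Mono p.toHom → RepWith @QuasiCompact p.toHom → IsPullback fst snd f p.toHom → IsDecent P) :
    IsDecent X := by
  intro x
  obtain ⟨p, hp, hm, hq⟩ := hY (Points.map f x)
  have sq := IsPullback.of_hasPullback f p.toHom
  obtain ⟨y, hy, -⟩ := points_exists_of_isPullback sq x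
    (Points.ofScheme p.pt (IsLocalRing.closedPoint p.K)) (by
      rw [← Points.ofPt_eq_map_ofScheme, Points.ofPt_toHom, hp])
  rw [← hy]
  exact exists_pt_of_mono (pullback.fst f p.toHom) (repWith_of_isPullback sq.flip hq) (h p _ _ _ hm hq sq) y

theorem isDecentMor_of_representable {X Y : Sp S} {f : X ⟶ Y} (hf : Representable f) : IsDecentMor f := by
  intro T F' g fst snd sq
  exact isDecent_of_iso_yon ((hf.isPullback g).isoIsPullback _ _ sq)

theorem isDecent_of_isDecentMor {X Y : Sp S} {f : X ⟶ Y} (hf : IsDecentMor f) (hY : IsDecent Y) : IsDecent X :=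
  isDecent_of_fibres f hY fun p P fst snd _ _ sq => hf (T := p.pt) p.toHom fst snd sq

/-- A sheaf mapping to a decent one is decent as soon as the map is decent after base change to fields. -/
theorem isDecentMor_comp {X Y Z : Sp S} {f : X ⟶ Y} {g : Y ⟶ Z} (hf : IsDecentMor f) (hg : IsDecentMor g) :
    IsDecentMor (f ≫ g) := by
  intro T F' t fst snd sq
  have sq1 := IsPullback.of_hasPullback g t
  let l : F' ⟶ pullback g t := pullback.lift (fst ≫ f) snd (by rw [Category.assoc, sq.w])
  have sq2 : IsPullback fst l f (pullback.fst g t) :=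
    IsPullback.of_bot (by simpa [l] using sq) (pullback.lift_fst _ _ _).symm sq1
  refine isDecent_of_fibres l (hg t _ _ sq1) fun p P a b _ _ sqP => ?_
  exact hf (p.toHom ≫ pullback.fst g t) (a ≫ fst) b (sqP.paste_horiz sq2)

/-- A morphism out of a decent algebraic space is decent. -/
theorem isDecentMor_of_isDecent {X Y : Sp S} (hX : IsDecent X) (hY : IsAlgSpace Y) (f : X ⟶ Y) :
    IsDecentMor f := by
  intro T F' g fst snd sq
  refine isDecent_of_fibres fst hX fun p P a b _ _ sqP => ?_
  have hb : IsPullback b (a ≫ snd) (p.toHom ≫ f) g := sqP.flip.paste_vert sq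
  exact isDecent_of_iso_yon (((hY.representable_from_yon (p.toHom ≫ f)).isPullback g).isoIsPullback _ _ hb)

/-- A fibre product of decent algebraic spaces over an algebraic space is decent. -/
theorem isDecent_of_isPullback {X Y Z P : Sp S} {f : X ⟶ Y} {g : Z ⟶ Y} {fst : P ⟶ X} {snd : P ⟶ Z}
    (sq : IsPullback fst snd f g) (hY : IsAlgSpace Y) (hX : IsDecent X) (hZ : IsDecent Z) : IsDecent P := by
  refine isDecent_of_fibres snd hZ fun p Q a b _ _ sqQ => ?_
  exact isDecentMor_of_isDecent hX hY f (p.toHom ≫ g) (a ≫ fst) b (sqQ.paste_horiz sq)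

end Groth.Agent.ASp
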