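import Groth.Agent.ASp.FieldQuot
import Groth.Agent.ASp.Decent
import Groth.Agent.ASp.Sheaf
/-!
A field-valued point of an algebraic space with finite self fibre product factors through a monomorphism from
the spectrum of a field.
-/

set_option backward.isDefEq.respectTransparency false
set_option backward.isDefEq.respectTransparency.types false

universe u

open CategoryTheory CategoryTheory.Limits AlgebraicGeometry Opposite TensorProduct

namespace Groth.Agent.ASp

open _root_.AlgSp FieldQuot

variable {S : Scheme.{u}}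

theorem epi_yon_map {U V : Over S} (φ : U ⟶ V) [Flat φ.left] [LocallyOfFinitePresentation φ.left]
    [Surjective φ.left] : Epi ((yon S).map φ) := by
  haveI : Sheaf.IsLocallySurjective ((yon S).map φ) :=
    isLocallySurjective_of_repWith (repWith_yon_map (P := @Flat) (g := φ) ‹_›)
      (repWith_yon_map (P := @LocallyOfFinitePresentation) (g := φ) ‹_›)
      (repWith_yon_map (P := @Surjective) (g := φ) ‹_›)
  infer_instance

theorem exists_mono_of_finite {L : Type u} [Field L] {str : Spec (CommRingCat.of L) ⟶ S} {X : Sp S}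
    (q : (yon S).obj (Over.mk str) ⟶ X) {P : Over S} {s' t' : P ⟶ Over.mk str}
    (sq : IsPullback ((yon S).map s') ((yon S).map t') q q) [IsFinite s'.left] :
    ∃ (p : FieldPt X) (r : Over.mk str ⟶ p.pt), (yon S).map r ≫ p.toHom = q ∧ Mono p.toHom := by
  classical
  haveI : IsAffine (Over.mk str).left := inferInstanceAs (IsAffine (Spec _))
  haveI : IsAffine P.left := isAffine_of_isAffineHom s'.left
  let A : CommRingCat.{u} := Γ(P.left, ⊤)
  let e : P.left ≅ Spec A := P.left.isoSpec
  let s : CommRingCat.of L ⟶ A := Spec.preimage (e.inv ≫ s'.left)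
  let t : CommRingCat.of L ⟶ A := Spec.preimage (e.inv ≫ t'.left)
  have hs : Spec.map s = e.inv ≫ s'.left := Spec.map_preimage _
  have ht : Spec.map t = e.inv ≫ t'.left := Spec.map_preimage _
  have hsfin : s.hom.Finite := by
    rw [← IsFinite.SpecMap_iff, hs]
    haveI : IsFinite (s'.left : P.left ⟶ Spec (CommRingCat.of L)) := ‹IsFinite s'.left›
    exact inferInstanceAs (IsFinite (e.inv ≫ (s'.left : P.left ⟶ Spec (CommRingCat.of L))))
  haveI : Nontrivial A := by
    obtain ⟨δ, hδ⟩ := (yon S).map_surjective (sq.lift (𝟙 _) (𝟙 _) rfl)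
    haveI : Nonempty ↥(Spec A) := ⟨e.hom (δ.left (IsLocalRing.closedPoint L))⟩
    exact PrimeSpectrum.nonempty_iff_nontrivial.1 (inferInstanceAs (Nonempty ↥(Spec A)))
  -- composition
  let D : CommRingCat.{u} := CommRingCat.of (Side t.hom ⊗[L] Side s.hom)
  let i₁ : A ⟶ D := CommRingCat.ofHom
    ((Algebra.TensorProduct.includeLeftRingHom : Side t.hom →+* Side t.hom ⊗[L] Side s.hom).comp
      (toSide t.hom).toRingHom)
  let i₂ : A ⟶ D := CommRingCat.ofHom
    ((Algebra.TensorProduct.includeRight : Side s.hom →ₐ[L] Side t.hom ⊗[L] Side s.hom).toRingHom.comp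
      (toSide s.hom).toRingHom)
  have hti : t ≫ i₁ = s ≫ i₂ := by
    ext x
    change (toSide t.hom (t.hom x)) ⊗ₜ[L] (1 : Side s.hom) = (1 : Side t.hom) ⊗ₜ[L] toSide s.hom (s.hom x)
    rw [← algebraMap_side, ← algebraMap_side, Algebra.algebraMap_eq_smul_one, Algebra.algebraMap_eq_smul_one,
      TensorProduct.smul_tmul]
  let D' : Over S := Over.mk ((Spec.map i₁ ≫ e.inv) ≫ P.hom)
  let g₁ : D' ⟶ P := Over.homMk (Spec.map i₁ ≫ e.inv) rfl
  have hmid : (Spec.map i₁ ≫ e.inv) ≫ t'.left = (Spec.map i₂ ≫ e.inv) ≫ s'.left := by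
    rw [Category.assoc, Category.assoc, ← ht, ← hs, ← Spec.map_comp, ← Spec.map_comp, hti]
  let g₂ : D' ⟶ P := Over.homMk (Spec.map i₂ ≫ e.inv) (by
    change _ ≫ P.hom = (Spec.map i₁ ≫ e.inv) ≫ P.hom
    calc (Spec.map i₂ ≫ e.inv) ≫ P.hom = ((Spec.map i₂ ≫ e.inv) ≫ s'.left) ≫ (Over.mk str).hom := by
          rw [Category.assoc _ s'.left, Over.w]
      _ = (Spec.map i₁ ≫ e.inv) ≫ P.hom := by rw [← hmid, Category.assoc _ t'.left, Over.w])
  have hg : g₁ ≫ t' = g₂ ≫ s' := Over.OverMorphism.ext hmid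
  obtain ⟨m, hm⟩ := (yon S).map_surjective (sq.lift ((yon S).map (g₁ ≫ s')) ((yon S).map (g₂ ≫ t')) (by
    calc (yon S).map (g₁ ≫ s') ≫ q = (yon S).map g₁ ≫ (yon S).map t' ≫ q := by
          rw [(yon S).map_comp, Category.assoc, sq.w]
      _ = (yon S).map g₂ ≫ (yon S).map s' ≫ q := by
          rw [← Category.assoc, ← (yon S).map_comp, hg, (yon S).map_comp, Category.assoc]
      _ = (yon S).map (g₂ ≫ t') ≫ q := by rw [sq.w, (yon S).map_comp, Category.assoc]))
  have hm1 : m ≫ s' = g₁ ≫ s' := (yon S).map_injective (by rw [(yon S).map_comp, hm, sq.lift_fst])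
  have hm2 : m ≫ t' = g₂ ≫ t' := (yon S).map_injective (by rw [(yon S).map_comp, hm, sq.lift_snd])
  let c : A ⟶ D := Spec.preimage ((m.left : Spec D ⟶ P.left) ≫ e.hom)
  have hcs : ∀ x, c.hom (s.hom x) = toSide t.hom (s.hom x) ⊗ₜ[L] 1 := by
    have h : s ≫ c = s ≫ i₁ := Spec.map_injective (by
      rw [Spec.map_comp, Spec.map_comp, Spec.map_preimage, hs, Category.assoc, Iso.hom_inv_id_assoc]
      exact (congrArg CategoryTheory.CommaMorphism.left hm1).trans (Category.assoc _ _ _))
    exact fun x => congrArg (fun φ : CommRingCat.of L ⟶ D => φ.hom x) h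
  have hct : ∀ x, c.hom (t.hom x) = 1 ⊗ₜ[L] toSide s.hom (t.hom x) := by
    have h : t ≫ c = t ≫ i₂ := Spec.map_injective (by
      rw [Spec.map_comp, Spec.map_comp, Spec.map_preimage, ht, Category.assoc, Iso.hom_inv_id_assoc]
      exact (congrArg CategoryTheory.CommaMorphism.left hm2).trans (Category.assoc _ _ _))
    exact fun x => congrArg (fun φ : CommRingCat.of L ⟶ D => φ.hom x) h
  haveI : Module.Finite L (Side s.hom) := hsfin
  let k : Subfield L := invariants s.hom t.hom
  haveI : Module.Finite k L := finite_invariants s.hom t.hom c.hom hcs hct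
  -- the structure map of `k`
  have hstr : Spec.map s ≫ str = Spec.map t ≫ str := by
    rw [hs, ht, Category.assoc, Category.assoc]
    exact congrArg (e.inv ≫ ·) ((Over.w s').trans (Over.w t').symm)
  let pt := str (IsLocalRing.closedPoint L)
  let d : S.residueField pt ⟶ CommRingCat.of L := S.descResidueField (Scheme.stalkClosedPointTo str)
  have hd : Spec.map d ≫ S.fromSpecResidueField pt = str :=
    Scheme.descResidueField_stalkClosedPointTo_fromSpecResidueField L S str
  have hdk : ∀ x, d.hom x ∈ k := by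
    have h : d ≫ s = d ≫ t := Spec.map_injective (by
      rw [Spec.map_comp, Spec.map_comp, ← cancel_mono (S.fromSpecResidueField pt), Category.assoc, Category.assoc,
        hd, hstr])
    exact fun x => mem_invariants.2 (congrArg (fun φ : S.residueField pt ⟶ A => φ.hom x) h)
  let dk : S.residueField pt ⟶ CommRingCat.of k := CommRingCat.ofHom (d.hom.codRestrict k.toSubring hdk)
  let ι : CommRingCat.of k ⟶ CommRingCat.of L := CommRingCat.ofHom (algebraMap k L)
  let strk : Spec (CommRingCat.of k) ⟶ S := Spec.map dk ≫ S.fromSpecResidueField pt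
  let r : Over.mk str ⟶ Over.mk strk := Over.homMk (Spec.map ι) (by
    change Spec.map ι ≫ Spec.map dk ≫ S.fromSpecResidueField pt = str
    rw [← Category.assoc, ← Spec.map_comp, show dk ≫ ι = d from rfl, hd])
  -- the comparison `L ⊗ L → A`
  letI : Algebra k A := (s.hom.comp (algebraMap k L)).toAlgebra
  let sA : L →ₐ[k] A := { s.hom with commutes' := fun _ => rfl }
  let tA : L →ₐ[k] A := { t.hom with commutes' := fun x => (mem_invariants.1 x.2).symm }
  let φ : L ⊗[k] L →ₐ[k] A := Algebra.TensorProduct.lift sA tA (fun _ _ => Commute.all _ _)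
  have hφ₁ : ∀ x : L, φ (x ⊗ₜ 1) = s.hom x := fun x => by simp [φ, sA]
  have hφ₂ : ∀ x : L, φ (1 ⊗ₜ x) = t.hom x := fun x => by simp [φ, tA]
  let T : CommRingCat.{u} := CommRingCat.of (L ⊗[k] L)
  let φ' : T ⟶ A := CommRingCat.ofHom φ.toRingHom
  let j₁ : CommRingCat.of L ⟶ T := CommRingCat.ofHom Algebra.TensorProduct.includeLeftRingHom
  let j₂ : CommRingCat.of L ⟶ T := CommRingCat.ofHom (Algebra.TensorProduct.includeRight (R := k) (A := L)).toRingHom
  have hj₁ : j₁ ≫ φ' = s := by ext x; exact hφ₁ x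
  have hj₂ : j₂ ≫ φ' = t := by ext x; exact hφ₂ x
  haveI : Epi φ' := ⟨fun {W} a b hab => by
    have e₁ : s ≫ a = s ≫ b := by rw [← hj₁, Category.assoc, Category.assoc, hab]
    have e₂ : t ≫ a = t ≫ b := by rw [← hj₂, Category.assoc, Category.assoc, hab]
    let W' : Over S := Over.mk ((Spec.map a ≫ e.inv) ≫ P.hom)
    have k₁ : (Spec.map b ≫ e.inv) ≫ s'.left = (Spec.map a ≫ e.inv) ≫ s'.left := by
      rw [Category.assoc, Category.assoc, ← hs, ← Spec.map_comp, ← Spec.map_comp, e₁]
    have k₂ : (Spec.map b ≫ e.inv) ≫ t'.left = (Spec.map a ≫ e.inv) ≫ t'.left := by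
      rw [Category.assoc, Category.assoc, ← ht, ← Spec.map_comp, ← Spec.map_comp, e₂]
    let za : W' ⟶ P := Over.homMk (Spec.map a ≫ e.inv) rfl
    let zb : W' ⟶ P := Over.homMk (Spec.map b ≫ e.inv) (by
      calc (Spec.map b ≫ e.inv) ≫ P.hom = ((Spec.map b ≫ e.inv) ≫ s'.left) ≫ (Over.mk str).hom := by
            rw [Category.assoc _ s'.left, Over.w]
        _ = (Spec.map a ≫ e.inv) ≫ P.hom := by rw [k₁, Category.assoc _ s'.left, Over.w])
    have hz : za = zb := (yon S).map_injective (sq.hom_ext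
      (by rw [← (yon S).map_comp, ← (yon S).map_comp]; exact congrArg _ (Over.OverMorphism.ext k₁.symm))
      (by rw [← (yon S).map_comp, ← (yon S).map_comp]; exact congrArg _ (Over.OverMorphism.ext k₂.symm)))
    exact Spec.map_injective ((cancel_mono e.inv).1 (congrArg CategoryTheory.CommaMorphism.left hz))⟩
  haveI : IsIso φ' := (ConcreteCategory.isIso_iff_bijective φ').2
    ⟨injective_comparison s.hom t.hom c.hom hcs hct φ.toRingHom hφ₁ hφ₂,
      RingHom.surjective_of_epi_of_finite φ' (RingHom.Finite.of_comp_finite (f := j₁.hom) (by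
        rw [← CommRingCat.hom_comp, hj₁]; exact hsfin))⟩
  have sqS : IsPullback s'.left t'.left r.left r.left := by
    refine (isPullback_SpecMap_of_isPushout ι ι j₁ j₂ (CommRingCat.isPushout_tensorProduct k L L)).of_iso
      ((asIso (Spec.map φ')).symm ≪≫ e.symm) (Iso.refl _) (Iso.refl _) (Iso.refl _) ?_ ?_ ?_ ?_
    · rw [Iso.refl_hom, Category.comp_id, Iso.trans_hom, Iso.symm_hom, Iso.symm_hom, Category.assoc, ← hs, ← hj₁,
        Spec.map_comp, asIso_inv, IsIso.inv_hom_id_assoc]
    · rw [Iso.refl_hom, Category.comp_id, Iso.trans_hom, Iso.symm_hom, Iso.symm_hom, Category.assoc, ← ht, ← hj₂,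
        Spec.map_comp, asIso_inv, IsIso.inv_hom_id_assoc]
    · simp [r]
    · simp [r]
  have hw : s' ≫ r = t' ≫ r := Over.OverMorphism.ext sqS.w
  have sqr : IsPullback ((yon S).map s') ((yon S).map t') ((yon S).map r) ((yon S).map r) :=
    isPullback_yon_map (IsPullback.of_map (Over.forget S) hw sqS)
  haveI : Flat r.left := flat_to_field (K := k) (Ω := L) r.left
  haveI : LocallyOfFinitePresentation r.left := by
    change LocallyOfFinitePresentation (Spec.map ι)
    rw [HasRingHomProperty.Spec_iff (P := @LocallyOfFinitePresentation)]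
    exact RingHom.finitePresentation_algebraMap.2 (Algebra.FinitePresentation.of_finiteType.1 inferInstance)
  haveI : Surjective r.left := ⟨fun x => ⟨IsLocalRing.closedPoint L,
    @Subsingleton.elim _ (inferInstanceAs (Subsingleton ↥(Spec (CommRingCat.of k)))) _ _⟩⟩
  haveI := epi_yon_map r
  obtain ⟨p, hp⟩ := exists_desc_of_epi ((yon S).map r) sqr q sq.w
  refine ⟨⟨k, strk, (J S).uliftYonedaEquiv.{u+1} p⟩, r, ?_, ?_⟩
  · rw [FieldPt.toHom, Equiv.symm_apply_apply]; exact hp
  rw [FieldPt.toHom, Equiv.symm_apply_apply]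
  refine ⟨fun {Z} a b hab => hom_ext_yon fun V v => ?_⟩
  obtain ⟨a', ha'⟩ := (yon S).map_surjective (v ≫ a)
  obtain ⟨b', hb'⟩ := (yon S).map_surjective (v ≫ b)
  rw [← ha', ← hb']
  let V₁ := pullback a' r
  let V₂ := pullback (pullback.fst a' r ≫ b') r
  let ψ : V₂ ⟶ V := pullback.fst (pullback.fst a' r ≫ b') r ≫ pullback.fst a' r
  have f₁ := isPullback_left (IsPullback.of_hasPullback a' r)
  have f₂ := isPullback_left (IsPullback.of_hasPullback (pullback.fst a' r ≫ b') r)
  haveI : Flat (pullback.fst a' r).left := MorphismProperty.of_isPullback f₁.flip ‹Flat r.left›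
  haveI : Flat (pullback.fst (pullback.fst a' r ≫ b') r).left := MorphismProperty.of_isPullback f₂.flip ‹Flat r.left›
  haveI : LocallyOfFinitePresentation (pullback.fst a' r).left :=
    MorphismProperty.of_isPullback f₁.flip ‹LocallyOfFinitePresentation r.left›
  haveI : LocallyOfFinitePresentation (pullback.fst (pullback.fst a' r ≫ b') r).left :=
    MorphismProperty.of_isPullback f₂.flip ‹LocallyOfFinitePresentation r.left›
  haveI : Surjective (pullback.fst a' r).left := MorphismProperty.of_isPullback f₁.flip ‹Surjective r.left›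
  haveI : Surjective (pullback.fst (pullback.fst a' r ≫ b') r).left :=
    MorphismProperty.of_isPullback f₂.flip ‹Surjective r.left›
  haveI : Flat ψ.left := inferInstanceAs (Flat (_ ≫ _))
  haveI : LocallyOfFinitePresentation ψ.left := inferInstanceAs (LocallyOfFinitePresentation (_ ≫ _))
  haveI : Surjective ψ.left := inferInstanceAs (Surjective (_ ≫ _))
  haveI := epi_yon_map ψ
  let x : V₂ ⟶ Over.mk str := pullback.fst (pullback.fst a' r ≫ b') r ≫ pullback.snd a' r
  let y : V₂ ⟶ Over.mk str := pullback.snd (pullback.fst a' r ≫ b') r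
  have hx : x ≫ r = ψ ≫ a' := by simp only [x, ψ, Category.assoc, pullback.condition]
  have hy : y ≫ r = ψ ≫ b' := by simp only [y, ψ, Category.assoc]; exact pullback.condition.symm
  have hxy : (yon S).map x ≫ q = (yon S).map y ≫ q := by
    rw [← hp, ← Category.assoc, ← (yon S).map_comp, ← Category.assoc, ← (yon S).map_comp, hx, hy,
      (yon S).map_comp ψ a', (yon S).map_comp ψ b', Category.assoc, Category.assoc, ha', hb', Category.assoc,
      Category.assoc, hab]
  rw [← cancel_epi ((yon S).map ψ), ← (yon S).map_comp, ← (yon S).map_comp, ← hx, ← hy, (yon S).map_comp x r,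
    (yon S).map_comp y r, ← sq.lift_fst _ _ hxy, Category.assoc, sqr.w, ← Category.assoc, sq.lift_snd]

end Groth.Agent.ASp
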