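import Groth.Agent.ASp.Decent
import Groth.Agent.ASp.Sheaf
import Groth.Agent.Unibranch.Open
import Groth.Agent.ASp.Residual
/-!
Monomorphic field-valued points: factorisation, quasi-compactness, decency on open coverings.
-/

set_option backward.isDefEq.respectTransparency false
set_option backward.isDefEq.respectTransparency.types false

universe u

open CategoryTheory CategoryTheory.Limits AlgebraicGeometry Opposite

namespace Groth.Agent.ASp

open _root_.AlgSp

variable {S : Scheme.{u}}

/-- A field-valued point factors through every monomorphic field-valued point in its class. -/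
theorem factor_of_mono {X : Sp S} (hX : IsAlgSpace X) (p q : FieldPt X) (h : Points.mk p = Points.mk q)
    [Mono p.toHom] : ∃ c : q.pt ⟶ p.pt, (yon S).map c ≫ p.toHom = q.toHom := by
  obtain ⟨Ω, _, w, a, b, hab⟩ := Points.mk_eq_mk_iff.1 h
  have e : (yon S).map a ≫ p.toHom = (yon S).map b ≫ q.toHom := by
    apply (J S).uliftYonedaEquiv.{u+1}.injective
    rw [← GrothendieckTopology.uliftYonedaEquiv_naturality.{u+1}, ← GrothendieckTopology.uliftYonedaEquiv_naturality.{u+1},
      FieldPt.uliftYonedaEquiv_toHom, FieldPt.uliftYonedaEquiv_toHom]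
    exact hab
  have sq := IsPullback.of_hasPullback p.toHom q.toHom
  haveI : Mono (pullback.snd p.toHom q.toHom) := inferInstance
  haveI := isIso_of_mono_field (K := q.K) (Ω := Ω)
    (isAlgSpace_pullback hX.diag (IsAlgSpace.yon_obj _) (IsAlgSpace.yon_obj _) p.toHom q.toHom)
    (pullback.snd p.toHom q.toHom) b (pullback.lift ((yon S).map a) ((yon S).map b) e) (pullback.lift_snd _ _ _)
  obtain ⟨c, hc⟩ := (yon S).map_surjective (inv (pullback.snd p.toHom q.toHom) ≫ pullback.fst p.toHom q.toHom)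
  exact ⟨c, by rw [hc, Category.assoc, sq.w, IsIso.inv_hom_id_assoc]⟩

/-- Every representative of a point with a monomorphic quasi-compact one is quasi-compact. -/
theorem repWith_qc_of_same_pt {X : Sp S} (hX : IsAlgSpace X) (p q : FieldPt X) (h : Points.mk p = Points.mk q)
    [Mono p.toHom] (hp : RepWith @QuasiCompact p.toHom) : RepWith @QuasiCompact q.toHom := by
  obtain ⟨c, hc⟩ := factor_of_mono hX p q h
  rw [← hc]
  haveI : Subsingleton ↥q.pt.left := inferInstanceAs (Subsingleton ↥(Spec (CommRingCat.of q.K)))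
  exact repWith_comp (repWith_yon_map (P := @QuasiCompact) (quasiCompact_of_subsingleton c.left)) hp

/-- A map from a scheme whose image lies in an open subspace factors through it. -/
theorem exists_lift_openImm {F G : Sp S} {j : F ⟶ G} (hj : RepWith @IsOpenImmersion j) {U : Over S}
    (g : (yon S).obj U ⟶ G) (h : ∀ u, Points.ofPt g u ∈ Set.range (Points.map j)) :
    ∃ l : (yon S).obj U ⟶ F, l ≫ j = g := by
  have sq := hj.1.isPullback g
  haveI : IsOpenImmersion (hj.1.snd g).left := hj.2 _ _ _ sq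
  haveI : Surjective (hj.1.snd g).left := ⟨fun u => by
    obtain ⟨y, hy⟩ := h u
    obtain ⟨z, -, hz⟩ := points_exists_of_isPullback sq y (Points.ofScheme U u)
      (by rw [hy, ← Points.ofPt_eq_map_ofScheme])
    obtain ⟨v, rfl⟩ := (Points.schemeHomeo _).surjective z
    rw [Points.map_yon_map_apply] at hz
    exact ⟨v, (Points.schemeHomeo U).injective hz⟩⟩
  haveI : Epi (hj.1.snd g).left.base := (TopCat.epi_iff_surjective _).2 (hj.1.snd g).left.surjective
  haveI : IsIso (hj.1.snd g).left := IsOpenImmersion.isIso _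
  haveI : IsIso ((Over.forget S).map (hj.1.snd g)) := ‹IsIso (hj.1.snd g).left›
  haveI : IsIso (hj.1.snd g) := isIso_of_reflects_iso _ (Over.forget S)
  exact ⟨inv ((yon S).map (hj.1.snd g)) ≫ hj.1.fst g, by rw [Category.assoc, sq.w, IsIso.inv_hom_id_assoc]⟩

/-- Decency is local for the Zariski topology. -/
theorem isDecent_of_openCover {F : Sp S} (hF : IsAlgSpace F) {ι : Type*} (Fi : ι → Sp S) (j : ∀ i, Fi i ⟶ F)
    (hj : ∀ i, RepWith @IsOpenImmersion (j i)) (hs : ∀ x : Points F, ∃ i, x ∈ Set.range (Points.map (j i)))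
    (hFi : ∀ i, IsAlgSpace (Fi i)) (hd : ∀ i, IsDecent (Fi i)) : IsDecent F := by
  intro x
  obtain ⟨i₀, y, rfl⟩ := hs x
  obtain ⟨p₀, hp₀, hm₀, -⟩ := hd i₀ y
  haveI : ∀ i, Mono (j i) := fun i => mono_of_repWith (P := @IsOpenImmersion)
    (fun g hg => haveI : IsOpenImmersion g := hg; inferInstance) (hj i)
  refine ⟨p₀.map (j i₀), by rw [← Points.map_mk, hp₀], by rw [FieldPt.toHom_map]; infer_instance, ?_⟩
  set p := p₀.map (j i₀) with hp
  have hpx : Points.mk p = Points.map (j i₀) y := by rw [hp, ← Points.map_mk, hp₀]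
  refine ⟨hF.representable_from_yon _, fun {V E} g c e sq => ?_⟩
  change QuasiCompact e.left
  rw [quasiCompact_iff_forall_isAffineOpen]
  intro W hW
  have hloc : ∀ v : W, ∃ (O : V.left.Opens) (i : ι), IsAffineOpen O ∧ v.1 ∈ O ∧ O ≤ W ∧
      ∀ z ∈ O, Points.ofPt g z ∈ Set.range (Points.map (j i)) := fun v => by
    obtain ⟨i, hi⟩ := hs (Points.ofPt g v.1)
    have hop : IsOpen (Set.range (Points.map (j i))) :=
      (isOpenMap_map_of_repWith (fun h (hh : IsOpenImmersion h) => h.isOpenEmbedding.isOpenMap) (hj i)).isOpen_range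
    obtain ⟨O, hO, hvO, hle⟩ := exists_isAffineOpen_mem_and_subset (x := v.1)
      (U := ⟨_, hop.preimage (Points.continuous_ofPt g)⟩ ⊓ W) ⟨hi, v.2⟩
    exact ⟨O, i, hO, hvO, fun z hz => (hle hz).2, fun z hz => (hle hz).1⟩
  choose O i hO hvO hOW hOi using hloc
  obtain ⟨t, ht⟩ := hW.isCompact.elim_finite_subcover (fun v : W => (O v : Set ↥V.left)) (fun v => (O v).isOpen)
    (fun z hz => Set.mem_iUnion.2 ⟨⟨z, hz⟩, hvO ⟨z, hz⟩⟩)
  have key : ∀ v : W, IsCompact (e.left ⁻¹' (O v : Set ↥V.left)) := by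
    intro v
    rcases (e.left ⁻¹' (O v : Set ↥V.left)).eq_empty_or_nonempty with h | ⟨z, hz⟩
    · rw [h]; exact isCompact_empty
    let V' : Over S := Over.mk ((O v).ι ≫ V.hom)
    let o : V' ⟶ V := Over.homMk (O v).ι rfl
    obtain ⟨g', hg'⟩ := exists_lift_openImm (hj (i v)) ((yon S).map o ≫ g) (fun z => by
      rw [ofPt_yon_map_comp]; exact hOi v _ z.2)
    -- the point lies in the piece
    have hx : Points.mk p ∈ Set.range (Points.map (j (i v))) := by
      have h1 : Points.ofPt g (e.left z) = Points.mk p := by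
        rw [← ofPt_yon_map_comp, ← sq.w, ← Points.map_ofPt]
        obtain ⟨q, hq⟩ := (Points.schemeHomeo p.pt).surjective (Points.ofPt c z)
        rw [← hq]
        change Points.map p.toHom (Points.ofScheme p.pt q) = _
        rw [← Points.ofPt_eq_map_ofScheme, Points.ofPt_toHom]
      exact h1 ▸ hOi v _ hz
    obtain ⟨q, hq⟩ := exists_lift_openImm (hj (i v)) p.toHom (fun t => by rw [Points.ofPt_toHom]; exact hx)
    obtain ⟨p₁, hp₁, hm₁, hq₁⟩ := hd (i v) (Points.mk ⟨p.K, p.str, (J S).uliftYonedaEquiv.{u+1} q⟩)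
    have hqc : RepWith @QuasiCompact q := by
      have := repWith_qc_of_same_pt (hFi (i v)) p₁ ⟨p.K, p.str, (J S).uliftYonedaEquiv.{u+1} q⟩ hp₁ hq₁
      rwa [FieldPt.toHom, Equiv.symm_apply_apply] at this
    have sq' := hqc.1.isPullback g'
    haveI : QuasiCompact (hqc.1.snd g').left := hqc.2 _ _ _ sq'
    haveI : IsAffine V'.left := hO v
    haveI : CompactSpace ↥(hqc.1.pullback g').left :=
      QuasiCompact.compactSpace_of_compactSpace (hqc.1.snd g').left
    obtain ⟨k, hk⟩ := (yon S).map_surjective (sq.lift (hqc.1.fst g') ((yon S).map (hqc.1.snd g' ≫ o))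
      (by rw [(yon S).map_comp, Category.assoc, ← hg', ← hq, ← Category.assoc, sq'.w, Category.assoc]))
    have hk2 : k ≫ e = hqc.1.snd g' ≫ o := (yon S).map_injective (by rw [(yon S).map_comp, hk, sq.lift_snd])
    suffices e.left ⁻¹' (O v : Set ↥V.left) = Set.range k.left by
      rw [this]; exact isCompact_range k.left.continuous
    refine Set.Subset.antisymm (fun z hz => ?_) ?_
    · let E' : Over S := Over.mk ((e.left ⁻¹ᵁ O v).ι ≫ E.hom)
      let oE : E' ⟶ E := Over.homMk (e.left ⁻¹ᵁ O v).ι rfl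
      let e' : E' ⟶ V' := Over.homMk (e.left ∣_ O v) (by
        change (e.left ∣_ O v) ≫ (O v).ι ≫ V.hom = _
        rw [← Category.assoc, morphismRestrict_ι, Category.assoc, Over.w]
        rfl)
      have he' : e' ≫ o = oE ≫ e := Over.OverMorphism.ext (morphismRestrict_ι _ _)
      obtain ⟨n, hn⟩ := (yon S).map_surjective (sq'.lift ((yon S).map oE ≫ c) ((yon S).map e') (by
        rw [← cancel_mono (j (i v)), Category.assoc, hq, Category.assoc, sq.w, Category.assoc, hg',
          ← Category.assoc, ← (yon S).map_comp, ← Category.assoc, ← (yon S).map_comp, he']))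
      have hnk : n ≫ k = oE := by
        refine (yon S).map_injective (sq.hom_ext ?_ ?_)
        · rw [(yon S).map_comp, hk, Category.assoc, sq.lift_fst, hn, sq'.lift_fst]
        · rw [← (yon S).map_comp, ← (yon S).map_comp, Category.assoc, hk2, ← Category.assoc,
            show n ≫ hqc.1.snd g' = e' from (yon S).map_injective (by rw [(yon S).map_comp, hn, sq'.lift_snd]), he']
      exact ⟨n.left ⟨z, hz⟩, by rw [← Scheme.Hom.comp_apply, ← Over.comp_left, hnk]; rfl⟩
    · rintro _ ⟨w, rfl⟩
      change e.left (k.left w) ∈ O v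
      rw [← Scheme.Hom.comp_apply, ← Over.comp_left, hk2]
      exact ((hqc.1.snd g').left w).2
  change IsCompact (e.left ⁻¹' (W : Set ↥V.left))
  have hcov : e.left ⁻¹' (W : Set ↥V.left) = ⋃ v ∈ t, e.left ⁻¹' (O v : Set ↥V.left) := by
    ext z
    refine ⟨fun hz => ?_, fun hz => ?_⟩
    · obtain ⟨v, hv, hzv⟩ := Set.mem_iUnion₂.1 (ht hz)
      exact Set.mem_iUnion₂.2 ⟨v, hv, hzv⟩
    · obtain ⟨v, -, h⟩ := Set.mem_iUnion₂.1 hz
      exact hOW v h
  rw [hcov]
  exact t.isCompact_biUnion fun v _ => key v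

/-- Decency of a morphism is tested on affine schemes over the target. -/
theorem isDecentMor_of_affine {X Y : Sp S} (hX : IsAlgSpace X) (hY : IsAlgSpace Y) (f : X ⟶ Y)
    (h : ∀ (Z : Over S) (g : (yon S).obj Z ⟶ Y) (P : Sp S) (fst : P ⟶ X) (snd : P ⟶ (yon S).obj Z),
      IsAffine Z.left → IsPullback fst snd f g → IsDecent P) : IsDecentMor f := by
  intro T F' g fst snd sq
  have hF' : IsAlgSpace F' := isAlgSpace_of_isPullback hY.diag hX (IsAlgSpace.yon_obj T) sq
  let A : T.left.affineOpens → Over S := fun W => Over.mk (W.1.ι ≫ T.hom)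
  let w : ∀ W, A W ⟶ T := fun W => Over.homMk W.1.ι rfl
  refine isDecent_of_openCover hF' (fun W => pullback snd ((yon S).map (w W)))
    (fun W => pullback.fst snd ((yon S).map (w W)))
    (fun W => repWith_of_isPullback (IsPullback.of_hasPullback snd ((yon S).map (w W))).flip
      (repWith_yon_map (P := @IsOpenImmersion) (g := w W) (inferInstanceAs (IsOpenImmersion W.1.ι))))
    (fun x => ?_) (fun W => isAlgSpace_pullback (IsAlgSpace.yon_obj T).diag hF' (IsAlgSpace.yon_obj _) _ _)
    fun W => h (A W) _ _ _ _ W.2 ((IsPullback.of_hasPullback snd ((yon S).map (w W))).paste_horiz sq)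
  obtain ⟨t, ht⟩ := (Points.schemeHomeo T).surjective (Points.map snd x)
  obtain ⟨W, hW, htW, -⟩ := exists_isAffineOpen_mem_and_subset (x := t) (U := (⊤ : T.left.Opens)) (by simp)
  obtain ⟨y, hy, -⟩ := points_exists_of_isPullback (IsPullback.of_hasPullback snd ((yon S).map (w ⟨W, hW⟩))) x
    (Points.schemeHomeo (A ⟨W, hW⟩) ⟨t, htW⟩) (by rw [Points.map_yon_map_apply, ← ht]; rfl)
  exact ⟨⟨W, hW⟩, y, hy⟩

end Groth.Agent.ASp
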