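import Groth.Agent.ASp.Decent
import Groth.Agent.Unibranch.Open
/-!
The topology of decent algebraic spaces: finite fibres of etale charts and specialisations.
-/

set_option backward.isDefEq.respectTransparency false
set_option backward.isDefEq.respectTransparency.types false

universe u

open CategoryTheory CategoryTheory.Limits AlgebraicGeometry Opposite

namespace Groth.Agent.ASp

open _root_.AlgSp

variable {S : Scheme.{u}}

/-- On a decent algebraic space an etale chart has finite fibres on every quasi-compact open. -/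
theorem finite_fibre_inter {X : Sp S} (hdec : IsDecent X) {U : Over S} {a : (yon S).obj U ⟶ X}
    (ha : RepWith @Etale a) (x : Points X) {W : U.left.Opens} (hW : IsCompact (W : Set ↥U.left)) :
    (Points.ofPt a ⁻¹' {x} ∩ W).Finite := by
  obtain ⟨p, rfl, hm, hq⟩ := hdec x
  have sq := ha.1.isPullback p.toHom
  let E := ha.1.pullback p.toHom
  obtain ⟨c, hc⟩ := (yon S).map_surjective (ha.1.fst p.toHom)
  rw [← hc] at sq
  haveI : Etale (ha.1.snd p.toHom).left := ha.2 _ _ _ sq
  haveI := Groth.Agent.Unibranch.locallyQuasiFinite_of_etale (ha.1.snd p.toHom).left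
  haveI : Subsingleton ↥p.pt.left := inferInstanceAs (Subsingleton ↥(Spec (CommRingCat.of p.K)))
  haveI : DiscreteTopology ↥E.left := by
    have h := (ha.1.snd p.toHom).left.isDiscrete_preimage_singleton (IsLocalRing.closedPoint p.K)
    rw [show (ha.1.snd p.toHom).left ⁻¹' {IsLocalRing.closedPoint p.K} = Set.univ from
      Set.eq_univ_of_forall fun _ => Subsingleton.elim (α := ↥p.pt.left) _ _] at h
    exact isDiscrete_univ_iff.1 h
  haveI : QuasiCompact c.left := hq.2 _ _ _ sq.flip
  refine (((c.left.isCompact_preimage hW).finite_of_discrete).image c.left).subset ?_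
  rintro u ⟨hu, huW⟩
  obtain ⟨z, hz, -⟩ := points_exists_of_isPullback sq (Points.ofScheme U u)
    (Points.ofScheme p.pt (IsLocalRing.closedPoint p.K)) (by
      rw [← Points.ofPt_eq_map_ofScheme, ← Points.ofPt_eq_map_ofScheme, Points.ofPt_toHom]; exact hu)
  obtain ⟨e, rfl⟩ := (Points.schemeHomeo E).surjective z
  rw [Points.map_yon_map_apply] at hz
  have he : c.left e = u := (Points.schemeHomeo U).injective hz
  exact ⟨e, by change c.left e ∈ W; rwa [he], he⟩

/-- There are no specialisations in a fibre of an etale chart which is finite on affine opens. -/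
theorem eq_of_specializes_of_finite {X : Sp S} {U : Over S}
    {a : (yon S).obj U ⟶ X} (ha : RepWith @Etale a) {u u' : ↥U.left}
    (hfin₀ : ∀ W : U.left.Opens, IsAffineOpen W → (Points.ofPt a ⁻¹' {Points.ofPt a u} ∩ W).Finite)
    (he : Points.ofPt a u = Points.ofPt a u') (hs : u' ⤳ u) : u = u' := by
  classical
  by_contra hne
  obtain ⟨W, hW, huW, -⟩ := exists_isAffineOpen_mem_and_subset (x := u) (U := (⊤ : U.left.Opens)) (by simp)
  let M : Set ↥U.left := {w | Points.ofPt a w = Points.ofPt a u ∧ w ⤳ u ∧ w ≠ u}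
  have hfin : M.Finite := (hfin₀ W hW).subset
    fun w hw => ⟨hw.1, hw.2.1.mem_open W.isOpen huW⟩
  letI := specializationPreorder ↥U.left
  obtain ⟨w, ⟨hwa, hwu, hwne⟩, hmax⟩ := hfin.exists_maximal ⟨u', he.symm, hs, fun h => hne h.symm⟩
  -- lift `w ⤳ u` along the second projection of `R`
  have sq := ha.1.isPullback a
  obtain ⟨t, ht⟩ := (yon S).map_surjective (ha.1.fst a)
  rw [← ht] at sq
  haveI : Etale (ha.1.snd a).left := ha.2 _ _ _ sq
  haveI : Etale t.left := ha.2 _ _ _ sq.flip
  haveI := Groth.Agent.Unibranch.locallyQuasiFinite_of_etale t.left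
  obtain ⟨z, hz1, hz2⟩ := points_exists_of_isPullback sq (Points.ofScheme U w) (Points.ofScheme U u)
    (by rw [← Points.ofPt_eq_map_ofScheme, ← Points.ofPt_eq_map_ofScheme]; exact hwa)
  obtain ⟨r, rfl⟩ := (Points.schemeHomeo (ha.1.pullback a)).surjective z
  rw [Points.map_yon_map_apply] at hz1 hz2
  have hz1 : t.left r = w := (Points.schemeHomeo U).injective hz1
  have hz2 : (ha.1.snd a).left r = u := (Points.schemeHomeo U).injective hz2
  obtain ⟨r', hr', hr'w⟩ := Flat.generalizingMap (ha.1.snd a).left (show w ⤳ (ha.1.snd a).left r from hz2.symm ▸ hwu)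
  have hw' : t.left r' ⤳ w := hz1 ▸ hr'.map t.left.continuous
  have hfib : Points.ofPt a (t.left r') = Points.ofPt a u := by
    rw [← ofPt_yon_map_comp, sq.w, ofPt_yon_map_comp, hr'w, hwa]
  have hne' : t.left r' ≠ w := fun h => by
    have hd : DiscreteTopology ↥(t.left ⁻¹' {w}) :=
      (t.left.isDiscrete_preimage_singleton w).to_subtype
    have hrr : r' = r := congrArg Subtype.val
      ((subtype_specializes_iff (⟨r', h⟩ : ↥(t.left ⁻¹' {w})) ⟨r, hz1⟩).2 hr').eq
    exact hwne (by rw [← hr'w, hrr, hz2])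
  by_cases hu' : t.left r' = u
  · exact hwne (hwu.antisymm (hu' ▸ hw')).eq
  · exact hne' ((hw'.antisymm (hmax ⟨hfib, hw'.trans hwu, hu'⟩ hw')).eq)

/-- There are no specialisations in the fibres of an etale chart of a decent algebraic space. -/
theorem eq_of_specializes {X : Sp S} (hdec : IsDecent X) {U : Over S}
    {a : (yon S).obj U ⟶ X} (ha : RepWith @Etale a) {u u' : ↥U.left}
    (he : Points.ofPt a u = Points.ofPt a u') (hs : u' ⤳ u) : u = u' :=
  eq_of_specializes_of_finite ha (fun _ hW => finite_fibre_inter hdec ha _ hW.isCompact) he hs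

/-- Specialisations lift along etale charts of decent algebraic spaces. -/
theorem exists_specializes_lift {X : Sp S} (hdec : IsDecent X) {U : Over S}
    {a : (yon S).obj U ⟶ X} (ha : RepWith @Etale a) {u : ↥U.left} {y : Points X}
    (hy : y ⤳ Points.ofPt a u) : ∃ u' : ↥U.left, u' ⤳ u ∧ Points.ofPt a u' = y := by
  obtain ⟨W, hW, huW, -⟩ := exists_isAffineOpen_mem_and_subset (x := u) (U := (⊤ : U.left.Opens)) (by simp)
  let F : Set ↥U.left := Points.ofPt a ⁻¹' {y} ∩ W
  have hF : F.Finite := finite_fibre_inter hdec ha y hW.isCompact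
  suffices u ∈ closure F by
    rw [← Set.biUnion_of_singleton F, hF.closure_biUnion] at this
    obtain ⟨w, hw, hwu⟩ := Set.mem_iUnion₂.1 this
    exact ⟨w, specializes_iff_mem_closure.2 hwu, hw.1⟩
  rw [mem_closure_iff]
  intro O hO huO
  obtain ⟨w, hw, hwy⟩ := hy.mem_open (isOpenMap_ofPt_of_etale ha _ (hO.inter W.isOpen)) ⟨u, ⟨huO, huW⟩, rfl⟩
  exact ⟨w, hw.1, hwy, hw.2⟩

/-- Decent algebraic spaces have Kolmogorov spaces of points. -/
theorem t0Space_of_isDecent {X : Sp S} (hX : IsAlgSpace X) (hdec : IsDecent X) : T0Space (Points X) := by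
  refine ⟨fun {x y} h => ?_⟩
  obtain ⟨U, a, hae, has⟩ := hX.atlas
  obtain ⟨u, rfl⟩ := surjective_ofPt has x
  obtain ⟨u', hu', rfl⟩ := exists_specializes_lift hdec hae h.specializes'
  obtain ⟨u'', hu'', e⟩ := exists_specializes_lift hdec hae (y := Points.ofPt a u) h.specializes
  have h0 := eq_of_specializes hdec hae e.symm (hu''.trans hu')
  rw [← h0] at hu''
  rw [(hu''.antisymm hu').eq]

end Groth.Agent.ASp
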