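import Groth.Agent.ASp.ClosedPoint
import Groth.Agent.ASp.DecentPt
import Groth.Agent.ASp.DecentTop
import Groth.Agent.ASp.Decent
/-!
Points algebraic over a closed point of the base are closed in decent algebraic spaces.
-/

set_option autoImplicit false
set_option backward.isDefEq.respectTransparency false
set_option backward.isDefEq.respectTransparency.types false

universe u

open CategoryTheory CategoryTheory.Limits AlgebraicGeometry Opposite

namespace Groth.Agent.ASp

open _root_.AlgSp

variable {S : Scheme.{u}}

/-- A field-valued point whose composite to the base is integral is a closed point. -/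
theorem isClosed_of_integral_field {U B : Scheme.{u}} (q : U ⟶ B) {L : Type u} [Field L]
    (g : Spec (CommRingCat.of L) ⟶ U) [IsIntegralHom (g ≫ q)] :
    IsClosed ({g (IsLocalRing.closedPoint L)} : Set U) := by
  rw [← closure_subset_iff_isClosed]
  intro v hv
  obtain ⟨W, hW, hvW, -⟩ := exists_isAffineOpen_mem_and_subset (x := v) (U := (⊤ : U.Opens)) (by simp)
  have hw : g (IsLocalRing.closedPoint L) ∈ W := (specializes_iff_mem_closure.2 hv).mem_open W.isOpen hvW
  haveI : Subsingleton ↥(Spec (CommRingCat.of L)) := inferInstanceAs (Subsingleton (PrimeSpectrum L))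
  let g' := IsOpenImmersion.lift W.ι g (by
    rintro _ ⟨z, rfl⟩
    rw [Scheme.Opens.range_ι, Subsingleton.elim z (IsLocalRing.closedPoint L)]
    exact hw)
  haveI : IsAffine W.toScheme := hW
  haveI : IsSeparated (W.ι ≫ q) := by
    haveI : IsSeparated ((W.ι ≫ q) ≫ terminal.from B) := by
      rw [terminal.comp_from]; infer_instance
    exact IsSeparated.of_comp (W.ι ≫ q) (terminal.from B)
  haveI : IsIntegralHom (g' ≫ (W.ι ≫ q)) := by rwa [← Category.assoc, IsOpenImmersion.lift_fac]
  haveI : IsIntegralHom g' := IsIntegralHom.of_comp g' (W.ι ≫ q)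
  have hc : IsClosed (Set.range g') := g'.isClosedMap.isClosed_range
  have e : W.ι (g' (IsLocalRing.closedPoint L)) = g (IsLocalRing.closedPoint L) := by
    rw [← Scheme.Hom.comp_apply, IsOpenImmersion.lift_fac]
  have hs : g' (IsLocalRing.closedPoint L) ⤳ (⟨v, hvW⟩ : W.toScheme) :=
    W.ι.isOpenEmbedding.isInducing.specializes_iff.1 (by
      rw [e]; exact specializes_iff_mem_closure.2 hv)
  obtain ⟨z, hz⟩ := hs.mem_closed hc ⟨_, rfl⟩
  rw [Subsingleton.elim z (IsLocalRing.closedPoint L)] at hz
  rw [Set.mem_singleton_iff, ← e, hz]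
  rfl

/-- Points with values in a field integral over the base are closed in decent spaces. -/
theorem isClosed_ofPt_of_integral {X : Sp S} (hX : IsAlgSpace X) (hdec : IsDecent X) {k : Type u} [Field k]
    {str : Spec (CommRingCat.of k) ⟶ S} [IsIntegralHom str] (p : (yon S).obj (Over.mk str) ⟶ X)
    (t : ↥(Spec (CommRingCat.of k))) : IsClosed ({Points.ofPt p t} : Set (Points X)) := by
  obtain ⟨A, a, hae, has⟩ := hX.atlas
  obtain ⟨E, s, c, sq⟩ : ∃ (E : Over S) (s : E ⟶ Over.mk str) (c : E ⟶ A),
      IsPullback ((yon S).map s) ((yon S).map c) p a := by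
    obtain ⟨c, hc⟩ := (yon S).map_surjective (hae.1.fst p)
    exact ⟨_, hae.1.snd p, c, hc ▸ (hae.1.isPullback p).flip⟩
  haveI : Etale s.left := hae.2 _ _ _ sq.flip
  haveI := Groth.Agent.Unibranch.locallyQuasiFinite_of_etale s.left
  haveI : DiscreteTopology ↥E.left := isDiscrete_univ_iff.1
    ((s.left.isDiscrete_preimage_singleton (IsLocalRing.closedPoint k)).mono
      fun x _ => Subsingleton.elim (α := ↥(Spec (CommRingCat.of k))) _ _)
  let T : Set ↥A.left := Points.ofPt a ⁻¹' {Points.ofPt p t}
  have hcl : ∀ w ∈ T, IsClosed ({w} : Set ↥A.left) := by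
    intro w hw
    obtain ⟨z, -, hz⟩ := points_exists_of_isPullback sq (Points.ofScheme (Over.mk str) t) (Points.ofScheme A w)
      (by rw [← Points.ofPt_eq_map_ofScheme, ← Points.ofPt_eq_map_ofScheme]; exact (Set.mem_singleton_iff.1 hw).symm)
    obtain ⟨e, rfl⟩ := (Points.schemeHomeo E).surjective z
    rw [Points.map_yon_map_apply] at hz
    have hz : c.left e = w := (Points.schemeHomeo A).injective hz
    haveI := isClosed_singleton_iff_isClosedImmersion.mp (isClosed_discrete ({e} : Set ↥E.left))
    haveI : LocallyOfFiniteType (E.left.fromSpecResidueField e ≫ s.left) := inferInstance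
    haveI : JacobsonSpace ↥(Over.mk str).left := inferInstanceAs (JacobsonSpace ↥(Spec (CommRingCat.of k)))
    haveI : IsReduced (Over.mk str).left := inferInstanceAs (IsReduced (Spec (CommRingCat.of k)))
    haveI : IsFinite (E.left.fromSpecResidueField e ≫ s.left) :=
      (isFinite_iff_locallyOfFiniteType_of_jacobsonSpace (f := E.left.fromSpecResidueField e ≫ s.left)).mpr
        inferInstance
    haveI : IsIntegralHom ((E.left.fromSpecResidueField e ≫ c.left) ≫ A.hom) := by
      rw [Category.assoc, Over.w, ← Over.w s, ← Category.assoc]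
      exact MorphismProperty.comp_mem @IsIntegralHom _ _ inferInstance ‹IsIntegralHom str›
    have := isClosed_of_integral_field A.hom (E.left.fromSpecResidueField e ≫ c.left)
    have he : (E.left.fromSpecResidueField e ≫ c.left) (IsLocalRing.closedPoint (E.left.residueField e)) = w :=
      (congrArg c.left (Scheme.fromSpecResidueField_apply _ _)).trans hz
    exact he ▸ this
  have hT : IsClosed T := by
    rw [← isOpen_compl_iff, isOpen_iff_forall_mem_open]
    intro y hy
    obtain ⟨W, hW, hyW, -⟩ := exists_isAffineOpen_mem_and_subset (x := y) (U := (⊤ : A.left.Opens)) (by simp)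
    have hfc : IsClosed (T ∩ (W : Set ↥A.left)) := by
      rw [← Set.biUnion_of_singleton (T ∩ (W : Set ↥A.left))]
      exact (finite_fibre_inter hdec hae _ hW.isCompact).isClosed_biUnion fun w hw => hcl w hw.1
    exact ⟨_, fun q hq hq' => hq.2 ⟨hq', hq.1⟩, W.isOpen.inter hfc.isOpen_compl, hyW, fun h => hy h.1⟩
  rw [← isOpen_compl_iff]
  have := isOpenMap_ofPt_of_etale hae _ hT.isOpen_compl
  rwa [← Set.preimage_compl, Set.image_preimage_eq _ (surjective_ofPt has)] at this

/-- Such points are finite over the space when they are finite over the base. -/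
theorem repWith_isFinite_of_finite {X : Sp S} (hX : IsAlgSpace X) (hdec : IsDecent X) {k : Type u} [Field k]
    {str : Spec (CommRingCat.of k) ⟶ S} [IsFinite str] (p : (yon S).obj (Over.mk str) ⟶ X) :
    RepWith @IsFinite p ∧ (IsClosedImmersion str → RepWith @IsClosedImmersion p) := by
  obtain ⟨p₀, hp₀, hci⟩ := exists_closedImmersion_of_isClosed hX hdec _
    (isClosed_ofPt_of_integral hX hdec p (IsLocalRing.closedPoint k))
  let q : FieldPt X := ⟨k, str, (J S).uliftYonedaEquiv.{u+1} p⟩
  have hq : q.toHom = p := by rw [FieldPt.toHom]; exact Equiv.symm_apply_apply _ _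
  haveI : Mono p₀.toHom := mono_of_repWith (P := @IsClosedImmersion) (fun _ h => by haveI := h; infer_instance) hci
  obtain ⟨c, hc⟩ := factor_of_mono hX p₀ q (by rw [hp₀, ofPt_yon_mk])
  rw [hq] at hc
  haveI : IsAffine p₀.pt.left := inferInstanceAs (IsAffine (Spec (CommRingCat.of p₀.K)))
  haveI : IsSeparated p₀.pt.hom := by
    haveI : IsSeparated (p₀.pt.hom ≫ terminal.from S) := by rw [terminal.comp_from]; infer_instance
    exact IsSeparated.of_comp p₀.pt.hom (terminal.from S)
  rw [← hc]
  refine ⟨repWith_comp (P := @IsFinite) (repWith_yon_map ?_)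
      (repWith_mono (fun _ _ f (hf : IsClosedImmersion f) => inferInstanceAs (IsFinite f)) hci), fun h =>
    repWith_comp (P := @IsClosedImmersion) (repWith_yon_map ?_) hci⟩
  · haveI : IsFinite (c.left ≫ p₀.pt.hom) := by rw [Over.w]; exact ‹IsFinite str›
    exact IsFinite.of_comp c.left p₀.pt.hom
  · haveI : IsClosedImmersion (c.left ≫ p₀.pt.hom) := by rw [Over.w]; exact h
    exact IsClosedImmersion.of_comp c.left p₀.pt.hom

end Groth.Agent.ASp
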