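import Groth.Agent.ASp.QcAtlas
import Groth.Agent.ASp.QcqsPullback
import Groth.Agent.ASp.AffMor
import Mathlib.AlgebraicGeometry.Morphisms.QuasiFinite
import Mathlib.AlgebraicGeometry.Artinian
/-!
Maps from Artinian spectra to quasi-separated algebraic spaces are affine.
-/

set_option autoImplicit false
set_option backward.isDefEq.respectTransparency false
set_option backward.isDefEq.respectTransparency.types false

universe u

open CategoryTheory CategoryTheory.Limits AlgebraicGeometry Opposite

namespace Groth.Agent.ASp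

open _root_.AlgSp

variable {S : Scheme.{u}}

theorem isQuasiCompactMor_from_compact [QuasiSeparatedSpace ↥S] {X : Sp S} (hX : IsAlgSpace X)
    (hXq : IsQuasiSeparatedSp X) {W : Over S} [CompactSpace ↥W.left] (a : (yon S).obj W ⟶ X) :
    IsQuasiCompactMor a := by
  let π : X ⟶ (yon S).obj (Over.mk (𝟙 S)) := isTerminalYonBase.from X
  obtain ⟨Γ, m, h, e, -⟩ := exists_graph a π
  have hP := isAlgSpace_pullback (IsAlgSpace.yon_obj (Over.mk (𝟙 S))).diag (IsAlgSpace.yon_obj W) hX (a ≫ π) π
  have h1 : IsQuasiCompactMor Γ := isQuasiCompactMor_of_repWith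
    (repWith_of_isPullback h (isQuasiSeparatedMor_toBase hXq π))
  have h2 : IsQuasiCompactMor (a ≫ π) := by
    obtain ⟨t, ht⟩ := (yon S).map_surjective (a ≫ π)
    haveI : QuasiSeparatedSpace ↥(Over.mk (𝟙 S)).left := ‹QuasiSeparatedSpace ↥S›
    haveI : QuasiCompact t.left := quasiCompact_of_compactSpace _
    rw [← ht]
    exact isQuasiCompactMor_of_repWith (repWith_yon_map (P := @QuasiCompact) ‹_›)
  have h3 : IsQuasiCompactMor (pullback.snd (a ≫ π) π) := quasiCompact_baseChange (IsPullback.of_hasPullback _ _) h2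
  rw [← e]
  exact Groth.Agent.ASt.isQuasiCompactMor_comp hP hX h1 h3

/-- A map from an Artinian spectrum to a quasi-separated algebraic space is affine. -/
theorem isAffineMor_of_artinian [QuasiSeparatedSpace ↥S] {X : Sp S} (hX : IsAlgSpace X) (hXq : IsQuasiSeparatedSp X)
    {W : Over S} [IsArtinianScheme W.left] (a : (yon S).obj W ⟶ X) : IsAffineMor a := by
  obtain ⟨U, p, ι, V, hp, hps, hV, hVt, -⟩ := exists_disjointAffine_atlas hX
  obtain ⟨P, t, s, sq⟩ : ∃ (P : Over S) (t : P ⟶ W) (s : P ⟶ U), IsPullback ((yon S).map t) ((yon S).map s) a p := by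
    obtain ⟨P, s, t, h⟩ := exists_isPullback_yon hp.1 a
    exact ⟨P, t, s, h.flip⟩
  haveI : Etale t.left := hp.2 a _ t sq.flip
  haveI : DiscreteTopology ↥W.left := ((IsArtinianScheme.iff_isNoetherian_and_discreteTopology).1 ‹_›).2
  haveI : LocallyQuasiFinite t.left := IsEtLocal.etale_le (P := @LocallyQuasiFinite) _ ‹Etale t.left›
  haveI : DiscreteTopology ↥P.left := isDiscrete_univ_iff.1 (by
    simpa using t.left.isDiscrete_preimage (isDiscrete_univ_iff.2 ‹DiscreteTopology ↥W.left›))
  have hrep : Representable ((yon S).map s) := (repWith_yon_map (P := ⊤) (g := s) trivial).1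
  haveI : QuasiCompact s.left := ((repWith_quasiCompact_iff hrep).2
    (quasiCompact_baseChange sq (isQuasiCompactMor_from_compact hX hXq a))).2 (𝟙 _) (𝟙 _) s
      (IsPullback.of_horiz_isIso ⟨by simp⟩)
  haveI : IsAffineHom s.left := by
    refine IsZariskiLocalAtTarget.of_iSup_eq_top (P := @IsAffineHom) V hVt fun i => ?_
    haveI : IsAffine (V i).toScheme := hV i
    haveI : CompactSpace ↥(s.left ⁻¹ᵁ V i).toScheme :=
      isCompact_iff_compactSpace.mp (s.left.isCompact_preimage (hV i).isCompact)
    haveI : DiscreteTopology ↥(s.left ⁻¹ᵁ V i).toScheme := (Scheme.Opens.ι _).isOpenEmbedding.discreteTopology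
    haveI : Finite ↥(s.left ⁻¹ᵁ V i).toScheme := finite_of_compact_of_discrete
    infer_instance
  have hs : IsAffineMor ((yon S).map s) :=
    isAffineMor_of_repWith (P := @IsAffineHom) (fun _ h => h) (repWith_yon_map ‹_›)
  exact isAffineMor_of_fpqc (IsAlgSpace.yon_obj W) hX (fun _ : PUnit.{u+1} => sq) (isFpqcCover_of_chart hX hp hps)
    fun _ => hs

end Groth.Agent.ASp
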