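import Groth.Agent.ASp.LiftDim
import Groth.Agent.ASp.EtaleCover
import Groth.Agent.ASp.Points
import Groth.Agent.Unibranch.Open

/-!
Comparison of two etale charts at a point.
-/

set_option backward.isDefEq.respectTransparency false
set_option backward.isDefEq.respectTransparency.types false

universe u

open CategoryTheory CategoryTheory.Limits AlgebraicGeometry TopologicalSpace Topology

namespace Groth.Agent.ASp

open _root_.AlgSp

variable {S : Scheme.{u}}

theorem isGenLift_of_etale {A B : Scheme.{u}} (t : A ⟶ B) [Etale t] : IsGenLift t where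
  cont := t.continuous
  eq_of_specializes {a a'} e hs := by
    haveI := Groth.Agent.Unibranch.locallyQuasiFinite_of_etale t
    haveI := (t.isDiscrete_preimage_singleton (t a)).to_subtype
    exact (congrArg Subtype.val
      ((subtype_specializes_iff (⟨a', e.symm⟩ : ↥(t ⁻¹' {t a})) ⟨a, rfl⟩).2 hs).eq).symm
  lift hb := Flat.generalizingMap t hb

theorem ringKrullDim_stalk_eq_of_etale {A B : Scheme.{u}} (t : A ⟶ B) [Etale t] (a : ↥A) :
    ringKrullDim ↥(B.presheaf.stalk (t a)) = ringKrullDim ↥(A.presheaf.stalk a) := by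
  rw [ringKrullDim_stalk_eq_coheight, ringKrullDim_stalk_eq_coheight, (isGenLift_of_etale t).coheight_eq]

/-- Two etale charts meet at a common point. -/
theorem exists_common_point {X : Sp S} {U V : Over S} {a : (yon S).obj U ⟶ X} {b : (yon S).obj V ⟶ X}
    (ha : RepWith @Etale a) (hb : RepWith @Etale b) {u : ↥U.left} {v : ↥V.left}
    (e : Points.ofPt a u = Points.ofPt b v) :
    ∃ (P : Over S) (t : P ⟶ U) (s : P ⟶ V) (r : ↥P.left), Etale t.left ∧ Etale s.left ∧
      (yon S).map t ≫ a = (yon S).map s ≫ b ∧ t.left r = u ∧ s.left r = v := by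
  obtain ⟨P, t, s, sq⟩ : ∃ (P : Over S) (t : P ⟶ U) (s : P ⟶ V),
      IsPullback ((yon S).map t) ((yon S).map s) a b := by
    obtain ⟨t, ht⟩ := (yon S).map_surjective (ha.1.fst b)
    exact ⟨_, t, ha.1.snd b, ht ▸ ha.1.isPullback b⟩
  obtain ⟨z, hz1, hz2⟩ := points_exists_of_isPullback sq (Points.ofScheme U u) (Points.ofScheme V v)
    (by rw [← Points.ofPt_eq_map_ofScheme, ← Points.ofPt_eq_map_ofScheme]; exact e)
  obtain ⟨r, rfl⟩ := (Points.schemeHomeo P).surjective z
  rw [Points.map_yon_map_apply] at hz1 hz2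
  exact ⟨P, t, s, r, hb.2 _ _ _ sq.flip, ha.2 _ _ _ sq, sq.w, (Points.schemeHomeo U).injective hz1,
    (Points.schemeHomeo V).injective hz2⟩

theorem ringKrullDim_stalk_eq_of_charts {X : Sp S} {U V : Over S} {a : (yon S).obj U ⟶ X}
    {b : (yon S).obj V ⟶ X} (ha : RepWith @Etale a) (hb : RepWith @Etale b) {u : ↥U.left} {v : ↥V.left}
    (e : Points.ofPt a u = Points.ofPt b v) :
    ringKrullDim ↥(U.left.presheaf.stalk u) = ringKrullDim ↥(V.left.presheaf.stalk v) := by
  obtain ⟨P, t, s, r, ht, hs, -, rfl, rfl⟩ := exists_common_point ha hb e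
  rw [ringKrullDim_stalk_eq_of_etale, ringKrullDim_stalk_eq_of_etale]

theorem hasAt_ringKrullDim_iff {X : Sp S} (hX : IsAlgSpace X) (x : Points X) (d : WithBot ℕ∞) :
    HasAt (fun U u => ringKrullDim ↥(U.presheaf.stalk u) = d) X x ↔
      ∀ (U : Over S) (a : (yon S).obj U ⟶ X) (u : ↥U.left),
        RepWith @Etale a → Points.ofPt a u = x → ringKrullDim ↥(U.left.presheaf.stalk u) = d := by
  constructor
  · rintro ⟨V, b, v, hb, rfl, hd⟩ U a u ha hu
    rw [ringKrullDim_stalk_eq_of_charts ha hb hu, ← hd]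
  · intro h
    obtain ⟨U, a, ha, has⟩ := hX.atlas
    obtain ⟨u, hu⟩ := surjective_ofPt has x
    exact ⟨U, a, u, ha, hu, h U a u ha hu⟩

end Groth.Agent.ASp
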