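import Groth.Agent.ASp.SoberDecent
import Groth.Agent.ASp.LiftDim

/-!
Dimension theory of decent algebraic spaces.
-/

set_option backward.isDefEq.respectTransparency false
set_option backward.isDefEq.respectTransparency.types false

universe u

open CategoryTheory CategoryTheory.Limits AlgebraicGeometry TopologicalSpace Topology

namespace Groth.Agent.ASp

open _root_.AlgSp

variable {S : Scheme.{u}}

/-- An etale chart of a decent algebraic space lifts generalisations and has incomparable fibres. -/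
theorem isGenLift_ofPt {X : Sp S} (hdec : IsDecent X) {U : Over S} {a : (yon S).obj U ⟶ X}
    (ha : RepWith @Etale a) : IsGenLift (Points.ofPt a) :=
  ⟨Points.continuous_ofPt a, fun e hs => eq_of_specializes hdec ha e hs,
    fun hb => exists_specializes_lift hdec ha hb⟩

theorem eq_of_ringKrullDim_stalk_eq_zero {U : Scheme.{u}} {u : ↥U}
    (h : ringKrullDim ↥(U.presheaf.stalk u) = 0) {v : ↥U} (hv : v ⤳ u) : v = u := by
  rw [ringKrullDim_stalk_eq_coheight] at h
  have : IsMax u := Order.coheight_eq_zero.1 (by exact_mod_cast h)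
  exact (hv.antisymm (this (show u ≤ v from hv))).eq

theorem ringKrullDim_stalk_eq_zero {U : Scheme.{u}} {u : ↥U} (h : ∀ v : ↥U, v ⤳ u → v = u) :
    ringKrullDim ↥(U.presheaf.stalk u) = 0 := by
  rw [ringKrullDim_stalk_eq_coheight]
  have : Order.coheight u = 0 := Order.coheight_eq_zero.2 fun v hv => (h v hv).le
  exact_mod_cast this

/-- On a decent algebraic space the points without generalisation are the points of codimension zero. -/
theorem forall_specializes_iff {X : Sp S} (hdec : IsDecent X) {U : Over S} {a : (yon S).obj U ⟶ X}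
    (ha : RepWith @Etale a) (u : ↥U.left) :
    (∀ y, y ⤳ Points.ofPt a u → y = Points.ofPt a u) ↔ ∀ v, v ⤳ u → v = u := by
  refine ⟨fun h v hv => ?_, fun h y hy => ?_⟩
  · have e := h _ (hv.map (Points.continuous_ofPt a))
    exact (eq_of_specializes hdec ha e.symm hv).symm
  · obtain ⟨v, hv, rfl⟩ := exists_specializes_lift hdec ha hy
    rw [h v hv]

theorem component_iff_forall_specializes {X : Sp S} (hX : IsAlgSpace X) (hdec : IsDecent X) (x : Points X) :
    (∃ T ∈ irreducibleComponents (Points X), IsGenericPoint x T) ↔ ∀ y, y ⤳ x → y = x := by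
  haveI := quasiSober_of_isDecent hX hdec
  haveI := t0Space_of_isDecent hX hdec
  exact exists_component_iff x

theorem component_iff_hasAt {X : Sp S} (hX : IsAlgSpace X) (hdec : IsDecent X) (x : Points X) :
    (∃ T ∈ irreducibleComponents (Points X), IsGenericPoint x T) ↔
      HasAt (fun U u => ringKrullDim ↥(U.presheaf.stalk u) = 0) X x := by
  rw [component_iff_forall_specializes hX hdec]
  constructor
  · intro h
    obtain ⟨U, a, hae, has⟩ := hX.atlas
    obtain ⟨u, rfl⟩ := surjective_ofPt has x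
    exact ⟨U, a, u, hae, rfl, ringKrullDim_stalk_eq_zero ((forall_specializes_iff hdec hae u).1 h)⟩
  · rintro ⟨U, a, u, hae, rfl, h⟩
    exact (forall_specializes_iff hdec hae u).2 fun v hv => eq_of_ringKrullDim_stalk_eq_zero h hv

/-- A locally closed subset of a scheme contains a locally closed point. -/
theorem exists_isLocallyClosed_singleton_mem {U : Scheme.{u}} {T : Set ↥U} (hne : T.Nonempty)
    (hT : IsLocallyClosed T) : ∃ v ∈ T, IsLocallyClosed ({v} : Set ↥U) := by
  obtain ⟨A, F, hA, hF, rfl⟩ := hT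
  obtain ⟨x, hxA, hxF⟩ := hne
  obtain ⟨W, hW, hxW, hWA⟩ := exists_isAffineOpen_mem_and_subset (x := x) (U := ⟨A, hA⟩) hxA
  haveI : CompactSpace ↥(W : Set ↥U) := isCompact_iff_compactSpace.1 hW.isCompact
  obtain ⟨v, hv, hvc⟩ := (hF.preimage (continuous_subtype_val (p := (· ∈ (W : Set ↥U))))).exists_closed_singleton
    (S := (Subtype.val : ↥(W : Set ↥U) → ↥U) ⁻¹' F) ⟨⟨x, hxW⟩, hxF⟩
  refine ⟨v.1, ⟨hWA v.2, hv⟩, ?_⟩
  obtain ⟨C, hC, hCe⟩ := isClosed_induced_iff.1 hvc
  refine ⟨_, C, W.isOpen, hC, subset_antisymm ?_ ?_⟩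
  · rintro _ rfl
    exact ⟨v.2, (Set.ext_iff.1 hCe v).2 rfl⟩
  · rintro z ⟨hzW, hzC⟩
    exact congrArg Subtype.val ((Set.ext_iff.1 hCe ⟨z, hzW⟩).1 hzC)

/-- Open generalising maps with discrete fibres send closed points to locally closed points. -/
theorem isLocallyClosed_image_of_isClosed {A B : Type*} [TopologicalSpace A] [TopologicalSpace B] {t : A → B}
    (ho : IsOpenMap t) (hg : GeneralizingMap t) {r : A} (hd : IsDiscrete (t ⁻¹' {t r}))
    (hr : IsClosed ({r} : Set A)) : IsLocallyClosed ({t r} : Set B) := by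
  haveI := hd.to_subtype
  obtain ⟨V, hV, hVe⟩ := isOpen_induced_iff.1 (isOpen_discrete ({⟨r, rfl⟩} : Set ↥(t ⁻¹' {t r})))
  have hrV : r ∈ V := (Set.ext_iff.1 hVe ⟨r, rfl⟩).2 rfl
  refine ⟨t '' V, closure {t r}, ho V hV, isClosed_closure, subset_antisymm ?_ ?_⟩
  · rintro _ rfl
    exact ⟨⟨r, hrV, rfl⟩, subset_closure rfl⟩
  · rintro _ ⟨⟨v, hv, rfl⟩, hcl⟩
    obtain ⟨r', hr', hr'e⟩ := hg (specializes_iff_mem_closure.2 hcl)
    have he : r' = r := congrArg Subtype.val ((Set.ext_iff.1 hVe ⟨r', hr'e⟩).1 (hr'.mem_open hV hv))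
    subst he
    rw [Set.mem_singleton_iff]
    have : v ∈ ({r'} : Set A) := hr'.mem_closed hr rfl
    rw [Set.mem_singleton_iff.1 this]

/-- Points in the fibres of two etale charts over a closed point of a Jacobson chart are closed. -/
theorem isClosed_singleton_of_fibre {X : Sp S} {U V : Over S} {a : (yon S).obj U ⟶ X}
    {b : (yon S).obj V ⟶ X} (ha : RepWith @Etale a) (hb : RepWith @Etale b) [JacobsonSpace ↥U.left]
    {w : ↥U.left} {v : ↥V.left} (hv : IsClosed ({v} : Set ↥V.left))
    (e : Points.ofPt a w = Points.ofPt b v) : IsClosed ({w} : Set ↥U.left) := by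
  obtain ⟨P, t, s, sq⟩ : ∃ (P : Over S) (t : P ⟶ U) (s : P ⟶ V),
      IsPullback ((yon S).map t) ((yon S).map s) a b := by
    obtain ⟨t, ht⟩ := (yon S).map_surjective (ha.1.fst b)
    exact ⟨_, t, ha.1.snd b, ht ▸ ha.1.isPullback b⟩
  haveI : Etale s.left := ha.2 _ _ _ sq
  haveI : Etale t.left := hb.2 _ _ _ sq.flip
  obtain ⟨z, hz1, hz2⟩ := points_exists_of_isPullback sq (Points.ofScheme U w) (Points.ofScheme V v)
    (by rw [← Points.ofPt_eq_map_ofScheme, ← Points.ofPt_eq_map_ofScheme]; exact e)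
  obtain ⟨r, rfl⟩ := (Points.schemeHomeo P).surjective z
  rw [Points.map_yon_map_apply] at hz1 hz2
  have hz1 : t.left r = w := (Points.schemeHomeo U).injective hz1
  have hz2 : s.left r = v := (Points.schemeHomeo V).injective hz2
  haveI := Groth.Agent.Unibranch.locallyQuasiFinite_of_etale s.left
  haveI := Groth.Agent.Unibranch.locallyQuasiFinite_of_etale t.left
  haveI : JacobsonSpace ↥P.left := LocallyOfFiniteType.jacobsonSpace t.left
  have hr : IsClosed ({r} : Set ↥P.left) := by
    refine isClosed_singleton_of_isLocallyClosed_singleton ?_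
    haveI := (s.left.isDiscrete_preimage_singleton v).to_subtype
    obtain ⟨O, hO, hOe⟩ := isOpen_induced_iff.1 (isOpen_discrete ({⟨r, hz2⟩} : Set ↥(s.left ⁻¹' {v})))
    refine ⟨O, s.left ⁻¹' {v}, hO, hv.preimage s.left.continuous, subset_antisymm ?_ ?_⟩
    · intro p hp
      rw [Set.mem_singleton_iff] at hp
      rw [hp]
      exact ⟨(Set.ext_iff.1 hOe ⟨r, hz2⟩).2 rfl, hz2⟩
    · rintro p ⟨hpO, hp⟩
      exact congrArg Subtype.val ((Set.ext_iff.1 hOe ⟨p, hp⟩).1 hpO)
  refine isClosed_singleton_of_isLocallyClosed_singleton ?_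
  rw [← hz1]
  exact isLocallyClosed_image_of_isClosed t.left.isOpenMap (Flat.generalizingMap t.left)
    (t.left.isDiscrete_preimage_singleton _) hr

/-- The image of a closed point of a Jacobson chart of a decent space is closed. -/
theorem isClosed_singleton_ofPt {X : Sp S} (_hX : IsAlgSpace X) (hdec : IsDecent X) {U : Over S}
    {a : (yon S).obj U ⟶ X} (ha : RepWith @Etale a) (has : RepWith @Surjective a) [JacobsonSpace ↥U.left]
    {V : Over S} {b : (yon S).obj V ⟶ X} (hb : RepWith @Etale b) {v : ↥V.left}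
    (hv : IsClosed ({v} : Set ↥V.left)) : IsClosed ({Points.ofPt b v} : Set (Points X)) := by
  have hc : IsClosed (Points.ofPt a ⁻¹' {Points.ofPt b v}) := by
    rw [← isOpen_compl_iff, isOpen_iff_forall_mem_open]
    intro p hp
    obtain ⟨W, hW, hpW, -⟩ := exists_isAffineOpen_mem_and_subset (x := p) (U := (⊤ : U.left.Opens)) (by simp)
    have hfc : IsClosed (Points.ofPt a ⁻¹' {Points.ofPt b v} ∩ (W : Set ↥U.left)) := by
      rw [← Set.biUnion_of_singleton (Points.ofPt a ⁻¹' {Points.ofPt b v} ∩ (W : Set ↥U.left))]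
      exact (finite_fibre_inter hdec ha _ hW.isCompact).isClosed_biUnion fun w hw =>
        isClosed_singleton_of_fibre ha hb hv hw.1
    exact ⟨_, fun q hq hq' => hq.2 ⟨hq', hq.1⟩, W.isOpen.inter hfc.isOpen_compl, hpW, fun h => hp h.1⟩
  rw [← isOpen_compl_iff]
  have := isOpenMap_ofPt_of_etale ha _ hc.isOpen_compl
  rwa [← Set.preimage_compl, Set.image_preimage_eq _ (surjective_ofPt has)] at this

/-- A locally closed point of a chart of a decent space with Jacobson space of points is closed. -/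
theorem isClosed_singleton_of_locClosed {X : Sp S} (hdec : IsDecent X) {U : Over S}
    {a : (yon S).obj U ⟶ X} (ha : RepWith @Etale a) [JacobsonSpace (Points X)]
    {u : ↥U.left} (hu : IsLocallyClosed ({u} : Set ↥U.left)) : IsClosed ({u} : Set ↥U.left) := by
  obtain ⟨A, C, hA, hC, he⟩ := hu
  have huAC : u ∈ A ∩ C := he ▸ rfl
  obtain ⟨W, hW, huW, hWA⟩ := exists_isAffineOpen_mem_and_subset (x := u) (U := ⟨A, hA⟩) huAC.1
  let Φ := Points.ofPt a ⁻¹' {Points.ofPt a u}
  have hfin : ((Φ ∩ (W : Set ↥U.left)) \ {u}).Finite := (finite_fibre_inter hdec ha _ hW.isCompact).sdiff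
  let V : Set ↥U.left := (W : Set ↥U.left) ∩ (closure ((Φ ∩ (W : Set ↥U.left)) \ {u}))ᶜ
  have hVo : IsOpen V := W.isOpen.inter isClosed_closure.isOpen_compl
  have huV : u ∈ V := by
    refine ⟨huW, fun h => ?_⟩
    rw [← Set.biUnion_of_singleton ((Φ ∩ (W : Set ↥U.left)) \ {u}), hfin.closure_biUnion] at h
    obtain ⟨w, hw, hwu⟩ := Set.mem_iUnion₂.1 h
    exact hw.2 (eq_of_specializes hdec ha hw.1.1.symm (specializes_iff_mem_closure.2 hwu)).symm
  have hx : IsClosed ({Points.ofPt a u} : Set (Points X)) := by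
    refine isClosed_singleton_of_isLocallyClosed_singleton
      ⟨Points.ofPt a '' V, closure {Points.ofPt a u}, isOpenMap_ofPt_of_etale ha _ hVo, isClosed_closure,
        subset_antisymm ?_ ?_⟩
    · rintro _ rfl
      exact ⟨⟨u, huV, rfl⟩, subset_closure rfl⟩
    · rintro _ ⟨⟨v, hv, rfl⟩, hcl⟩
      obtain ⟨u', hu', hu'e⟩ := exists_specializes_lift hdec ha (specializes_iff_mem_closure.2 hcl)
      have hu'V := hu'.mem_open hVo hv
      have hu'u : u' = u := by
        by_contra h
        exact hu'V.2 (subset_closure ⟨⟨hu'e, hu'V.1⟩, h⟩)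
      subst hu'u
      have : v ∈ A ∩ C := ⟨hWA hv.1, hu'.mem_closed hC huAC.2⟩
      rw [← he, Set.mem_singleton_iff] at this
      rw [this]; rfl
  rw [← closure_subset_iff_isClosed]
  intro v hv
  have hs : u ⤳ v := specializes_iff_mem_closure.2 hv
  exact eq_of_specializes hdec ha
    ((hx.preimage (Points.continuous_ofPt a)).closure_subset_iff.2 (Set.singleton_subset_iff.2 rfl) hv) hs

end Groth.Agent.ASp
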