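import Groth.Agent.FibreDimEt.Sp
import Groth.Agent.FibreDimEt.Zero
import Groth.Agent.ASp.ChartDim
import Groth.Agent.ASp.DecentDim
import Groth.Agent.ASp.EtLocal
import Groth.Agent.GenIrredLib.EquidimQF
import Groth.Agent.FlatDim.Trdeg
import Groth.Agent.DimFormulaLib.Field
import Groth.Agent.Unibranch.Open
import Groth.Prelude.Def_Dual3
/-!
Transcendence degrees at points of algebraic spaces.
-/

set_option autoImplicit false
set_option backward.isDefEq.respectTransparency false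
set_option backward.isDefEq.respectTransparency.types false
set_option linter.style.haveILetI false

universe u

open CategoryTheory CategoryTheory.Limits AlgebraicGeometry Groth.Agent.DimFormulaLib

namespace Groth.Agent.ASp

open _root_.AlgSp

variable {S : Scheme.{u}}

/-- Transcendence degrees do not see etale maps. -/
theorem resTrdegAt_of_etale {P U T V : Scheme.{u}} (g : P ⟶ T) (t : P ⟶ U) (p : T ⟶ V) (h : U ⟶ V) [Etale t]
    [Etale p] (w : g ≫ p = t ≫ h) (r : ↥P) : resTrdegAt g r = resTrdegAt h (t r) := by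
  haveI := Groth.Agent.Unibranch.locallyQuasiFinite_of_etale t
  haveI := Groth.Agent.Unibranch.locallyQuasiFinite_of_etale p
  have e := FlatDim.resTrdegAt_congr w r
  rwa [FlatDim.resTrdegAt_comp, FlatDim.resTrdegAt_comp, GenIrredLib.resTrdegAt_locallyQuasiFinite p,
    GenIrredLib.resTrdegAt_locallyQuasiFinite t, zero_add, add_zero] at e

/-- All charts at a point see the same transcendence degree. -/
theorem resTrdeg_eq_of_charts {X Y : Sp S} {f : X ⟶ Y} {U V U₁ V₁ : Over S} {a : (yon S).obj U ⟶ X}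
    {b : (yon S).obj V ⟶ Y} {h : U ⟶ V} {a₁ : (yon S).obj U₁ ⟶ X} {b₁ : (yon S).obj V₁ ⟶ Y} {h₁ : U₁ ⟶ V₁}
    (ha : RepWith @Etale a) (hb : RepWith @Etale b) (e : a ≫ f = (yon S).map h ≫ b)
    (ha₁ : RepWith @Etale a₁) (hb₁ : RepWith @Etale b₁) (e₁ : a₁ ≫ f = (yon S).map h₁ ≫ b₁)
    {u : ↥U.left} {u₁ : ↥U₁.left} (he : Points.ofPt a u = Points.ofPt a₁ u₁) :
    Dual3.resTrdeg h.left u = Dual3.resTrdeg h₁.left u₁ := by
  obtain ⟨P, t, s, r, ht, hs, hw, rfl, rfl⟩ := exists_common_point ha ha₁ he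
  obtain ⟨T, p, q, sq⟩ : ∃ (T : Over S) (p : T ⟶ V) (q : T ⟶ V₁),
      IsPullback ((yon S).map p) ((yon S).map q) b b₁ := by
    obtain ⟨p, hp⟩ := (yon S).map_surjective (hb.1.fst b₁)
    exact ⟨_, p, hb.1.snd b₁, hp ▸ hb.1.isPullback b₁⟩
  obtain ⟨g, hg⟩ := (yon S).map_surjective (sq.lift ((yon S).map (t ≫ h)) ((yon S).map (s ≫ h₁)) (by
    rw [Functor.map_comp, Functor.map_comp, Category.assoc, Category.assoc, ← e, ← e₁, reassoc_of% hw]))
  haveI : Etale p.left := hb₁.2 _ _ _ sq.flip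
  haveI : Etale q.left := hb.2 _ _ _ sq
  haveI := ht
  haveI := hs
  have hp' : g ≫ p = t ≫ h := (yon S).map_injective (by rw [Functor.map_comp, hg, sq.lift_fst])
  have hq' : g ≫ q = s ≫ h₁ := (yon S).map_injective (by rw [Functor.map_comp, hg, sq.lift_snd])
  exact (resTrdegAt_of_etale g.left t.left p.left h.left (congrArg CommaMorphism.left hp') r).symm.trans
    (resTrdegAt_of_etale g.left s.left q.left h₁.left (congrArg CommaMorphism.left hq') r)

/-- The transcendence degree at a point is read on any chart. -/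
theorem hasAtMor_resTrdeg_iff {X Y : Sp S} {f : X ⟶ Y} {U V : Over S} {a : (yon S).obj U ⟶ X}
    {b : (yon S).obj V ⟶ Y} {h : U ⟶ V} (ha : RepWith @Etale a) (hb : RepWith @Etale b)
    (e : a ≫ f = (yon S).map h ≫ b) (u : ↥U.left) (r : Cardinal.{u}) :
    HasAtMor (fun _ _ h u => Dual3.resTrdeg h u = r) f (Points.ofPt a u) ↔ Dual3.resTrdeg h.left u = r := by
  refine ⟨?_, fun hr => ⟨U, V, a, b, h, u, ha, hb, e, rfl, hr⟩⟩
  rintro ⟨U₁, V₁, a₁, b₁, h₁, u₁, ha₁, hb₁, e₁, hu₁, hr⟩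
  exact (resTrdeg_eq_of_charts ha hb e ha₁ hb₁ e₁ hu₁.symm).trans hr

/-- The dimension of the fibre is the dimension of its local ring plus the transcendence degree. -/
theorem exists_fibre_dims {U V : Scheme.{u}} (h : U ⟶ V) [LocallyOfFiniteType h] (u : ↥U) :
    ∃ a t : ℕ, ringKrullDim ↥((h.fiber (h u)).presheaf.stalk (h.asFiber u)) = (a : WithBot ℕ∞) ∧
      Dual3.resTrdeg h u = (t : Cardinal.{u}) ∧ FlatMor.fibreDimAt h u = ((a + t : ℕ) : WithBot ℕ∞) := by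
  haveI : LocallyOfFiniteType (h.fiberToSpecResidueField (h u)) :=
    MorphismProperty.pullback_snd _ _ ‹LocallyOfFiniteType h›
  obtain ⟨a, t, ha, ht, hloc, -⟩ := field_dims (h.fiberToSpecResidueField (h u)) (h.asFiber u)
  rw [FlatDim.resTrdegAt_fibre, h.fiberι_asFiber u] at ht
  exact ⟨a, t, ha, ht, hloc⟩

/-- All charts at a point see the same dimension of the local ring of the fibre. -/
theorem fiberStalk_eq_of_charts {X Y : Sp S} {f : X ⟶ Y} (hf : LocP @LocallyOfFiniteType f) {U V U₁ V₁ : Over S}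
    {a : (yon S).obj U ⟶ X} {b : (yon S).obj V ⟶ Y} {h : U ⟶ V} {a₁ : (yon S).obj U₁ ⟶ X}
    {b₁ : (yon S).obj V₁ ⟶ Y} {h₁ : U₁ ⟶ V₁}
    (ha : RepWith @Etale a) (hb : RepWith @Etale b) (e : a ≫ f = (yon S).map h ≫ b)
    (ha₁ : RepWith @Etale a₁) (hb₁ : RepWith @Etale b₁) (e₁ : a₁ ≫ f = (yon S).map h₁ ≫ b₁)
    {u : ↥U.left} {u₁ : ↥U₁.left} (he : Points.ofPt a u = Points.ofPt a₁ u₁) :
    ringKrullDim ↥((h.left.fiber (h.left u)).presheaf.stalk (h.left.asFiber u)) =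
      ringKrullDim ↥((h₁.left.fiber (h₁.left u₁)).presheaf.stalk (h₁.left.asFiber u₁)) := by
  haveI : LocallyOfFiniteType h.left := hf a b h ha hb e
  haveI : LocallyOfFiniteType h₁.left := hf a₁ b₁ h₁ ha₁ hb₁ e₁
  obtain ⟨d, t, hd, ht, hD⟩ := exists_fibre_dims h.left u
  obtain ⟨d₁, t₁, hd₁, ht₁, hD₁⟩ := exists_fibre_dims h₁.left u₁
  have e1 : ((d + t : ℕ) : WithBot ℕ∞) = ((d₁ + t₁ : ℕ) : WithBot ℕ∞) := by
    rw [← hD, ← hD₁]; exact FibreDimEt.fibreDimAt_eq_of_charts ha hb e ha₁ hb₁ e₁ he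
  have e2 : (t : Cardinal.{u}) = t₁ := by rw [← ht, ← ht₁]; exact resTrdeg_eq_of_charts ha hb e ha₁ hb₁ e₁ he
  have e3 : d + t = d₁ + t₁ := by exact_mod_cast e1
  have e4 : t = t₁ := by exact_mod_cast e2
  rw [hd, hd₁, show d = d₁ by omega]

/-- Charts for a composite through a point. -/
theorem exists_chart_comp {X Y Z : Sp S} (hX : IsAlgSpace X) (hY : IsAlgSpace Y) (hZ : IsAlgSpace Z) (f : X ⟶ Y)
    (g : Y ⟶ Z) (x : Points X) :
    ∃ (U V W : Over S) (a : (yon S).obj U ⟶ X) (b : (yon S).obj V ⟶ Y) (c : (yon S).obj W ⟶ Z) (k : U ⟶ V)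
      (l : V ⟶ W) (u : ↥U.left), RepWith @Etale a ∧ RepWith @Etale b ∧ RepWith @Etale c ∧
        a ≫ f = (yon S).map k ≫ b ∧ b ≫ g = (yon S).map l ≫ c ∧ a ≫ f ≫ g = (yon S).map (k ≫ l) ≫ c ∧
        Points.ofPt a u = x ∧ Points.map f x = Points.ofPt b (k.left u) := by
  obtain ⟨W, c, hc, hcs⟩ := hZ.atlas
  obtain ⟨B, q, hq, hqs⟩ := hY.atlas
  obtain ⟨V, v, l, hve, hvs, hv, -⟩ := exists_etale_cover hc hcs (q ≫ g)
  have hb : RepWith @Etale ((yon S).map v ≫ q) := repWith_comp (repWith_yon_map hve) hq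
  have hbs : RepWith @Surjective ((yon S).map v ≫ q) := repWith_comp (repWith_yon_map hvs) hqs
  obtain ⟨A, p, hp, hps⟩ := hX.atlas
  obtain ⟨U, w, k, hwe, hws, hk, -⟩ := exists_etale_cover hb hbs (p ≫ f)
  obtain ⟨a₀, rfl⟩ := surjective_ofPt hps x
  obtain ⟨u, rfl⟩ := hws.surj a₀
  have e₁ : ((yon S).map w ≫ p) ≫ f = (yon S).map k ≫ (yon S).map v ≫ q := by rw [Category.assoc, hk]
  have e₂ : ((yon S).map v ≫ q) ≫ g = (yon S).map l ≫ c := by rw [Category.assoc, hv]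
  refine ⟨U, V, W, (yon S).map w ≫ p, (yon S).map v ≫ q, c, k, l, u, repWith_comp (repWith_yon_map hwe) hp, hb, hc,
    e₁, e₂, ?_, ofPt_yon_map_comp w p u, ?_⟩
  · rw [← Category.assoc, e₁, Category.assoc, e₂, Functor.map_comp_assoc]
  · rw [← ofPt_yon_map_comp w p u, Points.map_ofPt, e₁, ofPt_yon_map_comp]

end Groth.Agent.ASp
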