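import Groth.Agent.ASp.LqfLocus
import Groth.Agent.ASp.TrdegChart
/-!
Cartesian charts through prescribed points.
-/

set_option autoImplicit false
set_option backward.isDefEq.respectTransparency false
set_option backward.isDefEq.respectTransparency.types false
set_option linter.style.haveILetI false

universe u

open CategoryTheory CategoryTheory.Limits AlgebraicGeometry Opposite

namespace Groth.Agent.ASp

open _root_.AlgSp Groth.Agent.Inf

variable {S : Scheme.{u}}

/-- A cartesian chart of a base change square through a point upstairs. -/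
theorem exists_baseChange_chart_at {X Y X' Y' : Space S} {f : X ⟶ Y} {g : Y' ⟶ Y} {p : X' ⟶ X} {f' : X' ⟶ Y'}
    (sq : IsPullback p.hom f'.hom f.hom g.hom) (x' : Points X'.obj) :
    ∃ (U V W' : Over S) (a : (yon S).obj U ⟶ X.obj) (b : (yon S).obj V ⟶ Y.obj) (k : U ⟶ V) (j : W' ⟶ V)
      (c' : (yon S).obj W' ⟶ Y'.obj) (a' : (yon S).obj (pullback k j) ⟶ X'.obj) (z : ↥(pullback k j).left),
      RepWith @Etale a ∧ RepWith @Etale b ∧ RepWith @Etale c' ∧ RepWith @Etale a' ∧
      a ≫ f.hom = (yon S).map k ≫ b ∧ a' ≫ f'.hom = (yon S).map (pullback.snd k j) ≫ c' ∧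
      Points.ofPt a' z = x' ∧ Points.map p.hom x' = Points.ofPt a ((pullback.fst k j).left z) := by
  obtain ⟨U, V, a, b, k, ha, has, hb, -, e⟩ := exists_chart (f := f.hom) X.property Y.property
  obtain ⟨u, hu⟩ := surjective_ofPt has (Points.map p.hom x')
  have hQ : IsAlgSpace (pullback p.hom a) := isAlgSpace_pullback X.property.diag X'.property (IsAlgSpace.yon_obj U) _ _
  obtain ⟨q, hq₁, hq₂⟩ := points_exists_of_isPullback (IsPullback.of_hasPullback p.hom a) x'
    (Points.ofScheme U u) (by rw [← Points.ofPt_eq_map_ofScheme, hu])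
  obtain ⟨U₁, p₁, -, hp₁s⟩ := hQ.atlas
  obtain ⟨u₁, rfl⟩ := surjective_ofPt hp₁s q
  obtain ⟨z₁, hz₁⟩ := (yon S).map_surjective (p₁ ≫ pullback.snd p.hom a)
  have hZ₁ : IsAlgSpace (pullback b g.hom) := isAlgSpace_pullback Y.property.diag (IsAlgSpace.yon_obj V) Y'.property _ _
  obtain ⟨W', ω, hωe, hωs⟩ := hZ₁.atlas
  obtain ⟨j, hj⟩ := (yon S).map_surjective (ω ≫ pullback.fst b g.hom)
  set c' := ω ≫ pullback.snd b g.hom
  have hc' : RepWith @Etale c' := repWith_comp hωe (repWith_of_isPullback (IsPullback.of_hasPullback b g.hom) hb)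
  have ej : (yon S).map j ≫ b = c' ≫ g.hom := by
    rw [hj, Category.assoc, pullback.condition, Category.assoc]
  let σ : (yon S).obj U₁ ⟶ pullback b g.hom :=
    pullback.lift ((yon S).map (z₁ ≫ k)) (p₁ ≫ pullback.fst p.hom a ≫ f'.hom) (by
      simp only [Functor.map_comp, Category.assoc, ← e, hz₁, reassoc_of% hz₁]
      rw [← sq.w, pullback.condition_assoc])
  obtain ⟨U₂, w₂, v₂, -, hw₂s, hv₂, -⟩ := exists_etale_cover hωe hωs σ
  obtain ⟨u₂, rfl⟩ := hw₂s.surj u₁
  obtain ⟨a', ha', ha'₁, ha'₂⟩ := exists_baseChange_chart sq ha hb hc' e ej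
  obtain ⟨l, hl₁, hl₂⟩ : ∃ l : U₂ ⟶ pullback k j,
      l ≫ pullback.fst _ _ = w₂ ≫ z₁ ∧ l ≫ pullback.snd _ _ = v₂ :=
    ⟨pullback.lift (w₂ ≫ z₁) v₂ ((yon S).map_injective (by
        have := hv₂ =≫ pullback.fst b g.hom
        simp only [Category.assoc, σ, pullback.lift_fst, ← hj] at this
        simp only [Functor.map_comp, Category.assoc] at this ⊢
        rw [this])),
      pullback.lift_fst _ _ _, pullback.lift_snd _ _ _⟩
  have hla : (yon S).map l ≫ a' = (yon S).map w₂ ≫ p₁ ≫ pullback.fst p.hom a := by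
    refine sq.hom_ext ?_ ?_
    · rw [Category.assoc, ha'₁, ← Functor.map_comp_assoc, hl₁, Functor.map_comp_assoc, reassoc_of% hz₁]
      simp only [Category.assoc, pullback.condition]
    · have := hv₂ =≫ pullback.snd b g.hom
      simp only [Category.assoc, σ, pullback.lift_snd] at this
      rw [Category.assoc, ha'₂, ← Functor.map_comp_assoc, hl₂]
      simp only [c', Category.assoc, this]
  have hx : Points.ofPt a' (l.left u₂) = x' := by
    rw [← ofPt_yon_map_comp, hla, ofPt_yon_map_comp, ofPt_comp_eq_map, ← hq₁, ofPt_comp_eq_map]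
    exact Points.map_comp _ _ _
  have hxu : Points.map p.hom x' = Points.ofPt a ((pullback.fst k j).left (l.left u₂)) := by
    rw [← ofPt_yon_map_comp (pullback.fst k j) a, ← ha'₁, ← hx, Points.map_ofPt]
  exact ⟨U, V, W', a, b, k, j, c', a', l.left u₂, ha, hb, hc', ha', e, ha'₂, hx, hxu⟩

/-- A cartesian chart over a given point of the source and a given point of the new base. -/
theorem exists_baseChange_chart_over {X Y X' Y' : Space S} {f : X ⟶ Y} {g : Y' ⟶ Y} {p : X' ⟶ X} {f' : X' ⟶ Y'}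
    (sq : IsPullback p.hom f'.hom f.hom g.hom) (x : Points X.obj) (y' : Points Y'.obj)
    (hxy : Points.map f.hom x = Points.map g.hom y') :
    ∃ (U V W' : Over S) (a : (yon S).obj U ⟶ X.obj) (b : (yon S).obj V ⟶ Y.obj) (k : U ⟶ V) (j : W' ⟶ V)
      (c' : (yon S).obj W' ⟶ Y'.obj) (a' : (yon S).obj (pullback k j) ⟶ X'.obj) (z : ↥(pullback k j).left),
      RepWith @Etale a ∧ RepWith @Etale b ∧ RepWith @Etale c' ∧ RepWith @Etale a' ∧
      a ≫ f.hom = (yon S).map k ≫ b ∧ a' ≫ f'.hom = (yon S).map (pullback.snd k j) ≫ c' ∧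
      a' ≫ p.hom = (yon S).map (pullback.fst k j) ≫ a ∧
      Points.ofPt a ((pullback.fst k j).left z) = x ∧ Points.ofPt c' ((pullback.snd k j).left z) = y' := by
  obtain ⟨U, V, a, b, k, ha, has, hb, -, e⟩ := exists_chart (f := f.hom) X.property Y.property
  obtain ⟨u, rfl⟩ := surjective_ofPt has x
  have hv : Points.map b (Points.ofScheme V (k.left u)) = Points.map g.hom y' := by
    rw [← hxy]
    refine Eq.trans ?_ (Points.map_ofPt a f.hom u).symm
    rw [e, ofPt_yon_map_comp, Points.ofPt_eq_map_ofScheme]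
  obtain ⟨q, hq₁, hq₂⟩ := points_exists_of_isPullback (IsPullback.of_hasPullback b g.hom) _ y' hv
  have hZ₁ : IsAlgSpace (pullback b g.hom) := isAlgSpace_pullback Y.property.diag (IsAlgSpace.yon_obj V) Y'.property _ _
  obtain ⟨W', ω, hωe, hωs⟩ := hZ₁.atlas
  obtain ⟨w, rfl⟩ := surjective_ofPt hωs q
  obtain ⟨j, hj⟩ := (yon S).map_surjective (ω ≫ pullback.fst b g.hom)
  set c' := ω ≫ pullback.snd b g.hom
  have hc' : RepWith @Etale c' := repWith_comp hωe (repWith_of_isPullback (IsPullback.of_hasPullback b g.hom) hb)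
  have ej : (yon S).map j ≫ b = c' ≫ g.hom := by
    rw [hj, Category.assoc, pullback.condition, Category.assoc]
  obtain ⟨a', ha', ha'₁, ha'₂⟩ := exists_baseChange_chart sq ha hb hc' e ej
  have hjw : j.left w = k.left u := by
    rw [Points.map_ofPt, ← hj, Points.ofPt_eq_map_ofScheme] at hq₁
    change Points.map ((yon S).map j) (Points.schemeHomeo W' w) = Points.schemeHomeo V (k.left u) at hq₁
    rw [Points.map_yon_map_apply] at hq₁
    exact (Points.schemeHomeo V).injective hq₁
  obtain ⟨z, hz1, hz2⟩ := Scheme.exists_preimage_of_isPullback (isPullback_left (IsPullback.of_hasPullback k j)) u w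
    hjw.symm
  refine ⟨U, V, W', a, b, k, j, c', a', z, ha, hb, hc', ha', e, ha'₂, ha'₁, by rw [hz1], ?_⟩
  rw [hz2, ← hq₂, Points.map_ofPt]

end Groth.Agent.ASp
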