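import Groth.Agent.ASp.Univ
import Groth.Agent.ASp.TopFpqc
/-!
Properties local on the base are tested on one chart or on affine schemes.
-/

set_option backward.isDefEq.respectTransparency false
set_option backward.isDefEq.respectTransparency.types false

universe u

open CategoryTheory CategoryTheory.Limits AlgebraicGeometry Opposite

namespace Groth.Agent.ASp

open _root_.AlgSp

variable {S : Scheme.{u}}

/-- An algebraic space has an fpqc covering by affine schemes etale over it. -/
theorem exists_affine_cover {Z : Sp S} (hZ : IsAlgSpace Z) :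
    ∃ (ι : Type u) (A : ι → Over S) (g : ∀ i, (yon S).obj (A i) ⟶ Z), (∀ i, IsAffine (A i).left) ∧
      (∀ i, RepWith @Etale (g i)) ∧ IsFpqcCover (fun i => (yon S).obj (A i)) g ∧
        IsFppfCover (fun i => (yon S).obj (A i)) g := by
  obtain ⟨V, p, hpe, hps⟩ := hZ.atlas
  let A : V.left.affineOpens → Over S := fun W => Over.mk (W.1.ι ≫ V.hom)
  let w : ∀ W, A W ⟶ V := fun W => Over.homMk W.1.ι rfl
  have he : ∀ W, RepWith @Etale ((yon S).map (w W) ≫ p) := fun W =>
    repWith_comp (repWith_yon_map (P := @Etale) (g := w W) (inferInstanceAs (Etale W.1.ι))) hpe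
  have hs : ∀ z : Points Z, ∃ W, z ∈ Set.range (Points.map ((yon S).map (w W) ≫ p)) := fun z => by
    obtain ⟨v, rfl⟩ := surjective_ofPt hps z
    obtain ⟨W, hW, hv, -⟩ := exists_isAffineOpen_mem_and_subset (x := v) (U := (⊤ : V.left.Opens)) (by simp)
    refine ⟨⟨W, hW⟩, Points.ofPt (𝟙 _) (⟨v, hv⟩ : W.toScheme), ?_⟩
    rw [Points.map_ofPt, Category.id_comp]
    exact ofPt_yon_map_comp (w ⟨W, hW⟩) p _
  have hfl : ∀ W, LocP @Flat ((yon S).map (w W) ≫ p) := fun W =>
    locP_of_repWith (repWith_mono (fun _ _ g (hg : Etale g) => inferInstanceAs (Flat g)) (he W))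
  have hfp : ∀ W, LocP @LocallyOfFinitePresentation ((yon S).map (w W) ≫ p) := fun W => locP_of_repWith
    (repWith_mono (fun _ _ g (hg : Etale g) => inferInstanceAs (LocallyOfFinitePresentation g)) (he W))
  exact ⟨V.left.affineOpens, A, fun W => (yon S).map (w W) ≫ p, fun W => W.2, he,
    isFpqcCover_of_fppf hZ (fun W => IsAlgSpace.yon_obj (A W)) hfl hfp hs,
    fun W => ⟨hfl W, hfp W⟩, hs⟩

/-- A property local on the base descends along one etale surjective chart. -/
theorem of_chart {P : MorphismProperty (Sp S)} (hP : IsLocalOnBase IsFpqcCover P) {X Y : Space S} (f : X ⟶ Y)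
    {V : Over S} {p : (yon S).obj V ⟶ Y.obj} (hp : RepWith @Etale p) (hps : RepWith @Surjective p)
    {P₀ : Sp S} {fst : P₀ ⟶ X.obj} {snd : P₀ ⟶ (yon S).obj V} (sq : IsPullback fst snd f.hom p)
    (h : P snd) : P f.hom :=
  (hP (fun _ : PUnit.{u + 1} => (yon S).obj V) (fun _ => p) Y.property (fun _ => IsAlgSpace.yon_obj V)
    (isFpqcCover_of_chart Y.property hp hps) f.hom X.property (fun _ => P₀) (fun _ => snd) (fun _ => fst)
    (fun _ => isAlgSpace_of_isPullback Y.property.diag X.property (IsAlgSpace.yon_obj V) sq) fun _ => sq).2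
    fun _ => h

/-- A property local on the base is tested on affine schemes etale over the target. -/
theorem of_affine {P : MorphismProperty (Sp S)} (hP : IsLocalOnBase IsFpqcCover P) {X Y : Space S} (f : X ⟶ Y)
    (h : ∀ (Z : Over S), IsAffine Z.left → ∀ (g : (yon S).obj Z ⟶ Y.obj), RepWith @Etale g → ∀ (P₀ : Sp S)
      (fst : P₀ ⟶ X.obj) (snd : P₀ ⟶ (yon S).obj Z), IsPullback fst snd f.hom g → P snd) : P f.hom := by
  obtain ⟨ι, A, g, hA, hg, hτ, -⟩ := exists_affine_cover Y.property
  exact (hP _ g Y.property (fun _ => IsAlgSpace.yon_obj _) hτ f.hom X.property (fun i => pullback f.hom (g i))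
    (fun i => pullback.snd f.hom (g i)) (fun i => pullback.fst f.hom (g i))
    (fun i => isAlgSpace_pullback Y.property.diag X.property (IsAlgSpace.yon_obj _) _ _)
    fun i => IsPullback.of_hasPullback _ _).2
    fun i => h (A i) (hA i) (g i) (hg i) _ _ _ (IsPullback.of_hasPullback _ _)

/-- The same for properties local for the fppf topology. -/
theorem of_affine_fppf {P : MorphismProperty (Sp S)} (hP : IsLocalOnBase IsFppfCover P) {X Y : Space S}
    (f : X ⟶ Y)
    (h : ∀ (Z : Over S), IsAffine Z.left → ∀ (g : (yon S).obj Z ⟶ Y.obj), RepWith @Etale g → ∀ (P₀ : Sp S)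
      (fst : P₀ ⟶ X.obj) (snd : P₀ ⟶ (yon S).obj Z), IsPullback fst snd f.hom g → P snd) : P f.hom := by
  obtain ⟨ι, A, g, hA, hg, -, hτ⟩ := exists_affine_cover Y.property
  exact (hP _ g Y.property (fun _ => IsAlgSpace.yon_obj _) hτ f.hom X.property (fun i => pullback f.hom (g i))
    (fun i => pullback.snd f.hom (g i)) (fun i => pullback.fst f.hom (g i))
    (fun i => isAlgSpace_pullback Y.property.diag X.property (IsAlgSpace.yon_obj _) _ _)
    fun i => IsPullback.of_hasPullback _ _).2
    fun i => h (A i) (hA i) (g i) (hg i) _ _ _ (IsPullback.of_hasPullback _ _)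

/-- The same descent along a chart for properties local for the fppf topology. -/
theorem of_chart_fppf {P : MorphismProperty (Sp S)} (hP : IsLocalOnBase IsFppfCover P) {X Y : Space S} (f : X ⟶ Y)
    {V : Over S} {p : (yon S).obj V ⟶ Y.obj} (hp : RepWith @Etale p) (hps : RepWith @Surjective p)
    {P₀ : Sp S} {fst : P₀ ⟶ X.obj} {snd : P₀ ⟶ (yon S).obj V} (sq : IsPullback fst snd f.hom p)
    (h : P snd) : P f.hom :=
  (hP (fun _ : PUnit.{u + 1} => (yon S).obj V) (fun _ => p) Y.property (fun _ => IsAlgSpace.yon_obj V)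
    ⟨fun _ => ⟨locP_of_repWith (repWith_mono (fun _ _ g (hg : Etale g) => inferInstanceAs (Flat g)) hp),
      locP_of_repWith (repWith_mono (fun _ _ g (hg : Etale g) => inferInstanceAs (LocallyOfFinitePresentation g)) hp)⟩,
      fun y => ⟨PUnit.unit, surjective_map_of_repWith hps y⟩⟩ f.hom X.property (fun _ => P₀) (fun _ => snd)
    (fun _ => fst)
    (fun _ => isAlgSpace_of_isPullback Y.property.diag X.property (IsAlgSpace.yon_obj V) sq) fun _ => sq).2
    fun _ => h

/-- A universal property that descends is tested on affine schemes over the target. -/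
theorem univSp_of_affine {Q : MorphismProperty (Sp S)}
    (H : ∀ ⦃ι : Type u⦄ ⦃Z Z' : Sp S⦄ ⦃Zi Z'i : ι → Sp S⦄ (gz : ∀ i, Zi i ⟶ Z) (snd : Z' ⟶ Z)
      (c : ∀ i, Z'i i ⟶ Z') (r : ∀ i, Z'i i ⟶ Zi i), IsFpqcCover Zi gz →
      (∀ i, IsPullback (c i) (r i) snd (gz i)) → (∀ i, Q (r i)) → Q snd) {X Y : Space S} (f : X ⟶ Y)
    (h : ∀ (Z : Over S), IsAffine Z.left → ∀ (g : (yon S).obj Z ⟶ Y.obj) (P₀ : Sp S)
      (fst : P₀ ⟶ X.obj) (snd : P₀ ⟶ (yon S).obj Z), IsPullback fst snd f.hom g → Q snd) :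
    UnivSp Q f.hom := fun Z Z' hZ g fst snd sq => by
  obtain ⟨ι, A, gz, hA, -, hτ, -⟩ := exists_affine_cover hZ
  exact H gz snd (fun i => pullback.fst snd (gz i)) (fun i => pullback.snd snd (gz i)) hτ
    (fun i => IsPullback.of_hasPullback _ _)
    fun i => h (A i) (hA i) (gz i ≫ g) _ _ _ ((IsPullback.of_hasPullback snd (gz i)).paste_horiz sq)

end Groth.Agent.ASp
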