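import Groth.Agent.ASp.UnivBdd
import Groth.Agent.ASp.Residual
/-!
Bounded etale affine charts give decency.
-/

set_option autoImplicit false
set_option backward.isDefEq.respectTransparency false
set_option backward.isDefEq.respectTransparency.types false

universe u

open CategoryTheory CategoryTheory.Limits AlgebraicGeometry Opposite

namespace Groth.Agent.ASp

open _root_.AlgSp

variable {S : Scheme.{u}}

/-- Quasi-compactness descends along open surjective base change. -/
theorem quasiCompact_of_isPullback_open {E E' V V' : Scheme.{u}} {k : E' ⟶ E} {e' : E' ⟶ V'} {e : E ⟶ V}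
    {w : V' ⟶ V} (sq : IsPullback k e' e w) [QuasiCompact e'] [Etale w] [Surjective w] : QuasiCompact e := by
  rw [quasiCompact_iff_forall_isAffineOpen]
  intro W hW
  have hloc : ∀ y : W, ∃ O : V'.Opens, IsAffineOpen O ∧ O ≤ w ⁻¹ᵁ W ∧ y.1 ∈ w '' (O : Set V') := fun y => by
    obtain ⟨z, hz⟩ := w.surjective y.1
    obtain ⟨O, hO, hzO, hle⟩ := exists_isAffineOpen_mem_and_subset (x := z) (U := w ⁻¹ᵁ W)
      (show w z ∈ W from hz ▸ y.2)
    exact ⟨O, hO, hle, z, hzO, hz⟩
  choose O hO hOW hyO using hloc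
  obtain ⟨t, ht⟩ := hW.isCompact.elim_finite_subcover (fun y : W => w '' (O y : Set V'))
    (fun y => w.isOpenMap _ (O y).isOpen) (fun y hy => Set.mem_iUnion.2 ⟨⟨y, hy⟩, hyO ⟨y, hy⟩⟩)
  have hcov : e ⁻¹' (W : Set V) = ⋃ y ∈ t, k '' (e' ⁻¹' (O y : Set V')) := by
    ext z
    refine ⟨fun hz => ?_, fun hz => ?_⟩
    · obtain ⟨y, hy, v', hv', hv⟩ := Set.mem_iUnion₂.1 (ht hz)
      obtain ⟨p, hp1, hp2⟩ := Scheme.Pullback.exists_preimage_pullback (f := e) (g := w) z v' hv.symm
      refine Set.mem_iUnion₂.2 ⟨y, hy, sq.isoPullback.inv p, ?_, ?_⟩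
      · show (sq.isoPullback.inv ≫ e') p ∈ O y
        rw [IsPullback.isoPullback_inv_snd, hp2]; exact hv'
      · rw [← Scheme.Hom.comp_apply, IsPullback.isoPullback_inv_fst, hp1]
    · obtain ⟨y, hy, p, hp, rfl⟩ := Set.mem_iUnion₂.1 hz
      show (k ≫ e) p ∈ W
      rw [sq.w, Scheme.Hom.comp_apply]
      exact hOW y hp
  show IsCompact (e ⁻¹' (W : Set V))
  rw [hcov]
  exact t.isCompact_biUnion fun y _ => (e'.isCompact_preimage (hO y).isCompact).image k.continuous

/-- Quasi-compactness of a field-valued map is tested on affine pieces of one atlas. -/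
theorem repWith_qc_of_chart {X : Sp S} (hX : IsAlgSpace X) {U₀ : Over S} {a : (yon S).obj U₀ ⟶ X}
    (hae : RepWith @Etale a) (has : RepWith @Surjective a) {Q : Over S} (q : (yon S).obj Q ⟶ X)
    (hW : ∀ W : U₀.left.Opens, IsAffineOpen W → ∀ (E : Over S) (b : E ⟶ Q) (e : E ⟶ Over.mk (W.ι ≫ U₀.hom)),
      IsPullback ((yon S).map b) ((yon S).map e) q
        ((yon S).map (Over.homMk W.ι rfl : Over.mk (W.ι ≫ U₀.hom) ⟶ U₀) ≫ a) → Finite ↥E.left) :
    RepWith @QuasiCompact q := by
  refine ⟨hX.representable_from_yon q, fun {V E} g fst d sqd => ?_⟩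
  change QuasiCompact d.left
  obtain ⟨E₀, b₀, e₀, sqE₀⟩ := exists_isPullback_yon (hX.representable_from_yon q) a
  haveI : QuasiCompact e₀.left := by
    rw [quasiCompact_iff_forall_isAffineOpen]
    intro W hWa
    let o : Over.mk (W.ι ≫ U₀.hom) ⟶ U₀ := Over.homMk W.ι rfl
    haveI : Finite ↥(pullback e₀ o).left :=
      hW W hWa _ (pullback.fst e₀ o ≫ b₀) (pullback.snd e₀ o) (by
        rw [(yon S).map_comp]
        exact (isPullback_yon_map (IsPullback.of_hasPullback e₀ o)).paste_horiz sqE₀)
    have : e₀.left ⁻¹' (W : Set ↥U₀.left) = Set.range (pullback.fst e₀ o).left := by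
      ext z
      refine ⟨fun hz => ?_, ?_⟩
      · have f₂ := isPullback_left (IsPullback.of_hasPullback e₀ o)
        obtain ⟨y, hy, -⟩ := Scheme.Pullback.exists_preimage_pullback (f := e₀.left) (g := o.left) z ⟨_, hz⟩ rfl
        exact ⟨f₂.isoPullback.inv y, by rw [← Scheme.Hom.comp_apply, IsPullback.isoPullback_inv_fst, hy]⟩
      · rintro ⟨y, rfl⟩
        show ((pullback.fst e₀ o).left ≫ e₀.left) y ∈ W
        rw [← Over.comp_left, pullback.condition]
        exact ((pullback.snd e₀ o).left y).2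
    show IsCompact (e₀.left ⁻¹' (W : Set ↥U₀.left))
    rw [this]
    exact (Set.finite_range _).isCompact
  obtain ⟨V', w, v', hwe, hws, hv', -⟩ := exists_etale_cover hae has g
  obtain ⟨l, hl⟩ := (yon S).map_surjective (sqE₀.lift ((yon S).map (pullback.fst d w) ≫ fst)
    ((yon S).map (pullback.snd d w ≫ v')) (by
      rw [(yon S).map_comp, Category.assoc, sqd.w, Category.assoc, hv', ← Functor.map_comp_assoc,
        pullback.condition, Functor.map_comp_assoc]))
  have hl1 : (yon S).map l ≫ (yon S).map b₀ = (yon S).map (pullback.fst d w) ≫ fst := by rw [hl, sqE₀.lift_fst]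
  have hl2 : (yon S).map l ≫ (yon S).map e₀ = (yon S).map (pullback.snd d w) ≫ (yon S).map v' := by
    rw [hl, sqE₀.lift_snd, (yon S).map_comp]
  have sql : IsPullback ((yon S).map l) ((yon S).map (pullback.snd d w)) ((yon S).map e₀) ((yon S).map v') :=
    IsPullback.of_right (h₁₂ := (yon S).map b₀) (v₁₃ := q) (h₂₂ := a) (by
      rw [hl1, hv']
      exact (isPullback_yon_map (IsPullback.of_hasPullback d w)).paste_horiz sqd) hl2 sqE₀
  haveI : QuasiCompact (pullback.snd d w).left :=
    MorphismProperty.of_isPullback (isPullback_left (IsPullback.of_map_of_faithful (F := yon S) sql))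
      ‹QuasiCompact e₀.left›
  exact quasiCompact_of_isPullback_open (isPullback_left (IsPullback.of_hasPullback d w))

/-- Quasi-compactness descends along an extension of the field of a point. -/
theorem repWith_qc_descend {X : Sp S} (hX : IsAlgSpace X) {L : Type u} [Field L]
    {str : Spec (CommRingCat.of L) ⟶ S} {q : (yon S).obj (Over.mk str) ⟶ X} {p : FieldPt X}
    (r : Over.mk str ⟶ p.pt) (hr : (yon S).map r ≫ p.toHom = q) (hqqc : RepWith @QuasiCompact q) :
    RepWith @QuasiCompact p.toHom := by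
  refine ⟨hX.representable_from_yon _, fun {V E} g c d sqd => ?_⟩
  change QuasiCompact d.left
  have hrep := hX.representable_from_yon q
  have sqq := hrep.isPullback g
  haveI : QuasiCompact (hrep.snd g).left := hqqc.2 _ _ _ sqq
  obtain ⟨k, hk⟩ := (yon S).map_surjective (sqd.lift (hrep.fst g ≫ (yon S).map r) ((yon S).map (hrep.snd g))
    (by rw [Category.assoc, hr]; exact sqq.w))
  have hk1 : (yon S).map k ≫ c = hrep.fst g ≫ (yon S).map r := by rw [hk, sqd.lift_fst]
  have hk2 : k ≫ d = hrep.snd g := (yon S).map_injective (by rw [(yon S).map_comp, hk, sqd.lift_snd])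
  haveI : Surjective r.left := ⟨fun x => ⟨IsLocalRing.closedPoint L,
    @Subsingleton.elim _ (inferInstanceAs (Subsingleton ↥(Spec (CommRingCat.of p.K)))) _ _⟩⟩
  haveI : Surjective k.left := by
    have sqk : IsPullback (hrep.fst g) ((yon S).map k) ((yon S).map r) c := by
      refine IsPullback.of_bot ?_ hk1.symm sqd
      rw [hr, ← (yon S).map_comp, hk2]
      exact sqq
    exact surjective_snd_of_surjective_map
      (surjective_map_of_repWith (repWith_yon_map (P := @Surjective) (g := r) ‹_›)) sqk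
  haveI : QuasiCompact (k.left ≫ d.left) := by rw [← Over.comp_left, hk2]; infer_instance
  rw [quasiCompact_iff_forall_isAffineOpen]
  intro W hW
  have h1 : IsCompact (k.left ⁻¹' (d.left ⁻¹' (W : Set ↥V.left))) :=
    (k.left ≫ d.left).isCompact_preimage hW.isCompact
  have h2 := h1.image k.left.continuous
  rwa [Set.image_preimage_eq _ k.left.surjective] at h2


/-- Bounded affine etale charts give decency. -/
theorem isDecent_of_univBdd {X : Sp S} (hX : IsAlgSpace X)
    (h : ∀ (U : Over S) (φ : (yon S).obj U ⟶ X), IsAffine U.left → RepWith @Etale φ → W4dec.HasUnivBddFibres φ) :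
    IsDecent X := by
  intro x
  obtain ⟨U₀, a, hae, has⟩ := hX.atlas
  obtain ⟨u₀, rfl⟩ := surjective_ofPt has x
  obtain ⟨O, hO, huO, -⟩ := exists_isAffineOpen_mem_and_subset (x := u₀) (U := (⊤ : U₀.left.Opens)) (by simp)
  have hchart : ∀ (O : U₀.left.Opens), IsAffineOpen O → W4dec.HasUnivBddFibres
      ((yon S).map (Over.homMk O.ι rfl : Over.mk (O.ι ≫ U₀.hom) ⟶ U₀) ≫ a) := fun O hO =>
    h _ _ hO (repWith_comp (repWith_yon_map (P := @Etale) (g := (Over.homMk O.ι rfl : Over.mk (O.ι ≫ U₀.hom) ⟶ U₀))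
      (inferInstanceAs (Etale O.ι))) hae)
  let U : Over S := Over.mk (O.ι ≫ U₀.hom)
  let ι : U ⟶ U₀ := Over.homMk O.ι rfl
  set φ : (yon S).obj U ⟶ X := (yon S).map ι ≫ a with hφdef
  let u : ↥U.left := ⟨u₀, huO⟩
  let L := U.left.residueField u
  let j : Over.mk (U.left.fromSpecResidueField u ≫ U.hom) ⟶ U := Over.homMk (U.left.fromSpecResidueField u) rfl
  set q : (yon S).obj (Over.mk (U.left.fromSpecResidueField u ≫ U.hom)) ⟶ X := (yon S).map j ≫ φ with hqdef
  obtain ⟨n, hn⟩ := hchart O hO
  obtain ⟨T, v, c, sqT⟩ := exists_isPullback_yon (hX.representable_from_yon φ) q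
  have hT : DegLE (K := L) c.left n :=
    hn (fieldPtOf q) T c ((yon S).map v) (by rw [toHom_fieldPtOf]; exact sqT.flip)
  have sM : IsPullback ((yon S).map (pullback.fst v j ≫ c)) ((yon S).map (pullback.snd v j)) q q := by
    rw [(yon S).map_comp]
    exact (isPullback_yon_map (IsPullback.of_hasPullback v j)).paste_horiz sqT.flip
  haveI : Subsingleton ↥(Over.mk (U.left.fromSpecResidueField u ≫ U.hom)).left :=
    inferInstanceAs (Subsingleton ↥(Spec (CommRingCat.of L)))
  haveI : QuasiCompact j.left := quasiCompact_of_subsingleton _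
  haveI : LocallyQuasiFinite j.left := inferInstanceAs (LocallyQuasiFinite (U.left.fromSpecResidueField u))
  haveI : IsFinite c.left := hT.1
  haveI : LocallyQuasiFinite c.left := inferInstance
  have f₁ := isPullback_left (IsPullback.of_hasPullback v j)
  haveI : QuasiCompact (pullback.fst v j).left := MorphismProperty.of_isPullback f₁.flip ‹QuasiCompact j.left›
  haveI : LocallyQuasiFinite (pullback.fst v j).left :=
    MorphismProperty.of_isPullback f₁.flip ‹LocallyQuasiFinite j.left›
  haveI : IsLocallyArtinian (Over.mk (U.left.fromSpecResidueField u ≫ U.hom)).left :=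
    inferInstanceAs (IsLocallyArtinian (Spec (CommRingCat.of L)))
  haveI : QuasiCompact (pullback.fst v j ≫ c).left :=
    inferInstanceAs (QuasiCompact ((pullback.fst v j).left ≫ c.left))
  haveI : LocallyQuasiFinite (pullback.fst v j ≫ c).left :=
    inferInstanceAs (LocallyQuasiFinite ((pullback.fst v j).left ≫ c.left))
  haveI : IsFinite (pullback.fst v j ≫ c).left := IsFinite.of_locallyQuasiFinite _
  obtain ⟨p, r, hr, hp⟩ := exists_mono_of_finite (L := L) q sM
  -- `q` is quasi-compact
  have hqqc : RepWith @QuasiCompact q := by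
    refine repWith_qc_of_chart hX hae has q fun W hW E b e sq => ?_
    obtain ⟨m, hm⟩ := hchart W hW
    have hd : DegLE (K := L) b.left m := hm (fieldPtOf q) _ b ((yon S).map e) (by rw [toHom_fieldPtOf]; exact sq)
    exact hd.finite_discrete.1
  refine ⟨p, ?_, hp, ?_⟩
  · have e1 : Points.ofPt ((yon S).map r ≫ p.toHom) (IsLocalRing.closedPoint L) = Points.mk p := by
      rw [ofPt_yon_map_comp, Points.ofPt_toHom]
    rw [← e1, hr, hqdef, ofPt_yon_map_comp, show j.left (IsLocalRing.closedPoint L) = u from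
      Scheme.fromSpecResidueField_apply _ _, hφdef, ofPt_yon_map_comp]
    rfl
  · exact repWith_qc_descend hX r hr hqqc

end Groth.Agent.ASp
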