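import Groth.Agent.ASp.AffMor
import Groth.Agent.ASp.Fpqc
set_option backward.isDefEq.respectTransparency.types false

/-! A Zariski covering of an algebraic space is an fpqc covering. -/

set_option autoImplicit false
universe u
open CategoryTheory CategoryTheory.Limits AlgebraicGeometry Opposite AlgSp

namespace Groth.Agent.ASp

variable {S : Scheme.{u}}

theorem isFpqcCover_of_isZarCover {ι : Type u} {X : Sp S} {Y : ι → Sp S} {g : ∀ i, Y i ⟶ X}
    (hg : IsZarCover Y g) : IsFpqcCover Y g := by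
  refine ⟨fun i => locP_of_repWith ⟨(hg.1 i).1, fun T V a fst snd sq => by
    have : IsOpenImmersion snd.left := (hg.1 i).2 a fst snd sq
    exact (inferInstance : Flat snd.left)⟩, fun Z hZ h => ?_⟩
  have key : ∀ z : ↥Z.left, ∃ (W : Over S) (c : W ⟶ Z), IsAffine W.left ∧ IsOpenImmersion c.left ∧
      z ∈ Set.range c.left ∧ ∃ (i : ι) (l : (yon S).obj W ⟶ Y i), l ≫ g i = (yon S).map c ≫ h := by
    intro z
    obtain ⟨i, hi⟩ := hg.2 (Points.ofPt h z)
    obtain ⟨P, fst, snd, sq, hsnd⟩ : ∃ (P : Over S) (fst : (yon S).obj P ⟶ Y i) (snd : P ⟶ Z),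
        IsPullback fst ((yon S).map snd) (g i) h ∧ IsOpenImmersion snd.left :=
      ⟨_, _, _, (hg.1 i).1.isPullback h, (hg.1 i).2 _ _ _ ((hg.1 i).1.isPullback h)⟩
    have e := preimage_ofPt_image sq Set.univ
    rw [Set.image_univ, Set.preimage_univ, Set.image_univ] at e
    have hz : z ∈ Set.range snd.left := by rw [← e]; exact hi
    obtain ⟨w, rfl⟩ := hz
    obtain ⟨U, hU, hwU, -⟩ := exists_isAffineOpen_mem_and_subset (X := P.left) (U := ⊤) (x := w) trivial
    let W : Over S := Over.mk (U.ι ≫ P.hom)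
    let k : W ⟶ P := Over.homMk U.ι rfl
    refine ⟨W, k ≫ snd, hU, ?_, ⟨⟨w, hwU⟩, rfl⟩, i, (yon S).map k ≫ fst, ?_⟩
    · rw [Over.comp_left]
      exact (inferInstance : IsOpenImmersion (U.ι ≫ snd.left))
    · rw [Category.assoc, sq.w, Functor.map_comp, Category.assoc]
  choose W c hWa hci hzc i l hl using key
  have : CompactSpace ↥Z.left := (by
    have := hZ; infer_instance)
  obtain ⟨t, ht⟩ := isCompact_univ.elim_finite_subcover (fun z : ↥Z.left => Set.range (c z).left)
    (fun z => (hci z).base_open.isOpen_range) (fun z _ => Set.mem_iUnion.2 ⟨z, hzc z⟩)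
  refine ⟨t.card, fun j => W (t.equivFin.symm j), fun j => c _, fun j => hWa _, fun j => ?_, fun z => ?_,
    fun j => ⟨_, _, hl _⟩⟩
  · have := hci (t.equivFin.symm j : ↥Z.left)
    infer_instance
  · obtain ⟨y, hy, hzy⟩ := Set.mem_iUnion₂.1 (ht (Set.mem_univ z))
    refine ⟨t.equivFin ⟨y, hy⟩, ?_⟩
    have aux : ∀ v : {x // x ∈ t}, v = ⟨y, hy⟩ → z ∈ Set.range (c v.1).left := by
      rintro _ rfl
      exact hzy
    exact aux _ (Equiv.symm_apply_apply _ _)

end Groth.Agent.ASp
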