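import Groth.Agent.ASp.Residual
import Groth.Agent.ASp.PropDescend
import Groth.Agent.ASp.Sub
import Groth.Agent.ASp.Glue
import Groth.Agent.Unibranch.Open
/-!
An algebraic space etale over a field is a scheme.
-/

set_option backward.isDefEq.respectTransparency false
set_option backward.isDefEq.respectTransparency.types false

universe u

open CategoryTheory CategoryTheory.Limits AlgebraicGeometry Opposite

namespace Groth.Agent.ASp

open _root_.AlgSp

variable {S : Scheme.{u}}

theorem isField_of_reduced_subsingleton {R : Type u} [CommRing R] [_root_.IsReduced R]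
    [Subsingleton (PrimeSpectrum R)] [Nontrivial R] : IsField R := by
  obtain ⟨M, hM⟩ := Ideal.exists_maximal R
  have e : ∀ P : Ideal R, P.IsPrime → P = M := fun P hP =>
    congrArg PrimeSpectrum.asIdeal (Subsingleton.elim (⟨P, hP⟩ : PrimeSpectrum R) ⟨M, hM.isPrime⟩)
  have h0 : M = ⊥ := eq_bot_iff.2 fun x hx => by
    have : x ∈ nilradical R := by
      rw [nilradical_eq_sInf, Ideal.mem_sInf]
      exact fun {P} hP => e P hP ▸ hx
    simpa [nilradical_eq_zero] using this
  by_contra h
  exact Ring.ne_bot_of_isMaximal_of_not_isField hM h h0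

/-- An algebraic space etale over the spectrum of a field is a scheme. -/
theorem exists_scheme_of_etale_field {X : Sp S} (hX : IsAlgSpace X) {k : Type u} [Field k]
    (str : Spec (CommRingCat.of k) ⟶ S) (f : X ⟶ (yon S).obj (Over.mk str)) (hf : IsEtaleMor f) :
    ∃ P : Over S, Nonempty ((yon S).obj P ≅ X) := by
  obtain ⟨U, a, hae, has⟩ := hX.atlas
  obtain ⟨v, hv⟩ := (yon S).map_surjective (a ≫ f)
  haveI : Etale v.left := by
    have := hf a hae
    rw [← hv] at this
    exact (repWith_yon_map_iff _ v).1 this
  haveI := Groth.Agent.Unibranch.locallyQuasiFinite_of_etale v.left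
  haveI : Subsingleton ↥(Over.mk str).left := inferInstanceAs (Subsingleton ↥(Spec (CommRingCat.of k)))
  haveI : DiscreteTopology ↥U.left := by
    have h := v.left.isDiscrete_preimage_singleton (IsLocalRing.closedPoint k)
    rw [show v.left ⁻¹' {IsLocalRing.closedPoint k} = Set.univ from
      Set.eq_univ_of_forall fun _ => Subsingleton.elim (α := ↥(Over.mk str).left) _ _] at h
    exact isDiscrete_univ_iff.1 h
  haveI : IsReduced (Over.mk str).left := inferInstanceAs (IsReduced (Spec (CommRingCat.of k)))
  haveI : IsLocallyArtinian (Over.mk str).left := inferInstanceAs (IsLocallyArtinian (Spec (CommRingCat.of k)))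
  have hone : ∀ u : ↥U.left, ∃ (Q : Over S) (g : (yon S).obj Q ⟶ X), RepWith @IsOpenImmersion g ∧
      Points.ofPt a u ∈ Set.range (Points.map g) := by
    intro u
    let Ω : Set (Points X) := {Points.ofPt a u}
    have hΩ : IsOpen Ω := by
      have := isOpenMap_ofPt_of_etale hae {u} (isOpen_discrete _)
      rwa [Set.image_singleton] at this
    let W : U.left.Opens := ⟨{u}, isOpen_discrete _⟩
    haveI : Subsingleton ↥W.toScheme := ⟨fun x y => Subtype.ext ((x.2 : x.1 = u).trans (y.2 : y.1 = u).symm)⟩
    haveI : Nonempty ↥W.toScheme := ⟨⟨u, rfl⟩⟩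
    haveI : IsAffine W.toScheme := by
      obtain ⟨E, hE, huE, hEW⟩ := exists_isAffineOpen_mem_and_subset (x := u) (U := W) rfl
      rwa [show E = W from le_antisymm hEW (fun x (hx : x = u) => hx ▸ huE)] at hE
    haveI : IsReduced W.toScheme := by
      haveI : Smooth (W.ι ≫ v.left) := inferInstance
      exact isReduced_of_smooth (W.ι ≫ v.left)
    let L : CommRingCat.{u} := Γ(W.toScheme, ⊤)
    let e : W.toScheme ≅ Spec L := W.toScheme.isoSpec
    haveI : Subsingleton (PrimeSpectrum L) :=
      ⟨fun x y => e.inv.homeomorph.injective (Subsingleton.elim (α := ↥W.toScheme) _ _)⟩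
    haveI : Nontrivial L :=
      PrimeSpectrum.nonempty_iff_nontrivial.1 ⟨e.hom (⟨u, rfl⟩ : W.toScheme)⟩
    haveI : _root_.IsReduced L := inferInstanceAs (_root_.IsReduced Γ(W.toScheme, ⊤))
    letI : Field L := (isField_of_reduced_subsingleton (R := L)).toField
    let strL : Spec (CommRingCat.of L) ⟶ S := (e.inv ≫ W.ι) ≫ U.hom
    let ι : Over.mk strL ⟶ U := Over.homMk (e.inv ≫ W.ι) rfl
    let g₀ : (yon S).obj (Over.mk strL) ⟶ X := (yon S).map ι ≫ a
    have hg₀ : RepWith @Etale g₀ :=
      repWith_comp (repWith_yon_map (P := @Etale) (g := ι) (inferInstanceAs (Etale (e.inv ≫ W.ι)))) hae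
    haveI : Subsingleton ↥(Over.mk strL).left := inferInstanceAs (Subsingleton ↥(Spec (CommRingCat.of L)))
    have hpt : ∀ t, Points.ofPt g₀ t = Points.ofPt a u := fun t => by
      rw [ofPt_yon_map_comp]
      exact congrArg _ (W.ι (e.inv t) |> fun _ => (e.inv t).2)
    obtain ⟨g, hg⟩ := exists_lift_subι X Ω g₀ hpt
    have hZ : IsAlgSpace (subSp X Ω) := isAlgSpace_subSp hX hΩ
    have hge : RepWith @Etale g := by
      refine repWith_of_isPullback (f := g₀) (IsPullback.mk ⟨by rw [hg, Category.id_comp]⟩
        ⟨PullbackCone.IsLimit.mk _ (fun c => c.fst)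
          (fun c => Category.comp_id _) (fun c => (cancel_mono (subι X Ω)).1 (by
            rw [Category.assoc, hg]; exact c.condition))
          (fun c m h1 _ => by rw [← h1, Category.comp_id])⟩) hg₀
    have hgs : Function.Surjective (Points.map g) := fun z => by
      refine ⟨Points.ofScheme (Over.mk strL) (IsLocalRing.closedPoint L), ?_⟩
      apply injective_map_of_repWith (P := @IsOpenImmersion)
        (fun h (hh : IsOpenImmersion h) => h.isOpenEmbedding.injective) (repWith_subι X Ω hΩ)
      rw [← Points.map_comp, hg, ← Points.ofPt_eq_map_ofScheme, hpt]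
      exact ((range_map_subι X Ω).le ⟨z, rfl⟩ : Points.map (subι X Ω) z = _).symm
    -- the self product of `g`
    have sq := hge.1.isPullback g
    obtain ⟨t, ht⟩ := (yon S).map_surjective (hge.1.fst g)
    rw [← ht] at sq
    let s := hge.1.snd g
    haveI : Etale s.left := hge.2 _ _ _ sq
    haveI := Groth.Agent.Unibranch.locallyQuasiFinite_of_etale s.left
    let w : Over.mk strL ⟶ Over.mk str := ι ≫ v
    haveI : Etale w.left := inferInstanceAs (Etale ((e.inv ≫ W.ι) ≫ v.left))
    haveI := Groth.Agent.Unibranch.locallyQuasiFinite_of_etale w.left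
    haveI : QuasiCompact w.left := quasiCompact_of_subsingleton _
    have hw : (yon S).map w = g ≫ subι X Ω ≫ f := by
      rw [← Category.assoc, hg, Category.assoc, (yon S).map_comp, hv]
    have hts : t ≫ w = s ≫ w := (yon S).map_injective (by
      rw [(yon S).map_comp t w, (yon S).map_comp s w, hw, ← Category.assoc, sq.w, Category.assoc])
    let Z := pullback w w
    have hZsq := isPullback_left (IsPullback.of_hasPullback w w)
    haveI : LocallyQuasiFinite (pullback.fst w w).left := MorphismProperty.of_isPullback hZsq.flip ‹LocallyQuasiFinite w.left›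
    haveI : QuasiCompact (pullback.fst w w).left := MorphismProperty.of_isPullback hZsq.flip ‹QuasiCompact w.left›
    haveI : Finite ↥Z.left := by
      have := (pullback.fst w w).left.finite_preimage_singleton (IsLocalRing.closedPoint L)
      rw [show (pullback.fst w w).left ⁻¹' {IsLocalRing.closedPoint L} = Set.univ from
        Set.eq_univ_of_forall fun _ => Subsingleton.elim (α := ↥(Over.mk strL).left) _ _] at this
      exact Set.finite_univ_iff.1 this
    let l : hge.1.pullback g ⟶ Z := pullback.lift t s hts
    haveI : Mono l := ⟨fun x y hxy => (yon S).map_injective (sq.hom_ext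
      (by rw [← (yon S).map_comp, ← (yon S).map_comp]; congr 1
          simpa [l] using congrArg (· ≫ pullback.fst w w) hxy)
      (by rw [← (yon S).map_comp, ← (yon S).map_comp]; congr 1
          simpa [l] using congrArg (· ≫ pullback.snd w w) hxy))⟩
    haveI : Mono l.left := Over.mono_left_of_mono l
    haveI : Finite ↥(hge.1.pullback g).left := Finite.of_injective _ l.left.injective
    haveI : QuasiCompact s.left := ⟨fun _ _ _ => (Set.toFinite _).isCompact⟩
    haveI : IsLocallyArtinian (Over.mk strL).left := inferInstanceAs (IsLocallyArtinian (Spec (CommRingCat.of L)))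
    haveI : IsFinite s.left := IsFinite.of_locallyQuasiFinite _
    obtain ⟨p, r, hr, hp⟩ := exists_mono_of_finite g sq.flip
    haveI hls : Sheaf.IsLocallySurjective g := isLocallySurjective_of_repWith
      (repWith_mono (fun _ _ h (hh : Etale h) => inferInstanceAs (Flat h)) hge)
      (repWith_mono (fun _ _ h (hh : Etale h) => inferInstanceAs (LocallyOfFinitePresentation h)) hge)
      ((repWith_surjective_iff hge.1).2 hgs)
    haveI : Sheaf.IsLocallySurjective p.toHom := by
      haveI : Presheaf.IsLocallySurjective (J S) (((yon S).map r).hom ≫ p.toHom.hom) := by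
        rw [show ((yon S).map r).hom ≫ p.toHom.hom = g.hom from congrArg InducedCategory.Hom.hom hr]
        exact hls
      exact Presheaf.isLocallySurjective_of_isLocallySurjective (J S) ((yon S).map r).hom p.toHom.hom
    haveI : IsIso p.toHom := isIso_of_mono_of_locallySurjective _ ‹_›
    refine ⟨p.pt, p.toHom ≫ subι X Ω, repWith_comp (repWith_of_isIso _) (repWith_subι X Ω hΩ), ?_⟩
    obtain ⟨z, hz⟩ : Points.ofPt a u ∈ Set.range (Points.map (subι X Ω)) := by
      rw [range_map_subι]; rfl
    exact ⟨Points.map (inv p.toHom) z, by rw [← Points.map_comp, IsIso.inv_hom_id_assoc, hz]⟩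
  choose Q g hg hu using hone
  exact exists_scheme_of_openCover hX Q g hg fun x => by
    obtain ⟨u, rfl⟩ := surjective_ofPt has x
    exact ⟨u, hu u⟩

end Groth.Agent.ASp
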