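import Groth.Agent.ASp.MonoLQF
import Groth.Agent.ASp.DecentPt
import Groth.Agent.ASp.EtaleField
import Groth.Agent.ASp.Univ
/-!
Decency descends along quasi-compact etale surjective morphisms.
-/

set_option backward.isDefEq.respectTransparency false
set_option backward.isDefEq.respectTransparency.types false

universe u

open CategoryTheory CategoryTheory.Limits AlgebraicGeometry Opposite

namespace Groth.Agent.ASp

open _root_.AlgSp

variable {S : Scheme.{u}}

theorem isDecent_of_qc_etale_surjective {X Y : Sp S} (hX : IsAlgSpace X) (hY : IsAlgSpace Y) (f : X ⟶ Y)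
    (hq : IsQuasiCompactMor f) (he : IsEtaleMor f) (hs : Function.Surjective (Points.map f))
    (hd : IsDecent X) : IsDecent Y := by
  intro y
  obtain ⟨x, rfl⟩ := hs y
  obtain ⟨p, rfl, hm, hp⟩ := hd x
  haveI := hm
  let q : (yon S).obj p.pt ⟶ Y := p.toHom ≫ f
  have hqrep : Representable q := hY.representable_from_yon _
  have hqqc : RepWith @QuasiCompact q := (repWith_quasiCompact_iff hqrep).2 fun Z Z' hZ hZq k a b sq => by
    let l : Z' ⟶ pullback f k := pullback.lift (a ≫ p.toHom) b (by rw [Category.assoc]; exact sq.w)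
    have sq' : IsPullback a l p.toHom (pullback.fst f k) :=
      IsPullback.of_bot (by simpa [l] using sq) (by simp [l]) (IsPullback.of_hasPullback _ _)
    exact isQuasiCompactMor_of_repWith hp (isAlgSpace_pullback hY.diag hX hZ f k)
      (hq hZ hZq k _ _ (IsPullback.of_hasPullback _ _)) _ a l sq'
  have sq := hqrep.isPullback q
  obtain ⟨t, ht⟩ := (yon S).map_surjective (hqrep.fst q)
  rw [← ht] at sq
  haveI : QuasiCompact (hqrep.snd q).left := hqqc.2 _ _ _ sq
  -- the fibre of `f` is a scheme etale over the field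
  have sqE := IsPullback.of_hasPullback f q
  have hE : IsAlgSpace (pullback f q) := isAlgSpace_pullback hY.diag hX (IsAlgSpace.yon_obj _) f q
  have hEe : IsEtaleMor (pullback.snd f q) := (isEtaleMor_iff_locP (IsAlgSpace.yon_obj _)).2
    (locP_of_isPullback sqE.flip hX hY (IsAlgSpace.yon_obj _) ((isEtaleMor_iff_locP hY).1 he))
  obtain ⟨Q₀, ⟨e⟩⟩ := exists_scheme_of_etale_field hE p.str _ hEe
  obtain ⟨w, hw⟩ := (yon S).map_surjective (e.hom ≫ pullback.snd f q)
  haveI : Etale w.left := by
    have := hEe e.hom (repWith_of_isIso _)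
    rw [← hw] at this
    exact (repWith_yon_map_iff _ w).1 this
  haveI := Groth.Agent.Unibranch.locallyQuasiFinite_of_etale w.left
  let l : (yon S).obj (hqrep.pullback q) ⟶ pullback f q :=
    pullback.lift ((yon S).map t ≫ p.toHom) ((yon S).map (hqrep.snd q)) (by rw [Category.assoc]; exact sq.w)
  haveI : Mono l := ⟨fun a b hab => by
    have h1 := congrArg (· ≫ pullback.fst f q) hab
    have h2 := congrArg (· ≫ pullback.snd f q) hab
    simp [l] at h1 h2
    refine sq.hom_ext ?_ h2
    rw [← Category.assoc, ← Category.assoc] at h1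
    exact (cancel_mono p.toHom).1 h1⟩
  obtain ⟨m, hm'⟩ := (yon S).map_surjective (l ≫ e.inv)
  haveI : Mono ((yon S).map m) := hm' ▸ mono_comp _ _
  haveI : Mono m := (yon S).mono_of_mono_map ‹Mono ((yon S).map m)›
  haveI : Mono m.left := Over.mono_left_of_mono m
  have hfac : m ≫ w = hqrep.snd q := (yon S).map_injective (by
    rw [(yon S).map_comp, hm', hw, Category.assoc, e.inv_hom_id_assoc]
    exact pullback.lift_snd _ _ _)
  haveI : LocallyQuasiFinite m.left := inferInstance
  haveI : LocallyQuasiFinite (hqrep.snd q).left := by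
    rw [← hfac]; exact inferInstanceAs (LocallyQuasiFinite (m.left ≫ w.left))
  haveI : IsLocallyArtinian p.pt.left := inferInstanceAs (IsLocallyArtinian (Spec (CommRingCat.of p.K)))
  haveI : IsFinite (hqrep.snd q).left := IsFinite.of_locallyQuasiFinite _
  obtain ⟨p', r, hr, hm2⟩ := exists_mono_of_finite (L := p.K) q sq.flip
  refine ⟨p', ?_, hm2, ?_⟩
  · have e1 : Points.ofPt ((yon S).map r ≫ p'.toHom) (IsLocalRing.closedPoint p.K) = Points.mk p' := by
      rw [ofPt_yon_map_comp, Points.ofPt_toHom]
    rw [← e1, hr, ← Points.map_ofPt, Points.ofPt_toHom]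
  · -- quasi-compactness descends along the surjection
    refine ⟨hY.representable_from_yon _, fun {V E} g c d sqd => ?_⟩
    change QuasiCompact d.left
    have sqq := hqrep.isPullback g
    haveI : QuasiCompact (hqrep.snd g).left := hqqc.2 _ _ _ sqq
    obtain ⟨c₀, hc₀⟩ := (yon S).map_surjective c
    obtain ⟨k, hk⟩ := (yon S).map_surjective (sqd.lift (hqrep.fst g ≫ (yon S).map r) ((yon S).map (hqrep.snd g))
      (by rw [Category.assoc, hr]; exact sqq.w))
    have hk1 : (yon S).map k ≫ c = hqrep.fst g ≫ (yon S).map r := by rw [hk, sqd.lift_fst]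
    have hk2 : k ≫ d = hqrep.snd g := (yon S).map_injective (by rw [(yon S).map_comp, hk, sqd.lift_snd])
    haveI : Surjective r.left := ⟨fun x => ⟨IsLocalRing.closedPoint p.K,
      @Subsingleton.elim _ (inferInstanceAs (Subsingleton ↥(Spec (CommRingCat.of p'.K)))) _ _⟩⟩
    haveI : Surjective k.left := by
      have sqk : IsPullback (hqrep.fst g) ((yon S).map k) ((yon S).map r) c := by
        refine IsPullback.of_bot ?_ hk1.symm sqd
        rw [hr, ← (yon S).map_comp, hk2]
        exact sqq
      exact surjective_snd_of_surjective_map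
        (surjective_map_of_repWith (repWith_yon_map (P := @Surjective) (g := r) ‹_›)) sqk
    rw [quasiCompact_iff_forall_isAffineOpen]
    intro W hW
    have h1 : IsCompact (k.left ⁻¹' (d.left ⁻¹' (W : Set ↥V.left))) := by
      have e2 : k.left ⁻¹' (d.left ⁻¹' (W : Set ↥V.left)) = (hqrep.snd g).left ⁻¹' (W : Set ↥V.left) := by
        rw [← hk2]; rfl
      rw [e2]
      exact (hqrep.snd g).left.isCompact_preimage hW.isCompact
    have h2 := h1.image k.left.continuous
    rwa [Set.image_preimage_eq _ k.left.surjective] at h2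

end Groth.Agent.ASp
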