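import Mathlib.AlgebraicGeometry.Morphisms.Separated
import Mathlib.Algebra.Category.Ring.Constructions
import Mathlib.CategoryTheory.Limits.Constructions.Over.Products
import Groth.Agent.ASp.LocP
/-!
Separatedness of an algebraic space tested on fibre products of affine schemes.
-/

set_option backward.isDefEq.respectTransparency false
set_option backward.isDefEq.respectTransparency.types false

universe u

open CategoryTheory CategoryTheory.Limits AlgebraicGeometry TensorProduct

namespace Groth.Agent.ASp

open _root_.AlgSp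

variable {S : Scheme.{u}}

/-- A fibre product of two maps into `X` is a base change of the diagonal of `X`. -/
theorem isPullback_diag_pair {X : Sp S} {U V P : Over S} {a : (yon S).obj U ⟶ X} {b : (yon S).obj V ⟶ X}
    {fst : P ⟶ U} {snd : P ⟶ V} (h : IsPullback ((yon S).map fst) ((yon S).map snd) a b) :
    IsPullback ((yon S).map fst ≫ a) ((yon S).map (prod.lift fst snd)) (Limits.diag X)
      (prod.lift ((yon S).map (prod.fst : U ⨯ V ⟶ U) ≫ a) ((yon S).map (prod.snd : U ⨯ V ⟶ V) ≫ b)) := by
  refine IsPullback.of_isLimit' ⟨?_⟩ (PullbackCone.IsLimit.mk _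
    (fun s => h.lift (s.snd ≫ (yon S).map prod.fst) (s.snd ≫ (yon S).map prod.snd) ?_) (fun s => ?_) (fun s => ?_)
    (fun s l h1 h2 => ?_))
  · apply prod.hom_ext
    · simp only [Category.assoc, prod.lift_fst, ← Functor.map_comp_assoc, Limits.diag, Category.comp_id]
    · simp only [Category.assoc, prod.lift_snd, ← Functor.map_comp_assoc, Limits.diag, Category.comp_id, h.w]
  · have e1 := congrArg (· ≫ prod.fst) s.condition
    have e2 := congrArg (· ≫ prod.snd) s.condition
    simp [Limits.diag] at e1 e2
    simp only [Category.assoc]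
    exact e1.symm.trans e2
  · have e1 := congrArg (· ≫ prod.fst) s.condition
    simp [Limits.diag] at e1
    rw [h.lift_fst_assoc, Category.assoc, ← e1]
  · rw [← cancel_mono (prodComparison (yon S) U V)]
    apply prod.hom_ext <;>
      simp only [Category.assoc, prodComparison_fst, prodComparison_snd, ← Functor.map_comp, prod.lift_fst,
        prod.lift_snd, h.lift_fst, h.lift_snd]
  · apply h.hom_ext
    · rw [h.lift_fst, ← h2, Category.assoc, ← Functor.map_comp, prod.lift_fst]
    · rw [h.lift_snd, ← h2, Category.assoc, ← Functor.map_comp, prod.lift_snd]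

/-- The spectrum of `A ⊗ B` is the product of the spectra. -/
theorem isPullback_spec_tensor (A B : CommRingCat.{u}) :
    IsPullback (Spec.map (CommRingCat.coproductCocone A B).inl) (Spec.map (CommRingCat.coproductCocone A B).inr)
      (terminal.from (Spec A)) (terminal.from (Spec B)) := by
  have hl : IsLimit (BinaryFan.mk (CommRingCat.coproductCocone A B).inl.op
      (CommRingCat.coproductCocone A B).inr.op) :=
    BinaryFan.IsLimit.mk _
      (fun f g => ((CommRingCat.coproductCoconeIsColimit A B).desc (BinaryCofan.mk f.unop g.unop)).op)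
      (fun f g => Quiver.Hom.unop_inj
        ((CommRingCat.coproductCoconeIsColimit A B).fac (BinaryCofan.mk f.unop g.unop) ⟨WalkingPair.left⟩))
      (fun f g => Quiver.Hom.unop_inj
        ((CommRingCat.coproductCoconeIsColimit A B).fac (BinaryCofan.mk f.unop g.unop) ⟨WalkingPair.right⟩))
      (fun f g m h1 h2 => Quiver.Hom.unop_inj (BinaryCofan.IsColimit.hom_ext (CommRingCat.coproductCoconeIsColimit A B)
        ((congrArg Quiver.Hom.unop h1).trans ((CommRingCat.coproductCoconeIsColimit A B).fac
          (BinaryCofan.mk f.unop g.unop) ⟨WalkingPair.left⟩).symm)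
        ((congrArg Quiver.Hom.unop h2).trans ((CommRingCat.coproductCoconeIsColimit A B).fac
          (BinaryCofan.mk f.unop g.unop) ⟨WalkingPair.right⟩).symm)))
  exact IsPullback.of_is_product' (mapIsLimitOfPreservesOfIsLimit Scheme.Spec _ _ hl) terminalIsTerminal

/-- The product over `S` of two affine schemes maps to the spectrum of the tensor product. -/
theorem exists_toTensorSpec (U V : Over S) [IsAffine U.left] [IsAffine V.left] :
    ∃ ρ : (U ⨯ V).left ⟶ Spec (CommRingCat.coproductCocone Γ(U.left, ⊤) Γ(V.left, ⊤)).pt,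
      (S.IsSeparated → IsClosedImmersion ρ) ∧ IsSeparated ρ ∧
      ρ ≫ Spec.map (CommRingCat.coproductCocone Γ(U.left, ⊤) Γ(V.left, ⊤)).inl =
        (prod.fst : U ⨯ V ⟶ U).left ≫ U.left.isoSpec.hom ∧
      ρ ≫ Spec.map (CommRingCat.coproductCocone Γ(U.left, ⊤) Γ(V.left, ⊤)).inr =
        (prod.snd : U ⨯ V ⟶ V).left ≫ V.left.isoSpec.hom := by
  have hP := isPullback_spec_tensor Γ(U.left, ⊤) Γ(V.left, ⊤)
  let m₂ : pullback (U.hom ≫ terminal.from S) (V.hom ≫ terminal.from S) ⟶
      pullback (terminal.from (Spec Γ(U.left, ⊤))) (terminal.from (Spec Γ(V.left, ⊤))) :=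
    pullback.map _ _ _ _ U.left.isoSpec.hom V.left.isoSpec.hom (𝟙 _)
      (Subsingleton.elim _ _) (Subsingleton.elim _ _)
  haveI : IsIso m₂ := pullback.map_isIso _ _ _ _ _ _ _ _ _
  let ρ := (Over.prodLeftIsoPullback U V).hom ≫ pullback.mapDesc U.hom V.hom (terminal.from S) ≫ m₂ ≫
    hP.isoPullback.inv
  refine ⟨ρ, fun hS => ?_, ?_, ?_, ?_⟩
  · haveI : IsSeparated (terminal.from S) := hS.1
    infer_instance
  · infer_instance
  · simp only [ρ, m₂, Category.assoc, hP.isoPullback_inv_fst, pullback.lift_fst, pullback.lift_fst_assoc,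
      Category.id_comp]
    rw [Over.prodLeftIsoPullback_hom_fst_assoc]
  · simp only [ρ, m₂, Category.assoc, hP.isoPullback_inv_snd, pullback.lift_snd, pullback.lift_snd_assoc,
      Category.id_comp]
    rw [Over.prodLeftIsoPullback_hom_snd_assoc]

/-- The map into the product, followed by the map to the spectrum of the tensor product, is given by the
product map of rings. -/
theorem lift_comp_eq {U V P : Over S} [IsAffine U.left] [IsAffine V.left] [IsAffine P.left] (fst : P ⟶ U) (snd : P ⟶ V)
    (ρ : (U ⨯ V).left ⟶ Spec (CommRingCat.coproductCocone Γ(U.left, ⊤) Γ(V.left, ⊤)).pt)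
    (h1 : ρ ≫ Spec.map (CommRingCat.coproductCocone Γ(U.left, ⊤) Γ(V.left, ⊤)).inl =
      (prod.fst : U ⨯ V ⟶ U).left ≫ U.left.isoSpec.hom)
    (h2 : ρ ≫ Spec.map (CommRingCat.coproductCocone Γ(U.left, ⊤) Γ(V.left, ⊤)).inr =
      (prod.snd : U ⨯ V ⟶ V).left ≫ V.left.isoSpec.hom) :
    (prod.lift fst snd).left ≫ ρ = P.left.isoSpec.hom ≫ Spec.map (CommRingCat.ofHom
      (Algebra.TensorProduct.productMap fst.left.appTop.hom.toIntAlgHom snd.left.appTop.hom.toIntAlgHom).toRingHom) := by
  obtain ⟨ψ, hψ⟩ := Spec.map_surjective (P.left.isoSpec.inv ≫ (prod.lift fst snd).left ≫ ρ)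
  suffices e : ψ = CommRingCat.ofHom
      (Algebra.TensorProduct.productMap fst.left.appTop.hom.toIntAlgHom snd.left.appTop.hom.toIntAlgHom).toRingHom by
    exact ((Iso.inv_comp_eq _).1 hψ.symm).trans (congrArg (fun x => P.left.isoSpec.hom ≫ Spec.map x) e)
  refine BinaryCofan.IsColimit.hom_ext (CommRingCat.coproductCoconeIsColimit _ _) ?_ ?_
  · refine Eq.trans (b := fst.left.appTop) ?_ ?_
    · apply Spec.map_injective
      rw [Spec.map_comp, hψ, Category.assoc, Category.assoc, h1, ← Category.assoc (prod.lift fst snd).left,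
        ← Over.comp_left, prod.lift_fst, Iso.inv_comp_eq]
      exact (Scheme.isoSpec_hom_naturality fst.left).symm
    · ext a
      exact (Algebra.TensorProduct.productMap_left_apply (R := ℤ) fst.left.appTop.hom.toIntAlgHom
        snd.left.appTop.hom.toIntAlgHom a).symm
  · refine Eq.trans (b := snd.left.appTop) ?_ ?_
    · apply Spec.map_injective
      rw [Spec.map_comp, hψ, Category.assoc, Category.assoc, h2, ← Category.assoc (prod.lift fst snd).left,
        ← Over.comp_left, prod.lift_snd, Iso.inv_comp_eq]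
      exact (Scheme.isoSpec_hom_naturality snd.left).symm
    · ext b
      exact (Algebra.TensorProduct.productMap_right_apply (R := ℤ) fst.left.appTop.hom.toIntAlgHom
        snd.left.appTop.hom.toIntAlgHom b).symm

/-- Representability with closed immersions of the diagonal, tested on affine schemes. -/
theorem repWith_of_affine_test {P : MorphismProperty Scheme.{u}} [IsZariskiLocalAtTarget P] {F G : Sp S} {f : F ⟶ G}
    (hf : Representable f) (h : ∀ (T : Over S), IsAffine T.left → ∀ g : (yon S).obj T ⟶ G,
      ∃ (W : Over S) (a : (yon S).obj W ⟶ F) (d : W ⟶ T), IsPullback a ((yon S).map d) f g ∧ P d.left) :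
    RepWith P f := by
  refine repWith_of_exists fun T g => ⟨hf.pullback g, hf.fst g, hf.snd g, hf.isPullback g, ?_⟩
  rw [IsZariskiLocalAtTarget.iff_of_openCover (P := P) T.left.affineCover]
  intro i
  let T' : Over S := Over.mk (T.left.affineCover.f i ≫ T.hom)
  let ι : T' ⟶ T := Over.homMk (T.left.affineCover.f i) rfl
  obtain ⟨W, a, d, sq, hd⟩ := h T' (inferInstanceAs (IsAffine (T.left.affineCover.X i))) ((yon S).map ι ≫ g)
  obtain ⟨W', q₁, q₂, hW'⟩ : ∃ (W' : Over S) (q₁ : W' ⟶ hf.pullback g) (q₂ : W' ⟶ T'),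
      IsPullback q₁ q₂ (hf.snd g) ι := ⟨_, _, _, IsPullback.of_hasPullback _ _⟩
  have big := (isPullback_yon_map hW').paste_horiz (hf.isPullback g)
  let e := sq.isoIsPullback _ _ big
  obtain ⟨k, hk⟩ := (yon S).map_surjective e.inv
  haveI : IsIso ((yon S).map k) := by rw [hk]; infer_instance
  haveI : IsIso k := isIso_of_fully_faithful (yon S) k
  have hk2 : k ≫ d = q₂ := (yon S).map_injective (by rw [Functor.map_comp, hk]; exact sq.isoIsPullback_inv_snd _ _ big)
  haveI : IsIso k.left := inferInstanceAs (IsIso ((Over.forget S).map k))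
  haveI : P.RespectsIso := inferInstance
  have h1 : P q₂.left := by
    rw [← hk2, Over.comp_left]
    exact MorphismProperty.RespectsIso.precomp P _ _ hd
  have h2 : IsPullback q₁.left q₂.left (hf.snd g).left ι.left := isPullback_left hW'
  change P (pullback.snd (hf.snd g).left ι.left)
  exact h2.isoPullback_inv_snd ▸ MorphismProperty.RespectsIso.precomp P _ _ h1

end Groth.Agent.ASp
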