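import Groth.Agent.ASp.FinChart
import Groth.Agent.ASp.ChartDim
import Groth.Agent.ASp.DecentDim
import Groth.Agent.ASp.ZarFpqc
import Groth.Agent.StratX.CodimZero
import Groth.Agent.EtaleSplit.GenericFinite
import Groth.Agent.S2080
import Groth.Agent.S10272
/-!
Finiteness over a neighbourhood of the generic point.
-/

set_option autoImplicit false
set_option backward.isDefEq.respectTransparency false
set_option backward.isDefEq.respectTransparency.types false
set_option linter.style.haveILetI false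

universe u

open CategoryTheory CategoryTheory.Limits AlgebraicGeometry Opposite

namespace Groth.Agent.ASp

open _root_.AlgSp Groth.Agent.StratX

variable {S : Scheme.{u}}

/-- Every point of a scheme is a specialisation of one of codimension zero. -/
theorem exists_codimZero_generization {U : Scheme.{u}} (a : U) :
    ∃ η : U, η ⤳ a ∧ ringKrullDim ↥(U.presheaf.stalk η) = 0 := by
  obtain ⟨g, hg⟩ := QuasiSober.sober (isIrreducible_irreducibleComponent (x := a)) isClosed_irreducibleComponent
  refine ⟨g, hg.specializes mem_irreducibleComponent, ringKrullDim_stalk_eq_zero fun w hw => ?_⟩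
  have hsub : closure ({g} : Set U) ⊆ closure {w} := closure_minimal (Set.singleton_subset_iff.2 hw.mem_closure) isClosed_closure
  have := (irreducibleComponent_mem_irreducibleComponents a).2 (isIrreducible_singleton (x := w)).closure
    (hg.def.ge.trans hsub)
  exact (hw.antisymm (hg.specializes (this (subset_closure rfl)))).eq

/-- A compact scheme has an affine scheme surjecting etale onto it. -/
theorem exists_affine_etale_surj (E : Over S) [CompactSpace ↥E.left] :
    ∃ (A : Over S) (c : A ⟶ E), IsAffine A.left ∧ Etale c.left ∧ Surjective c.left := by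
  choose U hU hxU _hle using fun x : ↥E.left =>
    exists_isAffineOpen_mem_and_subset (x := x) (U := (⊤ : E.left.Opens)) trivial
  obtain ⟨s, hs⟩ := isCompact_univ.elim_finite_subcover (fun x => (U x : Set ↥E.left)) (fun x => (U x).2)
    (fun x _ => Set.mem_iUnion.2 ⟨x, hxU x⟩)
  let g : {x : ↥E.left // x ∈ s} → Scheme.{u} := fun x => (U x.1).toScheme
  haveI : ∀ x, IsAffine (g x) := fun x => hU x.1
  let σ : ∐ g ⟶ E.left := Limits.Sigma.desc fun x => (U x.1).ι
  haveI hσe : Etale σ := IsZariskiLocalAtSource.sigmaDesc (P := @Etale) fun x => inferInstance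
  haveI : Surjective σ := ⟨fun y => by
    obtain ⟨x, hx, hy⟩ := Set.mem_iUnion₂.1 (hs (Set.mem_univ y))
    refine ⟨Limits.Sigma.ι g ⟨x, hx⟩ ⟨y, hy⟩, ?_⟩
    rw [← Scheme.Hom.comp_apply, Sigma.ι_desc]
    rfl⟩
  exact ⟨Over.mk (σ ≫ E.hom), Over.homMk σ rfl, inferInstanceAs (IsAffine (∐ g)), hσe, ‹Surjective σ›⟩

set_option maxHeartbeats 1000000 in
/-- A morphism to an irreducible affine scheme whose generic fibre consists of the points of codimension zero, finite
in number, is finite over an open neighbourhood of the generic point. -/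
theorem exists_open_finite_generic (F : Space S) {T : Over S} [IsAffine T.left] (φ : F.obj ⟶ (yon S).obj T)
    (hlft : LocP @LocallyOfFiniteType φ) (hqs : IsQuasiCompactMor φ ∨ IsSeparatedMor φ) (v : ↥T.left)
    (hv : ∀ z : ↥T.left, v ⤳ z) (hfin : {z | Points.map φ z = Points.ofScheme T v}.Finite)
    (hiff : ∀ z, HasAt (fun U u => ringKrullDim ↥(U.presheaf.stalk u) = 0) F.obj z ↔
      Points.map φ z = Points.ofScheme T v) :
    ∃ W : T.left.Opens, IsAffineOpen W ∧ v ∈ W ∧ ∀ (T' : Over S) (o : T' ⟶ T) (e : T'.left = W.toScheme),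
      o.left = eqToHom e ≫ W.ι →
      ∀ (F' : Space S) (m : F'.obj ⟶ F.obj) (φ' : F'.obj ⟶ (yon S).obj T'),
        IsPullback m φ' φ ((yon S).map o) → IsFiniteMor φ' := by
  -- the chart
  obtain ⟨E, ε, hεe, hE, hcov, halt⟩ : ∃ (E : Over S) (ε : (yon S).obj E ⟶ F.obj), RepWith @Etale ε ∧
      CompactSpace ↥E.left ∧ (∀ z, Points.map φ z = Points.ofScheme T v → z ∈ Set.range (Points.ofPt ε)) ∧
      (RepWith @Surjective ε ∨ IsSeparatedMor φ) := by
    rcases hqs with hqc | hsep
    · obtain ⟨E, ε, he, hs, hE⟩ := hqc (IsAlgSpace.yon_obj T) (isQuasiCompactSp_yon (W := T)) (𝟙 _) (𝟙 _) φ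
        (IsPullback.of_horiz_isIso ⟨by rw [Category.id_comp, Category.comp_id]⟩)
      exact ⟨E, ε, he, hE, fun z _ => surjective_ofPt hs z, .inl hs⟩
    · obtain ⟨U₀, p, hpe, hps⟩ := F.2.atlas
      choose u hu using fun z : {z // Points.map φ z = Points.ofScheme T v} => surjective_ofPt hps z.1
      choose B hB huB _hle using fun z => exists_isAffineOpen_mem_and_subset (x := u z)
        (U := (⊤ : U₀.left.Opens)) trivial
      haveI : Finite {z // Points.map φ z = Points.ofScheme T v} := hfin.to_subtype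
      let O : U₀.left.Opens := ⨆ z, B z
      let E : Over S := Over.mk (O.ι ≫ U₀.hom)
      let o : E ⟶ U₀ := Over.homMk O.ι rfl
      refine ⟨E, (yon S).map o ≫ p, repWith_comp (repWith_yon_map (inferInstanceAs (Etale O.ι))) hpe, ?_,
        fun z hz => ⟨⟨u ⟨z, hz⟩, TopologicalSpace.Opens.mem_iSup.2 ⟨⟨z, hz⟩, huB _⟩⟩, ?_⟩, .inr hsep⟩
      · show CompactSpace ↥O
        refine isCompact_iff_compactSpace.1 ?_
        rw [TopologicalSpace.Opens.coe_iSup]
        exact isCompact_iUnion fun z => (hB z).isCompact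
      · rw [ofPt_yon_map_comp]
        exact hu ⟨z, hz⟩
  haveI := hE
  obtain ⟨A, c, hA, hce, hcs⟩ := exists_affine_etale_surj E
  haveI := hA
  let α := (yon S).map c ≫ ε
  have hα : RepWith @Etale α := repWith_comp (repWith_yon_map hce) hεe
  have hαcov : ∀ z, Points.map φ z = Points.ofScheme T v → z ∈ Set.range (Points.ofPt α) := fun z hz => by
    obtain ⟨e, rfl⟩ := hcov z hz
    obtain ⟨a, rfl⟩ := hcs.surj e
    exact ⟨a, ofPt_yon_map_comp c ε a⟩
  have halt' : RepWith @Surjective α ∨ IsSeparatedMor φ :=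
    halt.imp_left fun h => repWith_comp (repWith_yon_map hcs) h
  obtain ⟨π, hπ⟩ := (yon S).map_surjective (α ≫ φ)
  haveI : QuasiCompact π.left := quasiCompact_of_compactSpace _
  haveI : LocallyOfFiniteType π.left := hlft α (𝟙 _) π hα (repWith_id _ T) (by rw [Category.comp_id, hπ])
  have hfib : ∀ a : ↥A.left, Points.map φ (Points.ofPt α a) = Points.ofScheme T v ↔ π.left a = v := fun a => by
    rw [Points.map_ofPt, ← hπ, Points.ofPt_eq_map_ofScheme]
    show Points.map ((yon S).map π) (Points.schemeHomeo A a) = Points.schemeHomeo T v ↔ _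
    rw [Points.map_yon_map_apply]
    exact (Points.schemeHomeo T).injective.eq_iff
  have hmin : ∀ a, π.left a = v → ∀ w, w ⤳ a → w = a := fun a ha w hw =>
    eq_of_ringKrullDim_stalk_eq_zero
      ((hasAt_ringKrullDim_iff F.2 _ _).1 ((hiff _).2 ((hfib a).2 ha)) A α a hα rfl) hw
  have hgen : ∀ a, ∃ η, η ⤳ a ∧ π.left η = v := fun a => by
    obtain ⟨η, h1, h2⟩ := exists_codimZero_generization a
    exact ⟨η, h1, (hfib η).1 ((hiff _).1 ⟨A, α, η, hα, rfl, h2⟩)⟩
  have hπfin : (π.left ⁻¹' {v}).Finite := by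
    let Fb := π.left.fiber v
    haveI : LocallyOfFiniteType (π.left.fiberToSpecResidueField v) :=
      MorphismProperty.pullback_snd _ _ ‹LocallyOfFiniteType π.left›
    haveI : IsLocallyNoetherian Fb := LocallyOfFiniteType.isLocallyNoetherian (π.left.fiberToSpecResidueField v)
    haveI : QuasiCompact (π.left.fiberToSpecResidueField v) :=
      MorphismProperty.pullback_snd _ _ ‹QuasiCompact π.left›
    haveI : CompactSpace ↥Fb := QuasiCompact.compactSpace_of_compactSpace (π.left.fiberToSpecResidueField v)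
    haveI : IsNoetherian Fb := {}
    have hinj := (π.left.fiberι v).isEmbedding
    have hcomp : ∀ x : ↥Fb, closure {x} ∈ irreducibleComponents ↥Fb := fun x => by
      refine ⟨isIrreducible_singleton.closure, fun Z hZ hle => ?_⟩
      obtain ⟨g, hg⟩ := QuasiSober.sober hZ.closure isClosed_closure
      have hgx : g = x := hinj.injective (hmin _ (by
        have : π.left.fiberι v x ∈ Set.range (π.left.fiberι v) := ⟨x, rfl⟩
        rwa [Scheme.Hom.range_fiberι] at this) _
        ((hg.specializes (subset_closure (hle (subset_closure rfl)))).map (π.left.fiberι v).continuous))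
      subst hgx
      exact subset_closure.trans hg.def.ge
    haveI : Finite ↥(irreducibleComponents ↥Fb) :=
      (TopologicalSpace.NoetherianSpace.finite_irreducibleComponents (α := ↥Fb)).to_subtype
    haveI : Finite ↥Fb := Finite.of_injective (fun x => (⟨_, hcomp x⟩ : irreducibleComponents ↥Fb)) fun x y e => by
      have e' : closure {x} = closure ({y} : Set ↥Fb) := congrArg Subtype.val e
      exact (inseparable_iff_closure_eq.2 e').eq
    rw [← Scheme.Hom.range_fiberι]
    exact Set.finite_range _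
  have hη : closure {v} ∈ irreducibleComponents (↥T.left : Type u) :=
    ⟨isIrreducible_singleton.closure, fun Z _ _ z _ => (hv z).mem_closure⟩
  haveI : QuasiSeparated π.left := inferInstance
  obtain ⟨T₁, -, hvT₁, hf₁⟩ := (Groth.Agent.S2080.result π.left v hη).1 hπfin
  obtain ⟨R, t, s, hR⟩ := exists_isPullback_yon hα.1 α
  haveI : IsSeparated s.left := isSeparated_snd α isSeparated_hom hR
  haveI : Etale s.left := hα.2 _ _ _ hR
  have hts : t ≫ π = s ≫ π := (yon S).map_injective (by
    rw [Functor.map_comp, Functor.map_comp, hπ]; exact (reassoc_of% hR.w) φ)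
  have hts' : t.left ≫ π.left = s.left ≫ π.left := congrArg (·.left) hts
  have hmono : Mono (pullback.lift t.left s.left hts') := ⟨fun {Z} x y e => by
    have e1 := congrArg (· ≫ pullback.fst _ _) e
    have e2 := congrArg (· ≫ pullback.snd _ _) e
    simp only [Category.assoc, pullback.lift_fst, pullback.lift_snd] at e1 e2
    have hxy : y ≫ R.hom = x ≫ R.hom := by
      rw [← Over.w s, ← Category.assoc, ← Category.assoc, e2]
    let x' : Over.mk (x ≫ R.hom) ⟶ R := Over.homMk x rfl
    let y' : Over.mk (x ≫ R.hom) ⟶ R := Over.homMk y hxy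
    have : x' = y' := (yon S).map_injective (hR.hom_ext
      (by rw [← Functor.map_comp, ← Functor.map_comp]; exact congrArg _ (Over.OverMorphism.ext e1))
      (by rw [← Functor.map_comp, ← Functor.map_comp]; exact congrArg _ (Over.OverMorphism.ext e2)))
    exact congrArg (·.left) this⟩
  haveI := hf₁
  obtain ⟨W, hW, hvW, -, fπ, fsπ⟩ :=
    Groth.Agent.EtaleSplit.exists_finite_nbhd π.left t.left s.left hts' hmono T₁ v hvT₁ hmin hgen
  refine ⟨W, hW, hvW, fun T' o e ho F' m φ' sqF => ?_⟩
  haveI : IsOpenImmersion o.left := by rw [ho]; infer_instance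
  haveI fπ' : IsFinite (pullback.snd π.left o.left) := by
    have sq : IsPullback (pullback.fst π.left W.ι) (pullback.snd π.left W.ι ≫ eqToHom e.symm) π.left o.left :=
      IsPullback.of_iso (IsPullback.of_hasPullback π.left W.ι) (Iso.refl _) (Iso.refl _) (eqToIso e.symm) (Iso.refl _)
        (by simp) (by simp) (by simp) (by simp [ho])
    haveI := fπ
    rw [← sq.isoPullback_inv_snd]
    infer_instance
  haveI fsπ' : IsFinite (pullback.snd (s ≫ π).left o.left) := by
    have sq : IsPullback (pullback.fst (s ≫ π).left W.ι) (pullback.snd (s ≫ π).left W.ι ≫ eqToHom e.symm)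
        (s ≫ π).left o.left :=
      IsPullback.of_iso (IsPullback.of_hasPullback (s ≫ π).left W.ι) (Iso.refl _) (Iso.refl _) (eqToIso e.symm)
        (Iso.refl _) (by simp) (by simp) (by simp) (by simp [ho])
    haveI : IsFinite (pullback.snd (s ≫ π).left W.ι) := fsπ
    rw [← sq.isoPullback_inv_snd]
    infer_instance
  obtain ⟨A₃, mA, π₃, sqA₀⟩ : ∃ (A₃ : Over S) (mA : A₃ ⟶ A) (π₃ : A₃ ⟶ T'), IsPullback mA π₃ π o :=
    ⟨_, _, _, IsPullback.of_hasPullback _ _⟩
  haveI : IsFinite π₃.left := by
    rw [← (isPullback_left sqA₀).isoPullback_hom_snd]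
    infer_instance
  let α₃ : (yon S).obj A₃ ⟶ F'.obj := sqF.lift ((yon S).map mA ≫ α) ((yon S).map π₃) (by
    rw [Category.assoc, ← hπ, ← Functor.map_comp, ← Functor.map_comp, sqA₀.w])
  have sqA : IsPullback ((yon S).map mA) α₃ α m := by
    refine IsPullback.of_bot (v₂₁ := φ') (v₂₂ := φ) (h₃₁ := (yon S).map o) ?_ (sqF.lift_fst _ _ _).symm sqF
    rw [sqF.lift_snd, ← hπ]
    exact isPullback_yon_map sqA₀
  have hα₃ : RepWith @Etale α₃ := repWith_of_isPullback sqA hα
  obtain ⟨R₃, mR, ρ₃, sqR₀⟩ : ∃ (R₃ : Over S) (mR : R₃ ⟶ R) (ρ₃ : R₃ ⟶ T'), IsPullback mR ρ₃ (s ≫ π) o :=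
    ⟨_, _, _, IsPullback.of_hasPullback _ _⟩
  let s₃ : R₃ ⟶ A₃ := sqA₀.lift (mR ≫ s) ρ₃ (by rw [Category.assoc]; exact sqR₀.w)
  have hs₃ : IsPullback mR s₃ s mA := by
    refine IsPullback.of_bot (v₂₁ := π₃) (v₂₂ := π) (h₃₁ := o) ?_ (sqA₀.lift_fst _ _ _).symm sqA₀
    rw [sqA₀.lift_snd]
    exact sqR₀
  have h1 : IsPullback ((yon S).map (mR ≫ t)) ((yon S).map s₃) α ((yon S).map mA ≫ α) := by
    rw [Functor.map_comp]
    exact (isPullback_yon_map hs₃).paste_horiz hR
  let t₃' : (yon S).obj R₃ ⟶ (yon S).obj A₃ := sqA.lift ((yon S).map (mR ≫ t))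
    ((yon S).map s₃ ≫ α₃) (by rw [Category.assoc, ← sqA.w]; exact h1.w)
  obtain ⟨t₃, ht₃⟩ := (yon S).map_surjective t₃'
  have hR₃ : IsPullback ((yon S).map t₃) ((yon S).map s₃) α₃ α₃ := by
    refine IsPullback.of_right (h₁₂ := (yon S).map mA) (h₂₂ := m) ?_ (by rw [ht₃, sqA.lift_snd]) sqA
    rw [ht₃, sqA.lift_fst, ← sqA.w]
    exact h1
  have hρ : IsFinite (s₃ ≫ π₃).left := by
    rw [show s₃ ≫ π₃ = ρ₃ from sqA₀.lift_snd _ _ _, ← (isPullback_left sqR₀).isoPullback_hom_snd]
    infer_instance
  let Ω : Set (Points F'.obj) := Set.range (Points.ofPt α₃)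
  have hΩ : IsOpen Ω := (isOpenMap_ofPt_of_etale hα₃).isOpen_range
  obtain ⟨αG, hαG⟩ := exists_lift_subι F'.obj Ω α₃ fun z => ⟨z, rfl⟩
  let G : Space S := ⟨subSp F'.obj Ω, isAlgSpace_subSp F'.2 hΩ⟩
  let i : G.obj ⟶ F'.obj := subι F'.obj Ω
  have hiG : RepWith @IsOpenImmersion i := repWith_subι _ _ hΩ
  haveI : Mono i := mono_of_repWith (fun _ (hg : IsOpenImmersion _) => inferInstance) hiG
  have hαG' : αG ≫ i = α₃ := hαG
  have hαGe : RepWith @Etale αG := by
    refine repWith_of_isPullback (f := α₃) (g := i) (g' := 𝟙 _) (IsPullback.of_isLimit' ⟨?_⟩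
      (PullbackCone.IsLimit.mk _ (fun c => c.fst) (fun c => Category.comp_id _)
        (fun c => (cancel_mono i).1 ?_) (fun c k e1 _ => by rw [← e1, Category.comp_id]))) hα₃
    · rw [Category.id_comp, hαG']
    · rw [Category.assoc]; exact (congrArg (c.fst ≫ ·) hαG').trans c.condition
  have hαGs : RepWith @Surjective αG := (repWith_surjective_iff hαGe.1).2 fun z => by
    obtain ⟨w, hw⟩ := (range_map_subι F'.obj Ω).le ⟨z, rfl⟩
    refine ⟨Points.ofScheme A₃ w, injective_points_map_of_mono i ?_⟩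
    rw [← Points.ofPt_eq_map_ofScheme, Points.map_ofPt, hαG', hw]
  have hRG : IsPullback ((yon S).map t₃) ((yon S).map s₃) αG αG :=
    IsPullback.of_isLimit' ⟨(cancel_mono i).1 (by rw [Category.assoc, Category.assoc, hαG']; exact hR₃.w)⟩
      (PullbackCone.IsLimit.mk _
        (fun c => hR₃.lift c.fst c.snd (by rw [← hαG', ← Category.assoc, ← Category.assoc, c.condition]))
        (fun c => hR₃.lift_fst _ _ _) (fun c => hR₃.lift_snd _ _ _)
        (fun c k e1 e2 => hR₃.hom_ext (by rw [hR₃.lift_fst, e1]) (by rw [hR₃.lift_snd, e2])))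
  have hGfin : IsFiniteMor (i ≫ φ') := isFiniteMor_of_finite_chart G (i ≫ φ') αG hαGe hαGs
    (π := π₃) (by rw [reassoc_of% hαG']; exact sqF.lift_snd _ _ _) hRG hρ
  have hmi : RepWith @IsOpenImmersion m :=
    repWith_of_isPullback sqF.flip (repWith_yon_map (P := @IsOpenImmersion) ‹IsOpenImmersion o.left›)
  have hsurj : ∀ z : Points F'.obj, z ∈ Set.range (Points.map i) := by
    rcases halt' with hs | hsep
    · exact fun z => (range_map_subι F'.obj Ω).ge (surjective_ofPt (repWith_of_isPullback sqA hs) z)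
    · have hsep' : IsSeparatedMor φ' := by
        obtain ⟨d, h1, -⟩ := isPullback_diagonal_baseChange sqF
        exact repWith_of_isPullback h1 hsep
      have hifin : IsFiniteMor i := by
        let ST : Space S := ⟨(yon S).obj T', IsAlgSpace.yon_obj T'⟩
        exact (Groth.Agent.S10272.result (ObjectProperty.homMk i : G ⟶ F') (ObjectProperty.homMk φ' : F' ⟶ ST)
          hsep').1 hGfin
      have hclosed : IsClosed (Set.range (Points.map i)) := by
        have h := (isFiniteMor_iff G.2 F'.2).1 hifin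
        exact (isClosedMap_map_of_repWith
          (fun g (hg : IsFinite g) => g.isClosedMap) h).isClosed_range
      intro z
      obtain ⟨V₁, a₁, -, -, ha₁, -, -, u, rfl⟩ := exists_chart_through F' z
      obtain ⟨η, hη, hη0⟩ := exists_codimZero_generization u
      have hw : Points.ofPt (a₁ ≫ m) η ∈ Set.range (Points.ofPt α) := hαcov _ ((hiff _).1
        ⟨V₁, a₁ ≫ m, η, repWith_comp ha₁ (repWith_mono (fun _ _ g (hg : IsOpenImmersion g) => (inferInstance : Etale g)) hmi),
          rfl, hη0⟩)
      obtain ⟨a, ha⟩ := hw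
      obtain ⟨q, -, hq⟩ := points_exists_of_isPullback sqA (Points.ofScheme A a) (Points.ofPt a₁ η) (by
        rw [← Points.ofPt_eq_map_ofScheme, ha, Points.map_ofPt])
      obtain ⟨q, rfl⟩ := (Points.schemeHomeo A₃).surjective q
      have hmem : Points.ofPt a₁ η ∈ Set.range (Points.map i) := by
        refine (range_map_subι F'.obj Ω).ge ⟨q, ?_⟩
        rw [← hq]
        exact Points.ofPt_eq_map_ofScheme α₃ q
      exact ((hη.map (Points.continuous_ofPt a₁)).mem_closed hclosed hmem)
  haveI : IsIso i := isIso_of_mono_etale_surjective G.2 F'.2 i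
    (locP_of_repWith (repWith_mono (fun _ _ g (hg : IsOpenImmersion g) => (inferInstance : Etale g)) hiG)) hsurj
  refine (isFiniteMor_iff F'.2 (IsAlgSpace.yon_obj T')).2 ?_
  rw [← IsIso.inv_hom_id_assoc i φ']
  exact MorphismProperty.RespectsIso.precomp _ _ _ ((isFiniteMor_iff G.2 (IsAlgSpace.yon_obj T')).1 hGfin)

end Groth.Agent.ASp
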