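import Groth.Agent.ASp.Univ
import Groth.Agent.ASp.Sub
import Groth.Agent.ASp.OpenImm
import Groth.Prelude.Def_AlgSpCov

/-!
The largest open subspace of the target over which a morphism has a given property, for a property
which is local on the base.
-/

set_option backward.isDefEq.respectTransparency.types false

universe u

open CategoryTheory CategoryTheory.Limits AlgebraicGeometry Opposite

namespace Groth.Agent.ASp

open _root_.AlgSp

variable {S : Scheme.{u}}

theorem locP_mono {P Q : MorphismProperty Scheme.{u}} (h : P ≤ Q) {F G : Sp S} {f : F ⟶ G}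
    (hf : LocP P f) : LocP Q f :=
  fun U V a b k ha hb e => h _ (hf a b k ha hb e)

/-- A flat, locally finitely presented map of algebraic spaces is open on points. -/
theorem isOpenMap_map_of_fppf {Y Y' : Sp S} (hY : IsAlgSpace Y) (hY' : IsAlgSpace Y') (g : Y' ⟶ Y)
    (hfl : LocP @Flat g) (hfp : LocP @LocallyOfFinitePresentation g) : IsOpenMap (Points.map g) := by
  obtain ⟨V, b, hbe, hbs⟩ := hY.atlas
  obtain ⟨P, π₁, π₂, hP⟩ : ∃ (P : Sp S) (π₁ : P ⟶ Y') (π₂ : P ⟶ (yon S).obj V),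
      IsPullback π₁ π₂ g b := ⟨_, _, _, IsPullback.of_hasPullback _ _⟩
  obtain ⟨W, w, hwe, hws⟩ := (isAlgSpace_of_isPullback hY.diag hY' (IsAlgSpace.yon_obj V) hP).atlas
  obtain ⟨h, hh⟩ := (yon S).map_surjective (w ≫ π₂)
  have he : RepWith @Etale (w ≫ π₁) := repWith_comp hwe (repWith_of_isPullback hP.flip hbe)
  have eq : (w ≫ π₁) ≫ g = (yon S).map h ≫ b := by rw [hh, Category.assoc, Category.assoc, hP.w]
  have := hfl _ b h he hbe eq
  have := hfp _ b h he hbe eq
  have hsur : Function.Surjective (Points.ofPt (w ≫ π₁)) := surjective_ofPt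
    (repWith_comp hws (repWith_of_isPullback hP.flip hbs))
  intro O hO
  have e : Points.map g '' O = Points.ofPt b '' (h.left '' (Points.ofPt (w ≫ π₁) ⁻¹' O)) := by
    rw [Set.image_image]
    ext y
    constructor
    · rintro ⟨x, hx, rfl⟩
      obtain ⟨v, rfl⟩ := hsur x
      exact ⟨v, hx, by rw [Points.map_ofPt, eq, ofPt_yon_map_comp]⟩
    · rintro ⟨v, hv, rfl⟩
      exact ⟨_, hv, by rw [Points.map_ofPt, eq, ofPt_yon_map_comp]⟩
  rw [e]
  exact isOpenMap_ofPt_of_etale hbe _ (h.left.isOpenMap _ (Points.isOpen_iff.1 hO _ _))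

/-- A class of maps of algebraic spaces whose jointly surjective families are the coverings of `τ`. -/
structure CovClass (τ : CovNotion S) (Q : MorphismProperty (Sp S)) : Prop where
  cov : ∀ ⦃ι : Type u⦄ ⦃Y : Sp S⦄ (Yi : ι → Sp S) (g : ∀ i, Yi i ⟶ Y), (∀ i, Q (g i)) →
    (∀ y : Points Y, ∃ i, y ∈ Set.range (Points.map (g i))) → τ Yi g
  open_imm : ∀ ⦃A B : Sp S⦄, IsAlgSpace B → ∀ j : A ⟶ B, RepWith @IsOpenImmersion j → Q j
  base : ∀ ⦃A B B' A' : Sp S⦄, IsAlgSpace A → IsAlgSpace B → IsAlgSpace B' → ∀ {g : A ⟶ B}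
    {b : B' ⟶ B} {a : A' ⟶ A} {g' : A' ⟶ B'}, IsPullback g' a b g → Q g → Q g'
  comp : ∀ ⦃A B C : Sp S⦄, IsAlgSpace B → ∀ (f : A ⟶ B) (g : B ⟶ C), Q f → Q g → Q (f ≫ g)
  isOpenMap : ∀ ⦃A B : Sp S⦄, IsAlgSpace B → IsAlgSpace A → ∀ g : A ⟶ B, Q g → IsOpenMap (Points.map g)

variable {τ : CovNotion S} {Q : MorphismProperty (Sp S)} {P : MorphismProperty (Sp S)}

/-- A property local on the base passes to the base change along a member of the class. -/
theorem prop_baseChange (hC : CovClass τ Q) (hP : IsLocalOnBase τ P) {X Y X' Y' : Sp S} {f : X ⟶ Y}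
    {g : Y' ⟶ Y} {f' : X' ⟶ Y'} {g' : X' ⟶ X} (hX : IsAlgSpace X) (hY : IsAlgSpace Y)
    (hY' : IsAlgSpace Y') (hg : Q g) (sq : IsPullback g' f' f g) (h : P f) : P f' := by
  let Yi : Option PUnit.{u+1} → Sp S := fun o => o.elim Y fun _ => Y'
  let gi : ∀ o, Yi o ⟶ Y := fun o => match o with
    | none => 𝟙 Y
    | some _ => g
  let Xi : Option PUnit.{u+1} → Sp S := fun o => o.elim X fun _ => X'
  let pi : ∀ o, Xi o ⟶ Yi o := fun o => match o with
    | none => f
    | some _ => f'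
  let qi : ∀ o, Xi o ⟶ X := fun o => match o with
    | none => 𝟙 X
    | some _ => g'
  have hX' : IsAlgSpace X' := isAlgSpace_of_isPullback hY.diag hX hY' sq
  exact (hP Yi gi hY (fun o => by cases o <;> assumption)
    (hC.cov _ _ (fun o => by
      cases o
      · exact hC.open_imm hY (𝟙 Y) (repWith_of_isIso _)
      · exact hg)
      (fun y => ⟨none, y, show Points.map (𝟙 Y) y = y from Points.map_id y⟩)) f hX Xi pi qi (fun o => by cases o <;> assumption)
    (fun o => by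
      cases o
      · change IsPullback (𝟙 X) f f (𝟙 Y)
        exact IsPullback.of_horiz_isIso ⟨by simp⟩
      · exact sq)).1 h (some PUnit.unit)

/-- The restriction of `f` to the open set `V` of the target has `P`. -/
def GoodOpen (P : MorphismProperty (Sp S)) {X Y : Sp S} (f : X ⟶ Y) (V : Set (Points Y)) : Prop :=
  P (pullback.snd f (subι Y V))

/-- A jointly surjective family with good base changes makes the open set good. -/
theorem goodOpen_of_cover (hC : CovClass τ Q) (hP : IsLocalOnBase τ P) {X Y : Sp S} (hX : IsAlgSpace X)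
    (hY : IsAlgSpace Y) (f : X ⟶ Y) {V : Set (Points Y)} (hV : IsOpen V) {ι : Type u} (Yi Xi : ι → Sp S)
    (g : ∀ i, Yi i ⟶ Y) (g' : ∀ i, Xi i ⟶ X) (f' : ∀ i, Xi i ⟶ Yi i) (hYi : ∀ i, IsAlgSpace (Yi i))
    (hg : ∀ i, Q (g i)) (sq : ∀ i, IsPullback (g' i) (f' i) f (g i))
    (hsub : ∀ i, Set.range (Points.map (g i)) ⊆ V)
    (hcov : V ⊆ ⋃ i, Set.range (Points.map (g i))) (h : ∀ i, P (f' i)) : GoodOpen P f V := by
  have hW := isAlgSpace_subSp hY hV
  choose k hk using fun i => exists_fac_subι (g i) (hsub i)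
  have hPW : IsAlgSpace (pullback f (subι Y V)) := isAlgSpace_pullback hY.diag hX hW _ _
  have hsq : IsPullback (pullback.fst f (subι Y V)) (pullback.snd f (subι Y V)) f (subι Y V) :=
    IsPullback.of_hasPullback _ _
  obtain ⟨m, hm1, hm2⟩ : ∃ m : ∀ i, Xi i ⟶ pullback f (subι Y V),
      (∀ i, m i ≫ pullback.fst f (subι Y V) = g' i) ∧ ∀ i, m i ≫ pullback.snd f (subι Y V) = f' i ≫ k i :=
    ⟨fun i => hsq.lift (g' i) (f' i ≫ k i) (by rw [Category.assoc, hk]; exact (sq i).w),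
      fun i => hsq.lift_fst _ _ _, fun i => hsq.lift_snd _ _ _⟩
  refine (hP Yi k hW hYi (hC.cov _ _ (fun i => ?_) fun y => ?_) _ hPW Xi f' m
    (fun i => isAlgSpace_of_isPullback hY.diag hX (hYi i) (sq i)) fun i => IsPullback.of_right ?_ (hm2 i) hsq).2 h
  · refine hC.base (a := 𝟙 _) (g := g i) (b := subι Y V) (hYi i) hY hW ?_ (hg i)
    refine IsPullback.of_isLimit' ⟨by rw [hk, Category.id_comp]⟩ (PullbackCone.IsLimit.mk _
      (fun s => s.snd) (fun s => (cancel_mono (subι Y V)).1 (by rw [Category.assoc, hk, s.condition]))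
      (fun s => Category.comp_id _) fun s l _ h2 => by simpa using h2)
  · obtain ⟨i, x, hx⟩ := Set.mem_iUnion.1 (hcov (show Points.map (subι Y V) y ∈ V from
      (range_map_subι Y V).le ⟨y, rfl⟩))
    refine ⟨i, x, injective_map_of_repWith (P := @IsOpenImmersion)
      (fun g hg => ?_) (repWith_subι Y V hV) ?_⟩
    · haveI : IsOpenImmersion g := hg
      exact g.isOpenEmbedding.injective
    · rw [← Points.map_comp, hk, hx]
  · rw [hm1, hk]; exact sq i

/-- The restriction of a good open set to any open immersion with that image. -/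
theorem prop_of_goodOpen (hC : CovClass τ Q) (hP : IsLocalOnBase τ P) {X Y W₁ X₁ : Sp S} (hX : IsAlgSpace X)
    (hY : IsAlgSpace Y) (hW₁ : IsAlgSpace W₁) (f : X ⟶ Y) {V : Set (Points Y)} (hV : IsOpen V)
    (h : GoodOpen P f V) {j : W₁ ⟶ Y} (hj : Q j) (hr : Set.range (Points.map j) ⊆ V)
    {j' : X₁ ⟶ X} {f₁ : X₁ ⟶ W₁} (sq : IsPullback j' f₁ f j) : P f₁ := by
  have hW := isAlgSpace_subSp hY hV
  obtain ⟨k, hk⟩ := exists_fac_subι j hr
  have hsq : IsPullback (pullback.fst f (subι Y V)) (pullback.snd f (subι Y V)) f (subι Y V) :=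
    IsPullback.of_hasPullback _ _
  have hkQ : Q k := hC.base (a := 𝟙 _) (g := j) (b := subι Y V) hW₁ hY hW
    (IsPullback.of_isLimit' ⟨by rw [hk, Category.id_comp]⟩ (PullbackCone.IsLimit.mk _
      (fun s => s.snd) (fun s => (cancel_mono (subι Y V)).1 (by rw [Category.assoc, hk, s.condition]))
      (fun s => Category.comp_id _) fun s l _ h2 => by simpa using h2)) hj
  obtain ⟨m, hm1, hm2⟩ : ∃ m : X₁ ⟶ pullback f (subι Y V),
      m ≫ pullback.fst f (subι Y V) = j' ∧ m ≫ pullback.snd f (subι Y V) = f₁ ≫ k :=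
    ⟨hsq.lift j' (f₁ ≫ k) (by rw [Category.assoc, hk]; exact sq.w), hsq.lift_fst _ _ _, hsq.lift_snd _ _ _⟩
  exact prop_baseChange hC hP (isAlgSpace_pullback hY.diag hX hW _ _) hW hW₁ hkQ
    (IsPullback.of_right (by rw [hm1, hk]; exact sq) hm2 hsq) h

/-- "`f` has `P` over the open set `V`", as quantified in the statements. -/
def OverOpen (P : MorphismProperty (Sp S)) {X Y : Space S} (f : X ⟶ Y)
    (V : TopologicalSpace.Opens (Points Y.obj)) : Prop :=
  ∀ (W₁ X₁ : Space S) (j₁ : W₁ ⟶ Y) (j₁' : X₁ ⟶ X) (f₁ : X₁ ⟶ W₁),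
    RepWith @IsOpenImmersion j₁.hom → Set.range (Points.map j₁.hom) = (V : Set (Points Y.obj)) →
    IsPullback j₁'.hom f₁.hom f.hom j₁.hom → P f₁.hom

theorem overOpen_iff (hC : CovClass τ Q) (hP : IsLocalOnBase τ P) {X Y : Space S} (f : X ⟶ Y)
    (V : TopologicalSpace.Opens (Points Y.obj)) : OverOpen P f V ↔ GoodOpen P f.hom (V : Set _) := by
  refine ⟨fun h => ?_, fun h W₁ X₁ j₁ j₁' f₁ hj hr sq =>
    prop_of_goodOpen hC hP X.property Y.property W₁.property _ V.2 h (hC.open_imm Y.property _ hj) hr.le sq⟩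
  have hW := isAlgSpace_subSp Y.property V.2
  exact h ⟨_, hW⟩ ⟨_, isAlgSpace_pullback Y.property.diag X.property hW f.hom (subι Y.obj V)⟩
    ⟨subι Y.obj V⟩ ⟨pullback.fst _ _⟩ ⟨pullback.snd _ _⟩ (repWith_subι _ _ V.2) (range_map_subι _ _)
    (IsPullback.of_hasPullback _ _)

theorem exists_largest_open (hC : CovClass τ Q) (hP : IsLocalOnBase τ P) {X Y : Space S} (f : X ⟶ Y) :
    ∃ W : TopologicalSpace.Opens (Points Y.obj),
      OverOpen P f W ∧ (∀ V, OverOpen P f V → V ≤ W) ∧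
      (∀ (Y' X' : Space S) (g : Y' ⟶ Y) (g' : X' ⟶ X) (f' : X' ⟶ Y'),
        Q g.hom → IsPullback g'.hom f'.hom f.hom g.hom → P f'.hom →
        Set.range (Points.map g.hom) ⊆ (W : Set (Points Y.obj))) ∧
      (∀ (Y' X' : Space S) (g : Y' ⟶ Y) (g' : X' ⟶ X) (f' : X' ⟶ Y'),
        Q g.hom → IsPullback g'.hom f'.hom f.hom g.hom →
        ∀ W' : TopologicalSpace.Opens (Points Y'.obj), OverOpen P f' W' →
          (∀ V', OverOpen P f' V' → V' ≤ W') →
          (W' : Set (Points Y'.obj)) = Points.map g.hom ⁻¹' (W : Set (Points Y.obj))) := by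
  let I := {V : Set (Points Y.obj) // IsOpen V ∧ GoodOpen P f.hom V}
  let W : TopologicalSpace.Opens (Points Y.obj) := ⟨⋃ i : I, i.1, isOpen_iUnion fun i => i.2.1⟩
  have hW : GoodOpen P f.hom (W : Set _) := by
    -- an indexing in the universe `u`: one member through each point of the chart
    obtain ⟨U, p, -, hps⟩ := Y.property.atlas
    have hsel : ∀ u : {u : ↥U.left // Points.ofPt p u ∈ (W : Set _)}, ∃ i : I, Points.ofPt p u.1 ∈ i.1 :=
      fun u => Set.mem_iUnion.1 u.2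
    choose i hi using hsel
    refine goodOpen_of_cover hC hP X.property Y.property f.hom W.2
      (fun u => subSp Y.obj (i u).1) (fun u => pullback f.hom (subι Y.obj (i u).1)) (fun u => subι Y.obj (i u).1)
      (fun u => pullback.fst _ _) (fun u => pullback.snd _ _) (fun u => isAlgSpace_subSp Y.property (i u).2.1)
      (fun u => hC.open_imm Y.property _ (repWith_subι _ _ (i u).2.1)) (fun u => IsPullback.of_hasPullback _ _)
      (fun u => by rw [range_map_subι]; exact Set.subset_iUnion (fun i : I => i.1) (i u))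
      (fun y hy => ?_) (fun u => (i u).2.2)
    obtain ⟨v, rfl⟩ := surjective_ofPt hps y
    exact Set.mem_iUnion.2 ⟨⟨v, hy⟩, by rw [range_map_subι]; exact hi ⟨v, hy⟩⟩
  have hmax : ∀ V : TopologicalSpace.Opens (Points Y.obj), OverOpen P f V → V ≤ W := fun V h x hx =>
    Set.mem_iUnion.2 ⟨⟨V, V.2, (overOpen_iff hC hP f V).1 h⟩, hx⟩
  have h3 : ∀ (Y' X' : Space S) (g : Y' ⟶ Y) (g' : X' ⟶ X) (f' : X' ⟶ Y'),
      Q g.hom → IsPullback g'.hom f'.hom f.hom g.hom → P f'.hom →
      Set.range (Points.map g.hom) ⊆ (W : Set (Points Y.obj)) := by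
    intro Y' X' g g' f' hg sq h x hx
    have hV := (hC.isOpenMap Y.property Y'.property g.hom hg).isOpen_range
    refine Set.mem_iUnion.2 ⟨⟨_, hV, goodOpen_of_cover hC hP X.property Y.property f.hom hV
      (fun _ : PUnit.{u+1} => Y'.obj) (fun _ => X'.obj) (fun _ => g.hom) (fun _ => g'.hom) (fun _ => f'.hom)
      (fun _ => Y'.property) (fun _ => hg) (fun _ => sq) (fun _ => subset_rfl)
      (fun y hy => Set.mem_iUnion.2 ⟨PUnit.unit, hy⟩) fun _ => h⟩, hx⟩
  refine ⟨W, (overOpen_iff hC hP f W).2 hW, hmax, h3, fun Y' X' g g' f' hg sq W' hW' hm => ?_⟩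
  apply le_antisymm
  · intro y hy
    have hA := isAlgSpace_subSp Y'.property W'.2
    obtain ⟨x, hx⟩ : y ∈ Set.range (Points.map (subι Y'.obj (W' : Set _))) := by rwa [range_map_subι]
    rw [Set.mem_preimage, ← hx, ← Points.map_comp]
    refine h3 ⟨_, hA⟩ ⟨_, isAlgSpace_pullback Y'.property.diag X'.property hA f'.hom (subι Y'.obj (W' : Set _))⟩
      ⟨subι Y'.obj _ ≫ g.hom⟩ ⟨pullback.fst _ _ ≫ g'.hom⟩ ⟨pullback.snd _ _⟩
      (hC.comp Y'.property _ _ (hC.open_imm Y'.property _ (repWith_subι _ _ W'.2)) hg)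
      ((IsPullback.of_hasPullback f'.hom (subι Y'.obj (W' : Set _))).paste_horiz sq) ?_ ⟨x, rfl⟩
    exact (overOpen_iff hC hP f' W').1 hW'
  · let V' : TopologicalSpace.Opens (Points Y'.obj) :=
      ⟨Points.map g.hom ⁻¹' (W : Set (Points Y.obj)), W.2.preimage (Points.continuous_map _)⟩
    refine hm V' ((overOpen_iff hC hP f' V').2 ?_)
    have hA := isAlgSpace_subSp Y'.property V'.2
    refine prop_of_goodOpen hC hP X.property Y.property hA f.hom W.2 hW
      (hC.comp Y'.property _ _ (hC.open_imm Y'.property _ (repWith_subι _ _ V'.2)) hg) ?_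
      (((IsPullback.of_hasPullback f'.hom (subι Y'.obj V')).paste_horiz sq))
    rintro _ ⟨x, rfl⟩
    rw [Points.map_comp]
    exact (range_map_subι Y'.obj (V' : Set _)).le ⟨x, rfl⟩

end Groth.Agent.ASp
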