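import Groth.Agent.ASp.LqfLocus
import Groth.Agent.ASp.ChartDim
import Groth.Agent.ASp.DecentDim
import Groth.Agent.ASp.GenFinite
/-!
Quasi-finiteness over a point of codimension zero.
-/

set_option autoImplicit false
set_option backward.isDefEq.respectTransparency false
set_option backward.isDefEq.respectTransparency.types false
set_option linter.style.haveILetI false

universe u

open CategoryTheory CategoryTheory.Limits AlgebraicGeometry Opposite

namespace Groth.Agent.ASp

open _root_.AlgSp

variable {S : Scheme.{u}}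

/-- Quasi-finiteness at a point forbids other points of the same fibre above it. -/
theorem eq_of_specializes_of_quasiFiniteAt {U V : Scheme.{u}} (k : U ⟶ V) [LocallyOfFiniteType k] {η u : ↥U}
    (hη : η ⤳ u) (e : k η = k u) (hq : k.QuasiFiniteAt u ∨ k.QuasiFiniteAt η) : η = u := by
  rcases hq with hq | hq
  · have hs : (⟨η, e⟩ : ↥(k ⁻¹' {k u})) ⤳ ⟨u, rfl⟩ := (subtype_specializes_iff _ _).2 hη
    have key := (hs.map (k.fiberHomeo (k u)).symm.continuous).mem_open
      (Scheme.Hom.quasiFiniteAt_iff_isOpen_singleton_asFiber.1 hq) rfl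
    exact congrArg Subtype.val ((k.fiberHomeo (k u)).symm.injective key)
  · have h' : IsClosed ({(⟨η, rfl⟩ : ↥(k ⁻¹' {k η}))} : Set ↥(k ⁻¹' {k η})) := by
      have := (k.fiberHomeo (k η)).isClosedMap _ hq.isClopen_singleton_asFiber.1
      rwa [Set.image_singleton, show k.fiberHomeo (k η) (k.asFiber η) = ⟨η, rfl⟩ from
        Homeomorph.apply_symm_apply _ _] at this
    have hs := ((subtype_specializes_iff (⟨η, rfl⟩ : ↥(k ⁻¹' {k η})) ⟨u, e.symm⟩).2 hη).mem_closed h'
      (Set.mem_singleton _)
    exact (congrArg Subtype.val (Set.mem_singleton_iff.1 hs)).symm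

/-- If all points over a point are of codimension zero then the morphism is quasi-finite at them. -/
theorem quasiFiniteAt_of_fibre_minimal {U V : Scheme.{u}} (k : U ⟶ V) [LocallyOfFiniteType k] (u : ↥U)
    (h : ∀ w, k w = k u → ∀ z, z ⤳ w → z = w) : k.QuasiFiniteAt u := by
  haveI : LocallyOfFiniteType (k.fiberToSpecResidueField (k u)) :=
    MorphismProperty.pullback_snd _ _ ‹LocallyOfFiniteType k›
  haveI : IsLocallyNoetherian (k.fiber (k u)) :=
    LocallyOfFiniteType.isLocallyNoetherian (k.fiberToSpecResidueField (k u))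
  haveI : T1Space ↥(k.fiber (k u)) := t1Space_iff_specializes_imp_eq.2 fun x y hxy =>
    (k.fiberι (k u)).isEmbedding.injective (h _ (by
      have : k.fiberι (k u) y ∈ Set.range (k.fiberι (k u)) := ⟨y, rfl⟩
      rwa [Scheme.Hom.range_fiberι] at this) _ (hxy.map (k.fiberι (k u)).continuous))
  haveI := discreteTopology_of_t1 (k.fiber (k u))
  exact Scheme.Hom.quasiFiniteAt_iff_isOpen_singleton_asFiber.2 (isOpen_discrete _)

theorem fibre_codimZero_iff {X Y : Space S} (f : X ⟶ Y) (hf : LocP @LocallyOfFiniteType f.hom) (y : Points Y.obj)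
    (hy : HasAt (fun U u => ringKrullDim ↥(U.presheaf.stalk u) = 0) Y.obj y) :
    ((∀ x : Points X.obj, Points.map f.hom x = y → HasAt (fun U u => ringKrullDim ↥(U.presheaf.stalk u) = 0) X.obj x) ↔
        (∀ x : Points X.obj, Points.map f.hom x = y → IsQfNbhd f.hom x)) ∧
      ((∀ x : Points X.obj, Points.map f.hom x = y → HasAt (fun U u => ringKrullDim ↥(U.presheaf.stalk u) = 0) X.obj x →
          IsQfNbhd f.hom x) →
        ∀ x : Points X.obj, Points.map f.hom x = y → HasAt (fun U u => ringKrullDim ↥(U.presheaf.stalk u) = 0) X.obj x) := by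
  obtain ⟨U, V, a, b, k, ha, has, hb, -, e⟩ := Groth.Agent.Inf.exists_chart (f := f.hom) X.property Y.property
  haveI : LocallyOfFiniteType k.left := hf a b k ha hb e
  have hmap : ∀ w, Points.map f.hom (Points.ofPt a w) = Points.ofPt b (k.left w) := fun w => by
    rw [Points.map_ofPt, e, ofPt_yon_map_comp]
  have hvmin : ∀ w, Points.map f.hom (Points.ofPt a w) = y → ∀ η, η ⤳ w → k.left η = k.left w := fun w hw η hη =>
    eq_of_ringKrullDim_stalk_eq_zero
      ((hasAt_ringKrullDim_iff Y.property _ 0).1 hy V b _ hb ((hmap w).symm.trans hw)) (hη.map k.left.continuous)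
  have back : (∀ x : Points X.obj, Points.map f.hom x = y →
      HasAt (fun U u => ringKrullDim ↥(U.presheaf.stalk u) = 0) X.obj x → IsQfNbhd f.hom x) →
      ∀ x : Points X.obj, Points.map f.hom x = y →
        HasAt (fun U u => ringKrullDim ↥(U.presheaf.stalk u) = 0) X.obj x := fun h x hx => by
    obtain ⟨u, rfl⟩ := surjective_ofPt has x
    obtain ⟨η, hη, hη0⟩ := exists_codimZero_generization (U := U.left) u
    have hk := hvmin u hx η hη
    have hq := (isQfNbhd_iff_of_chart hf ha hb e η).1 (h _ (by rw [hmap, hk, ← hmap, hx]) ⟨U, a, η, ha, rfl, hη0⟩)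
    exact ⟨U, a, η, ha, by rw [eq_of_specializes_of_quasiFiniteAt k.left hη hk (.inr hq)], hη0⟩
  refine ⟨⟨fun h x hx => ?_, fun h => back fun x hx _ => h x hx⟩, back⟩
  obtain ⟨u, rfl⟩ := surjective_ofPt has x
  exact (isQfNbhd_iff_of_chart hf ha hb e u).2 (quasiFiniteAt_of_fibre_minimal k.left u fun w hw z hz =>
    eq_of_ringKrullDim_stalk_eq_zero ((hasAt_ringKrullDim_iff X.property _ 0).1 (h _ (by rw [hmap, hw, ← hmap, hx]))
      U a w ha rfl) hz)

end Groth.Agent.ASp
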