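import Groth.Agent.ASp.RedSub
import Groth.Agent.ASp.Sheaf
/-!
A map from a reduced space landing set theoretically in a closed subspace factors through it.
-/

set_option backward.isDefEq.respectTransparency false
set_option backward.isDefEq.respectTransparency.types false

universe u

open CategoryTheory CategoryTheory.Limits AlgebraicGeometry Opposite

namespace Groth.Agent.ASp

open _root_.AlgSp

variable {S : Scheme.{u}}

theorem exists_lift_of_reduced {X Y Z : Sp S} (hX : IsReducedSp X) {i : Z ⟶ Y}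
    (hi : RepWith @IsClosedImmersion i) (f : X ⟶ Y)
    (h : Set.range (Points.map f) ⊆ Set.range (Points.map i)) : ∃ k : X ⟶ Z, k ≫ i = f := by
  obtain ⟨U, p, hp, hps, hU⟩ := hX
  have sqU := hi.1.isPullback (p ≫ f)
  haveI : IsClosedImmersion (hi.1.snd (p ≫ f)).left := hi.2 _ _ _ sqU
  haveI : IsReduced U.left := hU
  obtain ⟨k, hk⟩ := exists_lift_of_range_subset (hi.1.snd (p ≫ f)) (𝟙 U) (by
    rintro t -
    obtain ⟨z, hz⟩ := h ⟨Points.ofPt p t, rfl⟩
    have ht : t ∈ Points.ofPt (p ≫ f) ⁻¹' (Points.map i '' Set.univ) :=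
      ⟨z, trivial, by rw [hz, Points.map_ofPt]⟩
    rw [preimage_ofPt_image sqU] at ht
    obtain ⟨v, -, hv⟩ := ht
    exact ⟨v, hv⟩)
  obtain ⟨l, hl⟩ : ∃ l : (yon S).obj U ⟶ Z, l ≫ i = p ≫ f :=
    ⟨(yon S).map k ≫ hi.1.fst (p ≫ f), by
      rw [Category.assoc, sqU.w, ← Functor.map_comp_assoc, hk, CategoryTheory.Functor.map_id, Category.id_comp]⟩
  obtain ⟨P, a, b, sq⟩ : ∃ (P : Sp S) (a : P ⟶ Z) (b : P ⟶ X), IsPullback a b i f :=
    ⟨_, _, _, IsPullback.of_hasPullback _ _⟩
  haveI : Mono i := mono_of_repWith (P := @IsClosedImmersion)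
    (fun g hg => haveI : IsClosedImmersion g := hg; inferInstance) hi
  haveI : Mono b := MorphismProperty.of_isPullback (P := MorphismProperty.monomorphisms (Sp S)) sq ‹_›
  haveI : Presheaf.IsLocallySurjective (J S) p.hom := isLocallySurjective_of_repWith
    (repWith_mono (fun _ _ g (hg : Etale g) => inferInstanceAs (Flat g)) hp)
    (repWith_mono (fun _ _ g (hg : Etale g) => inferInstanceAs (LocallyOfFinitePresentation g)) hp) hps
  haveI : IsIso b := isIso_of_mono_of_locallySurjective b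
    (Presheaf.isLocallySurjective_of_isLocallySurjective_fac (J S)
      (f₁ := (sq.lift l p hl).hom) (f₃ := p.hom)
      (congrArg (fun g : (yon S).obj U ⟶ X => g.hom) (sq.lift_snd l p hl)))
  exact ⟨inv b ≫ a, by rw [Category.assoc, sq.w, IsIso.inv_hom_id_assoc]⟩

end Groth.Agent.ASp
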