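import Groth.Agent.ASp.MonoFlat
import Groth.Agent.ASp.LocP
import Groth.Agent.RatDense.Basic
import Groth.Prelude.Def_AlgSpSub
/-!
Scheme-theoretically dense quasi-compact opens pull back along flat morphisms.
-/

set_option autoImplicit false
set_option backward.isDefEq.respectTransparency false
set_option backward.isDefEq.respectTransparency.types false

universe u

open CategoryTheory CategoryTheory.Limits AlgebraicGeometry Opposite

namespace Groth.Agent.ASp

open _root_.AlgSp

variable {S : Scheme.{u}}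

/-- An open of a scheme over `S`. -/
noncomputable abbrev openOver {V : Over S} (W : V.left.Opens) : Over S := Over.mk (W.ι ≫ V.hom)

/-- Its inclusion. -/
noncomputable abbrev openInc {V : Over S} (W : V.left.Opens) : openOver W ⟶ V := Over.homMk W.ι rfl

theorem exists_preimage_sq {A V : Over S} (v : A ⟶ V) (W : V.left.Opens) :
    ∃ l : openOver (v.left ⁻¹ᵁ W) ⟶ openOver W,
      IsPullback ((yon S).map l) ((yon S).map (openInc (v.left ⁻¹ᵁ W))) ((yon S).map (openInc W)) ((yon S).map v) := by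
  refine ⟨Over.homMk (v.left ∣_ W) ?_, isPullback_yon_map (IsPullback.of_map (Over.forget S)
    (Over.OverMorphism.ext (morphismRestrict_ι v.left W)) (isPullback_morphismRestrict v.left W))⟩
  show (v.left ∣_ W) ≫ W.ι ≫ V.hom = (v.left ⁻¹ᵁ W).ι ≫ A.hom
  rw [morphismRestrict_ι_assoc, Over.w]

/-- Scheme-theoretically dense quasi-compact opens pull back along flat morphisms. -/
theorem isSchDense_pullback_flat {U X Y U' : Sp S} (hX : IsAlgSpace X) {f : X ⟶ Y} (hf : LocP @Flat f)
    {j : U ⟶ Y} (hj : IsSchDense j) (hq : IsQuasiCompactMor j) {fst : U' ⟶ U} {jX : U' ⟶ X}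
    (sq : IsPullback fst jX j f) : IsSchDense jX := by
  obtain ⟨hoi, V, φ, W, fW, hφ, hφs, sqW, hW⟩ := hj
  obtain ⟨A, a₀, ha₀, ha₀s⟩ := hX.atlas
  obtain ⟨T, w, v, hwe, hws, hv, -⟩ := exists_etale_cover hφ hφs (a₀ ≫ f)
  have ha : RepWith @Etale ((yon S).map w ≫ a₀) := repWith_comp (repWith_yon_map hwe) ha₀
  have hva : ((yon S).map w ≫ a₀) ≫ f = (yon S).map v ≫ φ := by rw [Category.assoc]; exact hv.symm
  haveI : Flat v.left := hf _ φ v ha hφ hva
  obtain ⟨l, hl⟩ := exists_preimage_sq v W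
  have big : IsPullback ((yon S).map l ≫ fW) ((yon S).map (openInc (v.left ⁻¹ᵁ W))) j
      (((yon S).map w ≫ a₀) ≫ f) := by
    rw [hva]; exact hl.paste_horiz sqW
  refine ⟨repWith_of_isPullback sq hoi, T, (yon S).map w ≫ a₀, v.left ⁻¹ᵁ W,
    sq.lift ((yon S).map l ≫ fW) ((yon S).map (openInc (v.left ⁻¹ᵁ W)) ≫ (yon S).map w ≫ a₀)
      (by rw [big.w]; simp only [Category.assoc]), ha, repWith_comp (repWith_yon_map hws) ha₀s,
    IsPullback.of_right (by rw [sq.lift_fst]; exact big) (sq.lift_snd _ _ _) sq,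
    RatDense.preimage_of_flat v.left hW fun B hB => ?_⟩
  let o : openOver B ⟶ V := openInc B
  obtain ⟨m, hm⟩ := exists_preimage_sq o W
  haveI : IsAffine (openOver B).left := hB
  haveI := compactSpace_of_isQuasiCompactSp
    (hq (IsAlgSpace.yon_obj _) (isQuasiCompactSp_yon (W := openOver B)) _ _ _ (hm.paste_horiz sqW))
  haveI : CompactSpace ↥(o.left ⁻¹ᵁ W).toScheme := (Points.schemeHomeo (openOver (o.left ⁻¹ᵁ W))).symm.compactSpace
  have e : ((B ⊓ W : V.left.Opens) : Set V.left) = Set.range ((o.left ⁻¹ᵁ W).ι ≫ o.left) := by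
    ext z
    constructor
    · rintro ⟨hB, hW⟩
      exact ⟨⟨⟨z, hB⟩, hW⟩, rfl⟩
    · rintro ⟨⟨⟨y, hyB⟩, hyW⟩, rfl⟩
      exact ⟨hyB, hyW⟩
  rw [e]
  exact isCompact_range (Scheme.Hom.continuous _)

end Groth.Agent.ASp
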