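import Groth.Agent.ASp.SchImageGen
import Groth.Agent.ASp.SchDenseFlat
import Groth.Agent.ASp.RedFactor
import Groth.Agent.ASp.ChartDim
/-!
Schematically dense opens and scheme-theoretic images.
-/

set_option autoImplicit false
set_option backward.isDefEq.respectTransparency false
set_option backward.isDefEq.respectTransparency.types false

universe u

open CategoryTheory CategoryTheory.Limits AlgebraicGeometry Opposite

namespace Groth.Agent.ASp

open _root_.AlgSp

variable {S : Scheme.{u}}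

theorem ker_ι_eq_bot {V : Scheme.{u}} {W : V.Opens} (hW : CInt.IsSchematicallyDense W) : W.ι.ker = ⊥ := by
  refine le_bot_iff.1 fun A a ha => ?_
  have h2 : W.ι.app A.1 a = 0 := W.ι.ideal_ker_le A ha
  rw [Scheme.Opens.ι_app] at h2
  have hle : A.1 ⊓ W ≤ W.ι ''ᵁ (W.ι ⁻¹ᵁ A.1) := by
    rw [Scheme.Hom.image_preimage_eq_opensRange_inf, Scheme.Opens.opensRange_ι, inf_comm]
  rw [Scheme.IdealSheafData.ideal_bot]
  exact RatDense.eq_zero_of_res hW a (RatDense.res_eq_zero_mono _ hle h2)

theorem isSchematicallyDense_of_ker {V : Scheme.{u}} {W : V.Opens} [QuasiCompact W.ι] (h : W.ι.ker = ⊥) :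
    CInt.IsSchematicallyDense W := by
  haveI : IsSchemeTheoreticallyDominant W.ι := ⟨h⟩
  refine RatDense.of_forall_affine fun x O hx => ?_
  obtain ⟨_, ⟨A : V.Opens, hA, rfl⟩, hxA, hAO⟩ := V.isBasis_affineOpens.exists_subset_of_mem_open hx O.2
  refine ⟨A, hxA, hAO, fun s hs => W.ι.app_injective A ?_⟩
  rw [map_zero, Scheme.Opens.ι_app]
  exact RatDense.res_eq_zero_mono _ (by
    rw [Scheme.Hom.image_preimage_eq_opensRange_inf, Scheme.Opens.opensRange_ι, inf_comm]) hs

/-- The range of an open immersion over `S` is a chart of the same map. -/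
theorem exists_openOver_sq {G F : Sp S} {j : G ⟶ F} {V A : Over S} {φ : (yon S).obj V ⟶ F} {z : A ⟶ V}
    [IsOpenImmersion z.left] {fz : (yon S).obj A ⟶ G} (sq : IsPullback fz ((yon S).map z) j φ) :
    (∃ fst : (yon S).obj (openOver z.left.opensRange) ⟶ G,
      IsPullback fst ((yon S).map (openInc z.left.opensRange)) j φ) ∧ z.left.opensRange.ι.ker = z.left.ker ∧
      (QuasiCompact z.left → QuasiCompact z.left.opensRange.ι) := by
  let e₀ : A.left ≅ (z.left.opensRange : Scheme.{u}) := z.left.isoOpensRange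
  have he₀ : e₀.hom ≫ z.left.opensRange.ι = z.left := Scheme.Hom.isoOpensRange_hom_ι _
  let e : A ≅ openOver z.left.opensRange := Over.isoMk e₀ (by
    show e₀.hom ≫ z.left.opensRange.ι ≫ V.hom = _
    rw [reassoc_of% he₀, Over.w])
  have he : e.hom.left ≫ z.left.opensRange.ι = z.left := he₀
  refine ⟨⟨(yon S).map e.inv ≫ fz, IsPullback.of_iso sq ((yon S).mapIso e) (Iso.refl _) (Iso.refl _) (Iso.refl _)
    (by simp) ?_ (by simp) (by simp)⟩, ?_, fun h => ?_⟩
  · simp only [Functor.mapIso_hom, Iso.refl_hom, Category.comp_id, ← (yon S).map_comp]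
    congr 1
    exact Over.OverMorphism.ext he.symm
  · rw [← Scheme.Hom.ker_comp_of_isIso e.hom.left, he]
  · rwa [← MorphismProperty.cancel_left_of_respectsIso @QuasiCompact e.hom.left, he]

/-- Scheme-theoretic density of a quasi-compact open is fullness of its scheme-theoretic closure. -/
theorem isSchDense_iff_isSchImage_id {G F : Sp S} (hF : IsAlgSpace F) {j : G ⟶ F}
    (hj : RepWith @IsOpenImmersion j) (hq : IsQuasiCompactMor j) : IsSchDense j ↔ IsSchImage j (𝟙 F) := by
  have hid : RepWith @IsClosedImmersion (𝟙 F) :=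
    repWith_mono (fun _ _ g (hg : IsIso g) => (inferInstance : IsClosedImmersion g)) (repWith_of_isIso _)
  have hidI : ∀ {V : Over S} (φ : (yon S).obj V ⟶ F), IsSubIdeal (𝟙 F) φ ⊥ := fun {V} φ => by
    haveI : IsIso (subInc (⊥ : V.left.IdealSheafData)).left :=
      inferInstanceAs (IsIso (⊥ : V.left.IdealSheafData).subschemeι)
    haveI : IsIso ((Over.forget S).map (subInc (⊥ : V.left.IdealSheafData))) := ‹IsIso (subInc (⊥ : V.left.IdealSheafData)).left›
    haveI : IsIso (subInc (⊥ : V.left.IdealSheafData)) := isIso_of_reflects_iso _ (Over.forget S)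
    exact ⟨(yon S).map (subInc ⊥) ≫ φ, IsPullback.of_vert_isIso ⟨by rw [Category.comp_id]⟩⟩
  constructor
  · rintro ⟨-, V, φ, W, fst, hφ, hφs, sq, hW⟩
    haveI := epi_of_etale_surjective (repWith_of_isPullback sq.flip hφ) (repWith_of_isPullback sq.flip hφs)
    refine isSchImage_of_isSubIdeal_ker hφ hφs j fst sq.w hid ?_
    rw [show (openInc W : openOver W ⟶ V).left.ker = ⊥ from ker_ι_eq_bot hW]
    exact hidI φ
  · intro hi
    obtain ⟨U, p, hp, hps⟩ := hF.atlas
    obtain ⟨A, fz, z, sq⟩ : ∃ (A : Over S) (fz : (yon S).obj A ⟶ G) (z : A ⟶ U),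
        IsPullback fz ((yon S).map z) j p := ⟨_, _, _, hj.1.isPullback p⟩
    haveI : IsOpenImmersion z.left := hj.2 p _ z sq
    haveI hzq : QuasiCompact z.left := ((repWith_quasiCompact_iff hj.1).2 hq).2 p _ z sq
    obtain ⟨⟨fst, sqW⟩, hk, hWq⟩ := exists_openOver_sq sq
    haveI := hWq hzq
    have hinv : IsInv p z.left.ker := fun R r r' hr hr' e => by
      haveI := hr
      haveI := hr'
      exact comap_ker_eq sq r r' e
    obtain ⟨Z₁, hZ₁, i₁, hi₁, hI₁⟩ := exists_sub_of_isInv hF hp hps hinv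
    haveI := epi_of_etale_surjective (repWith_of_isPullback sq.flip hp) (repWith_of_isPullback sq.flip hps)
    obtain ⟨k, hk₁⟩ := hi.2.2 i₁ hZ₁ hi₁ ((exists_lift_iff_le_ker hi₁ hI₁ j fz sq.w).2 le_rfl)
    have := (exists_hom_iff_le hp hps hi₁ (hidI p) hI₁).1 ⟨k, hk₁⟩
    exact ⟨hj, U, p, z.left.opensRange, fst, hp, hps, sqW,
      isSchematicallyDense_of_ker (hk.trans (le_bot_iff.1 this))⟩

theorem isReduced_of_chart {Z : Sp S} (hZ : IsReducedSp Z) {V : Over S} {b : (yon S).obj V ⟶ Z}
    (hb : RepWith @Etale b) : IsReduced V.left := by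
  obtain ⟨U, a, ha, has, hU⟩ := hZ
  haveI : IsReduced U.left := hU
  haveI : ∀ v : ↥V.left, _root_.IsReduced ↥(V.left.presheaf.stalk v) := fun v => by
    obtain ⟨u, hu⟩ := surjective_ofPt has (Points.ofPt b v)
    obtain ⟨P, t, s, r, ht, hs, -, -, rfl⟩ := exists_common_point ha hb hu
    haveI := ht
    haveI := hs
    haveI : IsReduced P.left := isReduced_of_etale t.left
    exact isReduced_of_injective _ (FlatDescStalk.stalkMap_injective s.left r (Flat.stalkMap s.left r))
  exact isReduced_of_isReduced_stalk _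

/-- A dominant immersion into a reduced scheme is an open immersion. -/
theorem isOpenImmersion_of_dominant_reduced {Z Y : Scheme.{u}} (f : Z ⟶ Y) [IsImmersion f] [IsReduced Y]
    (hd : DenseRange f) : IsOpenImmersion f := by
  haveI : Surjective f.liftCoborder := ⟨fun v => by
    have hc := f.liftCoborder.isClosedEmbedding.isClosed_range
    have : Dense (Set.range f.liftCoborder) := by
      have h := hd.preimage f.coborderRange.ι.isOpenEmbedding.isOpenMap
      refine h.mono ?_
      rintro x ⟨y, hy⟩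
      refine ⟨y, f.coborderRange.ι.isOpenEmbedding.injective ?_⟩
      rw [← Scheme.Hom.comp_apply, Scheme.Hom.liftCoborder_ι]
      exact hy
    exact (hc.closure_eq ▸ this v : v ∈ Set.range f.liftCoborder)⟩
  haveI : IsIso f.liftCoborder := isIso_of_isClosedImmersion_of_surjective _
  rw [← f.liftCoborder_ι]
  infer_instance

/-- The properties of an immersion into its scheme-theoretic image, read on one chart. -/
theorem openImm_schDense_dense_of_chart {Z Zb : Sp S} (hZb : IsAlgSpace Zb) (hZ : IsAlgSpace Z) {h : Z ⟶ Zb}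
    [Mono h] {V A : Over S} {e : (yon S).obj V ⟶ Zb} (he : RepWith @Etale e) (hes : RepWith @Surjective e)
    {z : A ⟶ V} [IsOpenImmersion z.left] {fz : (yon S).obj A ⟶ Z} (sq : IsPullback fz ((yon S).map z) h e)
    (hd : CInt.IsSchematicallyDense z.left.opensRange) :
    RepWith @IsOpenImmersion h ∧ IsSchDense h ∧ Dense (Set.range (Points.map h)) := by
  have h1 : RepWith @IsOpenImmersion h := repWith_isOpenImmersion_of_mono_etale hZ hZb h
    (locP_of_chart (repWith_of_isPullback sq.flip he) (repWith_of_isPullback sq.flip hes) he sq.w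
      (inferInstance : Etale z.left))
  obtain ⟨⟨fst, sqW⟩, -, -⟩ := exists_openOver_sq sq
  refine ⟨h1, ⟨h1, V, e, _, fst, he, hes, sqW, hd⟩, ?_⟩
  have h2 : DenseRange (Points.ofPt e ∘ z.left) := (surjective_ofPt hes).denseRange.comp
    (RatDense.dense_of_isSchematicallyDense hd) (Points.continuous_ofPt e)
  refine h2.mono ?_
  rintro _ ⟨a, rfl⟩
  refine ⟨Points.ofPt fz a, ?_⟩
  rw [Points.map_ofPt, sq.w, ofPt_yon_map_comp]
  rfl

theorem openImm_schDense_dense_of_qc {Z X Zb : Sp S} (hX : IsAlgSpace X) (hZ : IsAlgSpace Z) (hZb : IsAlgSpace Zb)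
    {h : Z ⟶ X} (hh : RepWith @IsImmersion h) (hq : IsQuasiCompactMor h) {c : Zb ⟶ X} (hc : IsSchImage h c)
    {h' : Z ⟶ Zb} (fac : h' ≫ c = h) :
    RepWith @IsOpenImmersion h' ∧ IsSchDense h' ∧ Dense (Set.range (Points.map h')) := by
  obtain ⟨U, p, hp, hps⟩ := hX.atlas
  obtain ⟨A, fz, z, sq⟩ : ∃ (A : Over S) (fz : (yon S).obj A ⟶ Z) (z : A ⟶ U),
      IsPullback fz ((yon S).map z) h p := ⟨_, _, _, hh.1.isPullback p⟩
  haveI : IsImmersion z.left := hh.2 p _ z sq
  haveI : QuasiCompact z.left := ((repWith_quasiCompact_iff hh.1).2 hq).2 p _ z sq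
  have hinv : IsInv p z.left.ker := fun R r r' hr hr' e => by
    haveI := hr
    haveI := hr'
    exact comap_ker_eq sq r r' e
  obtain ⟨Z₁, hZ₁, i₁, hi₁, hI₁⟩ := exists_sub_of_isInv hX hp hps hinv
  haveI := epi_of_etale_surjective (repWith_of_isPullback sq.flip hp) (repWith_of_isPullback sq.flip hps)
  obtain ⟨k, hk⟩ := hc.2.2 i₁ hZ₁ hi₁ ((exists_lift_iff_le_ker hi₁ hI₁ h fz sq.w).2 le_rfl)
  obtain ⟨I, hI⟩ := exists_isSubIdeal hc.1 p
  obtain rfl := le_antisymm ((exists_hom_iff_le hp hps hi₁ hI hI₁).1 ⟨k, hk⟩)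
    ((exists_lift_iff_le_ker hc.1 hI h fz sq.w).1 ⟨h', fac⟩)
  obtain ⟨e, sqc⟩ := hI
  haveI : Mono c := mono_of_repWith (P := @IsClosedImmersion) (fun g (hg : IsClosedImmersion g) => inferInstance) hc.1
  haveI : Mono h := mono_of_repWith (P := @IsImmersion) (fun g (hg : IsImmersion g) => inferInstance) hh
  haveI : Mono h' := mono_of_mono_fac fac
  let t : A ⟶ subOver z.left.ker := Over.homMk z.left.toImage (by
    show z.left.toImage ≫ z.left.imageι ≫ U.hom = A.hom
    rw [Scheme.Hom.toImage_imageι_assoc, Over.w])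
  have ht : t ≫ subInc z.left.ker = z := Over.OverMorphism.ext z.left.toImage_imageι
  haveI : IsOpenImmersion t.left := inferInstanceAs (IsOpenImmersion z.left.toImage)
  have hsq : IsPullback fz ((yon S).map t) h' e := by
    refine IsPullback.of_bot (h₃₁ := p) (v₂₁ := (yon S).map (subInc z.left.ker)) (v₂₂ := c) ?_ ?_ sqc
    · rw [← Functor.map_comp, ht, fac]; exact sq
    · rw [← cancel_mono c, Category.assoc, fac, Category.assoc, sqc.w, ← Functor.map_comp_assoc, ht, sq.w]
  obtain ⟨-, hk', hq'⟩ := exists_openOver_sq hsq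
  haveI := hq' (inferInstanceAs (QuasiCompact z.left.toImage))
  exact openImm_schDense_dense_of_chart hZb hZ (repWith_of_isPullback sqc.flip hp) (repWith_of_isPullback sqc.flip hps)
    hsq (isSchematicallyDense_of_ker (hk'.trans (BlowCompLib.toImage_dominant z.left).ker_eq_bot))

theorem openImm_schDense_dense_of_reduced {Z X Zb : Sp S} (hX : IsAlgSpace X) (hZ : IsAlgSpace Z)
    (hZb : IsAlgSpace Zb) {h : Z ⟶ X} (hh : RepWith @IsImmersion h) {c : Zb ⟶ X}
    (hc : IsRedInduced (closure (Set.range (Points.map h))) c) {h' : Z ⟶ Zb} (fac : h' ≫ c = h) :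
    RepWith @IsOpenImmersion h' ∧ IsSchDense h' ∧ Dense (Set.range (Points.map h')) := by
  obtain ⟨U, p, hp, hps⟩ := hX.atlas
  obtain ⟨A, fz, z, sq⟩ : ∃ (A : Over S) (fz : (yon S).obj A ⟶ Z) (z : A ⟶ U),
      IsPullback fz ((yon S).map z) h p := ⟨_, _, _, hh.1.isPullback p⟩
  obtain ⟨V, e, jI, sqc⟩ : ∃ (V : Over S) (e : (yon S).obj V ⟶ Zb) (jI : V ⟶ U),
      IsPullback e ((yon S).map jI) c p := ⟨_, _, _, hc.1.1.isPullback p⟩
  haveI : IsClosedImmersion jI.left := hc.1.2 p _ jI sqc
  haveI : IsImmersion z.left := hh.2 p _ z sq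
  have hee := repWith_of_isPullback sqc.flip hp
  haveI : IsReduced V.left := isReduced_of_chart hc.2.2 hee
  obtain ⟨t, ht⟩ := (yon S).map_surjective (sqc.lift (fz ≫ h') ((yon S).map z) (by rw [Category.assoc, fac, sq.w]))
  have ht1 : t ≫ jI = z := (yon S).map_injective (by rw [Functor.map_comp, ht, sqc.lift_snd])
  have ht2 : (yon S).map t ≫ e = fz ≫ h' := by rw [ht, sqc.lift_fst]
  haveI : IsImmersion (t.left ≫ jI.left) := by rw [← Over.comp_left, ht1]; infer_instance
  haveI : IsImmersion t.left := IsImmersion.of_comp t.left jI.left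
  have hsq : IsPullback fz ((yon S).map t) h' e := by
    refine IsPullback.of_bot (h₃₁ := p) (v₂₁ := (yon S).map jI) (v₂₂ := c) ?_ ht2.symm sqc
    rw [← Functor.map_comp, ht1, fac]; exact sq
  have hd : DenseRange t.left := by
    intro v
    have hv : Points.ofPt p (jI.left v) ∈ closure (Set.range (Points.map h)) := by
      rw [← hc.2.1]
      exact ⟨Points.ofPt e v, by rw [Points.map_ofPt, sqc.w, ofPt_yon_map_comp]⟩
    have hv' : jI.left v ∈ closure (Points.ofPt p ⁻¹' Set.range (Points.map h)) :=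
      (isOpenMap_ofPt_of_etale hp).preimage_closure_subset_closure_preimage hv
    rw [← Set.image_univ, preimage_ofPt_image sq, Set.preimage_univ] at hv'
    rw [jI.left.isClosedEmbedding.isEmbedding.closure_eq_preimage_closure_image]
    refine Set.mem_preimage.2 (closure_mono ?_ hv')
    rintro _ ⟨a, -, rfl⟩
    exact ⟨t.left a, ⟨a, rfl⟩, by rw [← Scheme.Hom.comp_apply, ← Over.comp_left, ht1]⟩
  haveI := isOpenImmersion_of_dominant_reduced t.left hd
  haveI : Mono c := mono_of_repWith (P := @IsClosedImmersion) (fun g (hg : IsClosedImmersion g) => inferInstance) hc.1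
  haveI : Mono h := mono_of_repWith (P := @IsImmersion) (fun g (hg : IsImmersion g) => inferInstance) hh
  haveI : Mono h' := mono_of_mono_fac fac
  exact openImm_schDense_dense_of_chart hZb hZ hee (repWith_of_isPullback sqc.flip hps) hsq
    (RatDense.of_dense (by rw [Scheme.Hom.coe_opensRange]; exact hd))

end Groth.Agent.ASp
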