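import Groth.Agent.ASp.Diag
import Groth.Prelude.Def_AlgSpGpd

/-!
Algebra of arrows in a groupoid of sheaves.
-/

set_option autoImplicit false
set_option backward.isDefEq.respectTransparency false
set_option backward.isDefEq.respectTransparency.types false

universe u

open CategoryTheory CategoryTheory.Limits AlgebraicGeometry Opposite

namespace Groth.Agent.ASp.Gpd

open _root_.AlgSp

variable {S : Scheme.{u}} {B : Sp S} (G : GroupoidSp B) {T T' : Sp S}

/-- Composition of two arrows. -/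
noncomputable def mul (α β : T ⟶ G.R) (h : α ≫ G.s = β ≫ G.t) : T ⟶ G.R := pullback.lift α β h ≫ G.c

variable {G}

theorem mul_s (α β : T ⟶ G.R) (h : α ≫ G.s = β ≫ G.t) : mul G α β h ≫ G.s = β ≫ G.s := G.comp_s α β h

theorem mul_t (α β : T ⟶ G.R) (h : α ≫ G.s = β ≫ G.t) : mul G α β h ≫ G.t = α ≫ G.t := G.comp_t α β h

theorem comp_mul (f : T' ⟶ T) (α β : T ⟶ G.R) (h : α ≫ G.s = β ≫ G.t) :
    f ≫ mul G α β h = mul G (f ≫ α) (f ≫ β) (by rw [Category.assoc, h, Category.assoc]) := by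
  rw [mul, mul, ← Category.assoc]
  congr 1
  apply pullback.hom_ext <;> simp only [Category.assoc, pullback.lift_fst, pullback.lift_snd]

theorem mul_congr {α α' β β' : T ⟶ G.R} (hα : α = α') (hβ : β = β') (h : α ≫ G.s = β ≫ G.t) :
    mul G α β h = mul G α' β' (by rw [← hα, ← hβ, h]) := by subst hα hβ; rfl

theorem mul_assoc' (α β γ : T ⟶ G.R) (h₁ : α ≫ G.s = β ≫ G.t) (h₂ : β ≫ G.s = γ ≫ G.t) :
    mul G (mul G α β h₁) γ ((mul_s α β h₁).trans h₂) =
      mul G α (mul G β γ h₂) (h₁.trans (mul_t β γ h₂).symm) := G.assoc α β γ h₁ h₂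

theorem mul_one' (α : T ⟶ G.R) (v : T ⟶ G.R) (hv : v = α ≫ G.s ≫ G.e) (h : α ≫ G.s = v ≫ G.t) :
    mul G α v h = α := by subst hv; exact G.comp_e α

theorem one_mul' (α : T ⟶ G.R) (v : T ⟶ G.R) (hv : v = α ≫ G.t ≫ G.e) (h : v ≫ G.s = α ≫ G.t) :
    mul G v α h = α := by subst hv; exact G.e_comp α

theorem inv_s (α : T ⟶ G.R) : (α ≫ G.i) ≫ G.s = α ≫ G.t := by rw [Category.assoc, G.i_s]

theorem inv_t (α : T ⟶ G.R) : (α ≫ G.i) ≫ G.t = α ≫ G.s := by rw [Category.assoc, G.i_t]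

theorem mul_inv (α : T ⟶ G.R) : mul G α (α ≫ G.i) (inv_t α).symm = α ≫ G.t ≫ G.e := G.comp_i α

theorem inv_mul (α : T ⟶ G.R) : mul G (α ≫ G.i) α (inv_s α) = α ≫ G.s ≫ G.e := G.i_comp α

theorem inv_mul_cancel_left (α β : T ⟶ G.R) (h : α ≫ G.s = β ≫ G.t) :
    mul G (α ≫ G.i) (mul G α β h) ((inv_s α).trans (mul_t α β h).symm) = β := by
  rw [← mul_assoc' _ _ _ (inv_s α) h]
  refine one_mul' β _ ?_ _
  rw [inv_mul, reassoc_of% h]

theorem mul_inv_cancel_left (α β : T ⟶ G.R) (h : α ≫ G.t = β ≫ G.t) :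
    mul G α (mul G (α ≫ G.i) β ((inv_s α).trans h)) ((inv_t α).symm.trans (mul_t _ _ _).symm) = β := by
  rw [← mul_assoc' _ _ _ (inv_t α).symm ((inv_s α).trans h)]
  refine one_mul' β _ ?_ _
  rw [mul_inv, reassoc_of% h]

theorem mul_inv_cancel_right (α β : T ⟶ G.R) (h : α ≫ G.s = β ≫ G.t) :
    mul G (mul G α β h) (β ≫ G.i) ((mul_s α β h).trans (inv_t β).symm) = α := by
  rw [mul_assoc' _ _ _ h (inv_t β).symm]
  refine mul_one' α _ ?_ _
  rw [mul_inv, reassoc_of% h]

theorem inv_mul_cancel_right (α β : T ⟶ G.R) (h : α ≫ G.s = β ≫ G.s) :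
    mul G (mul G α (β ≫ G.i) (h.trans (inv_t β).symm)) β ((mul_s _ _ _).trans (inv_s β)) = α := by
  rw [mul_assoc' _ _ _ (h.trans (inv_t β).symm) (inv_s β)]
  refine mul_one' α _ ?_ _
  rw [inv_mul, reassoc_of% h]

theorem c_eq : G.c = mul G (pullback.fst G.s G.t) (pullback.snd G.s G.t) pullback.condition := by
  rw [mul, show pullback.lift (pullback.fst G.s G.t) (pullback.snd G.s G.t) pullback.condition = 𝟙 _ from
    pullback.hom_ext (by rw [pullback.lift_fst, Category.id_comp]) (by rw [pullback.lift_snd, Category.id_comp]),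
    Category.id_comp]

theorem comp_c (f : T ⟶ pullback G.s G.t) :
    f ≫ G.c = mul G (f ≫ pullback.fst _ _) (f ≫ pullback.snd _ _)
      (by rw [Category.assoc, Category.assoc, pullback.condition]) := by
  rw [c_eq, comp_mul]

/-- The shear square `(c, pr₁)`. -/
theorem isPullback_c : IsPullback G.c (pullback.snd G.s G.t) G.s G.s := by
  have hw : G.c ≫ G.s = pullback.snd G.s G.t ≫ G.s := by rw [c_eq, mul_s]
  have hst : ∀ s : PullbackCone G.s G.s,
      mul G s.fst (s.snd ≫ G.i) (s.condition.trans (inv_t s.snd).symm) ≫ G.s = s.snd ≫ G.t := fun s =>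
    (mul_s _ _ _).trans (inv_s _)
  refine IsPullback.of_isLimit' ⟨hw⟩ (PullbackCone.IsLimit.mk _
    (fun s => pullback.lift (mul G s.fst (s.snd ≫ G.i) (s.condition.trans (inv_t s.snd).symm)) s.snd (hst s))
    (fun s => ?_) (fun s => pullback.lift_snd _ _ _) fun s l h1 h2 => ?_)
  · rw [comp_c, mul_congr (pullback.lift_fst _ _ (hst s)) (pullback.lift_snd _ _ (hst s))]
    exact inv_mul_cancel_right s.fst s.snd s.condition
  · apply pullback.hom_ext
    · rw [pullback.lift_fst]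
      rw [comp_c] at h1
      have key := mul_inv_cancel_right (G := G) (l ≫ pullback.fst _ _) (l ≫ pullback.snd _ _)
        (by rw [Category.assoc, Category.assoc, pullback.condition])
      rw [← key, mul_congr h1 (congrArg (· ≫ G.i) h2)]
    · rw [pullback.lift_snd]; exact h2

end Groth.Agent.ASp.Gpd
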