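import Groth.Agent.ASp.SepDiag
import Groth.Agent.ASp.MorCancel
import Groth.Agent.ASp.GpdAlg

/-!
Separation conditions through unit sections.
-/

set_option autoImplicit false
set_option backward.isDefEq.respectTransparency false
set_option backward.isDefEq.respectTransparency.types false

universe u

open CategoryTheory CategoryTheory.Limits AlgebraicGeometry Opposite MonoidalCategory CartesianMonoidalCategory MonObj

namespace Groth.Agent.ASp

open _root_.AlgSp

variable {S : Scheme.{u}}

/-- A section inherits the properties of the diagonal. -/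
theorem isPullback_section {X Y : Sp S} (g : X ⟶ Y) (e : Y ⟶ X) (he : e ≫ g = 𝟙 Y) :
    ∃ m : X ⟶ pullback g g, IsPullback e e (pullback.diagonal g) m := by
  refine ⟨pullback.lift (𝟙 X) (g ≫ e) (by rw [Category.id_comp, Category.assoc, he, Category.comp_id]),
    IsPullback.of_isLimit' ⟨by
      apply pullback.hom_ext
      · simp [pullback.lift_fst]
      · simp [pullback.lift_snd, reassoc_of% he]⟩ (PullbackCone.IsLimit.mk _
      (fun s => s.fst ≫ g) (fun s => ?_) (fun s => ?_) fun s l h1 _ => ?_)⟩
  · have h2 := congrArg (· ≫ pullback.snd g g) s.condition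
    have h1 := congrArg (· ≫ pullback.fst g g) s.condition
    simp [pullback.lift_snd, pullback.lift_fst] at h1 h2
    simp only [Category.assoc, h1]
    exact h2.symm.trans h1
  · have h2 := congrArg (· ≫ pullback.snd g g) s.condition
    have h1 := congrArg (· ≫ pullback.fst g g) s.condition
    simp [pullback.lift_snd, pullback.lift_fst] at h1 h2
    simp only [Category.assoc, h1]
    exact h2.symm.trans h1
  · rw [← h1]; simp [he]

namespace Gpd

variable {B : Sp S} (G : GroupoidSp B)

/-- The diagonal of `j` is a base change of the unit section of the stabilizer. -/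
theorem isPullback_diag_j (eG : G.U ⟶ G.stabilizer) (heG : eG ≫ G.stabilizerι = G.e) :
    ∃ m : pullback G.j G.j ⟶ G.stabilizer, IsPullback G.s (pullback.diagonal G.j) eG m := by
  have ht : pullback.fst G.j G.j ≫ G.t = pullback.snd G.j G.j ≫ G.t := by
    rw [← G.j_fst, ← Category.assoc, ← Category.assoc, pullback.condition]
  have hs : pullback.fst G.j G.j ≫ G.s = pullback.snd G.j G.j ≫ G.s := by
    rw [← G.j_snd, ← Category.assoc, ← Category.assoc, pullback.condition]
  let μ₀ := mul G (pullback.fst G.j G.j ≫ G.i) (pullback.snd G.j G.j) ((inv_s _).trans ht)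
  obtain ⟨m, hm1, hm2⟩ : ∃ m : pullback G.j G.j ⟶ G.stabilizer,
      m ≫ G.stabilizerι = μ₀ ∧ m ≫ G.stabilizerToU = pullback.snd G.j G.j ≫ G.s := by
    refine ⟨pullback.lift μ₀ (pullback.snd G.j G.j ≫ G.s) ?_, pullback.lift_fst _ _ _, pullback.lift_snd _ _ _⟩
    apply pullback.hom_ext
    · simp only [Category.assoc, G.j_fst, GroupoidSp.diag, pullback.lift_fst, Category.comp_id]
      rw [mul_t, inv_t, hs]
    · simp only [Category.assoc, G.j_snd, GroupoidSp.diag, pullback.lift_snd, Category.comp_id]
      rw [mul_s]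
  have heU : eG ≫ G.stabilizerToU = 𝟙 G.U := by
    have hd : G.diag ≫ pullback.snd G.pU G.pU = 𝟙 G.U := pullback.lift_snd _ _ _
    have hw : G.stabilizerι ≫ G.j = G.stabilizerToU ≫ G.diag := pullback.condition
    calc eG ≫ G.stabilizerToU = (eG ≫ G.stabilizerToU ≫ G.diag) ≫ pullback.snd G.pU G.pU := by
          simp only [Category.assoc, hd, Category.comp_id]
      _ = 𝟙 G.U := by rw [← hw, reassoc_of% heG, Category.assoc, G.j_snd, G.e_s]
  haveI : Mono G.stabilizerι := by
    haveI : Mono G.diag := ⟨fun a b h => by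
      simpa [GroupoidSp.diag, pullback.lift_fst] using congrArg (· ≫ pullback.fst G.pU G.pU) h⟩
    exact inferInstanceAs (Mono (pullback.fst G.j G.diag))
  refine ⟨m, IsPullback.of_isLimit' ⟨?_⟩ (PullbackCone.IsLimit.mk _
    (fun s => s.snd ≫ pullback.fst G.j G.j) (fun s => ?_) (fun s => ?_) fun s l _ h2 => ?_)⟩
  · rw [← cancel_mono G.stabilizerι, Category.assoc, heG, Category.assoc, hm1, comp_mul,
      mul_congr (show _ = 𝟙 G.R ≫ G.i by rw [pullback.diagonal_fst_assoc, Category.id_comp])
        (pullback.diagonal_snd G.j), inv_mul, Category.id_comp]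
  · have hc := congrArg (· ≫ G.stabilizerToU) s.condition
    simp only [Category.assoc, heU, hm2, Category.comp_id] at hc
    rw [Category.assoc, hs]; exact hc.symm
  · have hc := congrArg (· ≫ G.stabilizerToU) s.condition
    simp only [Category.assoc, heU, hm2, Category.comp_id] at hc
    have hi := congrArg (· ≫ G.stabilizerι) s.condition
    simp only [Category.assoc, heG, hm1] at hi
    rw [comp_mul] at hi
    apply pullback.hom_ext
    · rw [Category.assoc, pullback.diagonal_fst, Category.comp_id]
    · rw [Category.assoc, pullback.diagonal_snd, Category.comp_id]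
      have htT : (s.snd ≫ pullback.fst G.j G.j) ≫ G.t = (s.snd ≫ pullback.snd G.j G.j) ≫ G.t := by
        rw [Category.assoc, Category.assoc, ht]
      conv_rhs => rw [← mul_inv_cancel_left (s.snd ≫ pullback.fst G.j G.j) (s.snd ≫ pullback.snd G.j G.j) htT]
      refine (mul_one' _ _ ?_ _).symm
      rw [mul_congr (Category.assoc _ _ G.i) rfl, ← hi, hc]
      simp only [Category.assoc, reassoc_of% hs]
  · simp [← h2]

end Gpd

/-- For a group object, the diagonal is a base change of the unit. -/
theorem isPullback_diag_grp {B : Sp S} (G : Over B) [GrpObj G] :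
    ∃ m : pullback G.hom G.hom ⟶ G.left, IsPullback G.hom (pullback.diagonal G.hom) (η[G]).left m := by
  let m : G ⊗ G ⟶ G := (fst G G)⁻¹ * snd G G
  have h : IsPullback (toUnit G) (lift (𝟙 G) (𝟙 G)) η[G] m := by
    refine IsPullback.of_isLimit' ⟨?_⟩ (PullbackCone.IsLimit.mk _ (fun s => s.snd ≫ fst G G)
      (fun s => toUnit_unique _ _) (fun s => ?_) fun s l _ h2 => ?_)
    · simp [m, Hom.one_def, GrpObj.comp_inv, MonObj.comp_mul]
    · have hc := s.condition
      rw [show s.fst ≫ η[G] = 1 from by rw [Hom.one_def, toUnit_unique s.fst (toUnit _)]] at hc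
      simp only [m, GrpObj.comp_inv, MonObj.comp_mul] at hc
      apply CartesianMonoidalCategory.hom_ext
      · simp
      · have := inv_mul_eq_one.1 hc.symm
        simp [this]
    · rw [← h2]; simp
  refine ⟨m.left, ?_⟩
  have e : (lift (𝟙 G) (𝟙 G)).left = pullback.diagonal G.hom := by
    apply pullback.hom_ext
    · rw [pullback.diagonal_fst]
      exact congrArg (fun f : G ⟶ G => f.left) (lift_fst (𝟙 G) (𝟙 G))
    · rw [pullback.diagonal_snd]
      exact congrArg (fun f : G ⟶ G => f.left) (lift_snd (𝟙 G) (𝟙 G))
  have h' : IsPullback (toUnit G).left (lift (𝟙 G) (𝟙 G)).left (η[G]).left m.left := h.map (Over.forget B)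
  rw [e] at h'
  exact h'

theorem unit_section {B : Sp S} (G : Over B) [GrpObj G] : (η[G]).left ≫ G.hom = 𝟙 B := Over.w η[G]

end Groth.Agent.ASp
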