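import Groth.Prelude
import Groth.Agent.SpreadOut.Basic
import Groth.Agent.S7659
import Groth.Agent.S10197
import Groth.Agent.ASp.GenFinite
import Groth.Agent.ASp.SchDenseImage
import Groth.Agent.ASp.QfFibre
import Groth.Agent.ASp.UnitSection
import Groth.Agent.ASp.LargestOpen
import Groth.Agent.FlatLocus.ImageClosure
/-!
Birational morphisms of decent spaces are isomorphisms over dense opens.
-/

set_option autoImplicit false
set_option backward.isDefEq.respectTransparency false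
set_option linter.style.haveILetI false

universe u

open CategoryTheory CategoryTheory.Limits AlgebraicGeometry Opposite Topology

namespace Groth.Agent.ASp

open _root_.AlgSp

section Scheme

theorem isIso_stalkMap_congr {A B : Scheme.{u}} {a b : A ⟶ B} (h : a = b) (x : ↥A) (hx : IsIso (a.stalkMap x)) :
    IsIso (b.stalkMap x) := by
  subst h; exact hx

/-- An isomorphism of local rings spreads out to an open immersion of a neighbourhood. -/
theorem exists_openImmersion_nhd {U V : Scheme.{u}} (g : U ⟶ V) (u : ↥U) (hg : IsIso (g.stalkMap u))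
    (h : (LocallyOfFiniteType g ∧ IsReduced V ∧ (irreducibleComponents ↥V).Finite) ∨ LocallyOfFinitePresentation g) :
    ∃ W : U.Opens, u ∈ W ∧ IsOpenImmersion (W.ι ≫ g) := by
  rcases h with ⟨hlft, hred, hfin⟩ | hlfp
  · haveI := hlft
    haveI := hred
    exact Groth.Agent.S7659.result g hfin u hg
  · haveI := hlfp
    haveI := hg
    obtain ⟨W, hW, ψ, hψ, hψg⟩ := SpreadOut.spread_out' (X := V) (Y := U) (𝟙 V) g (x := g u)
      (Spec.map (inv (g.stalkMap u)) ≫ U.fromSpecStalk u) (by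
        rw [Category.assoc, ← Scheme.SpecMap_stalkMap_fromSpecStalk, ← Spec.map_comp_assoc, IsIso.hom_inv_id,
          Spec.map_id, Category.id_comp, Category.comp_id])
    obtain ⟨U', W', hu, -, i, hi⟩ := SpreadOut.exists_iso_nhds g (𝟙 V) (x := u) (y := g u)
      (asIso (g.stalkMap u)).symm (U := ⊤) trivial ((⊤ : U.Opens).ι ≫ g) (Category.comp_id _)
      (by
        show Spec.map (g.stalkMap u) ≫ _ = _
        rw [Scheme.SpecMap_stalkMap_fromSpecStalk, Scheme.Opens.fromSpecStalkOfMem_ι_assoc])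
      hW ψ hψg hψ
    refine ⟨U', hu, ?_⟩
    rw [Category.comp_id] at hi
    rw [← hi]
    infer_instance

/-- Finitely many points with isomorphic local rings, over all generic points of the target, have a common
neighbourhood which is mapped by an open immersion. -/
theorem exists_openImmersion_of_generic {P T : Scheme.{u}} (G : P ⟶ T) {ι : Type*} [Finite ι] (p : ι → ↥P)
    (hinj : ∀ i j, G (p i) = G (p j) → i = j) (hiso : ∀ i, IsIso (G.stalkMap (p i)))
    (hgen : ∀ t : ↥T, ∃ i, G (p i) ⤳ t) (hmin : ∀ i (t : ↥T), t ⤳ G (p i) → t = G (p i))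
    (h : (LocallyOfFiniteType G ∧ IsReduced T) ∨ LocallyOfFinitePresentation G) :
    ∃ U : P.Opens, (∀ i, p i ∈ U) ∧ IsOpenImmersion (U.ι ≫ G) := by
  have hfin : (irreducibleComponents ↥T).Finite := by
    refine (Set.finite_range fun i => closure {G (p i)}).subset fun C hC => ?_
    obtain ⟨η, hη⟩ := QuasiSober.sober hC.1 (isClosed_of_mem_irreducibleComponents C hC)
    obtain ⟨i, hi⟩ := hgen η
    refine ⟨i, ?_⟩
    show closure {G (p i)} = C
    have hsub : C ⊆ closure {G (p i)} := by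
      rw [← hη.def]
      exact closure_minimal (Set.singleton_subset_iff.2 (specializes_iff_mem_closure.1 hi)) isClosed_closure
    exact (hC.2 isIrreducible_singleton.closure hsub).antisymm hsub
  choose W hW hWi using fun i => exists_openImmersion_nhd G (p i) (hiso i)
    (h.imp (fun h => ⟨h.1, h.2, hfin⟩) id)
  let O : ι → T.Opens := fun i => ⟨(⋃ j ∈ {j | j ≠ i}, closure {G (p j)})ᶜ,
    ((Set.toFinite _).isClosed_biUnion fun j _ => isClosed_closure).isOpen_compl⟩
  have hO : ∀ i j t, t ∈ O i → t ∈ O j → i = j := fun i j t hi hj => by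
    obtain ⟨k, hk⟩ := hgen t
    have hk' : ∀ l, t ∈ O l → k = l := fun l hl => by
      by_contra hne
      exact hl (Set.mem_iUnion₂.2 ⟨k, hne, specializes_iff_mem_closure.1 hk⟩)
    rw [← hk' i hi, hk' j hj]
  have hOp : ∀ i, G (p i) ∈ O i := fun i hi => by
    obtain ⟨j, hj, hji⟩ := Set.mem_iUnion₂.1 hi
    exact hj (hinj j i (hmin i _ (specializes_iff_mem_closure.2 hji)))
  let U : P.Opens := ⨆ i, W i ⊓ G ⁻¹ᵁ O i
  have hmem : ∀ x : ↥P, x ∈ U → ∃ i, x ∈ W i ∧ G x ∈ O i := fun x hx => TopologicalSpace.Opens.mem_iSup.1 hx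
  refine ⟨U, fun i => TopologicalSpace.Opens.mem_iSup.2 ⟨i, hW i, hOp i⟩, ?_⟩
  haveI : ∀ x, IsIso ((U.ι ≫ G).stalkMap x) := fun x => by
    obtain ⟨i, hi, -⟩ := hmem x.1 x.2
    haveI := hWi i
    have h1 : IsIso (((W i).ι ≫ G).stalkMap ⟨x.1, hi⟩) := inferInstance
    rw [Scheme.Hom.stalkMap_comp] at h1
    haveI := h1
    haveI : IsIso (G.stalkMap (U.ι x)) :=
      IsIso.of_isIso_comp_right (G.stalkMap ((W i).ι ⟨x.1, hi⟩)) ((W i).ι.stalkMap ⟨x.1, hi⟩)
    rw [Scheme.Hom.stalkMap_comp]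
    exact IsIso.comp_isIso
  refine IsOpenImmersion.of_isIso_stalkMap _ (IsOpenEmbedding.of_continuous_injective_isOpenMap
    (U.ι ≫ G).continuous ?_ ?_)
  · rintro ⟨x, hx⟩ ⟨y, hy⟩ e
    have e' : G x = G y := e
    obtain ⟨i, hi, hiO⟩ := hmem x hx
    obtain ⟨j, hj, hjO⟩ := hmem y hy
    obtain rfl := hO i j (G x) hiO (e' ▸ hjO)
    haveI := hWi i
    have h3 : (⟨x, hi⟩ : ↥(W i : Scheme.{u})) = ⟨y, hj⟩ := ((W i).ι ≫ G).isOpenEmbedding.injective e'
    exact Subtype.ext (show x = y from congrArg Subtype.val h3)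
  · intro A hA
    have e : (U.ι ≫ G) '' A = ⋃ i, ((W i).ι ≫ G) '' ((W i).ι ⁻¹' (U.ι '' A)) := by
      ext t
      simp only [Set.mem_image, Set.mem_iUnion, Set.mem_preimage]
      constructor
      · rintro ⟨x, hx, rfl⟩
        obtain ⟨i, hi, -⟩ := hmem x.1 x.2
        exact ⟨i, ⟨x.1, hi⟩, ⟨x, hx, rfl⟩, rfl⟩
      · rintro ⟨i, z, ⟨x, hx, hxz⟩, rfl⟩
        exact ⟨x, hx, congrArg G.base hxz⟩
    rw [e]
    exact isOpen_iUnion fun i => by
      haveI := hWi i
      exact ((W i).ι ≫ G).isOpenEmbedding.isOpenMap _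
        ((U.ι.isOpenEmbedding.isOpenMap A hA).preimage (W i).ι.continuous)

end Scheme

variable {S : Scheme.{u}}

theorem repWith_of_fac_mono {Q : MorphismProperty Scheme.{u}} {Z W Y : Sp S} {k : Z ⟶ W} {m : W ⟶ Y} [Mono m]
    {c : Z ⟶ Y} (h : k ≫ m = c) (hc : RepWith Q c) : RepWith Q k :=
  repWith_of_isPullback (f := c) (g := m) (g' := 𝟙 _)
    (IsPullback.of_isLimit' ⟨by rw [Category.id_comp, h]⟩ (PullbackCone.IsLimit.mk _ (fun s => s.fst)
      (fun s => Category.comp_id _)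
      (fun s => (cancel_mono m).1 (by rw [Category.assoc, h]; exact s.condition))
      (fun s l e1 _ => by rw [← e1]; exact (Category.comp_id l).symm))) hc

theorem mono_of_openImm {F Y : Sp S} {c : F ⟶ Y} (hc : RepWith @IsOpenImmersion c) : Mono c :=
  mono_of_repWith (fun _ (hg : IsOpenImmersion _) => inferInstance) hc

theorem etale_of_openImm {F Y : Sp S} {c : F ⟶ Y} (hc : RepWith @IsOpenImmersion c) : RepWith @Etale c :=
  repWith_mono (fun _ _ g (hg : IsOpenImmersion g) => (inferInstance : Etale g)) hc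

theorem injective_ofPt_of_mono {Y : Sp S} {V : Over S} (b : (yon S).obj V ⟶ Y) [Mono b] :
    Function.Injective (Points.ofPt b) := by
  rw [ofPt_comp_eq_map]
  exact (injective_points_map_of_mono b).comp (Points.schemeHomeo V).injective

/-- Every scheme-open subspace lies in the largest one. -/
theorem exists_universal_schemeOpen (Y : Space S) :
    ∃ (T : Over S) (b : (yon S).obj T ⟶ Y.obj), RepWith @IsOpenImmersion b ∧
      ∀ {V : Over S} (c : (yon S).obj V ⟶ Y.obj), RepWith @IsOpenImmersion c →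
        ∃ v : V ⟶ T, IsOpenImmersion v.left ∧ (yon S).map v ≫ b = c := by
  obtain ⟨Y₀, j, hj, ⟨T, ⟨eR⟩⟩, hmax⟩ := Groth.Agent.S10197.result Y
  let eT : (yon S).obj T ≅ Y₀.obj := isoOfRepresentableBy eR
  let b : (yon S).obj T ⟶ Y.obj := eT.hom ≫ j.hom
  have hb : RepWith @IsOpenImmersion b := repWith_of_isPullback (f := j.hom) (g := 𝟙 Y.obj) (g' := eT.hom)
    (IsPullback.of_horiz_isIso ⟨by simp [b]⟩) hj
  refine ⟨T, b, hb, fun {V} c hc => ?_⟩
  obtain ⟨k, hk⟩ := hmax ⟨(yon S).obj V, IsAlgSpace.yon_obj V⟩ (ObjectProperty.homMk c) hc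
    ⟨V, ⟨representableByOfIso (Iso.refl _)⟩⟩
  obtain ⟨v, hv⟩ := (yon S).map_surjective (k.hom ≫ eT.inv)
  haveI := mono_of_openImm hb
  have hvb : (yon S).map v ≫ b = c := by
    rw [hv, Category.assoc, eT.inv_hom_id_assoc]
    exact congrArg (fun m => m.hom) hk
  exact ⟨v, (repWith_yon_map_iff _ _).1 (repWith_of_fac_mono hvb hc), hvb⟩

theorem mem_genericPoints_iff {X : Sp S} (hX : IsAlgSpace X) (hd : IsDecent X) (x : Points X) :
    x ∈ genericPoints (Points X) ↔ HasAt (fun U u => ringKrullDim ↥(U.presheaf.stalk u) = 0) X x := by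
  rw [← component_iff_hasAt hX hd]
  exact ⟨fun h => ⟨_, h, rfl⟩, fun ⟨C, hC, e⟩ => by
    show closure {x} ∈ irreducibleComponents (Points X)
    exact (show closure {x} = C from e) ▸ hC⟩

theorem eq_of_specializes_generic {X : Sp S} (hX : IsAlgSpace X) (hd : IsDecent X) {x : Points X}
    (hx : x ∈ genericPoints (Points X)) {y : Points X} (hy : y ⤳ x) : y = x :=
  (component_iff_forall_specializes hX hd x).1
    ((component_iff_hasAt hX hd x).2 ((mem_genericPoints_iff hX hd x).1 hx)) y hy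

theorem exists_generic_generization {X : Sp S} (hX : IsAlgSpace X) (hd : IsDecent X) {V : Over S}
    {c : (yon S).obj V ⟶ X} (hc : RepWith @Etale c) (t : ↥V.left) :
    ∃ η, η ⤳ t ∧ Points.ofPt c η ∈ genericPoints (Points X) := by
  obtain ⟨η, hη, hη0⟩ := exists_codimZero_generization t
  exact ⟨η, hη, (mem_genericPoints_iff hX hd _).2 ⟨V, c, η, hc, rfl, hη0⟩⟩

theorem dense_of_genericPoints {X : Sp S} (hX : IsAlgSpace X) (hd : IsDecent X) {A : Set (Points X)}
    (h : ∀ x ∈ genericPoints (Points X), x ∈ A) : Dense A := by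
  haveI := quasiSober_of_isDecent hX hd
  exact (dense_iff_closure_eq.2 genericPoints.closure).mono h

/-- A scheme-open neighbourhood of the generic points carried by `f` isomorphically onto its image. -/
structure BiratData {X Y : Space S} (f : X ⟶ Y) where
  P : Over S
  T : Over S
  a : (yon S).obj P ⟶ X.obj
  b : (yon S).obj T ⟶ Y.obj
  G : P ⟶ T
  ha : RepWith @IsOpenImmersion a
  hb : RepWith @IsOpenImmersion b
  sq : a ≫ f.hom = (yon S).map G ≫ b
  U : P.left.Opens
  imm : IsOpenImmersion (U.ι ≫ G.left)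
  genX : ∀ x ∈ genericPoints (Points X.obj), ∃ u ∈ U, Points.ofPt a u = x
  genY : ∀ y ∈ genericPoints (Points Y.obj), ∃ u ∈ U, Points.ofPt b (G.left u) = y

namespace BiratData

variable {X Y : Space S} {f : X ⟶ Y}

theorem map_ofPt_a (D : BiratData f) (u : ↥D.P.left) :
    Points.map f.hom (Points.ofPt D.a u) = Points.ofPt D.b (D.G.left u) := by
  rw [Points.map_ofPt, D.sq, ofPt_yon_map_comp]

end BiratData

theorem nonempty_biratData {X Y : Space S} (f : X ⟶ Y) (hX : IsDecent X.obj) (hY : IsDecent Y.obj)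
    (hXf : (irreducibleComponents (Points X.obj)).Finite) (hf : W4stk3decentspacesp2.IsBirational f.hom)
    (h : (LocP @LocallyOfFiniteType f.hom ∧ EtaleLocally (fun T => IsReduced T) Y.obj) ∨
      LocP @LocallyOfFinitePresentation f.hom) : Nonempty (BiratData f) := by
  haveI := t0Space_of_isDecent X.2 hX
  haveI : Finite (genericPoints (Points X.obj)) := (genericPoints.finite hXf).to_subtype
  obtain ⟨TX, bX, hbX, hXmax⟩ := exists_universal_schemeOpen X
  obtain ⟨T, b, hb, hYmax⟩ := exists_universal_schemeOpen Y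
  haveI := mono_of_openImm hb
  haveI := mono_of_openImm hbX
  obtain ⟨P, G, z, sq⟩ : ∃ (P : Over S) (G : P ⟶ T) (z : P ⟶ TX),
      IsPullback ((yon S).map G) ((yon S).map z) b (bX ≫ f.hom) := by
    obtain ⟨G, hG⟩ := (yon S).map_surjective (hb.1.fst (bX ≫ f.hom))
    exact ⟨_, G, hb.1.snd (bX ≫ f.hom), hG.symm ▸ hb.1.isPullback (bX ≫ f.hom)⟩
  haveI : IsOpenImmersion z.left := hb.2 _ _ z sq
  let a : (yon S).obj P ⟶ X.obj := (yon S).map z ≫ bX
  have ha : RepWith @IsOpenImmersion a := repWith_comp (repWith_yon_map ‹_›) hbX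
  haveI := mono_of_openImm ha
  have hsq : a ≫ f.hom = (yon S).map G ≫ b := by rw [sq.w, Category.assoc]
  have hpt : ∀ x : genericPoints (Points X.obj), ∃ p : ↥P.left, Points.ofPt a p = x ∧ IsIso (G.left.stalkMap p) := by
    rintro ⟨x, hx⟩
    obtain ⟨U, V, a₁, b₁, g, u, ha₁, hb₁, e, hu, hg⟩ := hf.stalkIso x hx
    obtain ⟨v₁, hv₁, e₁⟩ := hXmax a₁ ha₁
    obtain ⟨w, hw, e₂⟩ := hYmax b₁ hb₁
    obtain ⟨v, hv⟩ := (yon S).map_surjective (sq.lift ((yon S).map (g ≫ w)) ((yon S).map v₁)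
      (by rw [Functor.map_comp, Category.assoc, e₂, reassoc_of% e₁, e]))
    have hva : (yon S).map v ≫ a = a₁ := by
      rw [hv, sq.lift_snd_assoc, e₁]
    have hvG : v ≫ G = g ≫ w := (yon S).map_injective (by rw [Functor.map_comp, hv, sq.lift_fst])
    haveI : IsOpenImmersion v.left := (repWith_yon_map_iff _ _).1 (repWith_of_fac_mono hva ha₁)
    refine ⟨v.left u, ?_, ?_⟩
    · rw [← ofPt_yon_map_comp, hva, hu]
    have h1 : IsIso ((g.left ≫ w.left).stalkMap u) := by
      rw [Scheme.Hom.stalkMap_comp]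
      haveI := hg
      haveI := hw
      exact IsIso.comp_isIso
    have h2 := isIso_stalkMap_congr (show g.left ≫ w.left = v.left ≫ G.left by
      rw [← Over.comp_left, ← Over.comp_left, hvG]) u h1
    rw [Scheme.Hom.stalkMap_comp] at h2
    haveI := h2
    exact IsIso.of_isIso_comp_right (G.left.stalkMap (v.left u)) (v.left.stalkMap u)
  choose p hp hiso using hpt
  have hmap : ∀ x, Points.map f.hom x.1 = Points.ofPt b (G.left (p x)) := fun x => by
    rw [← hp, Points.map_ofPt, hsq, ofPt_yon_map_comp]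
  have hG : (LocallyOfFiniteType G.left ∧ IsReduced T.left) ∨ LocallyOfFinitePresentation G.left :=
    h.imp (fun h => ⟨h.1 a b G (etale_of_openImm ha) (etale_of_openImm hb) hsq,
        isReduced_of_chart h.2 (etale_of_openImm hb)⟩)
      (fun h => h a b G (etale_of_openImm ha) (etale_of_openImm hb) hsq)
  obtain ⟨U, hU, himm⟩ := exists_openImmersion_of_generic G.left p
    (fun i j e => Subtype.ext (hf.bijOn.injOn i.2 j.2 (by rw [hmap, hmap, e])))
    hiso (fun t => by
      obtain ⟨η, hη, hη0⟩ := exists_generic_generization Y.2 hY (etale_of_openImm hb) t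
      obtain ⟨x, hx, e⟩ := hf.bijOn.surjOn hη0
      rw [hmap ⟨x, hx⟩] at e
      exact ⟨⟨x, hx⟩, (injective_ofPt_of_mono b e) ▸ hη⟩)
    (fun i t ht => injective_ofPt_of_mono b (eq_of_specializes_generic Y.2 hY
      (hmap i ▸ hf.bijOn.mapsTo i.2) (ht.map (Points.continuous_ofPt b)))) hG
  exact ⟨{
    P := P, T := T, a := a, b := b, G := G, ha := ha, hb := hb, sq := hsq, U := U, imm := himm
    genX := fun x hx => ⟨_, hU ⟨x, hx⟩, hp _⟩
    genY := fun y hy => by
      obtain ⟨x, hx, rfl⟩ := hf.bijOn.surjOn hy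
      exact ⟨_, hU ⟨x, hx⟩, (hmap ⟨x, hx⟩).symm⟩ }⟩

theorem exists_dense_open_isIso_of_biratData {X Y : Space S} {f : X ⟶ Y} (D : BiratData f) (hX : IsDecent X.obj)
    (hY : IsDecent Y.obj) :
    ∃ (U V : Over S) (a : (yon S).obj U ⟶ X.obj) (b : (yon S).obj V ⟶ Y.obj) (g : U ⟶ V),
      RepWith @IsOpenImmersion a ∧ RepWith @IsOpenImmersion b ∧
        Dense (Set.range (Points.ofPt a)) ∧ Dense (Set.range (Points.ofPt b)) ∧
          a ≫ f.hom = (yon S).map g ≫ b ∧ IsIso g.left := by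
  haveI := D.imm
  let o : openOver D.U ⟶ D.P := openInc D.U
  let V : D.T.left.Opens := (D.U.ι ≫ D.G.left).opensRange
  let e₀ : (D.U : Scheme.{u}) ≅ V := (D.U.ι ≫ D.G.left).isoOpensRange
  have he₀ : e₀.hom ≫ V.ι = D.U.ι ≫ D.G.left := Scheme.Hom.isoOpensRange_hom_ι _
  let g : openOver D.U ⟶ openOver V := Over.homMk e₀.hom (by
    show e₀.hom ≫ V.ι ≫ D.T.hom = D.U.ι ≫ D.P.hom
    rw [reassoc_of% he₀, Over.w D.G])
  refine ⟨openOver D.U, openOver V, (yon S).map o ≫ D.a, (yon S).map (openInc V) ≫ D.b, g,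
    repWith_comp (repWith_yon_map (inferInstanceAs (IsOpenImmersion D.U.ι))) D.ha,
    repWith_comp (repWith_yon_map (inferInstanceAs (IsOpenImmersion V.ι))) D.hb,
    dense_of_genericPoints X.2 hX fun x hx => ?_, dense_of_genericPoints Y.2 hY fun y hy => ?_, ?_,
    inferInstanceAs (IsIso e₀.hom)⟩
  · obtain ⟨u, hu, rfl⟩ := D.genX x hx
    exact ⟨⟨u, hu⟩, ofPt_yon_map_comp o D.a _⟩
  · obtain ⟨u, hu, rfl⟩ := D.genY y hy
    exact ⟨⟨D.G.left u, ⟨u, hu⟩, rfl⟩, ofPt_yon_map_comp (openInc V) D.b _⟩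
  · rw [Category.assoc, D.sq, ← Functor.map_comp_assoc, ← Functor.map_comp_assoc]
    congr 2
    exact Over.OverMorphism.ext he₀.symm

/-- If nothing outside `U` lies over `Ω` then `f` is an isomorphism over `Ω`. -/
theorem isIso_snd_of_biratData {X Y : Space S} {f : X ⟶ Y} (D : BiratData f) (Ω : D.T.left.Opens)
    (hΩ : (Ω : Set ↥D.T.left) ⊆ Set.range (D.U.ι ≫ D.G.left))
    (hcond : ∀ (x : Points X.obj) (t : ↥D.T.left), t ∈ Ω → Points.map f.hom x = Points.ofPt D.b t →
      ∃ u ∈ D.U, Points.ofPt D.a u = x)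
    ⦃P : Sp S⦄ (fst : P ⟶ X.obj) (snd : P ⟶ (yon S).obj (openOver Ω))
    (sq : IsPullback fst snd f.hom ((yon S).map (openInc Ω) ≫ D.b)) : IsIso snd := by
  haveI := D.imm
  let l₀ : (Ω : Scheme.{u}) ⟶ D.U := IsOpenImmersion.lift (D.U.ι ≫ D.G.left) Ω.ι (by rwa [Scheme.Opens.range_ι])
  have hl₀ : l₀ ≫ D.U.ι ≫ D.G.left = Ω.ι := IsOpenImmersion.lift_fac _ _ _
  haveI : IsOpenImmersion l₀ := by
    haveI : IsOpenImmersion (l₀ ≫ D.U.ι ≫ D.G.left) := by rw [hl₀]; infer_instance
    exact IsOpenImmersion.of_comp l₀ (D.U.ι ≫ D.G.left)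
  let v : openOver Ω ⟶ D.P := Over.homMk (l₀ ≫ D.U.ι) (by
    show (l₀ ≫ D.U.ι) ≫ D.P.hom = Ω.ι ≫ D.T.hom
    rw [← hl₀, Category.assoc, Category.assoc, Category.assoc, Over.w D.G])
  have hvG : v ≫ D.G = openInc Ω := Over.OverMorphism.ext (by
    show (l₀ ≫ D.U.ι) ≫ D.G.left = Ω.ι
    rw [Category.assoc, hl₀])
  let s : (yon S).obj (openOver Ω) ⟶ X.obj := (yon S).map v ≫ D.a
  have hs : RepWith @IsOpenImmersion s :=
    repWith_comp (repWith_yon_map (inferInstanceAs (IsOpenImmersion (l₀ ≫ D.U.ι)))) D.ha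
  have hbΩ : RepWith @IsOpenImmersion ((yon S).map (openInc Ω) ≫ D.b) :=
    repWith_comp (repWith_yon_map (inferInstanceAs (IsOpenImmersion Ω.ι))) D.hb
  haveI : Mono fst := mono_of_openImm (repWith_of_isPullback sq.flip hbΩ)
  let l := sq.lift s (𝟙 _) (by rw [Category.id_comp, Category.assoc, D.sq, ← Functor.map_comp_assoc, hvG])
  have hl : RepWith @IsOpenImmersion l := repWith_of_fac_mono (sq.lift_fst _ _ _) hs
  haveI := mono_of_openImm hl
  haveI : IsIso l := isIso_of_mono_etale_surjective (IsAlgSpace.yon_obj _)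
    (isAlgSpace_of_isPullback Y.2.diag X.2 (IsAlgSpace.yon_obj _) sq) l
    (locP_of_repWith (etale_of_openImm hl)) fun z => by
      obtain ⟨t, ht⟩ := (Points.schemeHomeo (openOver Ω)).surjective (Points.map snd z)
      have e : Points.map f.hom (Points.map fst z) = Points.ofPt D.b t.1 := by
        rw [← Points.map_comp, sq.w, Points.map_comp, ← ht]
        exact (Points.ofPt_eq_map_ofScheme _ t).symm.trans (ofPt_yon_map_comp (openInc Ω) D.b t)
      obtain ⟨u, hu, hux⟩ := hcond _ _ t.2 e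
      haveI := mono_of_openImm D.hb
      rw [← hux, D.map_ofPt_a] at e
      have hG : D.G.left u = t.1 := injective_ofPt_of_mono D.b e
      refine ⟨Points.ofScheme _ t, injective_points_map_of_mono fst ?_⟩
      rw [← Points.map_comp, sq.lift_fst, ← Points.ofPt_eq_map_ofScheme, ofPt_yon_map_comp, ← hux]
      refine congrArg (Points.ofPt D.a) ?_
      show D.U.ι (l₀ t) = u
      have h3 : (⟨u, hu⟩ : ↥(D.U : Scheme.{u})) = l₀ t := (D.U.ι ≫ D.G.left).isOpenEmbedding.injective (by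
        rw [← Scheme.Hom.comp_apply l₀, hl₀]
        exact hG)
      exact congrArg Subtype.val h3.symm
  rw [show snd = inv l from (IsIso.inv_eq_of_hom_inv_id (sq.lift_snd _ _ _)).symm]
  infer_instance

theorem dense_openInc_of_generic {X Y : Space S} {f : X ⟶ Y} (D : BiratData f) (hY : IsDecent Y.obj)
    (Ω : D.T.left.Opens) (hgen : ∀ t, Points.ofPt D.b t ∈ genericPoints (Points Y.obj) → t ∈ Ω) :
    Dense (Set.range (Points.ofPt ((yon S).map (openInc Ω) ≫ D.b))) :=
  dense_of_genericPoints Y.2 hY fun y hy => by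
    obtain ⟨u, -, rfl⟩ := D.genY y hy
    exact ⟨⟨_, hgen _ hy⟩, ofPt_yon_map_comp (openInc Ω) D.b _⟩

theorem mem_range_of_generic {X Y : Space S} {f : X ⟶ Y} (D : BiratData f) (t : ↥D.T.left)
    (ht : Points.ofPt D.b t ∈ genericPoints (Points Y.obj)) : t ∈ Set.range (D.U.ι ≫ D.G.left) := by
  haveI := mono_of_openImm D.hb
  obtain ⟨u, hu, e⟩ := D.genY _ ht
  exact ⟨⟨u, hu⟩, injective_ofPt_of_mono D.b e⟩

/-- Separated case: nothing outside `U` lies over the image of `U`. -/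
theorem exists_mem_of_separated {X Y : Space S} {f : X ⟶ Y} (D : BiratData f) (hX : IsDecent X.obj)
    (hs : IsSeparatedMor f.hom) (x : Points X.obj) (t : ↥D.T.left) (ht : t ∈ Set.range (D.U.ι ≫ D.G.left))
    (e : Points.map f.hom x = Points.ofPt D.b t) : ∃ u ∈ D.U, Points.ofPt D.a u = x := by
  haveI := D.imm
  haveI := mono_of_openImm D.hb
  let s : (yon S).obj (openOver D.U) ⟶ X.obj := (yon S).map (openInc D.U) ≫ D.a
  let c : (yon S).obj (openOver D.U) ⟶ Y.obj := (yon S).map (openInc D.U ≫ D.G) ≫ D.b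
  have hc : RepWith @IsOpenImmersion c :=
    repWith_comp (repWith_yon_map (inferInstanceAs (IsOpenImmersion (D.U.ι ≫ D.G.left)))) D.hb
  haveI := mono_of_openImm hc
  have sq := IsPullback.of_hasPullback f.hom c
  let F : Space S := ⟨pullback f.hom c, isAlgSpace_of_isPullback Y.2.diag X.2 (IsAlgSpace.yon_obj _) sq⟩
  let q : F.obj ⟶ (yon S).obj (openOver D.U) := pullback.snd f.hom c
  let m : F.obj ⟶ X.obj := pullback.fst f.hom c
  have hm : RepWith @IsOpenImmersion m := repWith_of_isPullback sq.flip hc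
  let l : (yon S).obj (openOver D.U) ⟶ F.obj := sq.lift s (𝟙 _) (by
    show ((yon S).map (openInc D.U) ≫ D.a) ≫ f.hom = 𝟙 _ ≫ (yon S).map (openInc D.U ≫ D.G) ≫ D.b
    rw [Category.id_comp, Category.assoc, D.sq, Functor.map_comp_assoc])
  obtain ⟨w, hw⟩ := isPullback_section q l (sq.lift_snd _ _ _)
  obtain ⟨d, hd, -⟩ := isPullback_diagonal_baseChange sq
  have hl : RepWith @IsClosedImmersion l := repWith_of_isPullback hw (repWith_of_isPullback hd hs)
  have hcl : IsClosed (Set.range (Points.map l)) :=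
    (isClosedMap_map_of_repWith (fun g (hg : IsClosedImmersion g) => g.isClosedEmbedding.isClosedMap) hl).isClosed_range
  obtain ⟨u₀, rfl⟩ := ht
  obtain ⟨z, hz1, hz2⟩ := points_exists_of_isPullback sq x (Points.ofScheme _ u₀) (by
    rw [← Points.ofPt_eq_map_ofScheme, e, ofPt_yon_map_comp]
    rfl)
  obtain ⟨A, p, hp, hps⟩ := F.2.atlas
  obtain ⟨α, rfl⟩ := surjective_ofPt hps z
  by_cases hzl : Points.ofPt p α ∈ Set.range (Points.map l)
  · obtain ⟨y, hy⟩ := hzl
    obtain ⟨u, rfl⟩ := (Points.schemeHomeo (openOver D.U)).surjective y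
    refine ⟨u.1, u.2, ?_⟩
    rw [← hz1, ← hy, ← Points.map_comp, sq.lift_fst]
    exact ((Points.ofPt_eq_map_ofScheme s u).symm.trans (ofPt_yon_map_comp _ D.a u)).symm
  · exfalso
    obtain ⟨η, hη, hη0⟩ := exists_generic_generization X.2 hX (repWith_comp hp (etale_of_openImm hm)) α
    obtain ⟨u, hu, hue⟩ := D.genX _ hη0
    refine hzl ((hη.map (Points.continuous_ofPt p)).mem_closed hcl
      ⟨Points.ofScheme (openOver D.U) ⟨u, hu⟩, ?_⟩)
    haveI := mono_of_openImm hm
    refine injective_points_map_of_mono m ?_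
    rw [← Points.map_comp, sq.lift_fst, ← Points.ofPt_eq_map_ofScheme s, Points.map_ofPt p m η]
    exact (ofPt_yon_map_comp (openInc D.U) D.a ⟨u, hu⟩).trans hue

/-- Quasi-compact case: nothing outside `U` lies over a neighbourhood of a generic point. -/
theorem exists_nhd_of_quasiCompact {X Y : Space S} {f : X ⟶ Y} (D : BiratData f) (hX : IsDecent X.obj)
    (hY : IsDecent Y.obj) (hft : LocP @LocallyOfFiniteType f.hom) (hq : IsQuasiCompactMor f.hom)
    (t₀ : ↥D.T.left) (ht₀ : Points.ofPt D.b t₀ ∈ genericPoints (Points Y.obj)) :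
    ∃ W : D.T.left.Opens, t₀ ∈ W ∧ (W : Set ↥D.T.left) ⊆ Set.range (D.U.ι ≫ D.G.left) ∧
      ∀ (x : Points X.obj) (t : ↥D.T.left), t ∈ W → Points.map f.hom x = Points.ofPt D.b t →
        ∃ u ∈ D.U, Points.ofPt D.a u = x := by
  haveI := D.imm
  haveI := mono_of_openImm D.hb
  let A₀ : Set (Points X.obj) := Points.ofPt D.a '' (D.U : Set ↥D.P.left)
  have hA₀ : IsOpen A₀ := isOpenMap_ofPt_of_etale (etale_of_openImm D.ha) _ D.U.2
  have hfib : ∀ x, Points.map f.hom x = Points.ofPt D.b t₀ → x ∈ A₀ := fun x hx => by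
    have key := (fibre_codimZero_iff f hft _ ((mem_genericPoints_iff Y.2 hY _).1 ht₀)).2 (fun x' _ hx0 => by
      obtain ⟨u, hu, rfl⟩ := D.genX x' ((mem_genericPoints_iff X.2 hX x').2 hx0)
      refine ⟨openOver D.U, D.T, (yon S).map (openInc D.U) ≫ D.a, D.b, openInc D.U ≫ D.G, ⟨u, hu⟩,
        repWith_comp (repWith_yon_map (inferInstanceAs (Etale D.U.ι))) (etale_of_openImm D.ha),
        etale_of_openImm D.hb, by rw [Category.assoc, D.sq, Functor.map_comp_assoc],
        ofPt_yon_map_comp _ _ _, ⊤, trivial, ?_, ?_⟩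
      · show LocallyQuasiFinite (Scheme.Opens.ι _ ≫ (D.U.ι ≫ D.G.left))
        infer_instance
      · show LocallyOfFiniteType (Scheme.Opens.ι _ ≫ (D.U.ι ≫ D.G.left))
        infer_instance) x hx
    exact D.genX x ((mem_genericPoints_iff X.2 hX x).2 key)
  obtain ⟨B, hB, htB, hBr⟩ := exists_isAffineOpen_mem_and_subset (x := t₀)
    (U := (D.U.ι ≫ D.G.left).opensRange) (mem_range_of_generic D t₀ ht₀)
  haveI : IsAffine (openOver B).left := hB
  let c : (yon S).obj (openOver B) ⟶ Y.obj := (yon S).map (openInc B) ≫ D.b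
  have sq := IsPullback.of_hasPullback f.hom c
  obtain ⟨A, p, hp, hps, hA⟩ := hq (IsAlgSpace.yon_obj (openOver B)) isQuasiCompactSp_yon c _ _ sq
  haveI : CompactSpace ↥A.left := hA
  obtain ⟨w, hw⟩ := (yon S).map_surjective (p ≫ pullback.snd f.hom c)
  haveI : QuasiCompact w.left := (quasiCompact_iff_compactSpace w.left).2 hA
  let Z : Set ↥A.left := (Points.ofPt (p ≫ pullback.fst f.hom c) ⁻¹' A₀)ᶜ
  have hZ : IsClosed Z := (hA₀.preimage (Points.continuous_ofPt _)).isClosed_compl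
  have hmap : ∀ α, Points.map f.hom (Points.ofPt (p ≫ pullback.fst f.hom c) α) = Points.ofPt D.b (w.left α).1 :=
    fun α => by
      rw [Points.map_ofPt, Category.assoc, pullback.condition, ← reassoc_of% hw, ofPt_yon_map_comp]
      exact ofPt_yon_map_comp (openInc B) D.b _
  have hnot : (⟨t₀, htB⟩ : ↥(openOver B).left) ∉ closure (w.left '' Z) := fun hc => by
    obtain ⟨α, hα, hs⟩ := FlatLocus.exists_specializes_of_mem_closure_image w.left hZ hc
    refine hα (hfib _ ?_)
    rw [hmap]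
    exact eq_of_specializes_generic Y.2 hY ht₀
      ((hs.map B.ι.continuous).map (Points.continuous_ofPt D.b))
  let Wset : Set ↥B := (closure (w.left '' Z))ᶜ
  refine ⟨B.ι ''ᵁ ⟨Wset, isClosed_closure.isOpen_compl⟩, ⟨⟨t₀, htB⟩, hnot, rfl⟩, ?_, ?_⟩
  · rintro _ ⟨r, -, rfl⟩
    exact hBr r.2
  rintro x _ ⟨r, hr, rfl⟩ e
  obtain ⟨z, hz1, hz2⟩ := points_exists_of_isPullback sq x (Points.ofScheme (openOver B) r) (by
    rw [← Points.ofPt_eq_map_ofScheme, e]
    exact (ofPt_yon_map_comp (openInc B) D.b r).symm)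
  obtain ⟨α, rfl⟩ := surjective_ofPt hps z
  have hwr : w.left α = r := by
    rw [Points.map_ofPt, ← hw, Points.ofPt_eq_map_ofScheme] at hz2
    exact (Points.schemeHomeo (openOver B)).injective ((Points.map_yon_map_apply w α).symm.trans hz2)
  by_contra hne
  refine hr (subset_closure ⟨α, fun h => hne ?_, hwr⟩)
  obtain ⟨u, hu, e'⟩ := h
  exact ⟨u, hu, by rw [e', ← Points.map_ofPt, hz1]⟩

theorem exists_dense_open_isIso_pullback_of_biratData {X Y : Space S} {f : X ⟶ Y} (D : BiratData f)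
    (hX : IsDecent X.obj) (hY : IsDecent Y.obj) (hft : LocP @LocallyOfFiniteType f.hom)
    (h : IsQuasiCompactMor f.hom ∨ IsSeparatedMor f.hom) :
    ∃ (V : Over S) (b : (yon S).obj V ⟶ Y.obj), RepWith @IsOpenImmersion b ∧
      Dense (Set.range (Points.ofPt b)) ∧
        ∀ ⦃P : Sp S⦄ (fst : P ⟶ X.obj) (snd : P ⟶ (yon S).obj V), IsPullback fst snd f.hom b → IsIso snd := by
  suffices h : ∃ Ω : D.T.left.Opens, (Ω : Set ↥D.T.left) ⊆ Set.range (D.U.ι ≫ D.G.left) ∧
      (∀ t, Points.ofPt D.b t ∈ genericPoints (Points Y.obj) → t ∈ Ω) ∧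
      ∀ (x : Points X.obj) (t : ↥D.T.left), t ∈ Ω → Points.map f.hom x = Points.ofPt D.b t →
        ∃ u ∈ D.U, Points.ofPt D.a u = x by
    obtain ⟨Ω, hΩ, hgen, hcond⟩ := h
    exact ⟨openOver Ω, (yon S).map (openInc Ω) ≫ D.b,
      repWith_comp (repWith_yon_map (inferInstanceAs (IsOpenImmersion Ω.ι))) D.hb,
      dense_openInc_of_generic D hY Ω hgen, isIso_snd_of_biratData D Ω hΩ hcond⟩
  haveI := D.imm
  rcases h with hq | hs
  · choose W hW hWr hWc using fun t : {t // Points.ofPt D.b t ∈ genericPoints (Points Y.obj)} =>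
      exists_nhd_of_quasiCompact D hX hY hft hq t.1 t.2
    refine ⟨⨆ t, W t, ?_, fun t ht => TopologicalSpace.Opens.mem_iSup.2 ⟨⟨t, ht⟩, hW _⟩, fun x t ht e => ?_⟩
    · intro t ht
      obtain ⟨i, hi⟩ := TopologicalSpace.Opens.mem_iSup.1 ht
      exact hWr i hi
    · obtain ⟨i, hi⟩ := TopologicalSpace.Opens.mem_iSup.1 ht
      exact hWc i x t hi e
  · exact ⟨(D.U.ι ≫ D.G.left).opensRange, subset_rfl, fun t ht => mem_range_of_generic D t ht,
      fun x t ht e => exists_mem_of_separated D hX hs x t ht e⟩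

end Groth.Agent.ASp
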