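import Groth.Prelude
import Groth.Agent.ASp.BiratOpen
import Groth.Agent.IntImage.Spread
import Groth.Agent.ASp.Decent
import Mathlib.AlgebraicGeometry.Morphisms.FlatMono
import Mathlib.AlgebraicGeometry.Morphisms.FormallyUnramified
/-!
Fibres of birational morphisms over generic points.
-/

set_option autoImplicit false
set_option backward.isDefEq.respectTransparency false
set_option linter.style.haveILetI false

universe u

open CategoryTheory CategoryTheory.Limits AlgebraicGeometry Opposite Topology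

namespace Groth.Agent.ASp

open _root_.AlgSp

section Scheme

/-- A field extension given by a ring map is algebraic. -/
def IsAlgHom {K L : Type*} [Field K] [Field L] (φ : K →+* L) : Prop :=
  letI := φ.toAlgebra
  Algebra.IsAlgebraic K L

theorem isAlgHom_comp {K L M : Type*} [Field K] [Field L] [Field M] {φ : K →+* L} {ψ : L →+* M}
    (h1 : IsAlgHom φ) (h2 : IsAlgHom ψ) : IsAlgHom (ψ.comp φ) := by
  letI := φ.toAlgebra
  letI := ψ.toAlgebra
  letI := (ψ.comp φ).toAlgebra
  haveI : IsScalarTower K L M := IsScalarTower.of_algebraMap_eq fun _ => rfl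
  haveI : Algebra.IsAlgebraic K L := h1
  haveI : Algebra.IsAlgebraic L M := h2
  exact Algebra.IsAlgebraic.trans K L M

theorem isAlgHom_of_comp {K L M : Type*} [Field K] [Field L] [Field M] {φ : K →+* L} {ψ : L →+* M}
    (h : IsAlgHom (ψ.comp φ)) : IsAlgHom φ := by
  letI := φ.toAlgebra
  letI := (ψ.comp φ).toAlgebra
  haveI : Algebra.IsAlgebraic K M := h
  let χ : L →ₐ[K] M := { ψ with commutes' := fun _ => rfl }
  exact ⟨fun x => (isAlgebraic_algHom_iff χ χ.toRingHom.injective).1 (Algebra.IsAlgebraic.isAlgebraic (χ x))⟩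

theorem isAlgHom_of_bijective {K L : Type*} [Field K] [Field L] {φ : K →+* L} (h : Function.Bijective φ) :
    IsAlgHom φ := by
  letI := φ.toAlgebra
  refine ⟨fun x => ?_⟩
  obtain ⟨y, rfl⟩ := h.2 x
  exact isAlgebraic_algebraMap y

/-- The residue field extension of a morphism at a point is algebraic. -/
def IsAlgResidue {A T : Scheme.{u}} (h : A ⟶ T) (η : ↥A) : Prop :=
  IsAlgHom (h.residueFieldMap η).hom

theorem isAlgResidue_comp_of_iso_of_unramified {P U T : Scheme.{u}} (s : P ⟶ U) [Etale s] (G : U ⟶ T) (r : ↥P)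
    (hG : IsIso (G.residueFieldMap (s r))) : IsAlgResidue (s ≫ G) r := by
  have h2 : IsAlgHom (s.residueFieldMap r).hom := by
    letI := (s.residueFieldMap r).hom.toAlgebra
    haveI : Algebra.IsSeparable ↥(U.residueField (s r)) ↥(P.residueField r) := inferInstance
    exact (inferInstance : Algebra.IsAlgebraic ↥(U.residueField (s r)) ↥(P.residueField r))
  unfold IsAlgResidue
  rw [Scheme.residueFieldMap_comp]
  exact isAlgHom_comp (isAlgHom_of_bijective (haveI := hG; ConcreteCategory.bijective_of_isIso (G.residueFieldMap (s r)))) h2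

theorem isAlgResidue_congr {A T : Scheme.{u}} {a b : A ⟶ T} (e : a = b) {η : ↥A} (h : IsAlgResidue a η) :
    IsAlgResidue b η := by
  subst e; exact h

theorem isAlgResidue_of_comp {P A T : Scheme.{u}} (t : P ⟶ A) (h : A ⟶ T) (r : ↥P)
    (halg : IsAlgResidue (t ≫ h) r) : IsAlgResidue h (t r) := by
  unfold IsAlgResidue at halg
  rw [Scheme.residueFieldMap_comp] at halg
  exact isAlgHom_of_comp (φ := (h.residueFieldMap (t r)).hom) (ψ := (t.residueFieldMap r).hom) halg

/-- An algebraic point is closed in its fibre. -/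
theorem eq_of_specializes_of_isAlgResidue {A T : Scheme.{u}} (h : A ⟶ T) {η α : ↥A} (hs : η ⤳ α) (e : h η = h α)
    (halg : IsAlgResidue h η) : η = α := by
  letI := (h.residueFieldMap η).hom.toAlgebra
  haveI : Algebra.IsAlgebraic ↥(T.residueField (h η)) ↥(A.residueField η) := halg
  let φ : ↥(A.presheaf.stalk α) →+* ↥(A.residueField η) := (A.presheaf.stalkSpecializes hs ≫ A.residue η).hom
  let D : Subalgebra ↥(T.residueField (h η)) ↥(A.residueField η) :=
    { φ.range.toSubsemiring with
      algebraMap_mem' := fun c => by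
        obtain ⟨c, rfl⟩ := T.residue_surjective (h η) c
        refine ⟨h.stalkMap α (T.presheaf.stalkSpecializes (Inseparable.of_eq e.symm).specializes c), ?_⟩
        show A.residue η (A.presheaf.stalkSpecializes hs (h.stalkMap α _)) =
          h.residueFieldMap η (T.residue (h η) c)
        rw [← Scheme.Hom.stalkSpecializes_stalkMap_apply, ← CommRingCat.comp_apply (T.residue (h η)),
          Scheme.residue_residueFieldMap, CommRingCat.comp_apply, ← CommRingCat.comp_apply (T.presheaf.stalkSpecializes _) (T.presheaf.stalkSpecializes _),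
          TopCat.Presheaf.stalkSpecializes_comp, TopCat.Presheaf.stalkSpecializes_refl]
        rfl }
  have hfield : IsField D := Subalgebra.isField_of_algebraic D
  have hunit : ∀ s, φ s ≠ 0 → IsUnit s := fun s hs0 => by
    obtain ⟨⟨d, hd⟩, hsd⟩ := hfield.mul_inv_cancel (a := (⟨φ s, s, rfl⟩ : D))
      (fun h0 => hs0 (congrArg Subtype.val h0))
    obtain ⟨s', rfl⟩ := hd
    have h1 : φ (s * s') = 1 := by
      rw [map_mul]
      exact congrArg Subtype.val hsd
    by_contra hnu
    have : IsUnit (1 - s * s') := (IsLocalRing.isUnit_or_isUnit_of_add_one (sub_add_cancel 1 (s * s'))).resolve_right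
      fun hu => hnu (isUnit_of_mul_isUnit_left hu)
    have h2 := this.map φ
    rw [map_sub, map_one, h1, sub_self] at h2
    exact not_isUnit_zero h2
  refine (hs.antisymm ?_).eq
  rw [specializes_iff_forall_open]
  intro O hO hηO
  obtain ⟨B, hB, hαB, -⟩ := exists_isAffineOpen_mem_and_subset (X := A) (x := α) (U := ⊤) trivial
  have hηB : η ∈ B := hs.mem_open B.2 hαB
  obtain ⟨a, ha, hηa⟩ := hB.exists_basicOpen_le (V := ⟨O, hO⟩) ⟨η, hηO⟩ hηB
  refine ha ((Scheme.mem_basicOpen A a α hαB).2 (hunit _ ?_))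
  have h3 : IsUnit (A.presheaf.germ B η hηB a) := (Scheme.mem_basicOpen A a η hηB).1 hηa
  show A.residue η (A.presheaf.stalkSpecializes hs (A.presheaf.germ B α hαB a)) ≠ 0
  rw [← CommRingCat.comp_apply (A.presheaf.germ B α hαB), TopCat.Presheaf.germ_stalkSpecializes]
  exact (h3.map (A.residue η).hom).ne_zero

/-- Morphisms into a point of dimension zero factor through its local ring. -/
theorem exists_fac_fromSpecStalk {A U : Scheme.{u}} (k : A ⟶ U) {u : ↥U} (hk : ∀ α, k α = u)
    (hu : ∀ z, z ⤳ u → z = u) : ∃ μ : A ⟶ Spec (U.presheaf.stalk u), μ ≫ U.fromSpecStalk u = k := by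
  haveI : Subsingleton ↥(Spec (U.presheaf.stalk u)) := ⟨fun p q => by
    have h : ∀ p, U.fromSpecStalk u p = u := fun p => hu _ (by
      have : U.fromSpecStalk u p ∈ Set.range (U.fromSpecStalk u) := ⟨p, rfl⟩
      rwa [Scheme.range_fromSpecStalk] at this)
    exact (U.fromSpecStalk u).isEmbedding.injective ((h p).trans (h q).symm)⟩
  haveI : QuasiCompact (U.fromSpecStalk u) := quasiCompact_of_subsingleton _
  haveI : Flat (U.fromSpecStalk u) := Groth.Agent.IntImage.flat_fromSpecStalk u
  let z := pullback.fst k (U.fromSpecStalk u)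
  haveI : Flat z := MorphismProperty.pullback_fst _ _ ‹Flat (U.fromSpecStalk u)›
  haveI : QuasiCompact z := MorphismProperty.pullback_fst _ _ ‹QuasiCompact (U.fromSpecStalk u)›
  haveI : Surjective z := ⟨fun α => by
    have : α ∈ Set.range z := by
      rw [Scheme.Pullback.range_fst, Set.mem_preimage, Scheme.range_fromSpecStalk]
      exact specializes_of_eq (hk α)
    exact this⟩
  haveI : IsIso z := Flat.isIso_of_surjective_of_mono z
  exact ⟨inv z ≫ pullback.snd k (U.fromSpecStalk u), by rw [Category.assoc, ← pullback.condition, IsIso.inv_hom_id_assoc]⟩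

end Scheme

variable {S : Scheme.{u}}

/-- Over a generic point, a birational morphism of decent spaces has a single point. -/
theorem eq_of_map_generic {X Y : Space S} (f : X ⟶ Y) (hX : IsDecent X.obj) (hY : IsDecent Y.obj)
    (hf : W4stk3decentspacesp2.IsBirational f.hom) {x : Points X.obj} (hx : x ∈ genericPoints (Points X.obj))
    {U₁ T : Over S} {a₁ : (yon S).obj U₁ ⟶ X.obj} {bT : (yon S).obj T ⟶ Y.obj} (ha₁ : RepWith @IsOpenImmersion a₁)
    (hbT : RepWith @IsOpenImmersion bT) {G : U₁ ⟶ T} (e₁ : a₁ ≫ f.hom = (yon S).map G ≫ bT) {u : ↥U₁.left}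
    (hu : Points.ofPt a₁ u = x) (hG : IsIso (G.left.stalkMap u)) (x' : Points X.obj)
    (hx' : Points.map f.hom x' = Points.map f.hom x) : x' = x := by
  haveI := mono_of_openImm hbT
  obtain ⟨A₀, c₀, hc₀, hc₀s⟩ := X.property.atlas
  obtain ⟨α₀, rfl⟩ := surjective_ofPt hc₀s x'
  obtain ⟨A, h, o, sq⟩ : ∃ (A : Over S) (h : A ⟶ T) (o : A ⟶ A₀),
      IsPullback ((yon S).map h) ((yon S).map o) bT (c₀ ≫ f.hom) := by
    obtain ⟨h, hh⟩ := (yon S).map_surjective (hbT.1.fst (c₀ ≫ f.hom))
    exact ⟨_, h, hbT.1.snd (c₀ ≫ f.hom), hh.symm ▸ hbT.1.isPullback (c₀ ≫ f.hom)⟩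
  haveI : IsOpenImmersion o.left := hbT.2 _ _ o sq
  have ht₀ : Points.map f.hom x = Points.ofPt bT (G.left u) := by
    rw [← hu, Points.map_ofPt, e₁, ofPt_yon_map_comp]
  have hy := hf.bijOn.mapsTo hx
  let c : (yon S).obj A ⟶ X.obj := (yon S).map o ≫ c₀
  have hc : RepWith @Etale c := repWith_comp (repWith_yon_map (inferInstanceAs (Etale o.left))) hc₀
  have hcf : c ≫ f.hom = (yon S).map h ≫ bT := by rw [Category.assoc, ← sq.w]
  have hmap : ∀ β, Points.map f.hom (Points.ofPt c β) = Points.ofPt bT (h.left β) := fun β => by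
    rw [Points.map_ofPt, hcf, ofPt_yon_map_comp]
  obtain ⟨z, -, hz⟩ := points_exists_of_isPullback sq (Points.ofScheme T (G.left u)) (Points.ofScheme A₀ α₀) (by
    rw [← Points.ofPt_eq_map_ofScheme, ← Points.ofPt_eq_map_ofScheme, ← Points.map_ofPt c₀ f.hom α₀, hx', ht₀])
  obtain ⟨α, rfl⟩ := (Points.schemeHomeo A).surjective z
  rw [Points.map_yon_map_apply] at hz
  obtain rfl := (Points.schemeHomeo A₀).injective hz
  rw [show Points.ofPt c₀ (o.left α) = Points.ofPt c α from (ofPt_yon_map_comp o c₀ α).symm] at hx' ⊢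
  obtain ⟨η, hη, hη0⟩ := exists_generic_generization X.property hX hc α
  have hfη : Points.map f.hom (Points.ofPt c η) = Points.map f.hom x :=
    eq_of_specializes_generic Y.property hY hy
      (hx' ▸ (hη.map (Points.continuous_ofPt c)).map (Points.continuous_map f.hom))
  have hηx : Points.ofPt c η = x := hf.bijOn.injOn hη0 hx hfη
  have hhη : h.left η = G.left u ∧ h.left α = G.left u :=
    ⟨injective_ofPt_of_mono bT (by rw [← hmap, hfη, ht₀]), injective_ofPt_of_mono bT (by rw [← hmap, hx', ht₀])⟩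
  obtain ⟨P, t, s, r, ht, hs, hcomm, htr, hsr⟩ := exists_common_point hc (etale_of_openImm ha₁) (hηx.trans hu.symm)
  have hts : t.left ≫ h.left = s.left ≫ G.left := by
    have h0 : t ≫ h = s ≫ G := (yon S).map_injective ((cancel_mono bT).1 (by
      rw [Functor.map_comp, Functor.map_comp, Category.assoc, Category.assoc, ← hcf, ← e₁, reassoc_of% hcomm]))
    rw [← Over.comp_left, ← Over.comp_left, h0]
  have hres : IsIso (G.left.residueFieldMap (s.left r)) := by
    subst hsr
    haveI := hG
    rw [ConcreteCategory.isIso_iff_bijective]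
    refine ⟨(G.left.residueFieldMap (s.left r)).hom.injective, fun y => ?_⟩
    obtain ⟨y, rfl⟩ := U₁.left.residue_surjective _ y
    obtain ⟨z, rfl⟩ := (ConcreteCategory.bijective_of_isIso (G.left.stalkMap (s.left r))).2 y
    exact ⟨T.left.residue _ z, by
      rw [← CommRingCat.comp_apply, Scheme.residue_residueFieldMap]
      rfl⟩
  have halg : IsAlgResidue h.left η := htr ▸ isAlgResidue_of_comp t.left h.left r
    (isAlgResidue_congr hts.symm (isAlgResidue_comp_of_iso_of_unramified s.left G.left r hres))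
  rw [← eq_of_specializes_of_isAlgResidue h.left hη (hhη.1.trans hhη.2.symm) halg, hηx]

/-- The base change of a birational morphism to the local ring of a generic point is an isomorphism. -/
theorem isIso_snd_generic {X Y : Space S} (f : X ⟶ Y) (hX : IsDecent X.obj) (hY : IsDecent Y.obj)
    (hf : W4stk3decentspacesp2.IsBirational f.hom) {V : Over S} (b : (yon S).obj V ⟶ Y.obj)
    (hb : RepWith @IsOpenImmersion b) (v : ↥V.left) (hv : Points.ofPt b v ∈ genericPoints (Points Y.obj))
    {P : Sp S} (fst : P ⟶ X.obj) (snd : P ⟶ (yon S).obj (Over.mk (V.left.fromSpecStalk v ≫ V.hom)))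
    (hP : IsPullback fst snd f.hom
      ((yon S).map (Over.homMk (V.left.fromSpecStalk v) rfl : Over.mk (V.left.fromSpecStalk v ≫ V.hom) ⟶ V) ≫ b)) :
    IsIso snd := by
  obtain ⟨x, hx, hxy⟩ := hf.bijOn.surjOn hv
  obtain ⟨U₁, V₁, a₁, b₁, g, u, ha₁, hb₁, e₁, hu, hg⟩ := hf.stalkIso x hx
  obtain ⟨T, bT, hbT, hmax⟩ := exists_universal_schemeOpen Y
  obtain ⟨w, hw, hwb⟩ := hmax b hb
  obtain ⟨w₁, hw₁, hwb₁⟩ := hmax b₁ hb₁
  haveI := mono_of_openImm hbT
  haveI := mono_of_openImm ha₁
  haveI := hw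
  let G : U₁ ⟶ T := g ≫ w₁
  have e : a₁ ≫ f.hom = (yon S).map G ≫ bT := by rw [Functor.map_comp, Category.assoc, hwb₁, e₁]
  haveI hG : IsIso (G.left.stalkMap u) := by
    show IsIso ((g.left ≫ w₁.left).stalkMap u)
    rw [Scheme.Hom.stalkMap_comp]
    haveI := hw₁
    haveI := hg
    exact IsIso.comp_isIso
  have huniq := eq_of_map_generic f hX hY hf hx ha₁ hbT e hu hG
  have htv : G.left u = w.left v := injective_ofPt_of_mono bT (by
    rw [← ofPt_yon_map_comp w bT v, hwb, ← hxy, ← hu, Points.map_ofPt, e, ofPt_yon_map_comp])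
  have humin : ∀ z, z ⤳ u → z = u := fun z hz => injective_ofPt_of_mono a₁
    (eq_of_specializes_generic X.property hX (hu.symm ▸ hx) (hz.map (Points.continuous_ofPt a₁)))
  have hVmin : ∀ z, z ⤳ v → z = v := fun z hz => by
    haveI := mono_of_openImm hb
    exact injective_ofPt_of_mono b (eq_of_specializes_generic Y.property hY hv (hz.map (Points.continuous_ofPt b)))
  let φ : U₁.left.presheaf.stalk u ⟶ V.left.presheaf.stalk v :=
    inv (G.left.stalkMap u) ≫ T.left.presheaf.stalkSpecializes (Inseparable.of_eq htv).symm.specializes ≫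
      w.left.stalkMap v
  have hφ : G.left.stalkMap u ≫ φ =
      T.left.presheaf.stalkSpecializes (Inseparable.of_eq htv).symm.specializes ≫ w.left.stalkMap v := by
    simp [φ]
  have hc₀ : Spec.map φ ≫ U₁.left.fromSpecStalk u ≫ G.left = V.left.fromSpecStalk v ≫ w.left := by
    rw [← Scheme.SpecMap_stalkMap_fromSpecStalk, ← Spec.map_comp_assoc, hφ, Spec.map_comp, Category.assoc,
      Scheme.SpecMap_stalkSpecializes_fromSpecStalk, Scheme.SpecMap_stalkMap_fromSpecStalk]
  let Sv : Over S := Over.mk (V.left.fromSpecStalk v ≫ V.hom)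
  let jv : Sv ⟶ V := Over.homMk (V.left.fromSpecStalk v) rfl
  let s₀ : Sv ⟶ U₁ := Over.homMk (Spec.map φ ≫ U₁.left.fromSpecStalk u) (by
    show (Spec.map φ ≫ U₁.left.fromSpecStalk u) ≫ U₁.hom = V.left.fromSpecStalk v ≫ V.hom
    rw [← Over.w G, ← Over.w w, ← Category.assoc _ G.left, Category.assoc (Spec.map φ), hc₀, Category.assoc])
  have hs₀ : s₀ ≫ G = jv ≫ w := Over.OverMorphism.ext (by
    show (Spec.map φ ≫ U₁.left.fromSpecStalk u) ≫ G.left = V.left.fromSpecStalk v ≫ w.left
    rw [Category.assoc, hc₀])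
  let l := hP.lift ((yon S).map s₀ ≫ a₁) (𝟙 _) (by
    rw [Category.id_comp, Category.assoc, e, ← Functor.map_comp_assoc, hs₀, Functor.map_comp_assoc, hwb])
  refine ⟨l, hP.hom_ext ?_ ?_, hP.lift_snd _ _ _⟩
  swap
  · rw [Category.assoc, hP.lift_snd, Category.comp_id, Category.id_comp]
  rw [Category.assoc, hP.lift_fst, Category.id_comp]
  have hPa : IsAlgSpace P := isAlgSpace_of_isPullback Y.property.diag X.property (IsAlgSpace.yon_obj _) hP
  obtain ⟨A, p, hp, hps⟩ := hPa.atlas
  haveI : Epi p := epi_of_etale_surjective hp hps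
  rw [← cancel_epi p]
  obtain ⟨m, hm⟩ := (yon S).map_surjective (p ≫ snd)
  rw [← reassoc_of% hm]
  have hpts : ∀ α, Points.ofPt (p ≫ fst) α = x := fun α => by
    refine huniq _ ?_
    have hv' : V.left.fromSpecStalk v (m.left α) = v := hVmin _ (by
      have : V.left.fromSpecStalk v (m.left α) ∈ Set.range (V.left.fromSpecStalk v) := ⟨m.left α, rfl⟩
      rwa [Scheme.range_fromSpecStalk] at this)
    rw [Points.map_ofPt, Category.assoc, hP.w, ← reassoc_of% hm, ofPt_yon_map_comp, ofPt_yon_map_comp, hxy]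
    exact congrArg (Points.ofPt b) hv'
  obtain ⟨A', k', z, sq⟩ : ∃ (A' : Over S) (k' : A' ⟶ U₁) (z : A' ⟶ A),
      IsPullback ((yon S).map k') ((yon S).map z) a₁ (p ≫ fst) := by
    obtain ⟨h, hh⟩ := (yon S).map_surjective (ha₁.1.fst (p ≫ fst))
    exact ⟨_, h, ha₁.1.snd (p ≫ fst), hh.symm ▸ ha₁.1.isPullback (p ≫ fst)⟩
  haveI : IsOpenImmersion z.left := ha₁.2 _ _ z sq
  haveI : Surjective z.left := ⟨fun α => by
    obtain ⟨q, -, hq⟩ := points_exists_of_isPullback sq (Points.ofScheme U₁ u) (Points.ofScheme A α)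
      (by rw [← Points.ofPt_eq_map_ofScheme, ← Points.ofPt_eq_map_ofScheme, hu, hpts])
    obtain ⟨r, rfl⟩ := (Points.schemeHomeo A').surjective q
    rw [Points.map_yon_map_apply] at hq
    exact ⟨r, (Points.schemeHomeo A).injective hq⟩⟩
  haveI : Epi z.left.base := (TopCat.epi_iff_surjective _).2 z.left.surjective
  haveI : IsIso z.left := (isIso_iff_isOpenImmersion_and_epi_base _).2 ⟨inferInstance, inferInstance⟩
  haveI : IsIso ((Over.forget S).map z) := ‹IsIso z.left›
  haveI : IsIso z := isIso_of_reflects_iso z (Over.forget S)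
  let k : A ⟶ U₁ := inv z ≫ k'
  have hk : (yon S).map k ≫ a₁ = p ≫ fst := by
    rw [Functor.map_comp, Category.assoc, sq.w, ← Functor.map_comp_assoc, IsIso.inv_hom_id, CategoryTheory.Functor.map_id,
      Category.id_comp]
  rw [← hk, ← Functor.map_comp_assoc]
  congr 2
  have hku : ∀ α, k.left α = u := fun α => injective_ofPt_of_mono a₁ (by
    rw [← ofPt_yon_map_comp k a₁ α, hk, hpts, hu])
  obtain ⟨μ, hμ⟩ := exists_fac_fromSpecStalk k.left hku humin
  have hkG : k ≫ G = m ≫ jv ≫ w := (yon S).map_injective ((cancel_mono bT).1 (by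
    rw [Functor.map_comp, Category.assoc, ← e, reassoc_of% hk, hP.w, ← reassoc_of% hm]
    simp only [Functor.map_comp, Category.assoc, hwb]
    rfl))
  refine Over.OverMorphism.ext ?_
  show m.left ≫ Spec.map φ ≫ U₁.left.fromSpecStalk u = k.left
  rw [← hμ]
  suffices hμ' : m.left ≫ Spec.map φ = μ by rw [← hμ', Category.assoc]
  rw [← cancel_mono (Spec.map (G.left.stalkMap u)), ← cancel_mono (T.left.fromSpecStalk (G.left u)),
    Category.assoc, Category.assoc, Category.assoc, Scheme.SpecMap_stalkMap_fromSpecStalk, hc₀,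
    ← Category.assoc μ, hμ, ← Over.comp_left, hkG]
  rfl

end Groth.Agent.ASp
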