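import Groth.Agent.ASp.RedSub
import Groth.Agent.ASp.ChartDim
import Groth.Agent.RegHomLib.Basic
import Groth.Agent.IntImage.Spread
import Mathlib.AlgebraicGeometry.Morphisms.Smooth
import Groth.Prelude.Def_FDesc
/-!
Reducedness of local rings and geometric reducedness are etale local.
-/

set_option backward.isDefEq.respectTransparency false
set_option backward.isDefEq.respectTransparency.types false

universe u

open CategoryTheory CategoryTheory.Limits AlgebraicGeometry

namespace Groth.Agent.ASp

open _root_.AlgSp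

theorem injective_stalkMap_of_flat {V U : Scheme.{u}} (t : V ⟶ U) [Flat t] (v : V) :
    Function.Injective (t.stalkMap v).hom := by
  algebraize [(t.stalkMap v).hom]
  haveI : IsLocalHom (algebraMap (U.presheaf.stalk (t v)) (V.presheaf.stalk v)) := t.toLRSHom.prop v
  haveI : Module.Flat (U.presheaf.stalk (t v)) (V.presheaf.stalk v) := Flat.stalkMap t v
  haveI : Module.FaithfullyFlat (U.presheaf.stalk (t v)) (V.presheaf.stalk v) :=
    Module.FaithfullyFlat.of_flat_of_isLocalHom
  exact FaithfulSMul.algebraMap_injective _ _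

theorem isReduced_stalk_iff_of_etale {V U : Scheme.{u}} (t : V ⟶ U) [Etale t] (v : V) :
    _root_.IsReduced (V.presheaf.stalk v) ↔ _root_.IsReduced (U.presheaf.stalk (t v)) := by
  refine ⟨fun _ => isReduced_of_injective (t.stalkMap v).hom (injective_stalkMap_of_flat t v), fun h => ?_⟩
  haveI : IsReduced (Spec (U.presheaf.stalk (t v))) := inferInstance
  let c := U.fromSpecStalk (t v)
  haveI : Etale (pullback.snd t c) := MorphismProperty.pullback_snd _ _ inferInstance
  haveI : IsReduced (pullback t c) := isReduced_of_etale (pullback.snd t c)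
  haveI : IsPreimmersion (pullback.fst t c) := MorphismProperty.pullback_fst _ _ inferInstance
  haveI : Flat c := Groth.Agent.IntImage.flat_fromSpecStalk (t v)
  haveI : Flat (pullback.fst t c) := MorphismProperty.pullback_fst _ _ inferInstance
  obtain ⟨z, hz⟩ : v ∈ Set.range (pullback.fst t c) := by
    rw [Scheme.Pullback.range_fst, Set.mem_preimage, Scheme.range_fromSpecStalk]
    exact specializes_rfl
  rw [← hz]
  exact isReduced_of_injective ((pullback.fst t c).stalkMap z).hom
    (injective_stalkMap_of_flat (pullback.fst t c) z)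

/-- Geometric reducedness at a point is insensitive to etale maps. -/
theorem isGeomReducedAt_iff_of_etale {k : Type u} [Field k] {V U : Scheme.{u}} (t : V ⟶ U) [Etale t]
    (f : U ⟶ Spec (CommRingCat.of k)) (v : V) :
    FBase.IsGeomReducedAt (t ≫ f) v ↔ FBase.IsGeomReducedAt f (t v) := by
  have key : ∀ (K : Type u) [Field K] [Algebra k K], ∃ T : FBase.bc (t ≫ f) K ⟶ FBase.bc f K,
      Etale T ∧ IsPullback T (FBase.bcπ (t ≫ f) K) (FBase.bcπ f K) t := by
    intro K _ _
    obtain ⟨T, h1, h2⟩ : ∃ T : FBase.bc (t ≫ f) K ⟶ FBase.bc f K, T ≫ FBase.bcπ f K = FBase.bcπ (t ≫ f) K ≫ t ∧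
        T ≫ pullback.snd f (Spec.map (CommRingCat.ofHom (algebraMap k K))) =
          pullback.snd (t ≫ f) (Spec.map (CommRingCat.ofHom (algebraMap k K))) :=
      ⟨pullback.lift (pullback.fst _ _ ≫ t) (pullback.snd _ _) (by rw [Category.assoc, pullback.condition]),
        pullback.lift_fst _ _ _, pullback.lift_snd _ _ _⟩
    have sq : IsPullback T (FBase.bcπ (t ≫ f) K) (FBase.bcπ f K) t := by
      refine IsPullback.of_right ?_ h1 (IsPullback.of_hasPullback f _).flip
      rw [h2]
      exact (IsPullback.of_hasPullback (t ≫ f) _).flip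
    exact ⟨T, MorphismProperty.of_isPullback (P := @Etale) sq.flip ‹_›, sq⟩
  constructor
  · intro h K _ _ x' hx'
    obtain ⟨T, hT, sq⟩ := key K
    obtain ⟨z, hz1, hz2⟩ := Scheme.exists_preimage_of_isPullback sq x' v hx'
    have := (isReduced_stalk_iff_of_etale T z).1 (h K z hz2)
    subst hz1
    exact this
  · intro h K _ _ z hz
    obtain ⟨T, hT, sq⟩ := key K
    refine (isReduced_stalk_iff_of_etale T z).2 (h K (T z) ?_)
    change (FBase.bcπ f K) (T z) = t v
    rw [← Scheme.Hom.comp_apply, sq.w, Scheme.Hom.comp_apply]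
    exact congrArg t hz

variable {k : Type u} [Field k]

/-- Local rings of a scheme smooth over a field are regular. -/
theorem isRegularLocalRing_stalk_of_smooth_field {Y : Scheme.{u}} (f : Y ⟶ Spec (CommRingCat.of k)) [Smooth f]
    (x : Y) : IsRegularLocalRing (Y.presheaf.stalk x) := by
  obtain ⟨U, hU, hxU, -⟩ := exists_isAffineOpen_mem_and_subset (X := Y) (x := x) (U := ⊤) trivial
  have h := HasRingHomProperty.appLE (P := @Smooth) f inferInstance ⟨⊤, isAffineOpen_top _⟩ ⟨U, hU⟩ le_top
  let ψ : k →+* Γ(Y, U) := (f.appLE ⊤ U le_top).hom.comp (Scheme.ΓSpecIso (CommRingCat.of k)).inv.hom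
  have hψ : ψ.Smooth := RingHom.Smooth.respectsIso.2 _
    (Scheme.ΓSpecIso (CommRingCat.of k)).symm.commRingCatIsoToRingEquiv h
  algebraize [ψ]
  haveI := RegHomLib.isRegularRing_of_smooth k Γ(Y, U)
  letI := TopCat.Presheaf.algebra_section_stalk Y.presheaf (⟨x, hxU⟩ : U)
  haveI := hU.isLocalization_stalk ⟨x, hxU⟩
  haveI := @IsRegularRing.isRegularLocalRing_localization _ _ _ (hU.primeIdealOf ⟨x, hxU⟩).asIdeal
    (hU.primeIdealOf ⟨x, hxU⟩).isPrime
  exact IsRegularLocalRing.of_ringEquiv (IsLocalization.algEquiv (hU.primeIdealOf ⟨x, hxU⟩).asIdeal.primeCompl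
    (Localization.AtPrime (hU.primeIdealOf ⟨x, hxU⟩).asIdeal) (Y.presheaf.stalk x)).toRingEquiv

theorem isGeomReducedAt_of_charts {X : Sp (Spec (CommRingCat.of k))} {U V : Over (Spec (CommRingCat.of k))}
    {a : (yon (Spec (CommRingCat.of k))).obj U ⟶ X} {b : (yon (Spec (CommRingCat.of k))).obj V ⟶ X}
    (ha : RepWith @Etale a) (hb : RepWith @Etale b) {u : ↥U.left} {v : ↥V.left}
    (e : Points.ofPt a u = Points.ofPt b v) (h : FBase.IsGeomReducedAt U.hom u) :
    FBase.IsGeomReducedAt V.hom v := by
  obtain ⟨P, t, s, r, ht, hs, -, rfl, rfl⟩ := exists_common_point ha hb e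
  rw [← isGeomReducedAt_iff_of_etale] at h ⊢
  rwa [Over.w s, ← Over.w t]

end Groth.Agent.ASp
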