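import Groth.Prelude
import Groth.Agent.ASp.BiratFibre
import Groth.Agent.ASp.GeomRedEt
/-!
Etale base change of birational morphisms.
-/

set_option autoImplicit false
set_option backward.isDefEq.respectTransparency false
set_option linter.style.haveILetI false

universe u

open CategoryTheory CategoryTheory.Limits AlgebraicGeometry Opposite Topology

namespace Groth.Agent.ASp

open _root_.AlgSp

variable {S : Scheme.{u}}

theorem isIso_stalkMap_of_flat_preimmersion {A B : Scheme.{u}} (h : A ⟶ B) [Flat h] [IsPreimmersion h] (z : ↥A) :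
    IsIso (h.stalkMap z) :=
  (ConcreteCategory.isIso_iff_bijective _).2 ⟨injective_stalkMap_of_flat h z, h.stalkMap_surjective z⟩

theorem finite_irreducibleComponents_of_genericPoints {α : Type*} [TopologicalSpace α] [QuasiSober α]
    (h : (genericPoints α).Finite) : (irreducibleComponents α).Finite :=
  @Finite.of_surjective _ _ h.to_subtype _ genericPoints.component_surjective

/-- Codimension zero is preserved and reflected by etale representable maps. -/
theorem mem_genericPoints_map_iff {F G : Sp S} (hF : IsAlgSpace F) (hG : IsAlgSpace G) (dF : IsDecent F)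
    (dG : IsDecent G) {c : F ⟶ G} (hc : RepWith @Etale c) (z : Points F) :
    Points.map c z ∈ genericPoints (Points G) ↔ z ∈ genericPoints (Points F) := by
  obtain ⟨A, p, hp, hps⟩ := hF.atlas
  obtain ⟨α, rfl⟩ := surjective_ofPt hps z
  rw [mem_genericPoints_iff hG dG, mem_genericPoints_iff hF dF]
  constructor
  · intro h
    exact ⟨A, p, α, hp, rfl,
      (hasAt_ringKrullDim_iff hG _ 0).1 h A (p ≫ c) α (repWith_comp hp hc) (Points.map_ofPt p c α).symm⟩
  · intro h
    exact ⟨A, p ≫ c, α, repWith_comp hp hc, (Points.map_ofPt p c α).symm,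
      (hasAt_ringKrullDim_iff hF _ 0).1 h A p α hp rfl⟩

variable {X Y : Space S} {f : X ⟶ Y}

/-- The local shape of the base change over one generic point. -/
theorem exists_chart_over_generic (hX : IsDecent X.obj) (hY : IsDecent Y.obj)
    (hf : W4stk3decentspacesp2.IsBirational f.hom) {V : Over S} {b : (yon S).obj V ⟶ Y.obj} (hb : RepWith @Etale b)
    {P : Sp S} {fst : P ⟶ X.obj} {snd : P ⟶ (yon S).obj V} (hP : IsPullback fst snd f.hom b) {x : Points X.obj}
    (hx : x ∈ genericPoints (Points X.obj)) :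
    ∃ (W : Over S) (aW : (yon S).obj W ⟶ P) (k : W ⟶ V), RepWith @IsOpenImmersion aW ∧
      aW ≫ snd = (yon S).map k ∧
      (∀ z, Points.map fst z = x → ∃ w, Points.ofPt aW w = z) ∧
      (∀ w w', Points.map fst (Points.ofPt aW w) = x → Points.map fst (Points.ofPt aW w') = x →
        k.left w = k.left w' → w = w') ∧
      (∀ w, Points.map fst (Points.ofPt aW w) = x → IsIso (k.left.stalkMap w)) ∧
      (∀ v, Points.ofPt b v = Points.map f.hom x → ∃ w, Points.map fst (Points.ofPt aW w) = x ∧ k.left w = v) := by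
  obtain ⟨U₁, V₁, a₁, b₁, g, u, ha₁, hb₁, e₁, hu, hg⟩ := hf.stalkIso x hx
  obtain ⟨T, bT, hbT, hmax⟩ := exists_universal_schemeOpen Y
  obtain ⟨w₁, hw₁, hwb₁⟩ := hmax b₁ hb₁
  haveI := mono_of_openImm hbT
  haveI := mono_of_openImm ha₁
  let G : U₁ ⟶ T := g ≫ w₁
  have e : a₁ ≫ f.hom = (yon S).map G ≫ bT := by rw [Functor.map_comp, Category.assoc, hwb₁, e₁]
  haveI hG : IsIso (G.left.stalkMap u) := by
    show IsIso ((g.left ≫ w₁.left).stalkMap u)
    rw [Scheme.Hom.stalkMap_comp]
    haveI := hw₁
    haveI := hg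
    exact IsIso.comp_isIso
  obtain ⟨V', et, j, sqV⟩ : ∃ (V' : Over S) (et : V' ⟶ T) (j : V' ⟶ V),
      IsPullback ((yon S).map et) ((yon S).map j) bT b := by
    obtain ⟨h, hh⟩ := (yon S).map_surjective (hbT.1.fst b)
    exact ⟨_, h, hbT.1.snd b, hh.symm ▸ hbT.1.isPullback b⟩
  haveI : IsOpenImmersion j.left := hbT.2 _ _ j sqV
  haveI : Etale et.left := hb.2 _ _ et sqV.flip
  obtain ⟨W, o, i, sqW⟩ : ∃ (W : Over S) (o : W ⟶ U₁) (i : W ⟶ V'), IsPullback o i G et :=
    ⟨_, _, _, IsPullback.of_hasPullback G et⟩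
  have sqWy : IsPullback ((yon S).map o) ((yon S).map i) ((yon S).map G) ((yon S).map et) := isPullback_yon_map sqW
  have sqWb : IsPullback ((yon S).map o) ((yon S).map i ≫ (yon S).map j) ((yon S).map G ≫ bT) b :=
    sqWy.paste_vert sqV
  let aW : (yon S).obj W ⟶ P := hP.lift ((yon S).map o ≫ a₁) ((yon S).map (i ≫ j))
    (by rw [Category.assoc, e, sqWb.w, Functor.map_comp])
  have hsq : IsPullback ((yon S).map o) aW a₁ fst := by
    refine IsPullback.of_bot ?_ (hP.lift_fst _ _ _).symm hP
    rw [hP.lift_snd, Functor.map_comp, e]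
    exact sqWb
  have hmapo : ∀ w, Points.map fst (Points.ofPt aW w) = Points.ofPt a₁ (o.left w) := fun w => by
    rw [Points.map_ofPt, hP.lift_fst, ofPt_yon_map_comp]
  have hou : ∀ w, Points.map fst (Points.ofPt aW w) = x → o.left w = u := fun w hw =>
    injective_ofPt_of_mono a₁ (by rw [← hmapo, hw, hu])
  have sqWl : IsPullback o.left i.left G.left et.left := isPullback_left sqW
  let q := U₁.left.fromSpecStalk u
  haveI : Flat q := Groth.Agent.IntImage.flat_fromSpecStalk u
  let π := pullback.fst o.left q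
  haveI : Flat π := MorphismProperty.pullback_fst _ _ ‹Flat q›
  haveI : IsPreimmersion π := MorphismProperty.pullback_fst _ _ (inferInstance : IsPreimmersion q)
  have sqQ : IsPullback (pullback.snd o.left q) (π ≫ i.left) (q ≫ G.left) et.left :=
    (IsPullback.of_hasPullback o.left q).flip.paste_vert sqWl
  have hqG : q ≫ G.left = Spec.map (G.left.stalkMap u) ≫ T.left.fromSpecStalk (G.left u) :=
    (Scheme.SpecMap_stalkMap_fromSpecStalk _).symm
  haveI : Flat (T.left.fromSpecStalk (G.left u)) := Groth.Agent.IntImage.flat_fromSpecStalk _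
  haveI : Flat (π ≫ i.left) := MorphismProperty.of_isPullback (P := @Flat) sqQ (by rw [hqG]; infer_instance)
  haveI : IsPreimmersion (π ≫ i.left) :=
    MorphismProperty.of_isPullback (P := @IsPreimmersion) sqQ (by rw [hqG]; infer_instance)
  have hrange : ∀ w, o.left w = u → w ∈ Set.range π := fun w hw => by
    rw [Scheme.Pullback.range_fst, Set.mem_preimage, Scheme.range_fromSpecStalk]
    exact specializes_of_eq hw
  refine ⟨W, aW, i ≫ j, repWith_of_isPullback hsq ha₁, hP.lift_snd _ _ _, fun z hz => ?_, fun w w' hw hw' he => ?_,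
    fun w hw => ?_, fun v hv => ?_⟩
  · obtain ⟨p, -, hp⟩ := points_exists_of_isPullback hsq (Points.ofScheme U₁ u) z
      (by rw [← Points.ofPt_eq_map_ofScheme, hu, hz])
    obtain ⟨w, rfl⟩ := (Points.schemeHomeo W).surjective p
    exact ⟨w, (Points.ofPt_eq_map_ofScheme aW w).trans hp⟩
  · obtain ⟨z, rfl⟩ := hrange w (hou w hw)
    obtain ⟨z', rfl⟩ := hrange w' (hou w' hw')
    have : (π ≫ i.left) z = (π ≫ i.left) z' := j.left.isOpenEmbedding.injective he
    rw [(π ≫ i.left).isEmbedding.injective this]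
  · obtain ⟨z, rfl⟩ := hrange w (hou w hw)
    haveI := isIso_stalkMap_of_flat_preimmersion π z
    have h1 : IsIso ((π ≫ i.left).stalkMap z) := isIso_stalkMap_of_flat_preimmersion _ z
    rw [Scheme.Hom.stalkMap_comp] at h1
    haveI := h1
    haveI : IsIso (i.left.stalkMap (π z)) := IsIso.of_isIso_comp_right (i.left.stalkMap (π z)) (π.stalkMap z)
    show IsIso ((i.left ≫ j.left).stalkMap (π z))
    rw [Scheme.Hom.stalkMap_comp]
    exact IsIso.comp_isIso
  · have hvu : Points.ofPt b v = Points.ofPt bT (G.left u) := by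
      rw [hv, ← hu, Points.map_ofPt, e, ofPt_yon_map_comp]
    obtain ⟨p, hp1, hp2⟩ := points_exists_of_isPullback sqV (Points.ofScheme T (G.left u)) (Points.ofScheme V v)
      (by rw [← Points.ofPt_eq_map_ofScheme, ← Points.ofPt_eq_map_ofScheme, hvu])
    obtain ⟨v', rfl⟩ := (Points.schemeHomeo V').surjective p
    rw [Points.map_yon_map_apply] at hp1 hp2
    have hev : et.left v' = G.left u := (Points.schemeHomeo T).injective hp1
    obtain ⟨z, hz1, hz2⟩ := Scheme.exists_preimage_of_isPullback sqQ (IsLocalRing.closedPoint _) v' (by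
      rw [hev, Scheme.Hom.comp_apply]
      exact congrArg G.left (Scheme.fromSpecStalk_closedPoint))
    refine ⟨π z, ?_, ?_⟩
    · rw [hmapo, ← hu]
      refine congrArg (Points.ofPt a₁) ?_
      rw [← Scheme.Hom.comp_apply, pullback.condition, Scheme.Hom.comp_apply]
      exact (congrArg q hz1).trans Scheme.fromSpecStalk_closedPoint
    · show j.left ((π ≫ i.left) z) = v
      rw [hz2]
      exact (Points.schemeHomeo V).injective hp2

theorem isBirational_snd_of_etale (hX : IsDecent X.obj) (hY : IsDecent Y.obj)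
    (hXf : (irreducibleComponents (Points X.obj)).Finite) (hYf : (irreducibleComponents (Points Y.obj)).Finite)
    (hf : W4stk3decentspacesp2.IsBirational f.hom) {V : Over S} [IsAffine V.left] (b : (yon S).obj V ⟶ Y.obj)
    (hb : RepWith @Etale b) {P : Sp S} (fst : P ⟶ X.obj) (snd : P ⟶ (yon S).obj V)
    (hP : IsPullback fst snd f.hom b) :
    IsDecent P ∧ (irreducibleComponents (Points P)).Finite ∧
      (irreducibleComponents (Points ((yon S).obj V))).Finite ∧ W4stk3decentspacesp2.IsBirational snd := by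
  have hPa : IsAlgSpace P := isAlgSpace_of_isPullback Y.property.diag X.property (IsAlgSpace.yon_obj _) hP
  have dV : IsDecent ((yon S).obj V) := isDecent_yon V
  have hVa : IsAlgSpace ((yon S).obj V) := IsAlgSpace.yon_obj V
  have dP : IsDecent P := isDecent_of_isPullback hP Y.property hX dV
  have hfst : RepWith @Etale fst := repWith_of_isPullback hP.flip hb
  have hP0 := mem_genericPoints_map_iff hPa X.property dP hX hfst
  have hV0 := mem_genericPoints_map_iff hVa Y.property dV hY hb
  have hcomm : ∀ z, Points.map f.hom (Points.map fst z) = Points.map b (Points.map snd z) := fun z => by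
    rw [← Points.map_comp, hP.w, Points.map_comp]
  haveI := quasiSober_of_isDecent hVa dV
  haveI := quasiSober_of_isDecent hPa dP
  haveI := t0Space_of_isDecent Y.property hY
  have hYfin := genericPoints.finite hYf
  have hVfin : (genericPoints (Points ((yon S).obj V))).Finite := by
    have h1 : {v : ↥V.left | Points.ofPt b v ∈ genericPoints (Points Y.obj)}.Finite := by
      haveI : CompactSpace ↥V.left := inferInstance
      refine (hYfin.biUnion fun (y : Points Y.obj) _ => finite_fibre_inter hY hb y (W := ⊤) isCompact_univ).subset fun v hv => ?_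
      exact Set.mem_iUnion₂.2 ⟨_, hv, rfl, trivial⟩
    refine (h1.image (Points.schemeHomeo V)).subset fun z hz => ?_
    obtain ⟨v, rfl⟩ := (Points.schemeHomeo V).surjective z
    exact ⟨v, by
      show Points.ofPt b v ∈ genericPoints (Points Y.obj)
      rw [Points.ofPt_eq_map_ofScheme]
      exact (hV0 _).2 hz, rfl⟩
  have hmaps : Set.MapsTo (Points.map snd) (genericPoints (Points P)) (genericPoints (Points ((yon S).obj V))) :=
    fun z hz => (hV0 _).1 (hcomm z ▸ hf.bijOn.mapsTo ((hP0 z).2 hz))
  have hinj : Set.InjOn (Points.map snd) (genericPoints (Points P)) := fun z hz z' hz' he => by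
    have hxx : Points.map fst z' = Points.map fst z :=
      hf.bijOn.injOn ((hP0 z').2 hz') ((hP0 z).2 hz) (by rw [hcomm, hcomm, he])
    obtain ⟨W, aW, k, -, hk, hcov, hinjk, -, -⟩ := exists_chart_over_generic hX hY hf hb hP ((hP0 z).2 hz)
    obtain ⟨w, rfl⟩ := hcov z rfl
    obtain ⟨w', rfl⟩ := hcov z' hxx
    rw [Points.map_ofPt, Points.map_ofPt, hk, Points.ofPt_eq_map_ofScheme, Points.ofPt_eq_map_ofScheme] at he
    rw [hinjk w w' rfl hxx ((Points.schemeHomeo V).injective
      ((Points.map_yon_map_apply k w).symm.trans (he.trans (Points.map_yon_map_apply k w'))))]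
  refine ⟨dP, finite_irreducibleComponents_of_genericPoints (Set.Finite.of_finite_image
      (hVfin.subset hmaps.image_subset) hinj),
    finite_irreducibleComponents_of_genericPoints hVfin, ⟨⟨hmaps, hinj, ?_⟩, ?_⟩⟩
  · intro y hy
    obtain ⟨v, rfl⟩ := (Points.schemeHomeo V).surjective y
    have hy' := (hV0 _).2 hy
    obtain ⟨x, hx, hxy⟩ := hf.bijOn.surjOn hy'
    obtain ⟨W, aW, k, -, hk, -, -, -, hsurj⟩ := exists_chart_over_generic hX hY hf hb hP hx
    obtain ⟨w, hw1, hw2⟩ := hsurj v ((Points.ofPt_eq_map_ofScheme b v).trans hxy.symm)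
    refine ⟨Points.ofPt aW w, (hP0 _).1 (hw1.symm ▸ hx), ?_⟩
    rw [Points.map_ofPt, hk, Points.ofPt_eq_map_ofScheme, ← hw2]
    exact Points.map_yon_map_apply k w
  · intro z hz
    obtain ⟨W, aW, k, haW, hk, hcov, -, hiso, -⟩ := exists_chart_over_generic hX hY hf hb hP ((hP0 z).2 hz)
    obtain ⟨w, rfl⟩ := hcov z rfl
    exact ⟨W, V, aW, 𝟙 _, k, w, haW, repWith_id _ V, by rw [Category.comp_id, hk], rfl, hiso w rfl⟩

end Groth.Agent.ASp
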