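import Groth.Prelude
import Groth.Agent.ASp.BiratEtale
import Groth.Agent.ASp.Affine
import Groth.Agent.ASp.Univ
import Groth.Agent.NormalSch.Birational
import Groth.Agent.Unibranch.NormalStalk
/-!
Integral birational morphisms onto normal spaces are isomorphisms.
-/

set_option autoImplicit false
set_option backward.isDefEq.respectTransparency false
set_option linter.style.haveILetI false

universe u

open CategoryTheory CategoryTheory.Limits AlgebraicGeometry Opposite Topology

namespace Groth.Agent.ASp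

open _root_.AlgSp

section Scheme

theorem eq_of_specializes_genericPoints {α : Type*} [TopologicalSpace α] [T0Space α] {z y : α}
    (hz : z ∈ genericPoints α) (h : y ⤳ z) : y = z :=
  h.antisymm (specializes_iff_mem_closure.2 (hz.2 isIrreducible_singleton.closure
    (closure_minimal (Set.singleton_subset_iff.2 (specializes_iff_mem_closure.1 h)) isClosed_closure)
    (subset_closure rfl))) |>.eq

theorem exists_genericPoints_specializes {α : Type*} [TopologicalSpace α] [QuasiSober α] (v : α) :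
    ∃ η ∈ genericPoints α, η ⤳ v :=
  ⟨_, (genericPoints.ofComponent ⟨_, irreducibleComponent_mem_irreducibleComponents v⟩).2,
    specializes_iff_mem_closure.2 ((genericPoints.isGenericPoint_ofComponent
      ⟨_, irreducibleComponent_mem_irreducibleComponents v⟩).symm ▸ mem_irreducibleComponent)⟩

theorem genericPoints_unique_of_isDomain {V : Scheme.{u}} {v η η' : ↥V} [IsDomain ↥(V.presheaf.stalk v)]
    (hη : η ∈ genericPoints ↥V) (hη' : η' ∈ genericPoints ↥V) (h : η ⤳ v) (h' : η' ⤳ v) : η = η' := by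
  obtain ⟨p, rfl⟩ : η ∈ Set.range (V.fromSpecStalk v) := by rw [Scheme.range_fromSpecStalk]; exact h
  obtain ⟨p', rfl⟩ : η' ∈ Set.range (V.fromSpecStalk v) := by rw [Scheme.range_fromSpecStalk]; exact h'
  let q := V.fromSpecStalk v
  have h1 := eq_of_specializes_genericPoints hη ((genericPoint_specializes p).map q.continuous)
  have h2 := eq_of_specializes_genericPoints hη' ((genericPoint_specializes p').map q.continuous)
  exact h1.symm.trans h2

theorem isIso_of_integral_birational_normal {W V : Scheme.{u}} (g : W ⟶ V) [IsIntegralHom g] [IsReduced W]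
    (hfin : (genericPoints ↥V).Finite) (hN : Pi1.IsNormalScheme V)
    (hbij : Set.BijOn g (genericPoints ↥W) (genericPoints ↥V))
    (hiso : ∀ w ∈ genericPoints ↥W, IsIso (g.stalkMap w)) : IsIso g := by
  haveI : ∀ v : ↥V, _root_.IsReduced ↥(V.presheaf.stalk v) := fun v => by
    haveI := (hN v).1
    infer_instance
  haveI : IsReduced V := isReduced_of_isReduced_stalk _
  refine IsZariskiLocalAtTarget.of_forall_exists_morphismRestrict (P := .isomorphisms Scheme) fun v => ?_
  haveI := (hN v).1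
  obtain ⟨η, hη, hηv⟩ := exists_genericPoints_specializes v
  let O : V.Opens := ⟨(⋃ η' ∈ genericPoints ↥V \ {η}, closure {η'})ᶜ,
    (hfin.sdiff.isClosed_biUnion fun _ _ => isClosed_closure).isOpen_compl⟩
  have hmem : ∀ t : ↥V, t ∈ O → ∀ η' ∈ genericPoints ↥V, η' ⤳ t → η' = η := fun t ht η' h1 h2 => by
    by_contra hne
    exact ht (Set.mem_iUnion₂.2 ⟨η', ⟨h1, hne⟩, specializes_iff_mem_closure.1 h2⟩)
  have hv : v ∈ O := fun hv => by
    obtain ⟨η', h1, h2⟩ := Set.mem_iUnion₂.1 hv
    exact h1.2 (genericPoints_unique_of_isDomain h1.1 hη (specializes_iff_mem_closure.2 h2) hηv)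
  have hηO : η ∈ O := hηv.mem_open O.2 hv
  refine ⟨O, hv, ?_⟩
  obtain ⟨w₀, hw₀, hgw₀⟩ := hbij.surjOn hη
  have hw₀O : w₀ ∈ g ⁻¹ᵁ O := by show g w₀ ∈ O; rwa [hgw₀]
  have hgenO : ∀ t : ↥(O : Scheme.{u}), (⟨η, hηO⟩ : ↥(O : Scheme.{u})) ⤳ t := fun t => by
    obtain ⟨η', h1, h2⟩ := exists_genericPoints_specializes t.1
    rw [hmem t.1 t.2 η' h1 h2] at h2
    exact (subtype_specializes_iff _ _).2 h2
  have hgenW : ∀ t : ↥(g ⁻¹ᵁ O : Scheme.{u}), (⟨w₀, hw₀O⟩ : ↥(g ⁻¹ᵁ O : Scheme.{u})) ⤳ t := fun t => by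
    obtain ⟨w', h1, h2⟩ := exists_genericPoints_specializes t.1
    have h3 : g w' = η := hmem (g w') ((h2.map g.continuous).mem_open O.2 t.2) _ (hbij.mapsTo h1) specializes_rfl
    rw [hbij.injOn h1 hw₀ (h3.trans hgw₀.symm)] at h2
    exact (subtype_specializes_iff _ _).2 h2
  have hirr : ∀ {Z : Scheme.{u}} (z : ↥Z), (∀ t, z ⤳ t) → IrreducibleSpace ↥Z ∧ IsGenericPoint z Set.univ :=
    fun {Z} z hz => by
    have h1 : IsGenericPoint z (Set.univ : Set ↥Z) :=
      Set.eq_univ_of_forall fun t => specializes_iff_mem_closure.1 (hz t)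
    refine ⟨?_, h1⟩
    haveI : PreirreducibleSpace ↥Z := ⟨h1.isIrreducible.2⟩
    exact { toNonempty := ⟨z⟩ }
  obtain ⟨hirrO, hgO⟩ := hirr _ hgenO
  obtain ⟨hirrW, hgW⟩ := hirr _ hgenW
  haveI := hirrO
  haveI := hirrW
  haveI : IsIntegral (O : Scheme.{u}) := isIntegral_of_irreducibleSpace_of_isReduced _
  haveI : IsIntegral (g ⁻¹ᵁ O : Scheme.{u}) := isIntegral_of_irreducibleSpace_of_isReduced _
  have eO : genericPoint ↥(O : Scheme.{u}) = ⟨η, hηO⟩ := (genericPoint_spec _).eq hgO
  have eW : genericPoint ↥(g ⁻¹ᵁ O : Scheme.{u}) = ⟨w₀, hw₀O⟩ := (genericPoint_spec _).eq hgW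
  have hNO : Pi1.IsNormalScheme (O : Scheme.{u}) := fun t => by
    let e := (asIso (O.ι.stalkMap t)).commRingCatIsoToRingEquiv
    haveI := (hN (O.ι t)).1
    haveI := (hN (O.ι t)).2
    exact ⟨e.symm.injective.isDomain, IsIntegrallyClosed.of_equiv e⟩
  have hiso' : IsIso ((g ∣_ O).stalkMap ⟨w₀, hw₀O⟩) := by
    have h1 : IsIso (((g ⁻¹ᵁ O).ι ≫ g).stalkMap ⟨w₀, hw₀O⟩) := by
      rw [Scheme.Hom.stalkMap_comp]
      haveI : IsIso (g.stalkMap ((g ⁻¹ᵁ O).ι ⟨w₀, hw₀O⟩)) := hiso w₀ hw₀
      exact IsIso.comp_isIso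
    have h2 := isIso_stalkMap_congr (morphismRestrict_ι g O).symm _ h1
    rw [Scheme.Hom.stalkMap_comp] at h2
    haveI := h2
    exact IsIso.of_isIso_comp_left (O.ι.stalkMap ((g ∣_ O) ⟨w₀, hw₀O⟩)) ((g ∣_ O).stalkMap ⟨w₀, hw₀O⟩)
  refine NormalSch.isIso_of_integral_birational hNO (g ∣_ O) ?_ ?_
  · rw [eW, eO]
    refine Subtype.ext ?_
    show O.ι ((g ∣_ O) ⟨w₀, hw₀O⟩) = η
    rw [← Scheme.Hom.comp_apply, morphismRestrict_ι]
    exact hgw₀
  · rw [eW]
    exact ((ConcreteCategory.isIso_iff_bijective _).1 hiso').2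

end Scheme

variable {S : Scheme.{u}}

theorem isNormalScheme_of_chart {Y : Sp S}
    (hY : EtaleLocally (fun T => ∀ t : ↥T, IsDomain ↥(T.presheaf.stalk t) ∧ IsIntegrallyClosed ↥(T.presheaf.stalk t)) Y)
    {V : Over S} {b : (yon S).obj V ⟶ Y} (hb : RepWith @Etale b) : Pi1.IsNormalScheme V.left := fun v => by
  obtain ⟨U, p, hp, hps, hU⟩ := hY
  obtain ⟨u, hu⟩ := surjective_ofPt hps (Points.ofPt b v)
  obtain ⟨P, t, s, r, ht, hs, -, hr1, rfl⟩ := exists_common_point hp hb hu
  haveI := ht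
  haveI := hs
  exact (Unibranch.normal_stalk_of_etale_iff s.left r).1
    (Unibranch.normal_stalk_of_etale t.left r (hU (t.left r)))

theorem homeo_mem_genericPoints {γ δ : Type*} [TopologicalSpace γ] [TopologicalSpace δ] (e : γ ≃ₜ δ) {c : γ}
    (hc : c ∈ genericPoints γ) : e c ∈ genericPoints δ := by
  show closure {e c} ∈ irreducibleComponents δ
  rw [← Set.image_singleton, ← e.image_closure]
  refine ⟨hc.1.image _ e.continuous.continuousOn, fun s hs hsub => ?_⟩
  have h1 : closure {c} ⊆ e.symm '' s := fun t ht => ⟨e t, hsub ⟨t, ht, rfl⟩, e.symm_apply_apply t⟩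
  intro t ht
  exact ⟨e.symm t, hc.2 (IsIrreducible.image hs _ e.symm.continuous.continuousOn) h1 ⟨t, ht, rfl⟩, e.apply_symm_apply t⟩

theorem mem_genericPoints_homeo {α β : Type*} [TopologicalSpace α] [TopologicalSpace β] (e : α ≃ₜ β) (a : α) :
    e a ∈ genericPoints β ↔ a ∈ genericPoints α :=
  ⟨fun h => by simpa using homeo_mem_genericPoints e.symm h, fun h => homeo_mem_genericPoints e h⟩

theorem isIso_of_integral_birational_sp {X Y : Space S} (f : X ⟶ Y)
    (hX : IsDecent X.obj) (hY : IsDecent Y.obj)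
    (hXf : (irreducibleComponents (Points X.obj)).Finite)
    (hYf : (irreducibleComponents (Points Y.obj)).Finite)
    (hi : IsIntegralMor f.hom) (hf : W4stk3decentspacesp2.IsBirational f.hom)
    (hYn : EtaleLocally (fun T => ∀ t : ↥T, IsDomain ↥(T.presheaf.stalk t) ∧
      IsIntegrallyClosed ↥(T.presheaf.stalk t)) Y.obj)
    (hXr : EtaleLocally (fun T => IsReduced T) X.obj) : IsIso f.hom := by
  obtain ⟨U, p, hp, hps⟩ := Y.property.atlas
  let Vs : U.left.affineOpens → Over S := fun A => openOver A.1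
  let b : ∀ A, (yon S).obj (Vs A) ⟶ Y.obj := fun A => (yon S).map (openInc A.1) ≫ p
  have hb : ∀ A, RepWith @Etale (b A) := fun A =>
    repWith_comp (repWith_yon_map (inferInstanceAs (Etale A.1.ι))) hp
  haveI : ∀ A, IsAffine (Vs A).left := fun A => A.2
  choose W i fst hsq hWa hint using fun A => hi (inferInstance : IsAffine (Vs A).left) (b A)
  refine isIso_of_fpqc (f := f.hom) (g := b) (p := fun A => (yon S).map (i A)) (q := fst) X.property Y.property
    (fun A => IsAlgSpace.yon_obj _) (fun A => IsAlgSpace.yon_obj _) hsq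
    (isFpqcCover_of_fppf Y.property (fun A => IsAlgSpace.yon_obj _)
      (fun A => locP_of_repWith (repWith_mono (fun _ _ g (hg : Etale g) => inferInstanceAs (Flat g)) (hb A)))
      (fun A => locP_of_repWith
        (repWith_mono (fun _ _ g (hg : Etale g) => inferInstanceAs (LocallyOfFinitePresentation g)) (hb A)))
      fun y => ?_) fun A => ?_
  · obtain ⟨u, rfl⟩ := surjective_ofPt hps y
    obtain ⟨B, hB, huB, -⟩ := exists_isAffineOpen_mem_and_subset (x := u) (U := (⊤ : U.left.Opens)) trivial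
    exact ⟨⟨B, hB⟩, Points.ofScheme (Vs ⟨B, hB⟩) ⟨u, huB⟩, by
      rw [← Points.ofPt_eq_map_ofScheme]
      exact ofPt_yon_map_comp _ p _⟩
  obtain ⟨dP, hPf, hVf, hbir⟩ := isBirational_snd_of_etale hX hY hXf hYf hf (b A) (hb A) (fst A) _ (hsq A)
  haveI : IsReduced (W A).left := isReduced_of_chart hXr (repWith_of_isPullback (hsq A).flip (hb A))
  haveI := hint A
  have hN := isNormalScheme_of_chart hYn (hb A)
  have hmemW := mem_genericPoints_homeo (Points.schemeHomeo (W A))
  have hmemV := mem_genericPoints_homeo (Points.schemeHomeo (Vs A))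
  have hcomm : ∀ w, Points.map ((yon S).map (i A)) (Points.schemeHomeo (W A) w) =
      Points.schemeHomeo (Vs A) ((i A).left w) := fun w => Points.map_yon_map_apply (i A) w
  haveI := t0Space_of_isDecent (IsAlgSpace.yon_obj (Vs A)) (isDecent_yon (Vs A))
  have hfinV : (genericPoints ↥(Vs A).left).Finite :=
    ((genericPoints.finite hVf).preimage (Points.schemeHomeo (Vs A)).injective.injOn).subset fun v hv => (hmemV v).2 hv
  have hiso : IsIso (i A).left := by
    refine isIso_of_integral_birational_normal (i A).left hfinV hN ⟨fun w hw => ?_, fun w hw w' hw' e => ?_,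
      fun v hv => ?_⟩ fun w hw => ?_
    · exact (hmemV _).1 (hcomm w ▸ hbir.bijOn.mapsTo ((hmemW w).2 hw))
    · exact (Points.schemeHomeo _).injective (hbir.bijOn.injOn ((hmemW w).2 hw) ((hmemW w').2 hw')
        (by rw [hcomm, hcomm, e]))
    · obtain ⟨z, hz, hze⟩ := hbir.bijOn.surjOn ((hmemV v).2 hv)
      obtain ⟨w, rfl⟩ := (Points.schemeHomeo (W A)).surjective z
      rw [hcomm] at hze
      exact ⟨w, (hmemW w).1 hz, (Points.schemeHomeo _).injective hze⟩
    · obtain ⟨U₁, V₁, a₁, b₁, g, u, ha₁, hb₁, e₁, hu, hg⟩ := hbir.stalkIso _ ((hmemW w).2 hw)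
      obtain ⟨α, rfl⟩ := (yon S).map_surjective a₁
      obtain ⟨β, rfl⟩ := (yon S).map_surjective b₁
      haveI : IsOpenImmersion α.left := (repWith_yon_map_iff _ _).1 ha₁
      haveI : IsOpenImmersion β.left := (repWith_yon_map_iff _ _).1 hb₁
      have e₂ : α.left ≫ (i A).left = g.left ≫ β.left := by
        rw [← Over.comp_left, ← Over.comp_left]
        exact congrArg Over.Hom.left ((yon S).map_injective (by simpa only [Functor.map_comp] using e₁))
      have hαu : α.left u = w := (Points.schemeHomeo (W A)).injective (by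
        rw [← hu, Points.ofPt_eq_map_ofScheme]
        exact (Points.map_yon_map_apply α u).symm)
      have h1 : IsIso ((g.left ≫ β.left).stalkMap u) := by
        rw [Scheme.Hom.stalkMap_comp]
        haveI := hg
        exact IsIso.comp_isIso
      have h2 := isIso_stalkMap_congr e₂.symm u h1
      rw [Scheme.Hom.stalkMap_comp] at h2
      haveI := h2
      rw [← hαu]
      exact IsIso.of_isIso_comp_right ((i A).left.stalkMap (α.left u)) (α.left.stalkMap u)
  haveI : IsIso ((Over.forget S).map (i A)) := hiso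
  haveI : IsIso (i A) := isIso_of_reflects_iso (i A) (Over.forget S)
  infer_instance

end Groth.Agent.ASp
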