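import Groth.Agent.ASp.QfChartLem
import Groth.Agent.ASp.QfCoords
import Groth.Agent.ASp.Fpqc
import Groth.Agent.FlatLocus.SmoothFibres
/-!
A sheaf with a flat chart has a flat, locally quasi-finite chart, by slicing.
-/

set_option autoImplicit false
set_option backward.isDefEq.respectTransparency false
set_option backward.isDefEq.respectTransparency.types false

universe u

open CategoryTheory CategoryTheory.Limits AlgebraicGeometry Opposite

namespace Groth.Agent.ASp

open _root_.AlgSp Groth.Agent.Boot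

variable {S : Scheme.{u}}

theorem exists_lqf_chart {F : Sp S} {U : Over S} (p : (yon S).obj U ⟶ F)
    (hd : Representable (Limits.diag F)) (hp : IsFppfChart p) :
    ∃ (Z₀ : Over S) (q : Z₀ ⟶ U), RepWith @Flat ((yon S).map q ≫ p) ∧
      RepWith @LocallyOfFinitePresentation ((yon S).map q ≫ p) ∧
      RepWith @LocallyQuasiFinite ((yon S).map q ≫ p) ∧ RepWith @Surjective ((yon S).map q ≫ p) := by
  let WS : U.left.Opens → Over S := fun W => Over.mk (W.ι ≫ U.hom)
  let ιW : ∀ W : U.left.Opens, WS W ⟶ U := fun W => Over.homMk W.ι rfl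
  have hιW : ∀ W, IsOpenImmersion (ιW W).left := fun W => inferInstanceAs (IsOpenImmersion W.ι)
  choose RW sW tW sq using fun W : U.left.Opens =>
    exists_isPullback_yon (Functor.relativelyRepresentable.of_diag hd ((yon S).map (ιW W) ≫ p)) p
  have hsW₁ : ∀ W, Flat (sW W).left := fun W => (hp.props (sq W).flip).1
  have hsW₂ : ∀ W, LocallyOfFinitePresentation (sW W).left := fun W => (hp.props (sq W).flip).2.1
  have htW₁ : ∀ W, Flat (tW W).left := fun W => (hp.props_open hd (ιW W) (sq W)).1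
  have htW₂ : ∀ W, LocallyOfFinitePresentation (tW W).left := fun W => (hp.props_open hd (ιW W) (sq W)).2
  let φ : ∀ i : CIdx U, (RW i.W).left ⟶ pullback U.hom (AS i.d S ↘ S) := fun i =>
    pullback.lift (tW i.W).left ((sW i.W).left ≫ i.a) (by
      rw [Category.assoc, i.ha, Over.w]
      exact (Over.w (sW i.W)).symm)
  have hφ₁ : ∀ i, φ i ≫ pullback.fst _ _ = (tW i.W).left := fun i => pullback.lift_fst _ _ _
  have hφ₂ : ∀ i, φ i ≫ pullback.snd _ _ = (sW i.W).left ≫ i.a := fun i => pullback.lift_snd _ _ _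
  have hφl : ∀ i, LocallyOfFinitePresentation (φ i) := fun i => by
    haveI : LocallyOfFinitePresentation (φ i ≫ pullback.fst U.hom (AS i.d S ↘ S)) := by
      rw [hφ₁]; infer_instance
    exact FlatLocus.locallyOfFinitePresentation_of_comp (φ i) (pullback.fst U.hom (AS i.d S ↘ S))
  let G : ∀ i : CIdx U, (WS i.W).left.Opens := fun i =>
    ⟨(sW i.W).left '' {x | GoodAt (φ i) x}, (sW i.W).left.isOpenMap _ (@isOpen_goodAt _ _ (φ i) (hφl i))⟩
  let O : ∀ i : CIdx U, (RW i.W).left.Opens := fun i => (sW i.W).left ⁻¹ᵁ G i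
  have hG : ∀ i, ∀ x ∈ O i, GoodAt (φ i) x := by
    intro i x hx
    change (sW i.W).left x ∈ (sW i.W).left '' {x | GoodAt (φ i) x} at hx
    obtain ⟨y, hy, hyx⟩ := hx
    haveI := hφl i
    exact goodAt_saturated p hd (ιW i.W) (sq i.W) i.a (φ i) (hφ₁ i) (hφ₂ i) i.ha y x hyx hy
  have hφG₁ : ∀ i, Flat ((O i).ι ≫ φ i) := fun i => flat_of_forall_goodAt _ _ (hG i)
  have hφG₂ : ∀ i, LocallyQuasiFinite ((O i).ι ≫ φ i) := fun i =>
    haveI := hφl i
    locallyQuasiFinite_of_forall_goodAt _ _ (hG i)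
  choose S' π σ hπe hπa hσ hpt using fun i : CIdx U => exists_unity_etale S i.m i.e
  let V : CIdx U → Scheme.{u} := fun i => pullback ((G i).ι ≫ i.a) (σ i)
  let qi : ∀ i, V i ⟶ U.left := fun i => pullback.fst _ _ ≫ (G i).ι ≫ i.W.ι
  let Z₀ : Over S := Over.mk (Limits.Sigma.desc fun i => qi i ≫ U.hom)
  let q : Z₀ ⟶ U := Over.homMk (Limits.Sigma.desc qi) (Sigma.hom_ext _ _ fun i => by
    change Sigma.ι V i ≫ Limits.Sigma.desc qi ≫ U.hom = Sigma.ι V i ≫ Limits.Sigma.desc _
    rw [Sigma.ι_desc_assoc, Sigma.ι_desc])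
  let ιi : ∀ i, Over.mk (Sigma.ι V i ≫ Z₀.hom) ⟶ Z₀ := fun i => Over.homMk (Sigma.ι V i) rfl
  have key : ∀ (i : CIdx U) (VU : Over S) (va : VU ⟶ Over.mk (Sigma.ι V i ≫ Z₀.hom)) (vb : VU ⟶ U),
      IsPullback ((yon S).map va) ((yon S).map vb) ((yon S).map (ιi i) ≫ (yon S).map q ≫ p) p →
      Flat vb.left ∧ LocallyOfFinitePresentation vb.left ∧ LocallyQuasiFinite vb.left := by
    intro i VU va vb hVU
    let vW : Over.mk (Sigma.ι V i ≫ Z₀.hom) ⟶ WS i.W :=
      Over.homMk (pullback.fst _ _ ≫ (G i).ι : V i ⟶ (WS i.W).left) (by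
        change (pullback.fst _ _ ≫ (G i).ι) ≫ i.W.ι ≫ U.hom = Sigma.ι V i ≫ Limits.Sigma.desc _
        rw [Sigma.ι_desc]
        simp only [qi, Category.assoc])
    have hvW : ιi i ≫ q = vW ≫ ιW i.W := Over.OverMorphism.ext (by
      change Sigma.ι V i ≫ Limits.Sigma.desc qi = (pullback.fst _ _ ≫ (G i).ι) ≫ i.W.ι
      rw [Sigma.ι_desc, Category.assoc])
    rw [← Category.assoc, ← Functor.map_comp, hvW, Functor.map_comp, Category.assoc] at hVU
    obtain ⟨j, hj⟩ := (yon S).map_surjective ((sq i.W).lift ((yon S).map (va ≫ vW)) ((yon S).map vb)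
      (by rw [Functor.map_comp, Category.assoc, hVU.w]))
    have hjs : j ≫ sW i.W = va ≫ vW := (yon S).map_injective (by rw [Functor.map_comp, hj, (sq i.W).lift_fst])
    have hjt : j ≫ tW i.W = vb := (yon S).map_injective (by rw [Functor.map_comp, hj, (sq i.W).lift_snd])
    have sqj : IsPullback ((yon S).map j) ((yon S).map va) ((yon S).map (sW i.W)) ((yon S).map vW) := by
      refine IsPullback.of_right ?_ ?_ (sq i.W).flip
      · rw [← Functor.map_comp, hjt]; exact hVU.flip
      · rw [← Functor.map_comp, ← Functor.map_comp, hjs]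
    have sqX : IsPullback j.left va.left (sW i.W).left (pullback.fst ((G i).ι ≫ i.a) (σ i) ≫ (G i).ι) :=
      isPullback_left (isPullback_of_yon_map sqj)
    let sG := (sW i.W).left ∣_ G i
    have sqO : IsPullback (O i).ι sG (sW i.W).left (G i).ι := (isPullback_morphismRestrict _ _).flip
    obtain ⟨y, hy₂, hy₁⟩ : ∃ y : VU.left ⟶ (O i).toScheme, y ≫ (O i).ι = j.left ∧
        y ≫ sG = va.left ≫ pullback.fst _ _ :=
      ⟨sqO.lift j.left (va.left ≫ pullback.fst _ _) (by rw [sqX.w, Category.assoc]), sqO.lift_fst _ _ _,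
        sqO.lift_snd _ _ _⟩
    have sqy : IsPullback y va.left sG (pullback.fst _ _) := by
      refine IsPullback.of_right ?_ hy₁ sqO
      rw [hy₂]
      exact sqX
    let φG := (O i).ι ≫ φ i
    haveI : Flat φG := hφG₁ i
    haveI : LocallyQuasiFinite φG := hφG₂ i
    let m : pullback U.hom (π i) ⟶ pullback U.hom (AS i.d S ↘ S) :=
      pullback.map _ _ _ _ (𝟙 _) (σ i) (𝟙 S) (by simp) (by simp [hσ])
    have sqm : IsPullback (pullback.snd U.hom (π i)) m (σ i) (pullback.snd U.hom (AS i.d S ↘ S)) := by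
      refine IsPullback.of_bot (h₃₁ := U.hom) (v₂₁ := pullback.fst U.hom (AS i.d S ↘ S))
        (v₂₂ := AS i.d S ↘ S) ?_ (by simp [m, pullback.map]) (IsPullback.of_hasPullback U.hom (AS i.d S ↘ S)).flip
      rw [show m ≫ pullback.fst U.hom (AS i.d S ↘ S) = pullback.fst _ _ by simp [m, pullback.map], hσ]
      exact (IsPullback.of_hasPullback U.hom (π i)).flip
    let χ : VU.left ⟶ pullback U.hom (π i) := pullback.lift vb.left (va.left ≫ pullback.snd _ _) (by
      have e := pullback.condition (f := (G i).ι ≫ i.a) (g := σ i) =≫ (AS i.d S ↘ S)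
      simp only [Category.assoc, i.ha] at e
      rw [Over.w, Category.assoc, ← hσ i, ← e, ← Over.w va]
      exact congrArg (va.left ≫ ·) ((Over.w vW).symm.trans (Category.assoc _ _ _)))
    have hsA : φG ≫ pullback.snd U.hom (AS i.d S ↘ S) = sG ≫ (G i).ι ≫ i.a := by
      simp only [φG, Category.assoc, hφ₂, sG, O]
      rw [morphismRestrict_ι_assoc]
    have sqχ : IsPullback χ y m φG := by
      refine IsPullback.of_right ?_ ?_ sqm
      · rw [show χ ≫ pullback.snd U.hom (π i) = va.left ≫ pullback.snd _ _ from pullback.lift_snd _ _ _, hsA]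
        exact sqy.flip.paste_horiz (IsPullback.of_hasPullback _ _).flip
      · apply pullback.hom_ext
        · simp only [Category.assoc, φG, hφ₁, m, pullback.map, pullback.lift_fst, χ, Category.comp_id]
          rw [reassoc_of% hy₂, ← Over.comp_left, hjt]
        · simp only [Category.assoc, hsA, reassoc_of% hy₁, m, pullback.map, pullback.lift_snd, χ,
            pullback.lift_snd_assoc]
          rw [← pullback.condition]
    haveI : Flat χ := MorphismProperty.of_isPullback (P := @Flat) sqχ.flip ‹Flat φG›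
    haveI : LocallyOfFinitePresentation χ :=
      MorphismProperty.of_isPullback (P := @LocallyOfFinitePresentation) sqχ.flip inferInstance
    haveI : LocallyQuasiFinite χ :=
      MorphismProperty.of_isPullback (P := @LocallyQuasiFinite) sqχ.flip ‹LocallyQuasiFinite φG›
    rw [show vb.left = χ ≫ pullback.fst U.hom (π i) from (pullback.lift_fst _ _ _).symm]
    haveI := hπe i
    haveI := Groth.Agent.Unibranch.locallyQuasiFinite_of_etale (π i)
    exact ⟨inferInstance, inferInstance, inferInstance⟩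
  have hrep : ∀ (V : Over S) (g : (yon S).obj V ⟶ F), Representable g := fun V g =>
    Functor.relativelyRepresentable.of_diag hd g
  refine ⟨Z₀, q,
    repWith_of_sigma @Flat hd _ _ fun i => repWith_of_fppfChart _ hp _ (hrep _ _) fun _ a b h => (key i _ a b h).1,
    repWith_of_sigma @LocallyOfFinitePresentation hd _ _ fun i =>
      repWith_of_fppfChart _ hp _ (hrep _ _) fun _ a b h => (key i _ a b h).2.1,
    repWith_of_sigma @LocallyQuasiFinite hd _ _ fun i =>
      repWith_of_fppfChart _ hp _ (hrep _ _) fun _ a b h => (key i _ a b h).2.2, ?_⟩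
  refine ⟨hrep _ _, fun T VT g fst snd sqT => ⟨fun t => ?_⟩⟩
  -- a geometric point
  let K : Type u := AlgebraicClosure (T.left.residueField t)
  let ω : Spec (CommRingCat.of K) ⟶ T.left :=
    Spec.map (CommRingCat.ofHom (algebraMap (T.left.residueField t) K)) ≫ T.left.fromSpecResidueField t
  let KS : Over S := Over.mk (ω ≫ T.hom)
  let ωS : KS ⟶ T := Over.homMk ω rfl
  let str : Spec (CommRingCat.of K) ⟶ S := ω ≫ T.hom
  let pt : ↥KS.left := IsLocalRing.closedPoint K
  suffices ∃ zz : KS ⟶ Z₀, (yon S).map zz ≫ (yon S).map q ≫ p = (yon S).map ωS ≫ g by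
    obtain ⟨zz, hzz⟩ := this
    obtain ⟨n, hn⟩ := (yon S).map_surjective (sqT.lift _ _ hzz)
    have h2 : n ≫ snd = ωS := (yon S).map_injective (by rw [Functor.map_comp, hn, sqT.lift_snd])
    refine ⟨n.left pt, ?_⟩
    change (n.left ≫ snd.left) pt = t
    rw [← Over.comp_left, h2]
    change ω pt = t
    simp only [ω, Scheme.Hom.comp_apply]
    exact Scheme.fromSpecResidueField_apply t _
  obtain ⟨CP, bP, aP, -, hbl, hbs, eP⟩ := hp.exists_lift ((yon S).map ωS ≫ g)
  haveI : Nonempty ↥CP.left := ⟨(bP.left.surjective pt).choose⟩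
  obtain ⟨v₀, hv₀⟩ := exists_section_of_nonempty (K := K) bP.left
  let v : KS ⟶ CP := Over.homMk v₀ (by
    change v₀ ≫ CP.hom = str
    rw [← Over.w bP, reassoc_of% hv₀]; rfl)
  obtain ⟨u, hu'⟩ := (yon S).map_surjective ((yon S).map v ≫ aP)
  have hup : (yon S).map u ≫ p = (yon S).map ωS ≫ g := by
    rw [hu', Category.assoc, eP, ← Functor.map_comp_assoc,
      show v ≫ bP = 𝟙 _ from Over.OverMorphism.ext hv₀, CategoryTheory.Functor.map_id, Category.id_comp]
  obtain ⟨_, ⟨(W : U.left.Opens), hWa, rfl⟩, huW, -⟩ :=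
    U.left.isBasis_affineOpens.exists_subset_of_mem_open (Set.mem_univ (u.left pt)) isOpen_univ
  have hrange : Set.range u.left ⊆ Set.range W.ι := by
    rintro _ ⟨w, rfl⟩
    haveI : Subsingleton ↥KS.left := inferInstanceAs (Subsingleton (PrimeSpectrum K))
    rw [Scheme.Opens.range_ι]
    rwa [Subsingleton.elim w pt]
  let uW : KS ⟶ WS W := Over.homMk (IsOpenImmersion.lift W.ι u.left hrange) (by
    change IsOpenImmersion.lift W.ι u.left hrange ≫ W.ι ≫ U.hom = str
    rw [IsOpenImmersion.lift_fac_assoc]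
    exact Over.w u)
  have huW' : uW ≫ ιW W = u := Over.OverMorphism.ext (IsOpenImmersion.lift_fac _ _ _)
  obtain ⟨k₀, hk₀⟩ := (yon S).map_surjective ((sq W).lift ((yon S).map uW) ((yon S).map u)
    (by rw [← Functor.map_comp_assoc, huW']))
  have hk₀t : k₀ ≫ tW W = u := (yon S).map_injective (by rw [Functor.map_comp, hk₀, (sq W).lift_snd])
  let X := pullback (tW W).left u.left
  haveI : IsAffine (WS W).left := hWa
  haveI : Nonempty ↥X := by
    obtain ⟨z, -, -⟩ := Scheme.Pullback.exists_preimage_pullback (f := (tW W).left) (g := u.left)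
      (k₀.left pt) pt (by rw [← Scheme.Hom.comp_apply, ← Over.comp_left, hk₀t])
    exact ⟨z⟩
  let k : X ⟶ Spec (CommRingCat.of K) := pullback.snd _ _
  let w : X ⟶ (WS W).left := pullback.fst _ _ ≫ (sW W).left
  haveI : LocallyOfFiniteType k := MorphismProperty.pullback_snd _ _ inferInstance
  obtain ⟨d, b, x, hx⟩ := exists_qf_coords k w (fun {Z} g h e1 e2 => by
    apply pullback.hom_ext ?_ e1
    have e3 : g ≫ pullback.fst (tW W).left u.left ≫ (tW W).left =
        h ≫ pullback.fst (tW W).left u.left ≫ (tW W).left := by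
      rw [pullback.condition, reassoc_of% e1]
    let ZS : Over S := Over.mk (g ≫ pullback.fst (tW W).left u.left ≫ (RW W).hom)
    let G₁ : ZS ⟶ RW W := Over.homMk (g ≫ pullback.fst _ _) (Category.assoc _ _ _)
    let G₂ : ZS ⟶ RW W := Over.homMk (h ≫ pullback.fst _ _) (by
      change (h ≫ _) ≫ _ = g ≫ _
      simp only [← Over.w (tW W), Category.assoc, reassoc_of% e3])
    have : G₁ = G₂ := (yon S).map_injective ((sq W).hom_ext
      (by rw [← Functor.map_comp, ← Functor.map_comp]
          exact congrArg (yon S).map (Over.OverMorphism.ext (by simpa [G₁, G₂, w] using e2)))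
      (by rw [← Functor.map_comp, ← Functor.map_comp]
          exact congrArg (yon S).map (Over.OverMorphism.ext (by simpa [G₁, G₂] using e3))))
    exact congrArg (fun m => m.left) this)
  let a : W.toScheme ⟶ AS d S := AffineSpace.homOfVector (W.ι ≫ U.hom) (fun i => b i.down)
  have ha : a ≫ AS d S ↘ S = W.ι ≫ U.hom := AffineSpace.homOfVector_over _ _
  let i₀ : CIdx U := ⟨W, hWa, d, a, ha, 0, 0⟩
  let hK : AS d KS.left ⟶ pullback U.hom (AS d S ↘ S) :=
    pullback.lift (AS d KS.left ↘ KS.left ≫ u.left) (AffineSpace.map _ str)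
      (by rw [Category.assoc, Over.w, AffineSpace.map_over]; rfl)
  have hKfst : hK ≫ pullback.fst U.hom (AS d S ↘ S) = AS d KS.left ↘ KS.left ≫ u.left := pullback.lift_fst _ _ _
  have sqK : IsPullback hK (AS d KS.left ↘ KS.left) (pullback.fst U.hom (AS d S ↘ S)) u.left := by
    refine IsPullback.of_right ?_ hKfst (IsPullback.of_hasPullback U.hom (AS d S ↘ S)).flip
    rw [show hK ≫ pullback.snd U.hom (AS d S ↘ S) = AffineSpace.map _ str from pullback.lift_snd _ _ _, Over.w]
    exact AffineSpace.isPullback_map str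
  let ψ₀ : X ⟶ AS d KS.left := AffineSpace.homOfVector k (fun i => w.appTop (b i.down))
  have sqψ : IsPullback (pullback.fst (tW W).left u.left) ψ₀ (φ i₀) hK := by
    refine IsPullback.of_bot (h₃₁ := u.left) (v₂₁ := AS d KS.left ↘ KS.left)
      (v₂₂ := pullback.fst U.hom (AS d S ↘ S)) ?_ ?_ sqK
    · rw [show ψ₀ ≫ AS d KS.left ↘ KS.left = k from AffineSpace.homOfVector_over _ _, hφ₁]
      exact IsPullback.of_hasPullback _ _
    · apply pullback.hom_ext
      · refine (Category.assoc _ _ _).trans ((congrArg (pullback.fst _ _ ≫ ·) (hφ₁ i₀)).trans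
          (pullback.condition.trans (Eq.trans ?_ (Category.assoc _ _ _).symm)))
        exact (congrArg (· ≫ u.left) (AffineSpace.homOfVector_over _ _).symm).trans
          ((Category.assoc _ _ _).trans (congrArg (ψ₀ ≫ ·) hKfst.symm))
      · refine (Category.assoc _ _ _).trans ((congrArg (pullback.fst _ _ ≫ ·) (hφ₂ i₀)).trans
          ((Category.assoc _ _ _).symm.trans (Eq.trans ?_ ((congrArg (ψ₀ ≫ ·)
            (pullback.lift_snd _ _ _).symm).trans (Category.assoc _ _ _).symm))))
        change w ≫ a = ψ₀ ≫ AffineSpace.map _ str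
        refine AffineSpace.hom_ext ?_ fun j => ?_
        · simp only [Category.assoc, a, AffineSpace.homOfVector_over, AffineSpace.map_over, ψ₀,
            AffineSpace.homOfVector_over_assoc, w]
          rw [show (sW W).left ≫ W.ι ≫ U.hom = (RW W).hom from Over.w (sW W), ← Over.w (tW W),
            pullback.condition_assoc, Over.w]
          rfl
        · simp only [Scheme.Hom.comp_appTop, CommRingCat.comp_apply, AffineSpace.map_appTop_coord, a, ψ₀,
            AffineSpace.homOfVector_appTop_coord]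
  have hgr : GoodAt (φ i₀) (pullback.fst (tW W).left u.left x) := by
    refine ⟨?_, (QFinLib.quasiFiniteAt_baseChange_iff _ sqψ x).1 hx.2⟩
    obtain ⟨s, e, hse⟩ : ∃ (s : ↥U.left) (e : U.left.residueField s ⟶ CommRingCat.of K),
        u.left = Spec.map e ≫ U.left.fromSpecResidueField s :=
      ⟨_, _, ((Scheme.SpecToEquivOfField K U.left).left_inv u.left).symm⟩
    haveI : Flat (Spec.map e) := by
      rw [HasRingHomProperty.Spec_iff (P := @Flat)]
      exact flat_of_isField _ (Field.toIsField _)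
    let pr := pullback.fst U.hom (AS d S ↘ S)
    obtain ⟨h', hh'1, hh'2⟩ : ∃ h' : AS d KS.left ⟶ pr.fiber s, h' ≫ pr.fiberι s = hK ∧
        h' ≫ pr.fiberToSpecResidueField s = AS d KS.left ↘ KS.left ≫ Spec.map e :=
      ⟨pullback.lift hK (AS d KS.left ↘ KS.left ≫ Spec.map e) (by rw [hKfst, Category.assoc, ← hse]),
        pullback.lift_fst _ _ _, pullback.lift_snd _ _ _⟩
    have sqh : IsPullback h' (AS d KS.left ↘ KS.left) (pr.fiberToSpecResidueField s) (Spec.map e) := by
      refine IsPullback.of_right ?_ hh'2 (IsPullback.of_hasPullback pr (U.left.fromSpecResidueField s))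
      rw [show h' ≫ pullback.fst pr (U.left.fromSpecResidueField s) = hK from hh'1, ← hse]
      exact sqK
    haveI : Flat h' := MorphismProperty.of_isPullback (P := @Flat) sqh.flip ‹_›
    obtain ⟨a', ha'1, ha'2⟩ : ∃ a' : X ⟶ (φ i₀ ≫ pr).fiber s, a' ≫ (φ i₀ ≫ pr).fiberι s = pullback.fst _ _ ∧
        a' ≫ MoreMor.fiberMap (φ i₀) pr s = ψ₀ ≫ h' :=
      ⟨(FlatLocus.isPullback_fiberMap (φ i₀) pr s).lift (pullback.fst _ _) (ψ₀ ≫ h')
        (by rw [sqψ.w, Category.assoc, hh'1]), IsPullback.lift_fst _ _ _ _, IsPullback.lift_snd _ _ _ _⟩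
    have sqa : IsPullback a' ψ₀ (MoreMor.fiberMap (φ i₀) pr s) h' := by
      refine IsPullback.of_right ?_ ha'2 (FlatLocus.isPullback_fiberMap (φ i₀) pr s)
      rw [ha'1, hh'1]
      exact sqψ
    haveI : LocallyOfFinitePresentation (φ i₀ ≫ pr) := by rw [hφ₁]; infer_instance
    have hfl : ((φ i₀ ≫ pr).stalkMap (pullback.fst (tW W).left u.left x)).hom.Flat := by
      have : ∀ g, g = (tW W).left → (g.stalkMap (pullback.fst (tW W).left u.left x)).hom.Flat := by
        rintro g rfl
        exact Flat.stalkMap _ _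
      exact this _ (hφ₁ i₀)
    exact ((FlatLocus.fibre_criterion (φ i₀) pr s (a' x) _
      (by rw [← Scheme.Hom.comp_apply, ha'1])).1 ⟨hfl, flat_stalkMap_descend sqa x hx.1⟩).2
  have hmem : pullback.fst (tW W).left u.left x ∈ O i₀ := ⟨_, hgr, rfl⟩
  -- a point of the slice
  let φG := (O i₀).ι ≫ φ i₀
  haveI : Flat φG := hφG₁ i₀
  let Ck := pullback ((O i₀).ι ≫ (tW W).left) u.left
  have hφfst : φG ≫ pullback.fst U.hom (AS d S ↘ S) = (O i₀).ι ≫ (tW W).left :=
    (Category.assoc _ _ _).trans (congrArg ((O i₀).ι ≫ ·) (hφ₁ i₀))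
  obtain ⟨ψ, hψh, hψs⟩ : ∃ ψ : Ck ⟶ AS d KS.left, ψ ≫ hK = pullback.fst _ _ ≫ φG ∧
      ψ ≫ AS d KS.left ↘ KS.left = pullback.snd _ _ :=
    ⟨sqK.lift (pullback.fst _ _ ≫ φG) (pullback.snd _ _) (by rw [Category.assoc, hφfst, pullback.condition]),
      sqK.lift_fst _ _ _, sqK.lift_snd _ _ _⟩
  have sqG : IsPullback (pullback.fst ((O i₀).ι ≫ (tW W).left) u.left) ψ φG hK := by
    refine IsPullback.of_bot (h₃₁ := u.left) (v₂₁ := AS d KS.left ↘ KS.left)
      (v₂₂ := pullback.fst U.hom (AS d S ↘ S)) ?_ hψh.symm sqK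
    rw [hψs, hφfst]
    exact IsPullback.of_hasPullback _ _
  haveI : Flat ψ := MorphismProperty.of_isPullback (P := @Flat) sqG ‹_›
  haveI : LocallyOfFinitePresentation ψ :=
    MorphismProperty.of_isPullback (P := @LocallyOfFinitePresentation) sqG inferInstance
  haveI : Nonempty ↥Ck := by
    obtain ⟨z, -, -⟩ := Scheme.Pullback.exists_preimage_pullback (f := (O i₀).ι ≫ (tW W).left) (g := u.left)
      (⟨_, hmem⟩ : (O i₀).toScheme) (k x) (by
        change (tW W).left (pullback.fst (tW W).left u.left x) = _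
        rw [← Scheme.Hom.comp_apply, pullback.condition]
        rfl)
    exact ⟨z⟩
  obtain ⟨m, e, ζ, hζ, hm, cpt, hcψ⟩ := exists_unity_point_flat (K := K) ψ
  let i : CIdx U := ⟨W, hWa, d, a, ha, m, e⟩
  obtain ⟨xp, hxπ, hxσ⟩ := hpt i K str ζ hζ hm
  let ρ : Spec (CommRingCat.of K) ⟶ (O i₀).toScheme := cpt ≫ pullback.fst _ _
  have hρA : ρ ≫ φG ≫ pullback.snd U.hom (AS d S ↘ S) = ptAS str fun j => ζ ^ e j := by
    simp only [ρ, Category.assoc]
    rw [← reassoc_of% hψh, show hK ≫ pullback.snd U.hom (AS d S ↘ S) = AffineSpace.map _ str from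
      pullback.lift_snd _ _ _, reassoc_of% hcψ]
    refine AffineSpace.hom_ext ?_ fun j => ?_
    · simp only [ptAS, Category.assoc, AffineSpace.map_over, AffineSpace.homOfVector_over_assoc,
        AffineSpace.homOfVector_over, Category.id_comp]
    · rw [Scheme.Hom.comp_appTop, CommRingCat.comp_apply, AffineSpace.map_appTop_coord, ptAS, ptAS,
        AffineSpace.homOfVector_appTop_coord, AffineSpace.homOfVector_appTop_coord]
  let sG := (sW W).left ∣_ G i₀
  have hsA : φG ≫ pullback.snd U.hom (AS d S ↘ S) = sG ≫ (G i₀).ι ≫ a := by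
    simp only [φG, sG, O, Category.assoc]
    rw [show φ i₀ ≫ pullback.snd U.hom (AS d S ↘ S) = (sW W).left ≫ a from hφ₂ i₀, morphismRestrict_ι_assoc]
  let vi : Spec (CommRingCat.of K) ⟶ V i := pullback.lift (ρ ≫ sG) xp (by
    rw [hxσ, Category.assoc]
    exact (congrArg (ρ ≫ ·) hsA.symm).trans hρA)
  have hρt : (ρ ≫ (O i₀).ι) ≫ (tW W).left = u.left := by
    simp only [ρ, Category.assoc]
    rw [pullback.condition, ← reassoc_of% hψs, reassoc_of% hcψ, ptAS, ← Category.assoc]
    exact (congrArg (· ≫ u.left) (AffineSpace.homOfVector_over _ _)).trans (Category.id_comp _)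
  let rr : KS ⟶ RW W := Over.homMk (ρ ≫ (O i₀).ι) (by
    change (ρ ≫ (O i₀).ι) ≫ (RW W).hom = str
    rw [← Over.w (tW W), ← Category.assoc, hρt, Over.w]; rfl)
  have e1 : (vi ≫ Sigma.ι V i) ≫ Limits.Sigma.desc qi = ((ρ ≫ (O i₀).ι) ≫ (sW W).left) ≫ W.ι := by
    rw [Category.assoc, Sigma.ι_desc]
    simp only [qi, vi, pullback.lift_fst_assoc, Category.assoc]
    change ρ ≫ sG ≫ (G i₀).ι ≫ W.ι = ρ ≫ (O i₀).ι ≫ (sW W).left ≫ W.ι
    simp only [sG, O, morphismRestrict_ι_assoc]
    rfl
  let zz : KS ⟶ Z₀ := Over.homMk (vi ≫ Sigma.ι V i) (by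
    rw [← Over.w q, ← Category.assoc]
    change ((vi ≫ Sigma.ι V i) ≫ Limits.Sigma.desc qi) ≫ U.hom = str
    rw [e1, Category.assoc, show ((ρ ≫ (O i₀).ι) ≫ (sW W).left) ≫ W.ι ≫ U.hom =
      (ρ ≫ (O i₀).ι) ≫ (RW W).hom by rw [Category.assoc]; exact congrArg _ (Over.w (sW W))]
    exact Over.w rr)
  refine ⟨zz, ?_⟩
  have hzq : zz ≫ q = (rr ≫ sW W) ≫ ιW W := Over.OverMorphism.ext e1
  have hrt : rr ≫ tW W = u := Over.OverMorphism.ext hρt
  rw [← Functor.map_comp_assoc, hzq, Functor.map_comp, Functor.map_comp, Category.assoc, Category.assoc,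
    (sq W).w, ← Functor.map_comp_assoc, hrt, hup]

end Groth.Agent.ASp
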