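import Groth.Agent.ASp.CellScheme2
import Groth.Agent.ASp.QfChart
/-!
A sheaf with a flat, finitely presented, surjective map from an algebraic space, representable by algebraic
spaces, is an algebraic space.
-/

set_option autoImplicit false
set_option backward.isDefEq.respectTransparency false
set_option backward.isDefEq.respectTransparency.types false

universe u

open CategoryTheory CategoryTheory.Limits AlgebraicGeometry Opposite TensorProduct

namespace Groth.Agent.ASp

open _root_.AlgSp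

variable {S : Scheme.{u}}

/-- An affine scheme finite over a field and closed in `W × Spec K` has a basis from functions on `W`. -/
theorem exists_basis_of_point {K : Type u} [Field K] {Z W : Scheme.{u}} [IsAffine W] [IsAffine Z] [Nonempty Z]
    (zt : Z ⟶ Spec (CommRingCat.of K)) [IsFinite zt] (w : Z ⟶ W)
    (hmono : ∀ {Y : Scheme.{u}} (g h : Y ⟶ Z), g ≫ zt = h ≫ zt → g ≫ w = h ≫ w → g = h) :
    ∃ (d : ℕ) (a : Fin d → Γ(W, ⊤)), 0 < d ∧ Cell.HasBasis a zt w := by
  let T := Spec (CommRingCat.of K)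
  let j : Z ⟶ pullback (terminal.from W) (terminal.from T) := pullback.lift w zt (terminal.hom_ext _ _)
  haveI : Mono j := ⟨fun g h e => hmono g h (by simpa [j] using congrArg (· ≫ pullback.snd _ _) e)
    (by simpa [j] using congrArg (· ≫ pullback.fst _ _) e)⟩
  haveI : IsFinite (j ≫ pullback.snd (terminal.from W) (terminal.from T)) := by
    rw [pullback.lift_snd]; infer_instance
  haveI : IsFinite j := IsFinite.of_comp j (pullback.snd (terminal.from W) (terminal.from T))
  haveI : IsClosedImmersion j := (IsClosedImmersion.iff_isFinite_and_mono j).2 ⟨inferInstance, inferInstance⟩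
  have hsurj : Function.Surjective j.appTop :=
    (IsClosedImmersion.isAffine_surjective_of_isAffine j).2
  haveI : IsAffine (⊤_ Scheme.{u}) := inferInstance
  have hgen := CommRingCat.closure_range_union_range_eq_top_of_isPushout
    (isPushout_appTop_of_isPullback (IsPullback.of_hasPullback (terminal.from W) (terminal.from T)).flip)
  let eK : Γ(T, ⊤) ≃+* K := (Scheme.ΓSpecIso (CommRingCat.of K)).commRingCatIsoToRingEquiv
  letI : Field Γ(T, ⊤) := (eK.toMulEquiv.isField (Field.toIsField K)).toField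
  letI := zt.appTop.hom.toAlgebra
  haveI : Module.Finite Γ(T, ⊤) Γ(Z, ⊤) := zt.finite_appTop
  let sB : Set Γ(Z, ⊤) := Set.range w.appTop
  have hsp : Submodule.span Γ(T, ⊤) sB = ⊤ := by
    have h1 : Algebra.adjoin Γ(T, ⊤) sB = ⊤ := by
      rw [eq_top_iff]
      intro z _
      obtain ⟨y, rfl⟩ := hsurj z
      have hy : y ∈ (Algebra.adjoin Γ(T, ⊤) sB).toSubring.comap j.appTop.hom := by
        refine (Subring.closure_le.2 ?_) (hgen.ge (Subring.mem_top y))
        rintro _ (⟨r, rfl⟩ | ⟨r, rfl⟩)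
        · change j.appTop ((pullback.snd (terminal.from W) (terminal.from T)).appTop r) ∈ Algebra.adjoin Γ(T, ⊤) sB
          rw [← CommRingCat.comp_apply, ← Scheme.Hom.comp_appTop, pullback.lift_snd]
          exact Subalgebra.algebraMap_mem _ r
        · change j.appTop ((pullback.fst (terminal.from W) (terminal.from T)).appTop r) ∈ Algebra.adjoin Γ(T, ⊤) sB
          rw [← CommRingCat.comp_apply, ← Scheme.Hom.comp_appTop, pullback.lift_fst]
          exact Algebra.subset_adjoin ⟨r, rfl⟩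
      exact hy
    have h2 := congrArg Subalgebra.toSubmodule h1
    rw [Algebra.adjoin_eq_span, Algebra.top_toSubmodule] at h2
    rwa [show (Submonoid.closure sB : Set Γ(Z, ⊤)) = sB from
      (congrArg (fun M : Submonoid Γ(Z, ⊤) => (M : Set Γ(Z, ⊤)))
        (Submonoid.closure_eq (MonoidHom.mrange w.appTop.hom.toMonoidHom) :
          Submonoid.closure sB = MonoidHom.mrange w.appTop.hom.toMonoidHom)).trans rfl] at h2
  obtain ⟨b, hbs, hbspan, hbli⟩ := exists_linearIndependent Γ(T, ⊤) sB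
  rw [hsp] at hbspan
  let e₀ : Module.Basis b Γ(T, ⊤) Γ(Z, ⊤) := Module.Basis.mk hbli (by rw [Subtype.range_coe, hbspan])
  haveI : Finite b := Module.Finite.finite_basis e₀
  obtain ⟨d, ⟨σ⟩⟩ := Finite.exists_equiv_fin b
  let e := e₀.reindex σ
  choose a ha using fun i : Fin d => hbs (σ.symm i).2
  have hd : 0 < d := by
    by_contra h0
    obtain rfl : d = 0 := Nat.eq_zero_of_not_pos h0
    haveI : Subsingleton Γ(Z, ⊤) := e.repr.toEquiv.subsingleton
    haveI : Nontrivial Γ(Z, ⊤) := by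
      obtain ⟨z⟩ := ‹Nonempty Z›
      exact PrimeSpectrum.nontrivial (Z.isoSpec.hom z : PrimeSpectrum Γ(Z, ⊤))
    exact not_subsingleton Γ(Z, ⊤) inferInstance
  have he : ∀ i, e i = w.appTop (a i) := fun i => by simp [e, e₀, ha]
  refine ⟨d, a, hd, ?_⟩
  have : (fun v : Fin d → Γ(T, ⊤) => ∑ i, zt.appTop (v i) * w.appTop (a i)) = e.equivFun.symm := by
    funext v
    rw [Module.Basis.equivFun_symm_apply]
    exact Finset.sum_congr rfl fun i _ => by rw [Algebra.smul_def, he]; rfl
  unfold Cell.HasBasis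
  rw [this]
  exact e.equivFun.symm.bijective

open Cell in
/-- A sheaf with a representable flat, finitely presented, quasi-finite surjection from a scheme is an
algebraic space. -/
theorem isAlgSpace_of_lqf_chart {F : Sp S} {V : Over S} (q : (yon S).obj V ⟶ F)
    (hd : Representable (Limits.diag F)) (h₁ : RepWith @Flat q) (h₂ : RepWith @LocallyOfFinitePresentation q)
    (h₃ : RepWith @LocallyQuasiFinite q) (h₄ : RepWith @Surjective q) : IsAlgSpace F := by
  let ι : Type u := Σ (W : { W : V.left.Opens // IsAffineOpen W }) (d : ℕ), Fin (d + 1) → Γ(W.1.toScheme, ⊤)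
  let WS : ι → Over S := fun i => Over.mk (i.1.1.ι ≫ V.hom)
  let jW : ∀ i, WS i ⟶ V := fun i => Over.homMk i.1.1.ι rfl
  haveI : ∀ i, IsAffine (WS i).left := fun i => i.1.2
  let pW : ∀ i, (yon S).obj (WS i) ⟶ F := fun i => (yon S).map (jW i) ≫ q
  have hp₁ : ∀ i, RepWith @Flat (pW i) := fun i =>
    repWith_comp (repWith_yon_map (P := @Flat) (inferInstanceAs (Flat i.1.1.ι))) h₁
  have hp₂ : ∀ i, RepWith @LocallyOfFinitePresentation (pW i) := fun i =>
    repWith_comp (repWith_yon_map (P := @LocallyOfFinitePresentation)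
      (inferInstanceAs (LocallyOfFinitePresentation i.1.1.ι))) h₂
  have hp₃ : ∀ i, RepWith @LocallyQuasiFinite (pW i) := fun i =>
    repWith_comp (repWith_yon_map (P := @LocallyQuasiFinite) (inferInstanceAs (LocallyQuasiFinite i.1.1.ι))) h₃
  choose P b hb using fun i : ι =>
    exists_scheme_cell (pW i) i.2.2 (Nat.succ_pos _) (hp₂ i) (hp₃ i) (hp₁ i)
  let r : ∀ i, (yon S).obj (P i) ⟶ F := fun i => b i ≫ cellG (pW i) i.2.2 (hp₂ i).1
  have hr : ∀ i, RepWith @Etale (r i) := fun i => by
    haveI := hb i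
    exact repWith_comp (repWith_of_isIso (b i))
      (repWith_etale_cellG (pW i) i.2.2 (Nat.succ_pos _) (hp₂ i) (hp₃ i) (hp₁ i))
  let Vs : ι → Scheme.{u} := fun i => (P i).left
  let Z : Over S := Over.mk (Limits.Sigma.desc fun i => (P i).hom : ∐ Vs ⟶ S)
  let ζ : ∀ i, P i ⟶ Z := fun i => Over.homMk (Sigma.ι Vs i) (Sigma.ι_desc _ _)
  obtain ⟨f, hf⟩ := exists_sigma_desc Z P ζ rfl (fun i => Category.comp_id _) r
  have hfe : RepWith @Etale f := by
    refine repWith_of_sigma @Etale hd _ _ fun i => ?_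
    let eo : Over.mk (Sigma.ι Vs i ≫ Z.hom) ⟶ P i := Over.homMk (𝟙 _) (by
      change 𝟙 _ ≫ (P i).hom = Sigma.ι Vs i ≫ Limits.Sigma.desc _
      rw [Sigma.ι_desc, Category.id_comp])
    have hfac : (Over.homMk (Sigma.ι Vs i) rfl : Over.mk (Sigma.ι Vs i ≫ Z.hom) ⟶ Z) = eo ≫ ζ i :=
      Over.OverMorphism.ext (Category.id_comp _).symm
    rw [hfac, Functor.map_comp, Category.assoc, hf]
    haveI : IsIso eo.left := inferInstanceAs (IsIso (𝟙 _))
    exact repWith_comp (repWith_yon_map (P := @Etale) (inferInstance : Etale eo.left)) (hr i)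
  refine isAlgSpace_of_etale_surjective (IsAlgSpace.yon_obj Z) f hfe ⟨hfe.1, fun T Q g fst snd sq => ⟨fun t => ?_⟩⟩
  let K : Type u := AlgebraicClosure (T.left.residueField t)
  let ω : Spec (CommRingCat.of K) ⟶ T.left :=
    Spec.map (CommRingCat.ofHom (algebraMap (T.left.residueField t) K)) ≫ T.left.fromSpecResidueField t
  let KS : Over S := Over.mk (ω ≫ T.hom)
  let ωS : KS ⟶ T := Over.homMk ω rfl
  let pt : ↥KS.left := IsLocalRing.closedPoint K
  haveI : Subsingleton ↥KS.left := inferInstanceAs (Subsingleton (PrimeSpectrum K))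
  suffices ∃ zz : KS ⟶ Z, (yon S).map zz ≫ f = (yon S).map ωS ≫ g by
    obtain ⟨zz, hzz⟩ := this
    obtain ⟨n, hn⟩ := (yon S).map_surjective (sq.lift _ _ hzz)
    have h2 : n ≫ snd = ωS := (yon S).map_injective (by rw [Functor.map_comp, hn, sq.lift_snd])
    refine ⟨n.left pt, ?_⟩
    change (n.left ≫ snd.left) pt = t
    rw [← Over.comp_left, h2]
    change ω pt = t
    simp only [ω, Scheme.Hom.comp_apply]
    exact Scheme.fromSpecResidueField_apply t _
  let gK : (yon S).obj KS ⟶ F := (yon S).map ωS ≫ g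
  obtain ⟨VK, vf, vs, sqV⟩ := exists_isPullback_yon h₁.1 gK
  haveI : LocallyOfFinitePresentation vs.left := h₂.2 gK _ _ sqV
  haveI : Surjective vs.left := h₄.2 gK _ _ sqV
  haveI : Nonempty ↥VK.left := ⟨(vs.left.surjective pt).choose⟩
  obtain ⟨v₀, hv₀⟩ := Boot.exists_section_of_nonempty (K := K) vs.left
  let v : KS ⟶ V := (Over.homMk v₀ (by
    change v₀ ≫ VK.hom = KS.hom
    rw [← Over.w vs, reassoc_of% hv₀]) : KS ⟶ VK) ≫ vf
  have hv : (yon S).map v ≫ q = gK := by
    simp only [v, Functor.map_comp, Category.assoc, sqV.w]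
    rw [← Functor.map_comp_assoc, show (Over.homMk v₀ _ : KS ⟶ VK) ≫ vs = 𝟙 KS from Over.OverMorphism.ext hv₀,
      CategoryTheory.Functor.map_id, Category.id_comp]
  obtain ⟨_, ⟨(W : V.left.Opens), hW, rfl⟩, hvW, -⟩ :=
    V.left.isBasis_affineOpens.exists_subset_of_mem_open (Set.mem_univ (v.left pt)) isOpen_univ
  let W' : Over S := Over.mk (W.ι ≫ V.hom)
  let j' : W' ⟶ V := Over.homMk W.ι rfl
  haveI : IsAffine W'.left := hW
  have hrange : Set.range v.left ⊆ Set.range W.ι := by
    rintro _ ⟨w, rfl⟩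
    rw [Scheme.Opens.range_ι]
    rwa [Subsingleton.elim w pt]
  let vW : KS ⟶ W' := Over.homMk (IsOpenImmersion.lift W.ι v.left hrange) (by
    change IsOpenImmersion.lift W.ι v.left hrange ≫ W.ι ≫ V.hom = KS.hom
    rw [IsOpenImmersion.lift_fac_assoc]
    exact Over.w v)
  have hvW : vW ≫ j' = v := Over.OverMorphism.ext (IsOpenImmersion.lift_fac _ _ _)
  obtain ⟨Y, yf, ys, sqY⟩ := exists_isPullback_yon
    (Functor.relativelyRepresentable.of_diag hd ((yon S).map j' ≫ q)) gK
  haveI : LocallyOfFinitePresentation ys.left :=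
    (repWith_comp (repWith_yon_map (P := @LocallyOfFinitePresentation)
      (inferInstanceAs (LocallyOfFinitePresentation W.ι))) h₂).2 gK _ _ sqY
  haveI : LocallyQuasiFinite ys.left :=
    (repWith_comp (repWith_yon_map (P := @LocallyQuasiFinite)
      (inferInstanceAs (LocallyQuasiFinite W.ι))) h₃).2 gK _ _ sqY
  obtain ⟨η, hη⟩ := (yon S).map_surjective (sqY.lift ((yon S).map vW) (𝟙 _)
    (by rw [← Functor.map_comp_assoc, hvW, hv, Category.id_comp]))
  haveI : IsLocallyArtinian (Spec (CommRingCat.of K)) := inferInstance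
  haveI : IsLocallyArtinian KS.left := inferInstanceAs (IsLocallyArtinian (Spec (CommRingCat.of K)))
  haveI : IsLocallyArtinian Y.left := IsLocallyArtinian.of_locallyQuasiFinite ys.left
  let O : Y.left.Opens := ⟨{η.left pt}, isOpen_discrete _⟩
  haveI : Nonempty ↥O.toScheme := ⟨⟨η.left pt, rfl⟩⟩
  haveI : Finite ↥O.toScheme := Set.finite_singleton (η.left pt) |>.to_subtype
  let zt : O.toScheme ⟶ Spec (CommRingCat.of K) := O.ι ≫ ys.left
  haveI : LocallyQuasiFinite zt := inferInstance
  haveI : CompactSpace ↥O.toScheme := Finite.compactSpace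
  haveI : QuasiCompact zt := inferInstance
  haveI : IsFinite zt := IsFinite.of_locallyQuasiFinite zt
  haveI : IsAffine O.toScheme := isAffine_of_isAffineHom zt
  obtain ⟨d, a, hd0, hb'⟩ := exists_basis_of_point zt (O.ι ≫ yf.left) fun {Y'} g₁ g₂ e₁ e₂ => by
    rw [← cancel_mono O.ι]
    exact mono_pair ((yon S).map j' ≫ q) sqY _ _ (by simpa [zt] using e₁) (by simpa using e₂)
  obtain ⟨d, rfl⟩ : ∃ d', d = d' + 1 := ⟨d - 1, by omega⟩
  haveI : IsAffine KS.left := inferInstanceAs (IsAffine (Spec (CommRingCat.of K)))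
  obtain ⟨m, n, sqn, hn⟩ := exists_classify (T := KS.left) a hb'
  let i : ι := ⟨⟨W, hW⟩, d, a⟩
  let ZO : Over S := Over.mk (O.ι ≫ Y.hom)
  let ztS : ZO ⟶ KS := Over.homMk zt (by
    change (O.ι ≫ ys.left) ≫ KS.hom = O.ι ≫ Y.hom
    rw [Category.assoc, Over.w])
  have hcell : IsCell (pW i) a KS (ofM a (T := KS) m) gK :=
    ⟨Y, yf, ys, sqY, ZO, ztS, n, (toM_ofM a (T := KS) m).symm ▸ sqn, Over.homMk O.ι rfl,
      Over.OverMorphism.ext rfl, hn.symm, inferInstanceAs (Flat O.ι)⟩
  obtain ⟨c, -, hc⟩ := exists_point_of_isCell (pW i) a (hp₂ i).1 hcell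
  haveI := hb i
  obtain ⟨z, hz⟩ := (yon S).map_surjective (c ≫ inv (b i))
  refine ⟨z ≫ ζ i, ?_⟩
  rw [Functor.map_comp, Category.assoc, hf, hz]
  simp only [r, Category.assoc, IsIso.inv_hom_id_assoc]
  exact hc

/-- The bootstrap theorem: a flat, finitely presented, surjective chart by an algebraic space suffices. -/
theorem isAlgSpace_of_fppfChart {X F : Sp S} {p : X ⟶ F} (hX : IsAlgSpace X) (hp : IsFppfChart p) :
    IsAlgSpace F := by
  have hd := representable_diag_of_fppfChart hX hp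
  obtain ⟨U, a, hae, has⟩ := hX.atlas
  obtain ⟨V, q, h₁, h₂, h₃, h₄⟩ := exists_lqf_chart (a ≫ p) hd (hp.comp_atlas hX hae has)
  exact isAlgSpace_of_lqf_chart _ hd h₁ h₂ h₃ h₄

end Groth.Agent.ASp
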