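import Mathlib
/-!
The universal ring over which a ring has a quotient with a prescribed basis.
-/

set_option autoImplicit false
set_option backward.isDefEq.respectTransparency false

universe u

open TensorProduct CategoryTheory

namespace Groth.Agent.ASp.CellAlg

variable {B : Type u} [CommRing B] {d : ℕ} (a : Fin d → B)

/-- The variable `x(b)ᵢ`. -/
noncomputable abbrev X' (b : B) (i : Fin d) : MvPolynomial (B × Fin d) ℤ := MvPolynomial.X (b, i)

/-- The relations between the coefficients. -/
noncomputable def relSet : Set (MvPolynomial (B × Fin d) ℤ) :=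
  Set.range (fun p : B × B × Fin d => X' (p.1 + p.2.1) p.2.2 - (X' p.1 p.2.2 + X' p.2.1 p.2.2)) ∪
  Set.range (fun p : Fin d × Fin d => X' (a p.1) p.2 - (if p.1 = p.2 then 1 else 0)) ∪
  Set.range (fun p : B × B × Fin d =>
    X' (p.1 * p.2.1) p.2.2 - ∑ j, X' p.1 j * X' (a j * p.2.1) p.2.2)

/-- The universal ring. -/
def R0 : Type u := MvPolynomial (B × Fin d) ℤ ⧸ Ideal.span (relSet a)

noncomputable instance : CommRing (R0 a) := inferInstanceAs
  (CommRing (MvPolynomial (B × Fin d) ℤ ⧸ Ideal.span (relSet a)))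

/-- The quotient map to the universal ring. -/
noncomputable def mk0 : MvPolynomial (B × Fin d) ℤ →+* R0 a := Ideal.Quotient.mk (Ideal.span (relSet a))

theorem mk0_eq {p q : MvPolynomial (B × Fin d) ℤ} (h : p - q ∈ Ideal.span (relSet a)) : mk0 a p = mk0 a q :=
  Ideal.Quotient.eq.2 h

/-- The coefficients of `b`. -/
noncomputable def x (b : B) : Fin d → R0 a := fun i => mk0 a (X' b i)

theorem x_add (b c : B) : x a (b + c) = x a b + x a c := by
  funext i
  simp only [x, Pi.add_apply, ← map_add]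
  exact mk0_eq a (Ideal.subset_span (Or.inl (Or.inl ⟨(b, c, i), rfl⟩)))

theorem x_a (j : Fin d) : x a (a j) = Pi.single j 1 := by
  funext i
  have h : mk0 a (X' (a j) i) = mk0 a (if j = i then 1 else 0) :=
    mk0_eq a (Ideal.subset_span (Or.inl (Or.inr ⟨(j, i), rfl⟩)))
  simp only [x, h, Pi.single_apply]
  rcases eq_or_ne j i with rfl | hji
  · simp
  · rw [if_neg hji, if_neg (Ne.symm hji), map_zero]

theorem x_mul (b c : B) : x a (b * c) = ∑ j, x a b j • x a (a j * c) := by
  funext i
  rw [Finset.sum_apply]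
  simp only [x, Pi.smul_apply, smul_eq_mul, ← map_mul, ← map_sum]
  exact mk0_eq a (Ideal.subset_span (Or.inr ⟨(b, c, i), rfl⟩))

/-- The coefficients as an additive map. -/
noncomputable def xLin : B →ₗ[ℤ] (Fin d → R0 a) := (AddMonoidHom.mk' (x a) (x_add a)).toIntLinearMap

/-- The coefficient map after extending scalars. -/
noncomputable def xT : R0 a ⊗[ℤ] B →ₗ[R0 a] (Fin d → R0 a) := (xLin a).liftBaseChange (R0 a)

@[simp] theorem xT_tmul (r : R0 a) (b : B) : xT a (r ⊗ₜ b) = r • x a b := by
  simp [xT, xLin]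

theorem xT_mul (z : R0 a ⊗[ℤ] B) (r : R0 a) (c : B) :
    xT a (z * r ⊗ₜ c) = r • ∑ j, xT a z j • x a (a j * c) := by
  induction z using TensorProduct.induction_on with
  | zero => simp
  | tmul s b =>
    simp only [Algebra.TensorProduct.tmul_mul_tmul, xT_tmul, x_mul a b c, Pi.smul_apply, smul_eq_mul,
      Finset.smul_sum, smul_smul]
    exact Finset.sum_congr rfl fun j _ => by ring_nf
  | add z w hz hw =>
    simp only [add_mul, map_add, hz, hw, Pi.add_apply, add_smul, Finset.sum_add_distrib, smul_add]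

/-- The kernel of the coefficient map, an ideal. -/
noncomputable def cellIdeal : Ideal (R0 a ⊗[ℤ] B) where
  carrier := {z | xT a z = 0}
  add_mem' {z w} (hz : xT a z = 0) (hw : xT a w = 0) := show xT a (z + w) = 0 by rw [map_add, hz, hw, add_zero]
  zero_mem' := map_zero (xT a)
  smul_mem' := by
    intro y z hz
    change xT a z = 0 at hz
    change xT a (y * z) = 0
    rw [mul_comm]
    induction y using TensorProduct.induction_on with
    | zero => simp
    | tmul r c => rw [xT_mul, hz]; simp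
    | add y w hy hw => rw [mul_add, map_add, hy, hw, add_zero]

/-- The universal quotient. -/
def Q : Type u := (R0 a ⊗[ℤ] B) ⧸ cellIdeal a

noncomputable instance : CommRing (Q a) := inferInstanceAs (CommRing ((R0 a ⊗[ℤ] B) ⧸ cellIdeal a))

noncomputable instance : Algebra (R0 a) (Q a) :=
  inferInstanceAs (Algebra (R0 a) ((R0 a ⊗[ℤ] B) ⧸ cellIdeal a))

/-- The quotient map to the universal quotient. -/
noncomputable def mk1 : R0 a ⊗[ℤ] B →ₐ[R0 a] Q a := Ideal.Quotient.mkₐ (R0 a) (cellIdeal a)

theorem mk1_surjective : Function.Surjective (mk1 a) := Ideal.Quotient.mk_surjective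

/-- Its structure map from `B`. -/
noncomputable def θ0 : B →+* Q a :=
  (mk1 a).toRingHom.comp Algebra.TensorProduct.includeRight.toRingHom

theorem xT_surjective : Function.Surjective (xT a) := by
  intro v
  refine ⟨∑ j, v j ⊗ₜ a j, ?_⟩
  simp only [map_sum, xT_tmul, x_a]
  funext i
  simp [Pi.single_apply]

/-- The coefficient map on the quotient. -/
noncomputable def xQ : Q a →ₗ[R0 a] (Fin d → R0 a) :=
  (((cellIdeal a).restrictScalars (R0 a)).liftQ (xT a) fun z hz => hz : (R0 a ⊗[ℤ] B) ⧸ cellIdeal a →ₗ[R0 a] _)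

@[simp] theorem xQ_mk (z : R0 a ⊗[ℤ] B) : xQ a (mk1 a z) = xT a z := rfl

theorem xQ_bijective : Function.Bijective (xQ a) := by
  refine ⟨?_, fun v => ?_⟩
  · rw [injective_iff_map_eq_zero]
    intro q hq
    obtain ⟨z, rfl⟩ := mk1_surjective a q
    exact Ideal.Quotient.eq_zero_iff_mem.2 hq
  · obtain ⟨z, hz⟩ := xT_surjective a v
    exact ⟨mk1 a z, hz⟩

/-- The basis of the universal quotient. -/
noncomputable def basisQ : Module.Basis (Fin d) (R0 a) (Q a) :=
  .ofEquivFun (LinearEquiv.ofBijective (xQ a) (xQ_bijective a))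

theorem basisQ_repr (b : B) (i : Fin d) : (basisQ a).repr (θ0 a b) i = x a b i := by
  change xQ a (mk1 a ((1 : R0 a) ⊗ₜ b)) i = _
  rw [xQ_mk, xT_tmul, one_smul]

theorem basisQ_apply (j : Fin d) : basisQ a j = θ0 a (a j) := by
  refine (basisQ a).repr.injective (Finsupp.ext fun i => ?_)
  rw [Module.Basis.repr_self, basisQ_repr, x_a, Finsupp.single_apply, Pi.single_apply]
  simp only [eq_comm]

theorem finite_Q : Module.Finite (R0 a) (Q a) := Module.Finite.of_basis (basisQ a)

theorem free_Q : Module.Free (R0 a) (Q a) := Module.Free.of_basis (basisQ a)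

variable {a}

/-- A map out of the universal ring is determined by a quotient with basis. -/
theorem hom_ext {A P : Type u} [CommRing A] [CommRing P] [Algebra A P] {θ : B →+* P}
    (e : Module.Basis (Fin d) A P) (he : ∀ j, e j = θ (a j)) (ρ : R0 a →+* A) (φ : Q a →+* P)
    (h1 : φ.comp (algebraMap (R0 a) (Q a)) = (algebraMap A P).comp ρ) (h2 : φ.comp (θ0 a) = θ)
    (b : B) (i : Fin d) : ρ (x a b i) = e.repr (θ b) i := by
  have h : θ b = ∑ j, ρ (x a b j) • e j := by
    rw [← h2, RingHom.comp_apply, ← (basisQ a).sum_repr (θ0 a b), map_sum]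
    refine Finset.sum_congr rfl fun j _ => ?_
    rw [Algebra.smul_def, map_mul, ← RingHom.comp_apply, h1, basisQ_repr, basisQ_apply, Algebra.smul_def, he]
    congr 1
    rw [← h2]; rfl
  rw [h, map_sum, Finsupp.finsetSum_apply]
  simp [Module.Basis.repr_self, Finsupp.single_apply]

/-- The universal property. -/
theorem exists_hom {A P : Type u} [CommRing A] [CommRing P] [Algebra A P] (θ : B →+* P)
    (e : Module.Basis (Fin d) A P) (he : ∀ j, e j = θ (a j)) :
    ∃ (ρ : R0 a →+* A) (φ : Q a →+* P), φ.comp (algebraMap (R0 a) (Q a)) = (algebraMap A P).comp ρ ∧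
      φ.comp (θ0 a) = θ := by
  classical
  let v : MvPolynomial (B × Fin d) ℤ →+* A :=
    MvPolynomial.eval₂Hom (Int.castRingHom A) fun p => e.repr (θ p.1) p.2
  have hv : ∀ b i, v (X' b i) = e.repr (θ b) i := fun b i => MvPolynomial.eval₂Hom_X' _ _ _
  have hker : Ideal.span (relSet a) ≤ RingHom.ker v := by
    rw [Ideal.span_le]
    rintro _ ((⟨⟨b, c, i⟩, rfl⟩ | ⟨⟨j, i⟩, rfl⟩) | ⟨⟨b, c, i⟩, rfl⟩) <;>
      simp only [SetLike.mem_coe, RingHom.mem_ker, map_sub, sub_eq_zero]
    · simp [hv, map_add]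
    · rw [hv, ← he, Module.Basis.repr_self, Finsupp.single_apply]
      split_ifs <;> simp
    · simp only [map_sum, map_mul, hv]
      have hb : θ b * θ c = ∑ j, e.repr (θ b) j • (θ (a j) * θ c) := by
        conv_lhs => rw [← e.sum_repr (θ b), Finset.sum_mul]
        exact Finset.sum_congr rfl fun j _ => by rw [smul_mul_assoc, he]
      rw [← map_mul, map_mul θ b c, hb, map_sum, Finsupp.finsetSum_apply]
      simp [map_mul]
  let ρ : R0 a →+* A := Ideal.Quotient.lift (Ideal.span (relSet a)) v hker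
  have hρ : ∀ b i, ρ (x a b i) = e.repr (θ b) i := fun b i => hv b i
  letI : Algebra (R0 a) A := ρ.toAlgebra
  letI : Algebra (R0 a) P := ((algebraMap A P).comp ρ).toAlgebra
  haveI : IsScalarTower (R0 a) A P := IsScalarTower.of_algebraMap_eq' rfl
  let φ₀ : R0 a ⊗[ℤ] B →ₐ[R0 a] P := Algebra.TensorProduct.lift (Algebra.ofId _ _) θ.toIntAlgHom
    fun _ _ => Commute.all _ _
  have hφ₀ : ∀ z, φ₀ z = ∑ j, algebraMap (R0 a) P (xT a z j) * e j := by
    intro z
    induction z using TensorProduct.induction_on with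
    | zero => simp
    | tmul r b =>
      simp only [φ₀, Algebra.TensorProduct.lift_tmul, Algebra.ofId_apply, RingHom.toIntAlgHom_apply, xT_tmul,
        Pi.smul_apply, smul_eq_mul, map_mul, mul_assoc, ← Finset.mul_sum]
      congr 1
      conv_lhs => rw [← e.sum_repr (θ b)]
      exact Finset.sum_congr rfl fun j _ => by
        rw [← hρ, Algebra.smul_def]; rfl
    | add z w hz hw => simp only [map_add, hz, hw, Pi.add_apply, add_mul, Finset.sum_add_distrib]
  let φ : Q a →ₐ[R0 a] P := (Ideal.Quotient.liftₐ (cellIdeal a) φ₀ fun z hz => by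
    change xT a z = 0 at hz
    simp [hφ₀, hz] : ((R0 a ⊗[ℤ] B) ⧸ cellIdeal a) →ₐ[R0 a] P)
  refine ⟨ρ, φ.toRingHom, RingHom.ext fun r => φ.commutes r, RingHom.ext fun b => ?_⟩
  change φ₀ ((1 : R0 a) ⊗ₜ b) = θ b
  simp [φ₀]

/-- A quotient with the prescribed basis is the base change of the universal one. -/
theorem isPushout {A P : Type u} [CommRing A] [CommRing P] [Algebra A P] {θ : B →+* P}
    (e : Module.Basis (Fin d) A P) (he : ∀ j, e j = θ (a j)) (ρ : R0 a →+* A) (φ : Q a →+* P)
    (h1 : φ.comp (algebraMap (R0 a) (Q a)) = (algebraMap A P).comp ρ) (h2 : φ.comp (θ0 a) = θ) :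
    IsPushout (CommRingCat.ofHom ρ) (CommRingCat.ofHom (algebraMap (R0 a) (Q a)))
      (CommRingCat.ofHom (algebraMap A P)) (CommRingCat.ofHom φ) := by
  letI : Algebra (R0 a) A := ρ.toAlgebra
  letI : Algebra (Q a) P := φ.toAlgebra
  letI : Algebra (R0 a) P := ((algebraMap A P).comp ρ).toAlgebra
  haveI : IsScalarTower (R0 a) A P := IsScalarTower.of_algebraMap_eq' rfl
  haveI : IsScalarTower (R0 a) (Q a) P := IsScalarTower.of_algebraMap_eq' h1.symm
  haveI : Algebra.IsPushout (R0 a) A (Q a) P := by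
    refine ⟨IsBaseChange.of_equiv (((basisQ a).baseChange A).equiv e (Equiv.refl _)) ?_⟩
    intro q
    change _ = φ q
    have hL : ∀ j, ((basisQ a).baseChange A).equiv e (Equiv.refl _) (1 ⊗ₜ basisQ a j) = e j := fun j => by
      rw [← Module.Basis.baseChange_apply, Module.Basis.equiv_apply, Equiv.refl_apply]
    conv_lhs => rw [← (basisQ a).sum_repr q, TensorProduct.tmul_sum, map_sum]
    conv_rhs => rw [← (basisQ a).sum_repr q, map_sum]
    refine Finset.sum_congr rfl fun j _ => ?_
    rw [TensorProduct.tmul_smul, ← algebraMap_smul A ((basisQ a).repr q j) (1 ⊗ₜ[R0 a] basisQ a j), map_smul,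
      hL, Algebra.smul_def, Algebra.smul_def, map_mul, ← RingHom.comp_apply φ, h1, basisQ_apply, he, ← h2]
    rfl
  exact CommRingCat.isPushout_of_isPushout (R0 a) A (Q a) P

/-- The base change of the universal quotient has the prescribed basis. -/
theorem exists_basis_tensor {A : Type u} [CommRing A] [Algebra (R0 a) A] :
    ∃ e : Module.Basis (Fin d) A (A ⊗[R0 a] Q a), ∀ j, e j =
      (Algebra.TensorProduct.includeRight.toRingHom.comp (θ0 a) : B →+* A ⊗[R0 a] Q a) (a j) := by
  refine ⟨(basisQ a).baseChange A, fun j => ?_⟩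
  rw [Module.Basis.baseChange_apply, basisQ_apply]
  rfl

end Groth.Agent.ASp.CellAlg
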