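import Mathlib
/-!
Elements of a finite projective module forming a basis at a point form one nearby.
-/

set_option autoImplicit false
set_option backward.isDefEq.respectTransparency false

universe u

open TensorProduct

namespace Groth.Agent.ASp.Cell

variable {A P : Type u} [CommRing A] [AddCommGroup P] [Module A P] {d : ℕ}

theorem combination_eq (c : Fin d → P) (L : Type u) [CommRing L] [Algebra A L] :
    (fun v : Fin d → L => ∑ i, v i ⊗ₜ[A] c i) =
      (Fintype.linearCombination A c).lTensor L ∘ (TensorProduct.piScalarRight A A L (Fin d)).symm := by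
  funext v
  rw [Function.comp_apply]
  conv_rhs => rw [show v = ∑ i, Pi.single i (v i) from (Finset.univ_sum_single v).symm]
  simp only [map_sum, TensorProduct.piScalarRight_symm_single, LinearMap.lTensor_tmul,
    Fintype.linearCombination_apply_single, one_smul]

theorem bijective_combination_iff (c : Fin d → P) (L : Type u) [CommRing L] [Algebra A L] :
    Function.Bijective (fun v : Fin d → L => ∑ i, v i ⊗ₜ[A] c i) ↔
      Function.Bijective ((Fintype.linearCombination A c).lTensor L) := by
  rw [combination_eq c L]
  exact Function.Bijective.of_comp_iff _ (LinearEquiv.bijective _)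

theorem map_eq_lTensor (c : Fin d → P) (S : Submonoid A) (L : Type u) [CommRing L] [Algebra A L]
    [IsLocalization S L] :
    IsLocalizedModule.map S (TensorProduct.mk A L (Fin d → A) 1) (TensorProduct.mk A L P 1)
      (Fintype.linearCombination A c) = (Fintype.linearCombination A c).lTensor L := by
  refine IsLocalizedModule.ext S (TensorProduct.mk A L (Fin d → A) 1)
    (IsLocalizedModule.map_units (TensorProduct.mk A L P 1)) ?_
  refine LinearMap.ext fun v => ?_
  simp only [LinearMap.comp_apply, TensorProduct.mk_apply, LinearMap.lTensor_tmul]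
  exact IsLocalizedModule.map_apply S (TensorProduct.mk A L (Fin d → A) 1) (TensorProduct.mk A L P 1) _ v

theorem exists_bijective_away [Module.Finite A P] [Module.Projective A P] (c : Fin d → P)
    {K : Type u} [Field K] [Algebra A K] (h : Function.Bijective fun v : Fin d → K => ∑ i, v i ⊗ₜ[A] c i) :
    ∃ f : A, algebraMap A K f ≠ 0 ∧ ∀ (A' : Type u) [CommRing A'] [Algebra A A'] [IsLocalization.Away f A'],
      Function.Bijective fun v : Fin d → A' => ∑ i, v i ⊗ₜ[A] c i := by
  classical
  let p : Ideal A := RingHom.ker (algebraMap A K)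
  haveI : p.IsPrime := RingHom.ker_isPrime _
  let L := Localization.AtPrime p
  let g : L →+* K := IsLocalization.lift (M := p.primeCompl) (g := algebraMap A K)
    fun y => IsUnit.mk0 _ y.2
  letI : Algebra L K := g.toAlgebra
  haveI : IsScalarTower A L K :=
    IsScalarTower.of_algebraMap_eq' (IsLocalization.lift_comp (M := p.primeCompl) (g := algebraMap A K) _).symm
  haveI : IsLocalHom (algebraMap L K) := ⟨fun x hx => by
    by_contra hxu
    have hxm : x ∈ IsLocalRing.maximalIdeal L := hxu
    obtain ⟨⟨x₀, s⟩, hs⟩ := IsLocalization.surj p.primeCompl x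
    have hx₀ : algebraMap A L x₀ ∈ IsLocalRing.maximalIdeal L := hs ▸ Ideal.mul_mem_right _ _ hxm
    rw [IsLocalization.AtPrime.to_map_mem_maximal_iff L p] at hx₀
    have h0 : algebraMap A K x₀ = 0 := hx₀
    rw [IsScalarTower.algebraMap_apply A L K, ← hs, map_mul] at h0
    rcases mul_eq_zero.1 h0 with h0 | h0
    · exact hx.ne_zero h0
    · rw [← IsScalarTower.algebraMap_apply] at h0
      exact s.2 h0⟩
  let PL := L ⊗[A] P
  haveI : Module.Free L PL := Module.free_of_flat_of_isLocalRing
  let e₀ := Module.finBasis L PL
  let κ : K ⊗[L] PL ≃ₗ[K] K ⊗[A] P := AlgebraTensorModule.cancelBaseChange A L K K P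
  let Φ : (Fin d → K) →ₗ[K] K ⊗[A] P :=
    Fintype.linearCombination K fun i => (1 : K) ⊗ₜ[A] c i
  have hΦ : Function.Bijective Φ := by
    convert h using 1
    funext v
    simp [Φ, Fintype.linearCombination_apply, TensorProduct.smul_tmul']
  have hdim : Module.finrank L PL = d := by
    rw [← Module.finrank_baseChange (R := K) (M' := PL), κ.finrank_eq,
      ← (LinearEquiv.ofBijective Φ hΦ).finrank_eq, Module.finrank_pi, Fintype.card_fin]
  let e := e₀.reindex (finCongr hdim)
  let cL : Fin d → PL := fun i => 1 ⊗ₜ c i
  have hdet : IsUnit (e.det cL) := by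
    refine isUnit_of_map_unit (algebraMap L K) _ ?_
    let eK : Module.Basis (Fin d) K (K ⊗[A] P) := (e.baseChange K).map κ
    let bK : Module.Basis (Fin d) K (K ⊗[A] P) := Module.Basis.ofEquivFun (LinearEquiv.ofBijective Φ hΦ).symm
    have hb : ⇑bK = fun i => (1 : K) ⊗ₜ[A] c i := by
      funext i
      rw [Module.Basis.coe_ofEquivFun, LinearEquiv.symm_symm]
      change Φ (Pi.single i 1) = _
      simp [Φ, Fintype.linearCombination_apply_single]
    have hm : algebraMap L K (e.det cL) = eK.det bK := by
      rw [Module.Basis.det_apply, Module.Basis.det_apply, RingHom.map_det]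
      congr 1
      ext i j
      rw [RingHom.mapMatrix_apply, Matrix.map_apply, Module.Basis.toMatrix_apply, Module.Basis.toMatrix_apply, hb]
      have h3 : κ.symm ((1 : K) ⊗ₜ[A] c j) = (1 : K) ⊗ₜ[L] cL j := by
        rw [LinearEquiv.symm_apply_eq]
        exact ((AlgebraTensorModule.cancelBaseChange_tmul ..).trans (by rw [one_smul])).symm
      simp only [eK, Module.Basis.map_repr, LinearEquiv.trans_apply, h3, Module.Basis.baseChange_repr_tmul]
      rw [Algebra.smul_def, mul_one]
    rw [hm]
    exact eK.isUnit_det bK
  have hLbij : Function.Bijective fun v : Fin d → L => ∑ i, v i ⊗ₜ[A] c i := by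
    let bL := Module.Basis.mk (v := cL) ((e.is_basis_iff_det).2 hdet).1 ((e.is_basis_iff_det).2 hdet).2.ge
    convert bL.equivFun.symm.bijective using 1
    funext v
    rw [Module.Basis.equivFun_symm_apply]
    simp [bL, cL]
    exact Finset.sum_congr rfl fun i _ => by rw [TensorProduct.smul_tmul', smul_eq_mul, mul_one]
  rw [bijective_combination_iff, ← map_eq_lTensor c p.primeCompl L] at hLbij
  haveI : Module.FinitePresentation A P := Module.finitePresentation_of_projective _ _
  obtain ⟨f, hf, hfb⟩ := exists_bijective_map_powers p.primeCompl _ _ _ hLbij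
  refine ⟨f, hf, fun A' _ _ _ => ?_⟩
  rw [bijective_combination_iff, ← map_eq_lTensor c (Submonoid.powers f) A',
    IsLocalizedModule.map_bijective_iff_localizedModuleMap_bijective]
  exact hfb f dvd_rfl

end Groth.Agent.ASp.Cell
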