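import Groth.Agent.ASp.CellRange
import Groth.Agent.ASp.CellNbhd
import Groth.Agent.EtaleSplit.Split
/-!
Every geometric cell extends to an etale neighbourhood.
-/

set_option autoImplicit false
set_option backward.isDefEq.respectTransparency false
set_option backward.isDefEq.respectTransparency.types false

universe u

open CategoryTheory CategoryTheory.Limits AlgebraicGeometry Opposite TensorProduct

namespace Groth.Agent.ASp.Cell

open _root_.AlgSp Groth.Agent.EtaleSplit

/-- A finite union of open pieces finite over the base is finite over the base. -/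
theorem isFinite_sup {X Y : Scheme.{u}} (f : X ⟶ Y) [IsSeparated f] [LocallyQuasiFinite f]
    [LocallyOfFiniteType f] (U V : X.Opens) [IsFinite (U.ι ≫ f)] [IsFinite (V.ι ≫ f)] :
    IsFinite ((U ⊔ V).ι ≫ f) := by
  let u : U.toScheme ⟶ (U ⊔ V).toScheme := X.homOfLE le_sup_left
  let v : V.toScheme ⟶ (U ⊔ V).toScheme := X.homOfLE le_sup_right
  let c : U.toScheme ⨿ V.toScheme ⟶ (U ⊔ V).toScheme := coprod.desc u v
  haveI : Surjective c := ⟨fun x => by
    rcases (TopologicalSpace.Opens.mem_sup.1 x.2) with h | h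
    · refine ⟨(coprod.inl : U.toScheme ⟶ _) ⟨x.1, h⟩, ?_⟩
      rw [← Scheme.Hom.comp_apply, coprod.inl_desc]
      exact Subtype.ext (by simp [u])
    · refine ⟨(coprod.inr : V.toScheme ⟶ _) ⟨x.1, h⟩, ?_⟩
      rw [← Scheme.Hom.comp_apply, coprod.inr_desc]
      exact Subtype.ext (by simp [v])⟩
  haveI : IsFinite (c ≫ (U ⊔ V).ι ≫ f) := by
    rw [show c ≫ (U ⊔ V).ι ≫ f = coprod.desc (U.ι ≫ f) (V.ι ≫ f) by
      apply coprod.hom_ext <;> simp [c, u, v]]
    infer_instance
  haveI : UniversallyClosed ((U ⊔ V).ι ≫ f) := UniversallyClosed.of_comp_surjective c _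
  rw [IsFinite.iff_isProper_and_locallyQuasiFinite]
  exact ⟨⟨⟩, inferInstance⟩

theorem isFinite_finset_sup {X Y : Scheme.{u}} (f : X ⟶ Y) [IsSeparated f] [LocallyQuasiFinite f]
    [LocallyOfFiniteType f] {ι : Type*} (V : ι → X.Opens) (h : ∀ i, IsFinite ((V i).ι ≫ f)) (s : Finset ι) :
    IsFinite ((s.sup V).ι ≫ f) := by
  classical
  induction s using Finset.induction_on with
  | empty =>
    haveI : IsEmpty ↥((∅ : Finset ι).sup V).toScheme := ⟨fun x => by
      have key : ∀ O : X.Opens, O = ⊥ → ∀ y : X, y ∉ O := fun O hO y hy => by subst hO; exact hy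
      exact key _ (Finset.sup_empty (f := V)) _ x.2⟩
    haveI : IsPreimmersion (((∅ : Finset ι).sup V).ι ≫ f) := by
      haveI : IsOpenImmersion (((∅ : Finset ι).sup V).ι ≫ f) := inferInstance
      infer_instance
    haveI : IsClosedImmersion (((∅ : Finset ι).sup V).ι ≫ f) := by
      refine IsClosedImmersion.of_isPreimmersion _ ?_
      rw [Set.range_eq_empty]
      exact isClosed_empty
    infer_instance
  | insert i s _ ih =>
    haveI := h i
    rw [Finset.sup_insert]
    exact isFinite_sup f _ _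

section Basis

variable {W : Scheme.{u}} {d : ℕ} (a : Fin d → Γ(W, ⊤))

theorem hasBasis_iff_tensor {T T' Z Z' : Scheme.{u}} [IsAffine T] [IsAffine T'] [IsAffine Z] {zt : Z ⟶ T}
    {j : T' ⟶ T} {fst : Z' ⟶ Z} {snd : Z' ⟶ T'} (sq : IsPullback fst snd zt j) (w : Z ⟶ W) :
    letI := j.appTop.hom.toAlgebra
    letI := zt.appTop.hom.toAlgebra
    HasBasis a snd (fst ≫ w) ↔
      Function.Bijective fun v : Fin d → Γ(T', ⊤) => ∑ i, v i ⊗ₜ[Γ(T, ⊤)] w.appTop (a i) := by
  letI := j.appTop.hom.toAlgebra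
  letI := zt.appTop.hom.toAlgebra
  letI := snd.appTop.hom.toAlgebra
  letI := fst.appTop.hom.toAlgebra
  letI : Algebra Γ(T, ⊤) Γ(Z', ⊤) := (snd.appTop.hom.comp j.appTop.hom).toAlgebra
  haveI : IsScalarTower Γ(T, ⊤) Γ(T', ⊤) Γ(Z', ⊤) := IsScalarTower.of_algebraMap_eq' rfl
  have e := congrArg (fun k => k.appTop.hom) sq.w
  simp only [Scheme.Hom.comp_appTop, CommRingCat.hom_comp] at e
  haveI : IsScalarTower Γ(T, ⊤) Γ(Z, ⊤) Γ(Z', ⊤) := IsScalarTower.of_algebraMap_eq' e.symm
  haveI : Algebra.IsPushout Γ(T, ⊤) Γ(T', ⊤) Γ(Z, ⊤) Γ(Z', ⊤) :=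
    CommRingCat.isPushout_iff_isPushout.1 (isPushout_appTop_of_isPullback sq.flip)
  let Φ := Algebra.IsPushout.equiv Γ(T, ⊤) Γ(T', ⊤) Γ(Z, ⊤) Γ(Z', ⊤)
  have hfun : (fun v : Fin d → Γ(T', ⊤) => ∑ i, snd.appTop (v i) * (fst ≫ w).appTop (a i)) =
      Φ ∘ fun v => ∑ i, v i ⊗ₜ[Γ(T, ⊤)] w.appTop (a i) := by
    funext v
    simp only [Function.comp_apply, map_sum]
    refine Finset.sum_congr rfl fun i _ => ?_
    rw [Algebra.IsPushout.equiv_tmul, Scheme.Hom.comp_appTop, CommRingCat.comp_apply]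
    rfl
  unfold HasBasis
  rw [hfun]
  exact Function.Bijective.of_comp_iff' Φ.bijective _

theorem HasBasis.of_iso {T Z Z' : Scheme.{u}} {zt : Z ⟶ T} {w : Z ⟶ W} (h : HasBasis a zt w) (e : Z' ⟶ Z)
    [IsIso e] : HasBasis a (e ≫ zt) (e ≫ w) := by
  unfold HasBasis at *
  have : (fun v : Fin d → Γ(T, ⊤) => ∑ i, (e ≫ zt).appTop (v i) * (e ≫ w).appTop (a i)) =
      e.appTop ∘ fun v => ∑ i, zt.appTop (v i) * w.appTop (a i) := by
    funext v
    simp only [Function.comp_apply, map_sum, map_mul, Scheme.Hom.comp_appTop, CommRingCat.comp_apply]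
  rw [this]
  exact (ConcreteCategory.bijective_of_isIso e.appTop).comp h

/-- A finite flat family with the basis at a point has it nearby. -/
theorem exists_basis_nbhd {T Z : Scheme.{u}} [IsAffine T] [IsAffine Z] (zt : Z ⟶ T) [IsFinite zt] [Flat zt]
    [LocallyOfFinitePresentation zt] (w : Z ⟶ W) {K : Type u} [Field K] (t : Spec (CommRingCat.of K) ⟶ T)
    {ZK : Scheme.{u}} {fst : ZK ⟶ Z} {snd : ZK ⟶ Spec (CommRingCat.of K)} (sq : IsPullback fst snd zt t)
    (h : HasBasis a snd (fst ≫ w)) :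
    ∃ (T' : Scheme.{u}) (j : T' ⟶ T) (t' : Spec (CommRingCat.of K) ⟶ T'), IsAffine T' ∧ IsOpenImmersion j ∧
      t' ≫ j = t ∧ HasBasis a (pullback.snd zt j) (pullback.fst zt j ≫ w) := by
  letI := zt.appTop.hom.toAlgebra
  let τ : Γ(T, ⊤) →+* K := ((Scheme.ΓSpecIso (CommRingCat.of K)).hom).hom.comp t.appTop.hom
  haveI : Module.Finite Γ(T, ⊤) Γ(Z, ⊤) := zt.finite_appTop
  haveI : Module.Flat Γ(T, ⊤) Γ(Z, ⊤) := HasRingHomProperty.appTop @Flat zt ‹_›
  haveI : Algebra.FinitePresentation Γ(T, ⊤) Γ(Z, ⊤) :=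
    HasRingHomProperty.appTop @LocallyOfFinitePresentation zt ‹_›
  haveI : Module.FinitePresentation Γ(T, ⊤) Γ(Z, ⊤) :=
    Module.FinitePresentation.of_finite_of_finitePresentation Γ(T, ⊤) Γ(Z, ⊤)
  haveI : Module.Projective Γ(T, ⊤) Γ(Z, ⊤) := Module.Flat.projective_of_finitePresentation
  letI := t.appTop.hom.toAlgebra
  have hb := (hasBasis_iff_tensor a sq w).1 h
  let eK : Γ(Spec (CommRingCat.of K), ⊤) ≃+* K := (Scheme.ΓSpecIso (CommRingCat.of K)).commRingCatIsoToRingEquiv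
  letI : Field Γ(Spec (CommRingCat.of K), ⊤) := (eK.toMulEquiv.isField (Field.toIsField K)).toField
  obtain ⟨f, hf, hfb⟩ := exists_bijective_away (fun i => w.appTop (a i)) hb
  let L : CommRingCat.{u} := CommRingCat.of (Localization.Away f)
  let ι : Γ(T, ⊤) ⟶ L := CommRingCat.ofHom (algebraMap Γ(T, ⊤) (Localization.Away f))
  haveI : IsOpenImmersion (Spec.map ι) := IsOpenImmersion.of_isLocalization (R := Γ(T, ⊤)) f
  have hτf : IsUnit (τ f) := isUnit_iff_ne_zero.2 fun h0 => hf (eK.injective (h0.trans (map_zero eK).symm))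
  let gK : L ⟶ CommRingCat.of K := CommRingCat.ofHom (IsLocalization.Away.lift f hτf)
  refine ⟨Spec L, Spec.map ι ≫ T.isoSpec.inv, Spec.map gK, inferInstance, inferInstance, ?_, ?_⟩
  · rw [← Category.assoc, ← Spec.map_comp, ← cancel_mono T.isoSpec.hom, Category.assoc, Iso.inv_hom_id,
      Category.comp_id, show ι ≫ gK = CommRingCat.ofHom τ from CommRingCat.hom_ext (IsLocalization.Away.lift_comp f hτf)]
    rw [← Scheme.isoSpec_hom_naturality t, show CommRingCat.ofHom τ = t.appTop ≫ (Scheme.ΓSpecIso _).hom from rfl,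
      Spec.map_comp]
    congr 1
    simp [Scheme.isoSpec]
  · let j := Spec.map ι ≫ T.isoSpec.inv
    letI := j.appTop.hom.toAlgebra
    refine (hasBasis_iff_tensor a (IsPullback.of_hasPullback zt j) w).2 ?_
    have hj : j.appTop = ι ≫ (Scheme.ΓSpecIso L).inv := by
      have h2 : T.isoSpec.inv.appTop = (Scheme.ΓSpecIso Γ(T, ⊤)).inv := by simp [Scheme.isoSpec]
      rw [Scheme.Hom.comp_appTop, h2]
      exact (Scheme.ΓSpecIso_inv_naturality ι).symm
    let eL : Localization.Away f ≃ₐ[Γ(T, ⊤)] Γ(Spec L, ⊤) :=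
      { (Scheme.ΓSpecIso L).symm.commRingCatIsoToRingEquiv with
        commutes' := fun r => by
          change (Scheme.ΓSpecIso L).inv (ι r) = j.appTop r
          rw [hj]; rfl }
    haveI : IsLocalization.Away f Γ(Spec L, ⊤) :=
      IsLocalization.isLocalization_of_algEquiv (Submonoid.powers f) eL
    exact hfb Γ(Spec L, ⊤)

end Basis

variable {S : Scheme.{u}} {F : Sp S} {W : Over S} [IsAffine W.left] (p : (yon S).obj W ⟶ F)
variable {d : ℕ} (a : Fin d → Γ(W.left, ⊤))

/-- Every geometric cell extends to an etale neighbourhood. -/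
theorem exists_etale_cell (hpl : RepWith @LocallyOfFinitePresentation p) (hpq : RepWith @LocallyQuasiFinite p)
    (hpf : RepWith @Flat p) {T : Over S} (g : (yon S).obj T ⟶ F) {K : Type u} [Field K] [IsAlgClosed K]
    {str : Spec (CommRingCat.of K) ⟶ S} (q : Over.mk str ⟶ T) (m₀ : Over.mk str ⟶ MS a)
    (h₀ : IsCell p a (Over.mk str) m₀ ((yon S).map q ≫ g)) :
    ∃ (T' : Over S) (e : T' ⟶ T) (m : T' ⟶ MS a) (qT : Over.mk str ⟶ T'),
      IsAffine T'.left ∧ Etale e.left ∧ IsCell p a T' m ((yon S).map e ≫ g) ∧ qT ≫ e = q ∧ qT ≫ m = m₀ := by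
  obtain ⟨Wg, fst, snd, sqW⟩ := exists_isPullback_yon hpl.1 g
  haveI : LocallyOfFinitePresentation snd.left := hpl.2 g _ _ sqW
  haveI : LocallyQuasiFinite snd.left := hpq.2 g _ _ sqW
  haveI : Flat snd.left := hpf.2 g _ _ sqW
  haveI := isSeparated_snd p sqW
  have sqq := isPullback_left (IsPullback.of_hasPullback snd q)
  have sqWq := ((IsPullback.of_hasPullback snd q).map (yon S)).paste_horiz sqW
  rw [← Functor.map_comp] at sqWq
  obtain ⟨Z₀, zt₀, n₀, k₀, hL₀⟩ := h₀.exists_Lift sqWq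
  let pr₁ : (pullback snd q).left ⟶ Wg.left := (pullback.fst snd q).left
  let pr₂ : (pullback snd q).left ⟶ Spec (CommRingCat.of K) := (pullback.snd snd q).left
  haveI : LocallyOfFiniteType pr₂ := MorphismProperty.of_isPullback (P := @LocallyOfFiniteType) sqq inferInstance
  haveI : LocallyQuasiFinite pr₂ := MorphismProperty.of_isPullback (P := @LocallyQuasiFinite) sqq ‹_›
  haveI : LocallyOfFiniteType (pullback.snd snd q).left := ‹LocallyOfFiniteType pr₂›
  haveI := hL₀.isOpenImmersion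
  haveI : IsFinite zt₀.left := hL₀.isFinite_zt
  haveI : IsAffine (Over.mk str).left := inferInstanceAs (IsAffine (Spec (CommRingCat.of K)))
  haveI : Subsingleton ↥(Spec (CommRingCat.of K)) := inferInstanceAs (Subsingleton (PrimeSpectrum K))
  -- the points of the cell
  haveI : Finite ↥Z₀.left := by
    rw [← Set.finite_univ_iff]
    have := zt₀.left.finite_preimage_singleton (IsLocalRing.closedPoint K)
    rwa [show zt₀.left ⁻¹' {IsLocalRing.closedPoint K} = Set.univ from
      Set.eq_univ_of_forall fun z => Subsingleton.elim (α := ↥(Spec (CommRingCat.of K))) _ _] at this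
  haveI : IsLocallyArtinian (pullback snd q).left := IsLocallyArtinian.of_locallyQuasiFinite pr₂
  haveI : DiscreteTopology ↥(pullback snd q).left := inferInstance
  let η : ↥(pullback snd q).left → (Spec (CommRingCat.of K) ⟶ (pullback snd q).left) := fun y =>
    pointOfClosedPoint pr₂ y (isClosed_discrete _)
  have hη : ∀ y, η y ≫ pr₂ = 𝟙 _ := fun y => pointOfClosedPoint_comp _ _ _
  have hηy : ∀ y, pt (η y) = y := fun y => pointOfClosedPoint_apply _ _ _ _
  have hp : ∀ y, (η y ≫ pr₁) ≫ snd.left = q.left := fun y => by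
    rw [Category.assoc, sqq.w, ← Category.assoc, hη, Category.id_comp]
  let pp : ↥Z₀.left → GPts snd.left q.left := fun z => ⟨η (k₀.left z) ≫ pr₁, hp _⟩
  obtain ⟨T₁, g₁, qT₁, hqT₁, V, hg₁, hV⟩ :=
    exists_split snd.left q.left pp (fun _ => ⊤) (fun _ => trivial) (fun _ => snd.left.quasiFiniteAt _)
  -- an affine neighbourhood
  obtain ⟨_, ⟨(U : T₁.Opens), hU, rfl⟩, hqU, -⟩ :=
    T₁.isBasis_affineOpens.exists_subset_of_mem_open (Set.mem_univ (pt qT₁)) isOpen_univ
  haveI : IsAffine U.toScheme := hU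
  have hrange : Set.range qT₁ ⊆ Set.range U.ι := by
    rintro _ ⟨w, rfl⟩
    rw [Scheme.Opens.range_ι]
    rwa [pt_eq qT₁ w]
  let qU : Spec (CommRingCat.of K) ⟶ U.toScheme := IsOpenImmersion.lift U.ι qT₁ hrange
  let eT : U.toScheme ⟶ T.left := U.ι ≫ g₁
  haveI : Etale eT := MorphismProperty.comp_mem _ _ _ (inferInstance : Etale U.ι) hg₁
  let mU : pullback snd.left eT ⟶ pullback snd.left g₁ :=
    pullback.map snd.left eT snd.left g₁ (𝟙 _) U.ι (𝟙 _) (by simp) (by simp [eT])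
  have hmU := isPullback_pullbackMap snd.left g₁ eT U.ι rfl
  let Vall : (pullback snd.left g₁).Opens := (@Finset.univ _ (Fintype.ofFinite _)).sup V
  haveI : IsFinite (Vall.ι ≫ pullback.snd snd.left g₁) :=
    isFinite_finset_sup _ V (fun i => (hV i).1) _
  let V' : (pullback snd.left eT).Opens := mU ⁻¹ᵁ Vall
  haveI : IsFinite (V'.ι ≫ pullback.snd snd.left eT) := isFinite_preimage hmU Vall
  let zt' : V'.toScheme ⟶ U.toScheme := V'.ι ≫ pullback.snd snd.left eT
  haveI : IsAffine V'.toScheme := isAffine_of_isAffineHom zt'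
  -- the fibre
  let θ : (pullback snd q).left ⟶ pullback snd.left eT := pullback.lift pr₁ (pr₂ ≫ qU) (by
    rw [sqq.w, Category.assoc]
    congr 1
    rw [IsOpenImmersion.lift_fac_assoc, hqT₁])
  have sqθ : IsPullback θ pr₂ (pullback.snd snd.left eT) qU := by
    refine IsPullback.of_right ?_ (pullback.lift_snd _ _ _) (IsPullback.of_hasPullback snd.left eT)
    rw [show θ ≫ pullback.fst snd.left eT = pr₁ from pullback.lift_fst _ _ _,
      show qU ≫ eT = q.left by rw [IsOpenImmersion.lift_fac_assoc, hqT₁]]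
    exact sqq
  have hηθ : ∀ y, η y ≫ θ ≫ mU = pullback.lift (η y ≫ pr₁) qT₁ (((hp y)).trans hqT₁.symm) := fun y => by
    apply pullback.hom_ext
    · simp [θ, mU]
    · simp only [Category.assoc, θ, mU, pullback.map, pullback.lift_snd, pullback.lift_snd_assoc]
      rw [reassoc_of% (hη y)]
      exact IsOpenImmersion.lift_fac _ _ _
  have hmem : ∀ y, y ∈ θ ⁻¹ᵁ V' ↔ y ∈ Set.range k₀.left := by
    intro y
    have hy : mU (θ y) = pt (η y ≫ θ ≫ mU) := by
      rw [pt_comp, hηy]; rfl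
    constructor
    · intro h
      change mU (θ y) ∈ Vall at h
      rw [← SetLike.mem_coe, TopologicalSpace.Opens.coe_finset_sup, Finset.sup_set_eq_biUnion, Set.mem_iUnion₂] at h
      obtain ⟨z, -, hz⟩ := h
      rw [Function.comp_apply, SetLike.mem_coe, hy, hηθ] at hz
      have huz := (hV z).2.2.2 ⟨_, pullback.lift_snd _ _ _⟩ hz
      have he : η y ≫ pr₁ = η (k₀.left z) ≫ pr₁ := by
        simpa [pp] using congrArg (· ≫ pullback.fst snd.left g₁) huz
      refine ⟨z, ?_⟩
      have hηeq : η y = η (k₀.left z) := sqq.hom_ext he ((hη y).trans (hη _).symm)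
      rw [← hηy (k₀.left z), ← hηeq, hηy]
    · rintro ⟨z, rfl⟩
      change mU (θ (k₀.left z)) ∈ Vall
      rw [← SetLike.mem_coe, TopologicalSpace.Opens.coe_finset_sup, Finset.sup_set_eq_biUnion, Set.mem_iUnion₂]
      refine ⟨z, by simp, ?_⟩
      rw [Function.comp_apply, SetLike.mem_coe, hy, hηθ]
      exact (hV z).2.2.1
  have hrk : Set.range k₀.left = Set.range (θ ⁻¹ᵁ V').ι := by
    rw [Scheme.Opens.range_ι]
    exact Set.ext fun y => (hmem y).symm
  let ψ := IsOpenImmersion.isoOfRangeEq k₀.left (θ ⁻¹ᵁ V').ι hrk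
  have sqV : IsPullback (θ ∣_ V') ((θ ⁻¹ᵁ V').ι ≫ pr₂) zt' qU :=
    (isPullback_morphismRestrict θ V').paste_vert sqθ
  let wV : V'.toScheme ⟶ W.left := V'.ι ≫ pullback.fst snd.left eT ≫ fst.left
  have hψ : ψ.hom ≫ (θ ⁻¹ᵁ V').ι = k₀.left := IsOpenImmersion.isoOfRangeEq_hom_fac _ _ _
  have hb₀ : HasBasis a ((θ ⁻¹ᵁ V').ι ≫ pr₂) ((θ ∣_ V') ≫ wV) := by
    have h1 := (hasBasis_of_isPullback a hL₀.sq).of_iso a ψ.inv
    have e1 : ψ.inv ≫ zt₀.left = (θ ⁻¹ᵁ V').ι ≫ pr₂ := by
      rw [Iso.inv_comp_eq, reassoc_of% hψ, ← hL₀.snd_eq]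
      rfl
    have e2 : ψ.inv ≫ n₀ ≫ zW a = (θ ∣_ V') ≫ wV := by
      rw [← hL₀.fst_eq, Iso.inv_comp_eq]
      simp only [wV, morphismRestrict_ι_assoc, reassoc_of% hψ, θ, pullback.lift_fst_assoc]
      rfl
    rwa [e1, e2] at h1
  obtain ⟨T'', j, t', hT'', hj, ht', hb⟩ := exists_basis_nbhd a zt' wV qU sqV hb₀
  haveI : IsAffine (pullback zt' j) := isAffine_of_isAffineHom (pullback.snd zt' j)
  obtain ⟨m', n', sqn, hn⟩ := exists_classify a hb
  let T' : Over S := Over.mk (j ≫ eT ≫ T.hom)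
  let e : T' ⟶ T := Over.homMk (j ≫ eT) (Category.assoc _ _ _)
  let qT : Over.mk str ⟶ T' := Over.homMk t' (by
    change t' ≫ j ≫ eT ≫ T.hom = str
    rw [reassoc_of% ht']
    simp only [eT, qU, Category.assoc, IsOpenImmersion.lift_fac_assoc]
    rw [reassoc_of% hqT₁]
    exact Over.w q)
  have hqe : qT ≫ e = q := Over.OverMorphism.ext (by
    change t' ≫ j ≫ eT = q.left
    rw [reassoc_of% ht']
    simp only [eT, qU, IsOpenImmersion.lift_fac_assoc]
    rw [hqT₁])
  refine ⟨T', e, ofM a (T := T') m', qT, hT'', inferInstanceAs (Etale (j ≫ eT)), ?_, hqe, ?_⟩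
  · have sqWe := ((IsPullback.of_hasPullback snd e).map (yon S)).paste_horiz sqW
    rw [← Functor.map_comp] at sqWe
    have sqe := isPullback_left (IsPullback.of_hasPullback snd e)
    let Z : Over S := Over.mk (pullback.snd zt' j ≫ T'.hom)
    let zt : Z ⟶ T' := Over.homMk (pullback.snd zt' j) rfl
    let m₂ : (pullback snd e).left ⟶ pullback snd.left eT :=
      pullback.lift (pullback.fst snd e).left ((pullback.snd snd e).left ≫ j) (by
        rw [sqe.w, Category.assoc]; rfl)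
    have sq₂ : IsPullback m₂ (pullback.snd snd e).left (pullback.snd snd.left eT) j := by
      refine IsPullback.of_right ?_ (pullback.lift_snd _ _ _) (IsPullback.of_hasPullback snd.left eT)
      rw [show m₂ ≫ pullback.fst snd.left eT = (pullback.fst snd e).left from pullback.lift_fst _ _ _]
      exact sqe
    obtain ⟨k', hk'1, hk'2⟩ : ∃ k' : pullback zt' j ⟶ (pullback snd e).left,
        k' ≫ m₂ = pullback.fst zt' j ≫ V'.ι ∧ k' ≫ (pullback.snd snd e).left = pullback.snd zt' j :=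
      ⟨sq₂.lift _ _ (by rw [Category.assoc, ← pullback.condition]), sq₂.lift_fst _ _ _, sq₂.lift_snd _ _ _⟩
    have sqk : IsPullback (pullback.fst zt' j) k' V'.ι m₂ := by
      refine IsPullback.of_bot ?_ hk'1.symm sq₂
      rw [hk'2]
      exact IsPullback.of_hasPullback zt' j
    let k : Z ⟶ pullback snd e := Over.homMk k' (by
      change k' ≫ _ = pullback.snd zt' j ≫ T'.hom
      rw [← hk'2, Category.assoc, Over.w])
    refine ⟨_, _, _, sqWe, Z, zt, n', (toM_ofM a (T := T') m').symm ▸ sqn, k, Over.OverMorphism.ext hk'2, ?_,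
      MorphismProperty.of_isPullback (P := @Flat) sqk (inferInstance : Flat V'.ι)⟩
    rw [hn]
    change k' ≫ (pullback.fst snd e).left ≫ fst.left = _
    rw [show (pullback.fst snd e).left = m₂ ≫ pullback.fst snd.left eT from (pullback.lift_fst _ _ _).symm,
      Category.assoc, reassoc_of% hk'1]
  · apply toM_injective
    rw [toM_comp, toM_ofM]
    obtain ⟨s, hs1, hs2⟩ : ∃ s : Z₀.left ⟶ pullback zt' j,
        s ≫ pullback.fst zt' j = ψ.hom ≫ (θ ∣_ V') ∧ s ≫ pullback.snd zt' j = zt₀.left ≫ t' :=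
      ⟨pullback.lift (ψ.hom ≫ (θ ∣_ V')) (zt₀.left ≫ t') (by
        rw [Category.assoc, Category.assoc, ht', sqV.w, Category.assoc, reassoc_of% hψ, ← hL₀.snd_eq]
        rfl), pullback.lift_fst _ _ _, pullback.lift_snd _ _ _⟩
    refine (classify_unique_affine a hL₀.sq (n₂ := s ≫ n') ?_ ?_).symm
    · change (s ≫ n') ≫ π0 a = zt₀.left ≫ t' ≫ m'
      rw [Category.assoc, sqn.w, reassoc_of% hs2]
    · rw [Category.assoc, hn, reassoc_of% hs1, ← hL₀.fst_eq]
      simp only [wV, morphismRestrict_ι_assoc, reassoc_of% hψ, θ, pullback.lift_fst_assoc]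
      rfl

end Groth.Agent.ASp.Cell
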