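import Mathlib
/-!
Monomorphisms of schemes are locally quasi-finite.
-/

universe u

open CategoryTheory CategoryTheory.Limits AlgebraicGeometry TensorProduct

namespace Groth.Agent.ASp

theorem finite_of_epi_field {K B : Type u} [Field K] [CommRing B] [Algebra K B]
    (h : ∀ b : B, b ⊗ₜ[K] (1 : B) = 1 ⊗ₜ[K] b) : Module.Finite K B := by
  rcases subsingleton_or_nontrivial B with hB | hB
  · infer_instance
  have key : ∀ b : B, ∃ c : K, algebraMap K B c = b := by
    intro b
    by_contra hb
    simp only [not_exists] at hb
    have hli : LinearIndependent K ![(1 : B), b] := by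
      rw [LinearIndependent.pair_iff' one_ne_zero]
      exact fun c hc => hb c (by rwa [Algebra.algebraMap_eq_smul_one])
    obtain ⟨g, hg⟩ := (Fintype.linearCombination K ![(1 : B), b]).exists_leftInverse_of_injective
      (LinearMap.ker_eq_bot.2 (linearIndependent_iff_injective_fintypeLinearCombination.1 hli))
    have hg1 : g 1 = Pi.single 0 1 := by
      simpa [Fintype.linearCombination_apply_single] using LinearMap.congr_fun hg (Pi.single 0 1)
    have hgb : g b = Pi.single 1 1 := by
      simpa [Fintype.linearCombination_apply_single] using LinearMap.congr_fun hg (Pi.single 1 1)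
    have := congrArg (fun z => TensorProduct.rid K B (LinearMap.lTensor B ((LinearMap.proj 1).comp g) z)) (h b)
    simp [hg1, hgb] at this
  exact Module.Finite.of_surjective (Algebra.linearMap K B) key

theorem locallyQuasiFinite_spec_of_mono {K : Type u} [Field K] {B : CommRingCat.{u}}
    (φ : CommRingCat.of K ⟶ B) [Mono (Spec.map φ)] : LocallyQuasiFinite (Spec.map φ) := by
  rw [HasRingHomProperty.Spec_iff (P := @LocallyQuasiFinite)]
  letI : Algebra K B := φ.hom.toAlgebra
  haveI := finite_of_epi_field (K := K) (B := B) (fun b => by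
    have e : CommRingCat.ofHom (Algebra.TensorProduct.includeLeftRingHom (R := K) (A := B) (B := B)) =
        CommRingCat.ofHom (Algebra.TensorProduct.includeRight (R := K) (A := B) (B := B)).toRingHom := by
      refine Spec.map_injective ((cancel_mono (Spec.map φ)).1 ?_)
      rw [← Spec.map_comp, ← Spec.map_comp]
      congr 1
      ext r
      exact ((Algebra.TensorProduct.includeLeft (R := K) (S := K) (A := B) (B := B)).commutes r).trans
        ((Algebra.TensorProduct.includeRight (R := K) (A := B) (B := B)).commutes r).symm
    exact congrArg (fun ψ => ψ.hom b) e)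
  exact RingHom.QuasiFinite.of_finite (f := φ.hom) (RingHom.finite_algebraMap.2 ‹_›)

theorem locallyQuasiFinite_to_field_of_mono {K : Type u} [Field K] {Z : Scheme.{u}}
    (g : Z ⟶ Spec (CommRingCat.of K)) [IsAffine Z] [Mono g] : LocallyQuasiFinite g := by
  obtain ⟨φ, hφ⟩ := Spec.map_surjective (Z.isoSpec.inv ≫ g)
  haveI : Mono (Spec.map φ) := hφ ▸ mono_comp _ _
  have := locallyQuasiFinite_spec_of_mono φ
  rw [show g = Z.isoSpec.hom ≫ Spec.map φ by rw [hφ, Iso.hom_inv_id_assoc]]
  infer_instance

instance (priority := 50) locallyQuasiFinite_of_mono' {X Y : Scheme.{u}} (f : X ⟶ Y) [Mono f] :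
    LocallyQuasiFinite f := by
  refine LocallyQuasiFinite.of_fiberToSpecResidueField f fun y => ?_
  haveI : Mono (f.fiberToSpecResidueField y) := inferInstanceAs (Mono (pullback.snd _ _))
  rw [IsZariskiLocalAtSource.iff_of_openCover (P := @LocallyQuasiFinite) (f.fiber y).affineCover]
  intro i
  haveI : Mono ((f.fiber y).affineCover.f i ≫ f.fiberToSpecResidueField y) := mono_comp _ _
  haveI : IsAffine ((f.fiber y).affineCover.X i) := inferInstanceAs (IsAffine (Spec _))
  exact locallyQuasiFinite_to_field_of_mono (K := Y.residueField y)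
    ((f.fiber y).affineCover.f i ≫ f.fiberToSpecResidueField y)

end Groth.Agent.ASp
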