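import Groth.Agent.ASp.Quot
import Groth.Prelude.Def_AlgSpRep
import Groth.Agent.ASp.ImmDesc
import Groth.Agent.ASp.LqfRep
import Groth.Agent.ASp.Morph
import Groth.Agent.ASp.MonoLQF
import Groth.Agent.Unibranch.Open
import Groth.Agent.ASp.FieldMono
import Groth.Agent.Boot.Helpers

/-!
A sheaf with a flat, locally finitely presented, surjective map from an algebraic space, representable by
algebraic spaces, has representable diagonal.
-/

set_option backward.isDefEq.respectTransparency false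
set_option backward.isDefEq.respectTransparency.types false

universe u

open CategoryTheory CategoryTheory.Limits AlgebraicGeometry Opposite

namespace Groth.Agent.ASp

open _root_.AlgSp

variable {S : Scheme.{u}}

/-- A monomorphism of algebraic spaces locally of finite type is representable by schemes. -/
theorem representable_of_mono_lft_map {X Y : Sp S} (hX : IsAlgSpace X) (hY : IsAlgSpace Y) (f : X ⟶ Y) [Mono f]
    (hf : LocP @LocallyOfFiniteType f) : Representable f := by
  refine representable_of_sep_lqf hX hY f (fun U V a b h ha hb e => ⟨?_, hf a b h ha hb e⟩)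
    (repWith_diagonal_of_mono f)
  haveI : LocallyOfFiniteType h.left := hf a b h ha hb e
  refine LocallyQuasiFinite.of_fiberToSpecResidueField h.left fun v => ?_
  rcases isEmpty_or_nonempty (h.left.fiber v) with he | ⟨⟨z⟩⟩
  · infer_instance
  · let L : Type u := (h.left.fiber v).residueField z
    let K : Over S := Over.mk (V.left.fromSpecResidueField v ≫ V.hom)
    let kV : K ⟶ V := Over.homMk (V.left.fromSpecResidueField v) rfl
    let Fb : Over S := Over.mk (h.left.fiberι v ≫ U.hom)
    let pU : Fb ⟶ U := Over.homMk (h.left.fiberι v) rfl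
    let pK : Fb ⟶ K := Over.homMk (h.left.fiberToSpecResidueField v) (by
      change _ ≫ _ ≫ V.hom = h.left.fiberι v ≫ U.hom
      rw [← Over.w h, ← Category.assoc, ← Category.assoc]
      exact congrArg (· ≫ V.hom) pullback.condition.symm)
    have sqF : IsPullback pU pK h kV :=
      IsPullback.of_map (Over.forget S) (Over.OverMorphism.ext pullback.condition) (IsPullback.of_hasPullback _ _)
    let PK : Sp S := pullback f ((yon S).map kV ≫ b)
    have hPK : IsAlgSpace PK := isAlgSpace_pullback hY.diag hX (IsAlgSpace.yon_obj K) _ _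
    let mid : (yon S).obj Fb ⟶ PK := pullback.lift ((yon S).map pU ≫ a) ((yon S).map pK) (by
      rw [Category.assoc, e, ← Category.assoc, ← Functor.map_comp, sqF.w, Functor.map_comp, Category.assoc])
    let ω : Spec (CommRingCat.of L) ⟶ Fb.left := (h.left.fiber v).fromSpecResidueField z
    let Lo : Over S := Over.mk (ω ≫ Fb.hom)
    let zF : Lo ⟶ Fb := Over.homMk ω rfl
    haveI : Mono (pullback.snd f ((yon S).map kV ≫ b)) := inferInstance
    haveI : IsIso (pullback.snd f ((yon S).map kV ≫ b)) :=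
      isIso_of_mono_field (K := V.left.residueField v) (Ω := L) hPK _ (zF ≫ pK) ((yon S).map zF ≫ mid)
        (by rw [Category.assoc, pullback.lift_snd, Functor.map_comp])
    let x : (yon S).obj K ⟶ X := inv (pullback.snd f ((yon S).map kV ≫ b)) ≫ pullback.fst f ((yon S).map kV ≫ b)
    obtain ⟨W, w₁, w₂, hW⟩ := exists_isPullback_yon ha.1 x
    haveI : Etale w₂.left := ha.2 _ _ _ hW
    obtain ⟨n, hn⟩ := (yon S).map_surjective (hW.lift ((yon S).map pU) ((yon S).map pK) (by
      have h1 : (yon S).map pK = mid ≫ pullback.snd f ((yon S).map kV ≫ b) := (pullback.lift_snd _ _ _).symm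
      have h2 : (yon S).map pU ≫ a = mid ≫ pullback.fst f ((yon S).map kV ≫ b) := (pullback.lift_fst _ _ _).symm
      simp only [x, h1, h2, Category.assoc, IsIso.hom_inv_id_assoc]))
    have hn1 : n ≫ w₁ = pU := (yon S).map_injective (by rw [Functor.map_comp, hn, hW.lift_fst])
    have hn2 : n ≫ w₂ = pK := (yon S).map_injective (by rw [Functor.map_comp, hn, hW.lift_snd])
    haveI : Mono n := ⟨fun p r hpr => sqF.hom_ext (by rw [← hn1, reassoc_of% hpr]) (by rw [← hn2, reassoc_of% hpr])⟩
    haveI : Mono n.left := Over.mono_left_of_mono n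
    haveI := Groth.Agent.Unibranch.locallyQuasiFinite_of_etale w₂.left
    have : LocallyQuasiFinite (n.left ≫ w₂.left) := inferInstance
    rwa [← Over.comp_left, hn2] at this


theorem surjective_left_of_map {C T : Over S} (b : C ⟶ T) (h : Function.Surjective (Points.map ((yon S).map b))) :
    Surjective b.left := ⟨fun w => by
  obtain ⟨z, hz⟩ := h (Points.schemeHomeo T w)
  obtain ⟨v, rfl⟩ := (Points.schemeHomeo C).surjective z
  rw [Points.map_yon_map_apply] at hz
  exact ⟨v, (Points.schemeHomeo T).injective hz⟩⟩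

/-- A map from an algebraic space which is, after base change to schemes, an algebraic space flat, locally of
finite presentation and surjective over the scheme. -/
def IsFppfChart {X F : Sp S} (p : X ⟶ F) : Prop :=
  ∀ ⦃T : Over S⦄ (g : (yon S).obj T ⟶ F) ⦃P : Sp S⦄ (fst : P ⟶ X) (snd : P ⟶ (yon S).obj T),
    IsPullback fst snd p g → IsAlgSpace P ∧ LocP @Flat snd ∧ LocP @LocallyOfFinitePresentation snd ∧
      Function.Surjective (Points.map snd)

theorem isFppfChart_of_repBySpWith {X F : Sp S} {p : X ⟶ F}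
    (hp : _root_.AlgSp.RepBySpWith (IsSurjectiveMor ⊓ LocP @Flat ⊓ LocP @LocallyOfFinitePresentation) p.hom) :
    IsFppfChart p := by
  intro T g P fst snd sq
  obtain ⟨_, hP, ⟨hs, hf⟩, hl⟩ := hp g.hom fst.hom snd.hom (sq.map (sheafToPresheaf (J S) (Type (u + 1))))
  exact ⟨hP, hf, hl, hs⟩

/-- An fppf chart of an algebraic space precomposed with an etale atlas. -/
theorem IsFppfChart.comp_atlas {X F : Sp S} {p : X ⟶ F} (hp : IsFppfChart p) (hX : IsAlgSpace X) {U : Over S}
    {a : (yon S).obj U ⟶ X} (hae : RepWith @Etale a) (has : RepWith @Surjective a) :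
    IsFppfChart (a ≫ p) := by
  intro T g P fst snd sq
  obtain ⟨Q, fQ, sQ, sqQ⟩ : ∃ (Q : Sp S) (fQ : Q ⟶ X) (sQ : Q ⟶ (yon S).obj T), IsPullback fQ sQ p g :=
    ⟨_, _, _, IsPullback.of_hasPullback p g⟩
  obtain ⟨hQ, hQf, hQl, hQs⟩ := hp g fQ sQ sqQ
  obtain ⟨mid, hmf, hms⟩ : ∃ mid : P ⟶ Q, mid ≫ fQ = fst ≫ a ∧ mid ≫ sQ = snd :=
    ⟨sqQ.lift _ _ (by rw [Category.assoc, sq.w]), sqQ.lift_fst _ _ _, sqQ.lift_snd _ _ _⟩
  have sqm : IsPullback fst mid a fQ :=
    (IsPullback.of_right (by rw [hms]; exact sq.flip) hmf sqQ.flip).flip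
  have hP : IsAlgSpace P := isAlgSpace_of_isPullback hX.diag (IsAlgSpace.yon_obj U) hQ sqm
  have hme := repWith_of_isPullback sqm hae
  refine ⟨hP, hms ▸ locP_comp hQ (locP_of_repWith
      (repWith_mono (fun _ _ g (hg : Etale g) => (inferInstance : Flat g)) hme)) hQf,
    hms ▸ locP_comp hQ (locP_of_repWith
      (repWith_mono (fun _ _ g (hg : Etale g) => (inferInstance : LocallyOfFinitePresentation g)) hme)) hQl, ?_⟩
  rw [← hms, show Points.map (mid ≫ sQ) = Points.map sQ ∘ Points.map mid from funext (Points.map_comp mid sQ)]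
  exact hQs.comp (surjective_map_of_repWith (repWith_of_isPullback sqm has))

/-- Sections lift after an fppf covering. -/
theorem IsFppfChart.exists_lift {X F : Sp S} {p : X ⟶ F} (hp : IsFppfChart p) {T : Over S}
    (g : (yon S).obj T ⟶ F) : ∃ (C : Over S) (b : C ⟶ T) (a : (yon S).obj C ⟶ X),
      Flat b.left ∧ LocallyOfFinitePresentation b.left ∧ Surjective b.left ∧ a ≫ p = (yon S).map b ≫ g := by
  obtain ⟨P, fst, snd, sq⟩ : ∃ (P : Sp S) (fst : P ⟶ X) (snd : P ⟶ (yon S).obj T), IsPullback fst snd p g :=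
    ⟨_, _, _, IsPullback.of_hasPullback _ _⟩
  obtain ⟨hP, hf, hl, hs⟩ := hp g fst snd sq
  obtain ⟨C, k, hke, hks⟩ := hP.atlas
  obtain ⟨b, hb⟩ := (yon S).map_surjective (k ≫ snd)
  refine ⟨C, b, k ≫ fst, hf k (𝟙 _) b hke (repWith_id _ T) (by rw [hb, Category.comp_id]),
    hl k (𝟙 _) b hke (repWith_id _ T) (by rw [hb, Category.comp_id]),
    surjective_left_of_map b fun y => ?_, by rw [hb, Category.assoc, Category.assoc, sq.w]⟩
  obtain ⟨w, rfl⟩ := hs y
  obtain ⟨v, rfl⟩ := surjective_map_of_repWith hks w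
  exact ⟨v, by rw [hb, Points.map_comp]⟩

/-- The diagonal of a sheaf with an fppf chart is representable. -/
theorem representable_diag_of_fppfChart {X F : Sp S} {p : X ⟶ F} (hX : IsAlgSpace X) (hp : IsFppfChart p) :
    Representable (Limits.diag F) := by
  obtain ⟨U, a, hae, has⟩ := hX.atlas
  obtain ⟨R, fR, sR, sqR⟩ : ∃ (R : Sp S) (fR : R ⟶ X) (sR : R ⟶ X), IsPullback fR sR p p :=
    ⟨_, _, _, IsPullback.of_hasPullback p p⟩
  obtain ⟨RU, ρ, sU, sqU⟩ : ∃ (RU : Sp S) (ρ : RU ⟶ R) (sU : RU ⟶ (yon S).obj U), IsPullback ρ sU sR a :=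
    ⟨_, _, _, IsPullback.of_hasPullback sR a⟩
  obtain ⟨hRU, -, hUl, -⟩ := hp (a ≫ p) (ρ ≫ fR) sU (sqU.paste_horiz sqR)
  have hρe : RepWith @Etale ρ := repWith_of_isPullback sqU.flip hae
  have hρs : RepWith @Surjective ρ := repWith_of_isPullback sqU.flip has
  have hR : IsAlgSpace R := isAlgSpace_of_etale_surjective hRU ρ hρe hρs
  have hsR : LocP @LocallyOfFiniteType sR := by
    obtain ⟨W, c, hce, hcs⟩ := hRU.atlas
    obtain ⟨w, hw⟩ := (yon S).map_surjective (c ≫ sU)
    refine locP_of_chart (repWith_comp hce hρe) (repWith_comp hcs hρs) hae (h := w) ?_ ?_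
    · rw [hw, Category.assoc, Category.assoc, sqU.w]
    · haveI : LocallyOfFinitePresentation w.left := hUl c (𝟙 _) w hce (repWith_id _ U) (by rw [hw, Category.comp_id])
      exact (inferInstance : LocallyOfFiniteType w.left)
  have hXX : IsAlgSpace (X ⨯ X) := isAlgSpace_prod hX hX
  let z : R ⟶ X ⨯ X := prod.lift fR sR
  haveI hzm : Mono z := ⟨fun a b e => sqR.hom_ext
    (by simpa [z] using congrArg (· ≫ prod.fst) e) (by simpa [z] using congrArg (· ≫ prod.snd) e)⟩
  have hzl : LocP @LocallyOfFiniteType z := by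
    refine locP_of_comp (Q := ⊤) (g := prod.snd) (fun {_ _ _} a b hab _ => ?_) hX ?_
      (show LocP ⊤ _ from fun _ _ _ _ _ _ _ _ => trivial)
    · have : LocallyOfFiniteType (a ≫ b) := hab
      exact locallyOfFiniteType_of_comp a b
    · rw [prod.lift_snd]; exact hsR
  have hzrep : Representable z := representable_of_mono_lft_map hR hXX z hzl
  refine representable_of_mono_fppf fun T g => ?_
  obtain ⟨C₁, b₁, a₁, h₁f, h₁l, h₁s, e₁⟩ := hp.exists_lift (g ≫ prod.fst)
  obtain ⟨C₂, b₂, a₂, h₂f, h₂l, h₂s, e₂⟩ := hp.exists_lift ((yon S).map b₁ ≫ g ≫ prod.snd)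
  let cW : C₂ ⟶ T := b₂ ≫ b₁
  haveI : Flat cW.left := inferInstanceAs (Flat (b₂.left ≫ b₁.left))
  haveI : LocallyOfFinitePresentation cW.left := inferInstanceAs (LocallyOfFinitePresentation (b₂.left ≫ b₁.left))
  haveI : Surjective cW.left := inferInstanceAs (Surjective (b₂.left ≫ b₁.left))
  let ρ' : (yon S).obj C₂ ⟶ X ⨯ X := prod.lift ((yon S).map b₂ ≫ a₁) a₂
  have hρg : ρ' ≫ prod.lift (prod.fst ≫ p) (prod.snd ≫ p) = (yon S).map cW ≫ g := by
    apply prod.hom_ext
    · simp only [ρ', cW, Category.assoc, prod.lift_fst, prod.lift_fst_assoc, e₁, Functor.map_comp]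
    · simp only [ρ', cW, Category.assoc, prod.lift_snd, prod.lift_snd_assoc, e₂, Functor.map_comp]
  have sqdiag : IsPullback (fR ≫ p) z (Limits.diag F) (prod.lift (prod.fst ≫ p) (prod.snd ≫ p)) :=
    Groth.Agent.Boot.isPullback_diag_kernelPair p sqR z (prod.lift_fst _ _) (prod.lift_snd _ _)
      fun a b h₁ h₂ => prod.hom_ext h₁ h₂
  obtain ⟨V, v, fV, hV⟩ := hzrep ρ'
  refine ⟨C₂, cW, V, v, fV ≫ fR ≫ p, inferInstance, inferInstance, inferInstance,
    (repWith_of_locP hXX hzrep hzl).2 ρ' _ v hV, ?_⟩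
  rw [← hρg]
  exact hV.paste_horiz sqdiag

end Groth.Agent.ASp
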