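import Groth.Agent.ASp.GoodAt
import Groth.Agent.ASp.FppfDiag
import Groth.Agent.Boot.Atlas
import Groth.Agent.FlatLocus.FibreCrit
/-!
Lemmas for slicing a flat chart to a quasi-finite one.
-/

set_option autoImplicit false
set_option backward.isDefEq.respectTransparency false
set_option backward.isDefEq.respectTransparency.types false

universe u

open CategoryTheory CategoryTheory.Limits AlgebraicGeometry Opposite

namespace Groth.Agent.ASp

open _root_.AlgSp Groth.Agent.Boot

variable {S : Scheme.{u}}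

/-- A representable chart has flat, finitely presented and surjective base changes to schemes. -/
theorem IsFppfChart.props {F : Sp S} {U : Over S} {p : (yon S).obj U ⟶ F} (hp : IsFppfChart p)
    {T R : Over S} {g : (yon S).obj T ⟶ F} {fst : R ⟶ U} {snd : R ⟶ T}
    (sq : IsPullback ((yon S).map fst) ((yon S).map snd) p g) :
    Flat snd.left ∧ LocallyOfFinitePresentation snd.left ∧ Surjective snd.left := by
  obtain ⟨-, hf, hl, hs⟩ := hp g _ _ sq
  exact ⟨hf (𝟙 _) (𝟙 _) snd (repWith_id _ _) (repWith_id _ _) (by simp),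
    hl (𝟙 _) (𝟙 _) snd (repWith_id _ _) (repWith_id _ _) (by simp), surjective_left_of_map snd hs⟩

/-- The second projection of `W ×_F U` is flat and finitely presented for an open part `W` of `U`. -/
theorem IsFppfChart.props_open {F : Sp S} {U : Over S} {p : (yon S).obj U ⟶ F} (hp : IsFppfChart p)
    (hd : Representable (Limits.diag F)) {W R : Over S} (ιW : W ⟶ U) [IsOpenImmersion ιW.left]
    {sW : R ⟶ W} {tW : R ⟶ U}
    (sq : IsPullback ((yon S).map sW) ((yon S).map tW) ((yon S).map ιW ≫ p) p) :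
    Flat tW.left ∧ LocallyOfFinitePresentation tW.left := by
  obtain ⟨R₂, f₂, s₂, hR₂⟩ := exists_isPullback_yon (Functor.relativelyRepresentable.of_diag hd p) p
  obtain ⟨h1, h2, -⟩ := hp.props hR₂
  obtain ⟨j, hj⟩ := (yon S).map_surjective (hR₂.lift ((yon S).map (sW ≫ ιW)) ((yon S).map tW)
    (by rw [Functor.map_comp, Category.assoc, sq.w]))
  have e2 : j ≫ s₂ = tW := (yon S).map_injective (by rw [Functor.map_comp, hj, hR₂.lift_snd])
  have sqj : IsPullback ((yon S).map j) ((yon S).map sW) ((yon S).map f₂) ((yon S).map ιW) := by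
    refine IsPullback.of_right ?_ ?_ hR₂.flip
    · rw [← Functor.map_comp, e2]; exact sq.flip
    · rw [hj, hR₂.lift_fst, Functor.map_comp]
  haveI : IsOpenImmersion j.left := MorphismProperty.of_isPullback (P := @IsOpenImmersion)
    (isPullback_left (isPullback_of_yon_map sqj)).flip ‹_›
  rw [← e2, Over.comp_left]
  exact ⟨inferInstance, inferInstance⟩

/-- The locus where the coordinates are flat and quasi-finite is saturated. -/
theorem goodAt_saturated {F : Sp S} {U W RW : Over S} (p : (yon S).obj U ⟶ F)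
    (hd : Representable (Limits.diag F)) (ιW : W ⟶ U) {sW : RW ⟶ W} {tW : RW ⟶ U}
    (sq : IsPullback ((yon S).map sW) ((yon S).map tW) ((yon S).map ιW ≫ p) p)
    [Flat sW.left] [Flat tW.left] {d : ℕ} (a : W.left ⟶ AS d S)
    (φ : RW.left ⟶ pullback U.hom (AS d S ↘ S)) [LocallyOfFinitePresentation φ]
    (hφ₁ : φ ≫ pullback.fst _ _ = tW.left) (hφ₂ : φ ≫ pullback.snd _ _ = sW.left ≫ a)
    (ha : a ≫ AS d S ↘ S = W.hom)
    (r₁ r₂ : ↥RW.left) (hr : sW.left r₁ = sW.left r₂) (h : GoodAt φ r₁) : GoodAt φ r₂ := by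
  let Z : Over S := pullback sW sW
  let z₁ : Z ⟶ RW := pullback.fst sW sW
  let z₂ : Z ⟶ RW := pullback.snd sW sW
  have hsqZ := isPullback_left (IsPullback.of_hasPullback sW sW)
  haveI hz₁ : Flat z₁.left := MorphismProperty.of_isPullback hsqZ.flip ‹Flat sW.left›
  haveI hz₂ : Flat z₂.left := MorphismProperty.of_isPullback hsqZ ‹Flat sW.left›
  obtain ⟨z, hzr₁, hzr₂⟩ : ∃ z : ↥Z.left, z₁.left z = r₁ ∧ z₂.left z = r₂ := by
    obtain ⟨w, hw₁, hw₂⟩ := Scheme.Pullback.exists_preimage_pullback r₁ r₂ hr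
    refine ⟨hsqZ.isoPullback.inv w, ?_, ?_⟩
    · rw [← Scheme.Hom.comp_apply, IsPullback.isoPullback_inv_fst]; exact hw₁
    · rw [← Scheme.Hom.comp_apply, IsPullback.isoPullback_inv_snd]; exact hw₂
  let g : (yon S).obj Z ⟶ F := (yon S).map (z₁ ≫ tW) ≫ p
  obtain ⟨C, pW, pz, hC⟩ := exists_isPullback_yon
    (Functor.relativelyRepresentable.of_diag hd ((yon S).map ιW ≫ p)) g
  obtain ⟨σ, hσ⟩ := (yon S).map_surjective (hC.lift ((yon S).map (z₁ ≫ sW)) (𝟙 _) (by
    simp only [g, Functor.map_comp, Category.assoc, Category.id_comp, sq.w]))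
  have hσW : σ ≫ pW = z₁ ≫ sW := (yon S).map_injective (by rw [Functor.map_comp, hσ, hC.lift_fst])
  have hσz : σ ≫ pz = 𝟙 Z := (yon S).map_injective (by
    rw [Functor.map_comp, hσ, hC.lift_snd, CategoryTheory.Functor.map_id])
  let φC : C.left ⟶ pullback Z.hom (AS d S ↘ S) := pullback.lift pz.left (pW.left ≫ a)
    (by rw [Category.assoc, ha, Over.w, Over.w])
  have main : ∀ zk : Z ⟶ RW, Flat zk.left → zk ≫ sW = z₁ ≫ sW →
      (GoodAt φC (σ.left z) ↔ GoodAt φ (zk.left z)) := by
    intro zk hzk hk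
    let ξ := zk ≫ tW
    haveI : Flat ξ.left := inferInstanceAs (Flat (zk.left ≫ tW.left))
    have hg : (yon S).map ξ ≫ p = g := by
      simp only [g, ξ, Functor.map_comp, Category.assoc, ← sq.w]
      rw [← Functor.map_comp_assoc, hk, Functor.map_comp_assoc]
    obtain ⟨pr, hpr⟩ := (yon S).map_surjective (sq.lift ((yon S).map pW) ((yon S).map (pz ≫ ξ))
      (by rw [hC.w, Functor.map_comp, Category.assoc, hg]))
    have hprs : pr ≫ sW = pW := (yon S).map_injective (by rw [Functor.map_comp, hpr, sq.lift_fst])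
    have hprt : pr ≫ tW = pz ≫ ξ := (yon S).map_injective (by rw [Functor.map_comp, hpr, sq.lift_snd])
    have sqk : IsPullback ((yon S).map pr) ((yon S).map pz) ((yon S).map tW) ((yon S).map ξ) := by
      refine IsPullback.of_right ?_ ?_ sq
      · rw [← Functor.map_comp, hprs, hg]; exact hC
      · rw [← Functor.map_comp, ← Functor.map_comp, hprt]
    have sqks := isPullback_left (isPullback_of_yon_map sqk)
    have hσk : σ ≫ pr = zk := by
      refine (yon S).map_injective (sq.hom_ext ?_ ?_)
      · rw [← Functor.map_comp, ← Functor.map_comp, Category.assoc, hprs, hσW, hk]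
      · rw [← Functor.map_comp, ← Functor.map_comp, Category.assoc, hprt, reassoc_of% hσz]
    let m : pullback Z.hom (AS d S ↘ S) ⟶ pullback U.hom (AS d S ↘ S) :=
      pullback.map _ _ _ _ ξ.left (𝟙 _) (𝟙 S) (by simp) (by simp)
    have sqm : IsPullback m (pullback.fst Z.hom (AS d S ↘ S)) (pullback.fst U.hom (AS d S ↘ S)) ξ.left := by
      refine IsPullback.of_right ?_ (by simp [m, pullback.map])
        (IsPullback.of_hasPullback U.hom (AS d S ↘ S)).flip
      rw [show m ≫ pullback.snd U.hom (AS d S ↘ S) = pullback.snd _ _ by simp [m, pullback.map], Over.w]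
      exact (IsPullback.of_hasPullback Z.hom (AS d S ↘ S)).flip
    haveI : Flat m := MorphismProperty.of_isPullback (P := @Flat) sqm.flip ‹_›
    have sqφ : IsPullback pr.left φC φ m := by
      refine IsPullback.of_bot (h₃₁ := ξ.left) (v₂₁ := pullback.fst Z.hom (AS d S ↘ S))
        (v₂₂ := pullback.fst U.hom (AS d S ↘ S)) ?_ ?_ sqm
      · rw [show φC ≫ pullback.fst Z.hom (AS d S ↘ S) = pz.left from pullback.lift_fst _ _ _, hφ₁]
        exact sqks
      · apply pullback.hom_ext
        · simp only [Category.assoc, hφ₁, φC, m, pullback.map, pullback.lift_fst, pullback.lift_fst_assoc]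
          exact sqks.w
        · simp only [Category.assoc, hφ₂, φC, m, pullback.map, pullback.lift_snd, pullback.lift_snd_assoc,
            Category.comp_id]
          rw [← hprs, Over.comp_left, Category.assoc]
    rw [goodAt_iff_of_isPullback sqφ, ← Scheme.Hom.comp_apply, ← Over.comp_left, hσk]
  rw [← hzr₂]
  exact (main z₂ hz₂ pullback.condition.symm).1 ((main z₁ hz₁ rfl).2 (hzr₁ ▸ h))

/-- Properties of a map to a sheaf with an fppf chart descend from the chart. -/
theorem repWith_of_fppfChart (P : MorphismProperty Scheme.{u}) [P.IsStableUnderBaseChange]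
    [P.DescendsAlong (@Surjective ⊓ @Flat ⊓ @LocallyOfFinitePresentation)]
    {F : Sp S} {U : Over S} {p : (yon S).obj U ⟶ F} (hp : IsFppfChart p) {V : Over S}
    (q : (yon S).obj V ⟶ F) (hq : Representable q)
    (h : ∀ (VU : Over S) (a : VU ⟶ V) (b : VU ⟶ U),
      IsPullback ((yon S).map a) ((yon S).map b) q p → P b.left) : RepWith P q := by
  refine ⟨hq, fun T VT g fst snd sq => ?_⟩
  obtain ⟨C, c, a, hcf, hcl, hcs, e⟩ := hp.exists_lift g
  obtain ⟨a₀, rfl⟩ := (yon S).map_surjective a
  obtain ⟨VU, va, vb, hVU⟩ := exists_isPullback_yon hq p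
  obtain ⟨f₀, rfl⟩ := (yon S).map_surjective fst
  have sqC := ((IsPullback.of_hasPullback snd c).map (yon S)).paste_horiz sq
  rw [← e] at sqC
  obtain ⟨j, hj⟩ := (yon S).map_surjective (hVU.lift _ _ (sqC.w.trans (Category.assoc _ _ _).symm))
  have hj2 : j ≫ vb = pullback.snd snd c ≫ a₀ := (yon S).map_injective (by
    rw [Functor.map_comp, hj, hVU.lift_snd, Functor.map_comp])
  have sqj : IsPullback ((yon S).map j) ((yon S).map (pullback.snd snd c)) ((yon S).map vb) ((yon S).map a₀) := by
    refine IsPullback.of_right ?_ (by rw [← Functor.map_comp, ← Functor.map_comp, hj2]) hVU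
    rw [hj, hVU.lift_fst]
    exact sqC
  have h1 : P (pullback.snd snd c).left :=
    MorphismProperty.of_isPullback (isPullback_left (isPullback_of_yon_map sqj)) (h VU va vb hVU)
  exact MorphismProperty.of_isPullback_of_descendsAlong
    (Q := @Surjective ⊓ @Flat ⊓ @LocallyOfFinitePresentation)
    (isPullback_left (IsPullback.of_hasPullback snd c)).flip ⟨⟨hcs, hcf⟩, hcl⟩ h1

/-- A map out of a disjoint union has a property local on the source if its restrictions have it. -/
theorem repWith_of_sigma (P : MorphismProperty Scheme.{u}) [IsZariskiLocalAtSource P]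
    {F : Sp S} (hd : Representable (Limits.diag F)) {ι : Type u} {V : ι → Scheme.{u}} (str : ∐ V ⟶ S)
    (q : (yon S).obj (Over.mk str) ⟶ F)
    (h : ∀ i, RepWith P ((yon S).map (Over.homMk (Sigma.ι V i) rfl :
      Over.mk (Sigma.ι V i ≫ str) ⟶ Over.mk str) ≫ q)) : RepWith P q := by
  refine ⟨Functor.relativelyRepresentable.of_diag hd q, fun T VT g fst snd sq => ?_⟩
  obtain ⟨f₀, rfl⟩ := (yon S).map_surjective fst
  change P snd.left
  rw [IsZariskiLocalAtSource.iff_of_openCover (P := P) ((sigmaOpenCover V).pullback₁ f₀.left)]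
  intro (i : ι)
  let ιi : Over.mk (Sigma.ι V i ≫ str) ⟶ Over.mk str := Over.homMk (Sigma.ι V i) rfl
  have hh := (h i).2 g ((yon S).map (pullback.snd f₀ ιi)) (pullback.fst f₀ ιi ≫ snd) (by
    rw [Functor.map_comp]
    exact ((IsPullback.of_hasPullback f₀ ιi).flip.map (yon S)).paste_vert sq)
  have sqs : IsPullback (pullback.fst f₀ ιi).left (pullback.snd f₀ ιi).left f₀.left (Sigma.ι V i) :=
    isPullback_left (IsPullback.of_hasPullback f₀ ιi)
  haveI : P.RespectsIso := inferInstance
  change P (pullback.fst f₀.left (Sigma.ι V i) ≫ snd.left)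
  rw [← sqs.isoPullback_inv_fst, Category.assoc]
  exact (P.cancel_left_of_respectsIso _ _).2 hh

end Groth.Agent.ASp
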