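import Groth.Prelude.Def_AlgSp
import Groth.Agent.ASp.FppfDiag
/-!
Maps of sheaves detected on sections over schemes; subsheaves of schemes have representable diagonal.
-/

set_option autoImplicit false
set_option backward.isDefEq.respectTransparency false
set_option backward.isDefEq.respectTransparency.types false

universe u

open CategoryTheory CategoryTheory.Limits AlgebraicGeometry Opposite

namespace Groth.Agent.ASp

open _root_.AlgSp

variable {S : Scheme.{u}}

theorem hom_ext_of_yon {X Y : Sp S} {f g : X ⟶ Y}
    (h : ∀ (T : Over S) (b : (yon S).obj T ⟶ X), b ≫ f = b ≫ g) : f = g := by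
  refine Sheaf.hom_ext ?_
  ext U x
  have h1 := congrArg (J S).uliftYonedaEquiv.{u+1} (h U.unop ((J S).uliftYonedaEquiv.{u+1}.symm x))
  rwa [GrothendieckTopology.uliftYonedaEquiv_comp, GrothendieckTopology.uliftYonedaEquiv_comp,
    Equiv.apply_symm_apply] at h1

theorem isIso_of_yon {X Y : Sp S} (f : X ⟶ Y)
    (h : ∀ (T : Over S) (b : (yon S).obj T ⟶ Y), ∃! a : (yon S).obj T ⟶ X, a ≫ f = b) : IsIso f := by
  haveI : ∀ U, IsIso (f.hom.app U) := fun U => by
    rw [isIso_iff_bijective]
    refine ⟨fun x x' e => ?_, fun y => ?_⟩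
    · have h1 : (J S).uliftYonedaEquiv.{u+1}.symm x ≫ f = (J S).uliftYonedaEquiv.{u+1}.symm x' ≫ f := by
        apply (J S).uliftYonedaEquiv.{u+1}.injective
        rwa [GrothendieckTopology.uliftYonedaEquiv_comp, GrothendieckTopology.uliftYonedaEquiv_comp,
          Equiv.apply_symm_apply, Equiv.apply_symm_apply]
      exact (J S).uliftYonedaEquiv.{u+1}.symm.injective ((h U.unop _).unique h1 rfl)
    · obtain ⟨a, ha, -⟩ := h U.unop ((J S).uliftYonedaEquiv.{u+1}.symm y)
      refine ⟨(J S).uliftYonedaEquiv.{u+1} a, ?_⟩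
      have h1 := congrArg (J S).uliftYonedaEquiv.{u+1} ha
      rwa [GrothendieckTopology.uliftYonedaEquiv_comp, Equiv.apply_symm_apply] at h1
  haveI : IsIso ((sheafToPresheaf (J S) (Type (u + 1))).map f) := by
    change IsIso f.hom
    exact NatIso.isIso_of_isIso_app _
  exact isIso_of_reflects_iso f (sheafToPresheaf (J S) (Type (u + 1)))

/-- A square over a monomorphism is a pullback if it is one on sections over schemes. -/
theorem isPullback_of_mono_yon {X Y W : Sp S} {V : Over S} (x : X ⟶ Y) [Mono x] (c : W ⟶ Y)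
    (fst : (yon S).obj V ⟶ X) (v : (yon S).obj V ⟶ W) (w : fst ≫ x = v ≫ c) [Mono v]
    (h : ∀ (T : Over S) (b : (yon S).obj T ⟶ X) (z : (yon S).obj T ⟶ W), b ≫ x = z ≫ c →
      ∃ n : (yon S).obj T ⟶ (yon S).obj V, n ≫ v = z) : IsPullback fst v x c := by
  let L : (yon S).obj V ⟶ pullback x c := pullback.lift fst v w
  haveI : Mono (pullback.snd x c) := inferInstance
  have hL : L ≫ pullback.snd x c = v := pullback.lift_snd _ _ _
  haveI : IsIso L := isIso_of_yon L fun T b => by
    obtain ⟨n, hn⟩ := h T (b ≫ pullback.fst x c) (b ≫ pullback.snd x c)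
      (by rw [Category.assoc, Category.assoc, pullback.condition])
    refine ⟨n, (cancel_mono (pullback.snd x c)).1 (by rw [Category.assoc, hL, hn]), fun n' hn' => ?_⟩
    rw [← cancel_mono v, hn, ← hL, ← Category.assoc, hn']
  exact (IsPullback.of_hasPullback x c).of_iso (asIso L).symm (Iso.refl _) (Iso.refl _) (Iso.refl _)
    (by simp [L]) (by simp [L]) (by simp) (by simp)

/-- A subsheaf of a scheme has representable diagonal. -/
theorem representable_diag_of_mono_yon {X : Sp S} {T : Over S} (x : X ⟶ (yon S).obj T) [Mono x] :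
    Representable (Limits.diag X) := by
  have sq : IsPullback x (Limits.diag X) (Limits.diag ((yon S).obj T)) (prod.map x x) := by
    refine IsPullback.of_isLimit' ⟨by simp [prod.comp_lift]⟩ (PullbackCone.IsLimit.mk _
      (fun k => k.snd ≫ prod.fst) (fun k => ?_) (fun k => ?_) (fun k m _ h2 => ?_))
    · have := congrArg (· ≫ prod.fst) k.condition
      simpa using this.symm
    · apply prod.hom_ext
      · simp
      · have h1 := congrArg (· ≫ prod.fst) k.condition
        have h2 := congrArg (· ≫ prod.snd) k.condition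
        rw [Category.assoc, Category.assoc, prod.lift_snd, Category.comp_id, ← cancel_mono x]
        simp at h1 h2
        simp only [Category.assoc, ← h1, ← h2]
    · simp [← h2]
  exact MorphismProperty.of_isPullback sq (IsAlgSpace.yon_obj T).diag

end Groth.Agent.ASp
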