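import Groth.Agent.ASp.CellExist
import Groth.Agent.ASp.YonExt
import Groth.Agent.ASp.QfChartLem
/-!
The sheaf of cells is representable and etale over the sheaf.
-/

set_option autoImplicit false
set_option backward.isDefEq.respectTransparency false
set_option backward.isDefEq.respectTransparency.types false

universe u

open CategoryTheory CategoryTheory.Limits AlgebraicGeometry Opposite

namespace Groth.Agent.ASp.Cell

open _root_.AlgSp

variable {S : Scheme.{u}} {F : Sp S} {W : Over S} [IsAffine W.left] (p : (yon S).obj W ⟶ F)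
variable {d : ℕ} (a : Fin d → Γ(W.left, ⊤))

/-- The map of the sheaf of cells to the sheaf. -/
noncomputable def cellG (hp : Representable p) : cellSp p a hp ⟶ F := cellι p a hp ≫ prod.snd

/-- The map of the sheaf of cells to the parameter scheme. -/
noncomputable def cellM (hp : Representable p) : cellSp p a hp ⟶ (yon S).obj (MS a) := cellι p a hp ≫ prod.fst

theorem isCell_of_point (hp : Representable p) {T : Over S} (b : (yon S).obj T ⟶ cellSp p a hp) :
    ∃ m : T ⟶ MS a, (yon S).map m = b ≫ cellM p a hp ∧ IsCell p a T m (b ≫ cellG p a hp) := by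
  obtain ⟨m, hm, hc⟩ := isCellHom_comp_ι p a hp b
  exact ⟨m, by simpa [cellM] using hm, by simpa [cellG] using hc⟩

theorem exists_point_of_isCell (hp : Representable p) {T : Over S} {m : T ⟶ MS a} {g : (yon S).obj T ⟶ F}
    (h : IsCell p a T m g) :
    ∃ b : (yon S).obj T ⟶ cellSp p a hp, b ≫ cellM p a hp = (yon S).map m ∧ b ≫ cellG p a hp = g := by
  obtain ⟨b, hb⟩ := exists_of_isCell p a hp h
  exact ⟨b, by rw [cellM, ← Category.assoc, hb, prod.lift_fst], by rw [cellG, ← Category.assoc, hb, prod.lift_snd]⟩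

/-- The sheaf of cells is representable by schemes and etale over the sheaf. -/
theorem repWith_etale_cellG (hd : 0 < d) (hpl : RepWith @LocallyOfFinitePresentation p)
    (hpq : RepWith @LocallyQuasiFinite p) (hpf : RepWith @Flat p) :
    RepWith @Etale (cellG p a hpl.1) := by
  have hp := hpl.1
  refine repWith_of_exists fun T g => ?_
  obtain ⟨P, fC, π, sqP⟩ : ∃ (P : Sp S) (fC : P ⟶ cellSp p a hp) (π : P ⟶ (yon S).obj T),
      IsPullback fC π (cellG p a hp) g := ⟨_, _, _, IsPullback.of_hasPullback _ _⟩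
  haveI := mono_cell_map p a hp hd
  haveI : Mono (cellM p a hp) := ‹Mono (cellι p a hp ≫ prod.fst)›
  let x : P ⟶ (yon S).obj (MS a ⨯ T) := prod.lift (fC ≫ cellM p a hp) π ≫ inv (prodComparison (yon S) (MS a) T)
  have hx₁ : x ≫ (yon S).map prod.fst = fC ≫ cellM p a hp := by
    simp only [x, Category.assoc, inv_prodComparison_map_fst, prod.lift_fst]
  have hx₂ : x ≫ (yon S).map prod.snd = π := by
    simp only [x, Category.assoc, inv_prodComparison_map_snd, prod.lift_snd]
  haveI : Mono x := ⟨fun α β hab => sqP.hom_ext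
    ((cancel_mono (cellM p a hp)).1 (by rw [Category.assoc, Category.assoc, ← hx₁, reassoc_of% hab]))
    (by rw [← hx₂, reassoc_of% hab])⟩
  have hdiag := representable_diag_of_mono_yon x
  -- the index set
  let hit : ↥(MS a ⨯ T).left → Prop := fun μ => ∃ (K : Type u) (_ : Field K) (_ : IsAlgClosed K)
    (str : Spec (CommRingCat.of K) ⟶ S) (q : Over.mk str ⟶ T) (m₀ : Over.mk str ⟶ MS a),
    IsCell p a (Over.mk str) m₀ ((yon S).map q ≫ g) ∧ ∃ pt, (prod.lift m₀ q).left pt = μ
  choose K hKf hKc str q m₀ h₀ pt₀ hpt₀ using fun i : {μ // hit μ} => i.2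
  choose T' e m qT hT'a he hcell hqe hqm using fun i : {μ // hit μ} =>
    @exists_etale_cell S F W _ p d a hpl hpq hpf T g (K i) (hKf i) (hKc i) (str i) (q i) (m₀ i) (h₀ i)
  choose bT hbM hbG using fun i => exists_point_of_isCell p a hp (hcell i)
  let σi : ∀ i, (yon S).obj (T' i) ⟶ P := fun i => sqP.lift (bT i) ((yon S).map (e i)) (hbG i)
  have hσix : ∀ i, σi i ≫ x = (yon S).map (prod.lift (m i) (e i)) := fun i => by
    rw [← cancel_mono (prodComparison (yon S) (MS a) T)]
    apply prod.hom_ext
    · simp [x, σi, hbM, ← Functor.map_comp]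
    · simp [x, σi, ← Functor.map_comp]
  let V : {μ // hit μ} → Scheme.{u} := fun i => (T' i).left
  let Zσ : Over S := Over.mk (Limits.Sigma.desc fun i => (T' i).hom : ∐ V ⟶ S)
  let ζ : ∀ i, T' i ⟶ Zσ := fun i => Over.homMk (Sigma.ι V i) (Sigma.ι_desc _ _)
  obtain ⟨σ, hσ⟩ := exists_sigma_desc Zσ T' ζ rfl (fun i => Category.comp_id _) σi
  -- etaleness of the atlas
  have hσe : RepWith @Etale σ := by
    refine repWith_of_sigma @Etale hdiag _ _ fun i => ?_
    let eo : Over.mk (Sigma.ι V i ≫ Zσ.hom) ⟶ T' i := Over.homMk (𝟙 _) (by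
      change 𝟙 _ ≫ (T' i).hom = Sigma.ι V i ≫ Limits.Sigma.desc _
      rw [Sigma.ι_desc, Category.id_comp])
    have hfac : (Over.homMk (Sigma.ι V i) rfl : Over.mk (Sigma.ι V i ≫ Zσ.hom) ⟶ Zσ) = eo ≫ ζ i :=
      Over.OverMorphism.ext (Category.id_comp _).symm
    rw [hfac, Functor.map_comp, Category.assoc, hσ]
    haveI : IsIso eo.left := inferInstanceAs (IsIso (𝟙 _))
    refine repWith_comp (repWith_yon_map (P := @Etale) (inferInstance : Etale eo.left))
      ⟨Functor.relativelyRepresentable.of_diag hdiag _, fun T₁ Qp ν fst snd sq => ?_⟩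
    obtain ⟨f₀, rfl⟩ := (yon S).map_surjective fst
    obtain ⟨f, hf⟩ := (yon S).map_surjective (ν ≫ π)
    obtain ⟨mν, hmν, hcν⟩ := isCell_of_point p a hp (ν ≫ fC)
    have hsnd : f₀ ≫ e i = snd ≫ f := (yon S).map_injective (by
      rw [Functor.map_comp, Functor.map_comp, hf, ← reassoc_of% sq.w]
      exact congrArg _ (sqP.lift_snd _ _ _).symm)
    let Q := pullback (e i) f
    let m₁ : Q ⟶ MS a := pullback.fst (e i) f ≫ m i
    let m₂ : Q ⟶ MS a := pullback.snd (e i) f ≫ mν
    have h₁ : IsCell p a Q m₁ ((yon S).map (pullback.fst (e i) f ≫ e i) ≫ g) := by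
      rw [Functor.map_comp, Category.assoc]; exact (hcell i).comp _
    have h₂ : IsCell p a Q m₂ ((yon S).map (pullback.fst (e i) f ≫ e i) ≫ g) := by
      have := hcν.comp (pullback.snd (e i) f)
      rwa [Category.assoc ν fC, sqP.w, ← Category.assoc ν π, ← hf, ← Category.assoc, ← Functor.map_comp,
        ← pullback.condition] at this
    haveI : RepWith @LocallyOfFiniteType p → True := fun _ => trivial
    obtain ⟨D, hD⟩ := exists_agree_open (repWith_mono (fun _ _ k (hk : LocallyOfFinitePresentation k) =>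
      (inferInstance : LocallyOfFiniteType k)) hpl) h₁ h₂
    let j : Qp ⟶ Q := pullback.lift f₀ snd hsnd
    have hagree : j ≫ m₁ = j ≫ m₂ := by
      have e1 := congrArg (· ≫ fC ≫ cellM p a hp) sq.w
      simp only [Category.assoc, σi, IsPullback.lift_fst_assoc, hbM] at e1
      refine (yon S).map_injective ?_
      simp only [j, m₁, m₂, pullback.lift_fst_assoc, pullback.lift_snd_assoc, Functor.map_comp, hmν,
        Category.assoc]
      exact e1
    have hrange : Set.range j.left ⊆ D := (hD j).1 hagree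
    let DS : Over S := Over.mk (D.ι ≫ Q.hom)
    let ιD : DS ⟶ Q := Over.homMk D.ι rfl
    have hDa : ιD ≫ m₁ = ιD ≫ m₂ := (hD ιD).2 (by
      change Set.range D.ι ⊆ _
      rw [Scheme.Opens.range_ι])
    obtain ⟨n, hn⟩ := (yon S).map_surjective (sq.lift ((yon S).map (ιD ≫ pullback.fst _ _))
      ((yon S).map (ιD ≫ pullback.snd _ _)) (sqP.hom_ext (by
        refine (cancel_mono (cellM p a hp)).1 ?_
        simp only [Category.assoc, σi, IsPullback.lift_fst_assoc, hbM, ← hmν, ← Functor.map_comp]
        exact congrArg (yon S).map hDa) (by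
        simp only [Category.assoc, σi, IsPullback.lift_snd, ← hf, ← Functor.map_comp, pullback.condition])))
    have hn₁ : n ≫ f₀ = ιD ≫ pullback.fst _ _ := (yon S).map_injective (by
      rw [Functor.map_comp, hn, sq.lift_fst])
    have hn₂ : n ≫ snd = ιD ≫ pullback.snd _ _ := (yon S).map_injective (by
      rw [Functor.map_comp, hn, sq.lift_snd])
    have hnj : n ≫ j = ιD := pullback.hom_ext (by simp [j, hn₁]) (by simp [j, hn₂])
    haveI : Mono j := ⟨fun α β hab => (yon S).map_injective (sq.hom_ext
      (by rw [← Functor.map_comp, ← Functor.map_comp]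
          simpa [j] using congrArg (fun k => (yon S).map (k ≫ pullback.fst _ _)) hab)
      (by rw [← Functor.map_comp, ← Functor.map_comp]
          simpa [j] using congrArg (fun k => (yon S).map (k ≫ pullback.snd _ _)) hab))⟩
    let l : Qp ⟶ DS := Over.homMk (IsOpenImmersion.lift D.ι j.left (hrange.trans (Scheme.Opens.range_ι D).ge)) (by
      change _ ≫ D.ι ≫ Q.hom = _
      rw [IsOpenImmersion.lift_fac_assoc, Over.w])
    have hlj : l ≫ ιD = j := Over.OverMorphism.ext (IsOpenImmersion.lift_fac _ _ _)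
    haveI : IsIso l := ⟨n, by rw [← cancel_mono j, Category.assoc, hnj, hlj, Category.id_comp],
      by
        haveI : Mono ιD := by
          haveI : Mono ιD.left := inferInstanceAs (Mono D.ι)
          exact Over.mono_of_mono_left _
        rw [← cancel_mono ιD, Category.assoc, hlj, hnj, Category.id_comp]⟩
    haveI : IsIso l.left := inferInstanceAs (IsIso ((Over.forget S).map l))
    haveI : IsOpenImmersion j.left := by
      rw [← hlj, Over.comp_left]
      change IsOpenImmersion (l.left ≫ D.ι)
      infer_instance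
    haveI := he i
    haveI : Etale (pullback.snd (e i) f).left :=
      MorphismProperty.of_isPullback (P := @Etale) (isPullback_left (IsPullback.of_hasPullback (e i) f)) ‹_›
    change Etale snd.left
    rw [show snd = j ≫ pullback.snd (e i) f from (pullback.lift_snd _ _ _).symm, Over.comp_left]
    infer_instance
  -- surjectivity of the atlas
  have hσs : RepWith @Surjective σ := by
    refine ⟨hσe.1, fun T₁ Qσ ν fst snd sq => ⟨fun t₁ => ?_⟩⟩
    obtain ⟨f₀, rfl⟩ := (yon S).map_surjective fst
    obtain ⟨xν, hxν⟩ := (yon S).map_surjective (ν ≫ x)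
    let K₁ : Type u := AlgebraicClosure (T₁.left.residueField t₁)
    let ω : Spec (CommRingCat.of K₁) ⟶ T₁.left :=
      Spec.map (CommRingCat.ofHom (algebraMap (T₁.left.residueField t₁) K₁)) ≫ T₁.left.fromSpecResidueField t₁
    let ωS : Over.mk (ω ≫ T₁.hom) ⟶ T₁ := Over.homMk ω rfl
    let p₁ : ↥(Spec (CommRingCat.of K₁)) := IsLocalRing.closedPoint K₁
    have hω : ω p₁ = t₁ := by
      simp only [ω, Scheme.Hom.comp_apply]
      exact Scheme.fromSpecResidueField_apply t₁ _
    obtain ⟨m₁, hm₁, hc₁⟩ := isCell_of_point p a hp ((yon S).map ωS ≫ ν ≫ fC)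
    obtain ⟨q₁, hq₁⟩ := (yon S).map_surjective ((yon S).map ωS ≫ ν ≫ π)
    have hlift : prod.lift m₁ q₁ = ωS ≫ xν := by
      apply (yon S).map_injective
      rw [← cancel_mono (prodComparison (yon S) (MS a) T)]
      apply prod.hom_ext
      · simp only [Category.assoc, prodComparison_fst, ← Functor.map_comp, prod.lift_fst]
        rw [hm₁, Functor.map_comp, Functor.map_comp, hxν]
        simp only [Category.assoc, hx₁]
      · simp only [Category.assoc, prodComparison_snd, ← Functor.map_comp, prod.lift_snd]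
        rw [hq₁, Functor.map_comp, Functor.map_comp, hxν]
        simp only [Category.assoc, hx₂]
    let i : {μ // hit μ} := ⟨xν.left t₁, K₁, inferInstance, inferInstance, _, q₁, m₁, by
      rw [hq₁]
      simpa [sqP.w] using hc₁, p₁, by
      rw [hlift, Over.comp_left, Scheme.Hom.comp_apply]
      exact congrArg xν.left hω⟩
    have hi : (prod.lift (m i) (e i)).left ((qT i).left (pt₀ i)) = xν.left t₁ := by
      rw [← Scheme.Hom.comp_apply, ← Over.comp_left, prod.comp_lift, hqm, hqe]
      exact hpt₀ i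
    have sqM := isPullback_left (IsPullback.of_hasPullback (prod.lift (m i) (e i)) xν)
    obtain ⟨w, hw₁, hw₂⟩ := Scheme.Pullback.exists_preimage_pullback
      (f := (prod.lift (m i) (e i)).left) (g := xν.left) ((qT i).left (pt₀ i)) t₁ hi
    obtain ⟨n, hn⟩ := (yon S).map_surjective (sq.lift
      ((yon S).map (pullback.fst (prod.lift (m i) (e i)) xν ≫ ζ i))
      ((yon S).map (pullback.snd (prod.lift (m i) (e i)) xν)) (by
        refine (cancel_mono x).1 ?_
        rw [Functor.map_comp, Category.assoc, Category.assoc, reassoc_of% hσ, hσix, Category.assoc, ← hxν,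
          ← Functor.map_comp, ← Functor.map_comp, pullback.condition]))
    have hn₂ : n ≫ snd = pullback.snd _ _ := (yon S).map_injective (by rw [Functor.map_comp, hn, sq.lift_snd])
    refine ⟨n.left (sqM.isoPullback.inv w), ?_⟩
    change (n.left ≫ snd.left) _ = t₁
    rw [← Over.comp_left, hn₂, ← Scheme.Hom.comp_apply, sqM.isoPullback_inv_snd]
    exact hw₂
  -- `P` is a scheme etale over `T`
  have hP : IsAlgSpace P := isAlgSpace_of_etale_surjective (IsAlgSpace.yon_obj Zσ) σ hσe hσs
  obtain ⟨h, hh⟩ := (yon S).map_surjective (σ ≫ x)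
  have hhT : ∀ i, ζ i ≫ h ≫ prod.snd = e i := fun i => (yon S).map_injective (by
    rw [Functor.map_comp, Functor.map_comp, hh, Category.assoc, reassoc_of% hσ, hx₂]
    exact sqP.lift_snd _ _ _)
  have hhe : Etale (h ≫ prod.snd).left := by
    rw [IsZariskiLocalAtSource.iff_of_openCover (P := @Etale) (sigmaOpenCover V)]
    intro i
    have := congrArg (fun k => k.left) (hhT i)
    simp only [Over.comp_left] at this
    rw [show (sigmaOpenCover V).f i ≫ (h ≫ prod.snd).left = (e i).left from this]
    exact he i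
  haveI : LocallyOfFiniteType (h.left ≫ (prod.snd : MS a ⨯ T ⟶ T).left) := by
    rw [← Over.comp_left]; infer_instance
  have hxl : LocP @LocallyOfFiniteType x := locP_of_chart hσe hσs (repWith_id _ _)
    (h := h) (by rw [hh, Category.comp_id]) (locallyOfFiniteType_of_comp h.left (prod.snd : MS a ⨯ T ⟶ T).left)
  have hxrep : Representable x := representable_of_mono_lft_map hP (IsAlgSpace.yon_obj _) x hxl
  obtain ⟨Pc, r, φ, hr⟩ := hxrep (𝟙 _)
  haveI : IsIso φ := hr.isIso_fst_of_isIso
  obtain ⟨π₀, hπ₀⟩ := (yon S).map_surjective (φ ≫ π)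
  obtain ⟨s, hs⟩ := (yon S).map_surjective (σ ≫ inv φ)
  have hsπ : s ≫ π₀ = h ≫ prod.snd := (yon S).map_injective (by
    rw [Functor.map_comp, Functor.map_comp, hs, hπ₀, hh, Category.assoc, IsIso.inv_hom_id_assoc, Category.assoc,
      hx₂])
  have hse : RepWith @Etale ((yon S).map s) := by
    rw [hs]; exact repWith_comp hσe (repWith_of_isIso _)
  have hss : RepWith @Surjective ((yon S).map s) := by
    rw [hs]; exact repWith_comp hσs (repWith_of_isIso _)
  refine ⟨Pc, φ ≫ fC, π₀, ?_, IsEtLocal.of_precomp s.left π₀.left ((repWith_yon_map_iff _ _).1 hse)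
    ((repWith_yon_map_iff _ _).1 hss) (by rw [← Over.comp_left, hsπ]; exact hhe)⟩
  rw [hπ₀]
  exact sqP.of_iso (asIso φ).symm (Iso.refl _) (Iso.refl _) (Iso.refl _) (by simp) (by simp) (by simp) (by simp)

end Groth.Agent.ASp.Cell
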