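import Groth.Agent.ASp.CellSheaf
import Groth.Agent.FlatLocus.FibreCrit
/-!
Cells as open and closed pieces of the base change of the chart, and their agreement loci.
-/

set_option autoImplicit false
set_option backward.isDefEq.respectTransparency false
set_option backward.isDefEq.respectTransparency.types false

universe u

open CategoryTheory CategoryTheory.Limits AlgebraicGeometry Opposite

namespace Groth.Agent.ASp.Cell

open _root_.AlgSp

variable {S : Scheme.{u}} {F : Sp S} {W : Over S} [IsAffine W.left] (p : (yon S).obj W ⟶ F)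
variable {d : ℕ} (a : Fin d → Γ(W.left, ⊤))

omit [IsAffine W.left] in
theorem mono_pair {T Wg : Over S} {g : (yon S).obj T ⟶ F} {fst : Wg ⟶ W} {snd : Wg ⟶ T}
    (sqW : IsPullback ((yon S).map fst) ((yon S).map snd) p g) {Z : Scheme.{u}} (k₁ k₂ : Z ⟶ Wg.left)
    (e₁ : k₁ ≫ snd.left = k₂ ≫ snd.left) (e₂ : k₁ ≫ fst.left = k₂ ≫ fst.left) : k₁ = k₂ := by
  let ZS : Over S := Over.mk (k₁ ≫ Wg.hom)
  let G₁ : ZS ⟶ Wg := Over.homMk k₁ rfl
  let G₂ : ZS ⟶ Wg := Over.homMk k₂ (by
    change k₂ ≫ Wg.hom = k₁ ≫ Wg.hom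
    rw [← Over.w snd, ← Category.assoc, ← Category.assoc, e₁])
  have : G₁ = G₂ := (yon S).map_injective (sqW.hom_ext
    (by rw [← Functor.map_comp, ← Functor.map_comp]; exact congrArg (yon S).map (Over.OverMorphism.ext e₂))
    (by rw [← Functor.map_comp, ← Functor.map_comp]; exact congrArg (yon S).map (Over.OverMorphism.ext e₁)))
  exact congrArg (fun m => m.left) this

theorem isSeparated_snd {T Wg : Over S} {g : (yon S).obj T ⟶ F} {fst : Wg ⟶ W} {snd : Wg ⟶ T}
    (sqW : IsPullback ((yon S).map fst) ((yon S).map snd) p g) : IsSeparated snd.left := by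
  haveI : IsSeparated W.hom := by
    haveI : IsSeparated (W.hom ≫ terminal.from S) := by
      rw [show W.hom ≫ terminal.from S = terminal.from W.left from Subsingleton.elim _ _]
      infer_instance
    exact IsSeparated.of_comp W.hom (terminal.from S)
  let j : Wg.left ⟶ pullback W.hom T.hom := pullback.lift fst.left snd.left ((Over.w fst).trans (Over.w snd).symm)
  haveI : Mono j := ⟨fun k₁ k₂ e => mono_pair p sqW k₁ k₂
    (by simpa [j] using congrArg (· ≫ pullback.snd W.hom T.hom) e)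
    (by simpa [j] using congrArg (· ≫ pullback.fst W.hom T.hom) e)⟩
  rw [show snd.left = j ≫ pullback.snd W.hom T.hom from (pullback.lift_snd _ _ _).symm]
  infer_instance

variable {p}

theorem hom_ext_Z0 {Z : Scheme.{u}} (g h : Z ⟶ Z0 a) (e₁ : g ≫ π0 a = h ≫ π0 a) (e₂ : g ≫ zW a = h ≫ zW a) :
    g = h := by
  have h1 : (ringOfZ a g).comp (algebraMap (CellAlg.R0 a) (CellAlg.Q a)) =
      (ringOfZ a h).comp (algebraMap (CellAlg.R0 a) (CellAlg.Q a)) :=
    (ringOfZ_comp a (n := g) (zT := 𝟙 Z) (m := g ≫ π0 a) (Category.id_comp _).symm).trans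
      (ringOfZ_comp a (n := h) (zT := 𝟙 Z) (m := g ≫ π0 a) (by rw [Category.id_comp, e₁])).symm
  have h2 : (ringOfZ a g).comp (CellAlg.θ0 a) = (ringOfZ a h).comp (CellAlg.θ0 a) :=
    (ringOfZ_θ0 a rfl).trans (ringOfZ_θ0 a e₂.symm).symm
  have h3 : ringOfZ a g = ringOfZ a h := by
    refine RingHom.ext fun q => ?_
    obtain ⟨z, rfl⟩ := CellAlg.mk1_surjective a q
    induction z using TensorProduct.induction_on with
    | zero => simp
    | add x y hx hy => simp only [map_add, hx, hy]
    | tmul r b =>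
      have hh : CellAlg.mk1 a (TensorProduct.tmul ℤ r b) =
          algebraMap (CellAlg.R0 a) (CellAlg.Q a) r * CellAlg.θ0 a b := by
        rw [← Algebra.smul_def]
        change _ = r • CellAlg.mk1 a (TensorProduct.tmul ℤ 1 b)
        rw [← map_smul, TensorProduct.smul_tmul', smul_eq_mul, mul_one]
      rw [hh, map_mul, map_mul]
      exact congrArg₂ (· * ·) (RingHom.congr_fun h1 r) (RingHom.congr_fun h2 b)
  apply ext_of_isAffine
  rw [← cancel_epi (Scheme.ΓSpecIso (CommRingCat.of (CellAlg.Q a))).inv]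
  exact CommRingCat.hom_ext h3

/-- The data of a cell over `T` inside a given base change of the chart. -/
structure Lift {T Wg : Over S} (fst : Wg ⟶ W) (snd : Wg ⟶ T) (m : T ⟶ MS a) (Z : Over S) (zt : Z ⟶ T)
    (n : Z.left ⟶ Z0 a) (k : Z ⟶ Wg) : Prop where
  sq : IsPullback n zt.left (π0 a) (toM a m)
  snd_eq : k ≫ snd = zt
  fst_eq : (k ≫ fst).left = n ≫ zW a
  flat : Flat k.left

variable {a} {T Wg : Over S} {g : (yon S).obj T ⟶ F} {fst : Wg ⟶ W} {snd : Wg ⟶ T} {m : T ⟶ MS a}
  {Z : Over S} {zt : Z ⟶ T} {n : Z.left ⟶ Z0 a} {k : Z ⟶ Wg}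

theorem IsCell.exists_Lift (h : IsCell p a T m g)
    (sqW : IsPullback ((yon S).map fst) ((yon S).map snd) p g) :
    ∃ (Z : Over S) (zt : Z ⟶ T) (n : Z.left ⟶ Z0 a) (k : Z ⟶ Wg), Lift a fst snd m Z zt n k := by
  obtain ⟨-, -, -, -, Z, zt, n, sq, -⟩ := id h
  obtain ⟨k, h1, h2, h3⟩ := h.exists_lift sqW sq
  exact ⟨Z, zt, n, k, sq, h1, h2, h3⟩

theorem Lift.isFinite_zt (h : Lift a fst snd m Z zt n k) : IsFinite zt.left :=
  MorphismProperty.of_isPullback (P := @IsFinite) h.sq inferInstance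

theorem Lift.isFinite (h : Lift a fst snd m Z zt n k)
    (sqW : IsPullback ((yon S).map fst) ((yon S).map snd) p g) : IsFinite k.left := by
  haveI := isSeparated_snd p sqW
  haveI : IsFinite (k.left ≫ snd.left) := by
    rw [← Over.comp_left, h.snd_eq]; exact h.isFinite_zt
  exact IsFinite.of_comp k.left snd.left

theorem Lift.isOpenImmersion (h : Lift a fst snd m Z zt n k) [LocallyOfFiniteType snd.left] :
    IsOpenImmersion k.left := by
  haveI := h.flat
  haveI : Mono k.left := ⟨fun g₁ g₂ e => h.sq.hom_ext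
    (hom_ext_Z0 a _ _ (by
      rw [Category.assoc, Category.assoc, h.sq.w, ← h.snd_eq, Over.comp_left]
      simp only [Category.assoc, reassoc_of% e])
      (by
      rw [Category.assoc, Category.assoc, ← h.fst_eq, Over.comp_left, ← Category.assoc, e, Category.assoc]))
    (by rw [← h.snd_eq, Over.comp_left, ← Category.assoc, e, Category.assoc])⟩
  haveI : LocallyOfFinitePresentation (k.left ≫ snd.left) := by
    rw [← Over.comp_left, h.snd_eq]
    exact MorphismProperty.of_isPullback (P := @LocallyOfFinitePresentation) h.sq inferInstance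
  haveI : LocallyOfFinitePresentation k.left :=
    FlatLocus.locallyOfFinitePresentation_of_comp k.left snd.left
  exact IsOpenImmersion.of_flat_of_mono _

/-- The range of a lift only depends on the cell. -/
theorem Lift.range_eq (h : Lift a fst snd m Z zt n k)
    (sqW : IsPullback ((yon S).map fst) ((yon S).map snd) p g) {Z' : Over S} {zt' : Z' ⟶ T}
    {n' : Z'.left ⟶ Z0 a} {k' : Z' ⟶ Wg} (h' : Lift a fst snd m Z' zt' n' k') :
    Set.range k.left = Set.range k'.left := by
  let e := h.sq.isoIsPullback _ _ h'.sq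
  have he : e.hom ≫ k'.left = k.left := by
    refine mono_pair p sqW _ _ ?_ ?_
    · rw [Category.assoc, ← Over.comp_left, h'.snd_eq, IsPullback.isoIsPullback_hom_snd, ← Over.comp_left,
        h.snd_eq]
    · rw [Category.assoc, ← Over.comp_left, h'.fst_eq, ← Category.assoc, IsPullback.isoIsPullback_hom_fst,
        ← Over.comp_left, h.fst_eq]
  rw [← he, Scheme.Hom.comp_base, TopCat.coe_comp, Set.range_comp]
  rw [Set.range_eq_univ.2 e.hom.surjective, Set.image_univ]

/-- Lifts pull back. -/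
theorem Lift.comp (h : Lift a fst snd m Z zt n k) {T' : Over S} (l : T' ⟶ T) :
    ∃ k' : pullback zt l ⟶ pullback snd l,
      Lift a (pullback.fst snd l ≫ fst) (pullback.snd snd l) (l ≫ m) (pullback zt l) (pullback.snd zt l)
        ((pullback.fst zt l).left ≫ n) k' ∧
      Set.range k'.left = (pullback.fst snd l).left ⁻¹' Set.range k.left := by
  have sqZ := isPullback_left (IsPullback.of_hasPullback zt l)
  have sq' := sqZ.paste_horiz h.sq
  rw [← toM_comp] at sq'
  let k' : pullback zt l ⟶ pullback snd l :=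
    pullback.lift (pullback.fst zt l ≫ k) (pullback.snd zt l) (by rw [Category.assoc, h.snd_eq, pullback.condition])
  have sqk : IsPullback (pullback.fst zt l) k' k (pullback.fst snd l) := by
    refine IsPullback.of_bot ?_ (pullback.lift_fst _ _ _).symm (IsPullback.of_hasPullback snd l)
    rw [h.snd_eq, show k' ≫ pullback.snd snd l = pullback.snd zt l from pullback.lift_snd _ _ _]
    exact IsPullback.of_hasPullback zt l
  refine ⟨k', ⟨sq', pullback.lift_snd _ _ _, ?_, MorphismProperty.of_isPullback (P := @Flat) (isPullback_left sqk) h.flat⟩, ?_⟩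
  · rw [show k' ≫ pullback.fst snd l ≫ fst = pullback.fst zt l ≫ k ≫ fst from by
      rw [pullback.lift_fst_assoc, Category.assoc], Over.comp_left, h.fst_eq, Category.assoc]
  · have sqks := isPullback_left sqk
    rw [← sqks.isoPullback_hom_snd, Scheme.Hom.comp_base, TopCat.coe_comp, Set.range_comp,
      Set.range_eq_univ.2 sqks.isoPullback.hom.surjective, Set.image_univ, Scheme.Pullback.range_snd]

theorem eq_of_range_eq (h : Lift a fst snd m Z zt n k)
    [LocallyOfFiniteType snd.left] {m' : T ⟶ MS a} {Z' : Over S}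
    {zt' : Z' ⟶ T} {n' : Z'.left ⟶ Z0 a} {k' : Z' ⟶ Wg} (h' : Lift a fst snd m' Z' zt' n' k')
    (e : Set.range k.left ⊆ Set.range k'.left) : m = m' := by
  haveI := h'.isOpenImmersion
  refine toM_injective a (classify_unique a h.sq (n₂ := IsOpenImmersion.lift k'.left k.left e ≫ n') ?_ ?_)
  · rw [Category.assoc, h'.sq.w, ← h'.snd_eq, Over.comp_left, ← Category.assoc, ← Category.assoc,
      IsOpenImmersion.lift_fac, ← Over.comp_left, h.snd_eq]
  · rw [Category.assoc, ← h'.fst_eq, Over.comp_left, IsOpenImmersion.lift_fac_assoc, ← Over.comp_left, h.fst_eq]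

/-- The locus where two cells with the same map to the sheaf agree is open. -/
theorem exists_agree_open {Q : Over S} {m₁ m₂ : Q ⟶ MS a} {g : (yon S).obj Q ⟶ F}
    (hp : RepWith @LocallyOfFiniteType p) (h₁ : IsCell p a Q m₁ g) (h₂ : IsCell p a Q m₂ g) :
    ∃ D : Q.left.Opens, ∀ ⦃L : Over S⦄ (l : L ⟶ Q), l ≫ m₁ = l ≫ m₂ ↔ Set.range l.left ⊆ D := by
  obtain ⟨Wg, fst, snd, sqW⟩ := exists_isPullback_yon hp.1 g
  haveI : LocallyOfFiniteType snd.left := hp.2 g _ _ sqW
  obtain ⟨Z₁, zt₁, n₁, k₁, hL₁⟩ := h₁.exists_Lift sqW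
  obtain ⟨Z₂, zt₂, n₂, k₂, hL₂⟩ := h₂.exists_Lift sqW
  haveI := hL₁.isOpenImmersion
  haveI := hL₂.isOpenImmersion
  haveI := hL₁.isFinite_zt
  haveI := hL₂.isFinite_zt
  let A : Set ↥Q.left := zt₁.left '' (k₁.left ⁻¹' (Set.range k₂.left)ᶜ) ∪ zt₂.left '' (k₂.left ⁻¹' (Set.range k₁.left)ᶜ)
  have hA : IsClosed A :=
    (zt₁.left.isClosedMap _ ((k₂.left.isOpenEmbedding.isOpen_range.isClosed_compl).preimage k₁.left.continuous)).union
      (zt₂.left.isClosedMap _ ((k₁.left.isOpenEmbedding.isOpen_range.isClosed_compl).preimage k₂.left.continuous))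
  refine ⟨⟨Aᶜ, hA.isOpen_compl⟩, fun L l => ?_⟩
  obtain ⟨k₁', hL₁', hr₁⟩ := hL₁.comp l
  obtain ⟨k₂', hL₂', hr₂⟩ := hL₂.comp l
  haveI : LocallyOfFiniteType (pullback.snd snd l).left :=
    MorphismProperty.of_isPullback (P := @LocallyOfFiniteType) (isPullback_left (IsPullback.of_hasPullback snd l)) ‹_›
  have sqs := isPullback_left (IsPullback.of_hasPullback snd l)
  have key : ∀ {Z Z' : Over S} (zt : Z ⟶ Q) (k : Z ⟶ Wg) (k' : Z' ⟶ Wg), k ≫ snd = zt →
      (Disjoint (Set.range l.left) (zt.left '' (k.left ⁻¹' (Set.range k'.left)ᶜ)) ↔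
        (pullback.fst snd l).left ⁻¹' Set.range k.left ⊆ (pullback.fst snd l).left ⁻¹' Set.range k'.left) := by
    intro Z Z' zt k k' hk
    constructor
    · rintro hd y ⟨z, hz⟩
      by_contra hy
      refine Set.disjoint_left.1 hd ⟨(pullback.snd snd l).left y, rfl⟩ ⟨z, ?_, ?_⟩
      · change k.left z ∉ Set.range k'.left
        rw [hz]; exact hy
      · rw [← hk, Over.comp_left, Scheme.Hom.comp_apply, hz, ← Scheme.Hom.comp_apply, sqs.w, Scheme.Hom.comp_apply]
    · intro hs
      rw [Set.disjoint_left]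
      rintro _ ⟨w, rfl⟩ ⟨z, hz, hzl⟩
      obtain ⟨y, hy₁, -⟩ := Scheme.Pullback.exists_preimage_pullback (f := snd.left) (g := l.left) (k.left z) w
        (by rw [← hzl, ← hk, Over.comp_left, Scheme.Hom.comp_apply])
      have hy : (pullback.fst snd l).left (sqs.isoPullback.inv y) = k.left z := by
        rw [← Scheme.Hom.comp_apply, sqs.isoPullback_inv_fst]; exact hy₁
      have := hs (show sqs.isoPullback.inv y ∈ (pullback.fst snd l).left ⁻¹' Set.range k.left from ⟨z, hy.symm⟩)
      apply hz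
      change k.left z ∈ Set.range k'.left
      rw [← hy]
      exact this
  have key₁ := key zt₁ k₁ k₂ hL₁.snd_eq
  have key₂ := key zt₂ k₂ k₁ hL₂.snd_eq
  have hDA : Set.range l.left ⊆ Aᶜ ↔ Set.range k₁'.left = Set.range k₂'.left := by
    rw [Set.subset_compl_iff_disjoint_right, Set.disjoint_union_right, key₁, key₂, hr₁, hr₂]
    exact ⟨fun h => h.1.antisymm h.2, fun h => ⟨h.le, h.ge⟩⟩
  change _ ↔ Set.range l.left ⊆ Aᶜ
  rw [hDA]
  refine ⟨fun e => ?_, fun e => eq_of_range_eq hL₁' hL₂' e.le⟩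
  have sqW' := ((IsPullback.of_hasPullback snd l).map (yon S)).paste_horiz sqW
  rw [← Functor.map_comp] at sqW'
  exact (e ▸ hL₁').range_eq sqW' hL₂'

end Groth.Agent.ASp.Cell
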