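import Groth.Agent.ASp.CellAlg
/-!
The universal finite free family of closed subschemes of an affine scheme with a prescribed basis.
-/

set_option autoImplicit false
set_option backward.isDefEq.respectTransparency false
set_option backward.isDefEq.respectTransparency.types false

universe u

open CategoryTheory CategoryTheory.Limits AlgebraicGeometry TensorProduct

namespace Groth.Agent.ASp.Cell

variable {W : Scheme.{u}} {d : ℕ} (a : Fin d → Γ(W, ⊤))

/-- The parameter scheme. -/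
noncomputable def M0 : Scheme.{u} := Spec (CommRingCat.of (CellAlg.R0 a))

/-- The universal family. -/
noncomputable def Z0 : Scheme.{u} := Spec (CommRingCat.of (CellAlg.Q a))

instance : IsAffine (M0 a) := inferInstanceAs (IsAffine (Spec _))

instance : IsAffine (Z0 a) := inferInstanceAs (IsAffine (Spec _))

/-- The projection of the universal family. -/
noncomputable def π0 : Z0 a ⟶ M0 a := Spec.map (CommRingCat.ofHom (algebraMap (CellAlg.R0 a) (CellAlg.Q a)))

/-- The map of the universal family to `W`. -/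
noncomputable def zW [IsAffine W] : Z0 a ⟶ W :=
  Spec.map (CommRingCat.ofHom (CellAlg.θ0 a)) ≫ W.isoSpec.inv

instance : IsFinite (π0 a) := by
  haveI := CellAlg.finite_Q a
  exact (IsFinite.SpecMap_iff (f := CommRingCat.ofHom (algebraMap (CellAlg.R0 a) (CellAlg.Q a)))).2
    (RingHom.finite_algebraMap.2 inferInstance)

instance : Flat (π0 a) := by
  haveI := CellAlg.free_Q a
  rw [π0, HasRingHomProperty.Spec_iff (P := @Flat)]
  exact RingHom.flat_algebraMap_iff.2 inferInstance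

instance : LocallyOfFinitePresentation (π0 a) := by
  haveI := CellAlg.free_Q a
  haveI := CellAlg.finite_Q a
  rw [π0, HasRingHomProperty.Spec_iff (P := @LocallyOfFinitePresentation)]
  haveI : Module.FinitePresentation (CellAlg.R0 a) (CellAlg.Q a) := Module.finitePresentation_of_projective _ _
  exact RingHom.finitePresentation_algebraMap.2 (Algebra.FinitePresentation.of_finitePresentation _ _)

theorem surjective_π0 (hd : 0 < d) : Surjective (π0 a) := by
  refine ⟨fun y => ?_⟩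
  haveI := CellAlg.free_Q a
  haveI : Nonempty (Fin d) := ⟨⟨0, hd⟩⟩
  haveI : Nontrivial (CellAlg.R0 a) := PrimeSpectrum.nontrivial (y : PrimeSpectrum (CellAlg.R0 a))
  haveI : Nontrivial (CellAlg.Q a) := (CellAlg.basisQ a).repr.toEquiv.nontrivial
  haveI : Module.FaithfullyFlat (CellAlg.R0 a) (CellAlg.Q a) := inferInstance
  exact PrimeSpectrum.comap_surjective_of_faithfullyFlat (B := CellAlg.Q a) y

/-- The images of `a` form a basis of the functions on `Z` over those on `T`. -/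
def HasBasis {T Z : Scheme.{u}} (zT : Z ⟶ T) (w : Z ⟶ W) : Prop :=
  Function.Bijective fun v : Fin d → Γ(T, ⊤) => ∑ i, zT.appTop (v i) * w.appTop (a i)

theorem exists_basis {T Z : Scheme.{u}} {zT : Z ⟶ T} {w : Z ⟶ W} (h : HasBasis a zT w) :
    letI := zT.appTop.hom.toAlgebra
    ∃ e : Module.Basis (Fin d) Γ(T, ⊤) Γ(Z, ⊤), ∀ j, e j = w.appTop (a j) := by
  classical
  letI := zT.appTop.hom.toAlgebra
  let L : (Fin d → Γ(T, ⊤)) →ₗ[Γ(T, ⊤)] Γ(Z, ⊤) := Fintype.linearCombination Γ(T, ⊤) fun i => w.appTop (a i)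
  have hL : Function.Bijective L := by
    have : (L : (Fin d → Γ(T, ⊤)) → Γ(Z, ⊤)) = fun v => ∑ i, zT.appTop (v i) * w.appTop (a i) := by
      funext v
      simp only [L, Fintype.linearCombination_apply]
      rfl
    rw [this]
    exact h
  refine ⟨Module.Basis.ofEquivFun (LinearEquiv.ofBijective L hL).symm, fun j => ?_⟩
  rw [Module.Basis.coe_ofEquivFun, LinearEquiv.symm_symm]
  change L (Pi.single j 1) = _
  simp [L, Fintype.linearCombination_apply_single]

variable [IsAffine W]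

/-- The ring map to the functions on `T` of a map to the parameter scheme. -/
noncomputable def ringOf {T : Scheme.{u}} (m : T ⟶ M0 a) : CellAlg.R0 a →+* Γ(T, ⊤) :=
  ((Scheme.ΓSpecIso (CommRingCat.of (CellAlg.R0 a))).inv ≫ m.appTop).hom

/-- The ring map to the functions on `Z` of a map to the universal family. -/
noncomputable def ringOfZ {Z : Scheme.{u}} (n : Z ⟶ Z0 a) : CellAlg.Q a →+* Γ(Z, ⊤) :=
  ((Scheme.ΓSpecIso (CommRingCat.of (CellAlg.Q a))).inv ≫ n.appTop).hom

theorem ringOfZ_comp {T Z : Scheme.{u}} {zT : Z ⟶ T} {n : Z ⟶ Z0 a} {m : T ⟶ M0 a}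
    (e : n ≫ π0 a = zT ≫ m) :
    (ringOfZ a n).comp (algebraMap (CellAlg.R0 a) (CellAlg.Q a)) = zT.appTop.hom.comp (ringOf a m) := by
  have h1 := congrArg (fun k => (Scheme.ΓSpecIso (CommRingCat.of (CellAlg.R0 a))).inv ≫ Scheme.Hom.appTop k) e
  simp only [Scheme.Hom.comp_appTop] at h1
  rw [π0, ← Scheme.ΓSpecIso_inv_naturality_assoc] at h1
  exact congrArg CommRingCat.Hom.hom h1

theorem ringOfZ_θ0 {Z : Scheme.{u}} {n : Z ⟶ Z0 a} {w : Z ⟶ W} (e : n ≫ zW a = w) :
    (ringOfZ a n).comp (CellAlg.θ0 a) = w.appTop.hom := by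
  subst e
  have h : (zW a).appTop = CommRingCat.ofHom (CellAlg.θ0 a) ≫ (Scheme.ΓSpecIso _).inv := by
    have h2 : W.isoSpec.inv.appTop = (Scheme.ΓSpecIso _).inv := by simp [Scheme.isoSpec]
    rw [zW, Scheme.Hom.comp_appTop, h2]
    exact (Scheme.ΓSpecIso_inv_naturality _).symm
  rw [Scheme.Hom.comp_appTop, h, Category.assoc]
  rfl

/-- Pullbacks of the universal family to affine schemes have the prescribed basis. -/
theorem hasBasis_of_isPullback {T Z : Scheme.{u}} [IsAffine T] {zT : Z ⟶ T} {n : Z ⟶ Z0 a} {m : T ⟶ M0 a}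
    (sq : IsPullback n zT (π0 a) m) : HasBasis a zT (n ≫ zW a) := by
  have h0 := isPushout_appTop_of_isPullback sq.flip
  have h1 : IsPushout (CommRingCat.ofHom (ringOf a m))
      (CommRingCat.ofHom (algebraMap (CellAlg.R0 a) (CellAlg.Q a))) zT.appTop
      (CommRingCat.ofHom (ringOfZ a n)) := by
    refine h0.of_iso (Scheme.ΓSpecIso _) (Iso.refl _) (Scheme.ΓSpecIso _) (Iso.refl _) ?_ ?_ ?_ ?_
    · change m.appTop ≫ 𝟙 _ = (Scheme.ΓSpecIso _).hom ≫ (Scheme.ΓSpecIso _).inv ≫ m.appTop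
      rw [Iso.hom_inv_id_assoc, Category.comp_id]
    · exact (Scheme.ΓSpecIso_naturality _)
    · change zT.appTop ≫ 𝟙 _ = 𝟙 _ ≫ zT.appTop
      rw [Category.comp_id, Category.id_comp]
    · change n.appTop ≫ 𝟙 _ = (Scheme.ΓSpecIso _).hom ≫ (Scheme.ΓSpecIso _).inv ≫ n.appTop
      rw [Iso.hom_inv_id_assoc, Category.comp_id]
  letI := (ringOf a m).toAlgebra
  letI := zT.appTop.hom.toAlgebra
  letI := (ringOfZ a n).toAlgebra
  letI : Algebra (CellAlg.R0 a) Γ(Z, ⊤) := (zT.appTop.hom.comp (ringOf a m)).toAlgebra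
  haveI : IsScalarTower (CellAlg.R0 a) Γ(T, ⊤) Γ(Z, ⊤) := IsScalarTower.of_algebraMap_eq' rfl
  haveI : IsScalarTower (CellAlg.R0 a) (CellAlg.Q a) Γ(Z, ⊤) :=
    IsScalarTower.of_algebraMap_eq' (ringOfZ_comp a sq.w).symm
  haveI hp : Algebra.IsPushout (CellAlg.R0 a) Γ(T, ⊤) (CellAlg.Q a) Γ(Z, ⊤) :=
    CommRingCat.isPushout_iff_isPushout.1 h1
  let e := hp.out.basis (CellAlg.basisQ a)
  have he : ∀ j, e j = (n ≫ zW a).appTop (a j) := fun j => by
    rw [IsBaseChange.basis_apply, CellAlg.basisQ_apply]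
    exact RingHom.congr_fun (ringOfZ_θ0 a (n := n) rfl) (a j)
  have : (fun v : Fin d → Γ(T, ⊤) => ∑ i, zT.appTop (v i) * (n ≫ zW a).appTop (a i)) = e.equivFun.symm := by
    funext v
    rw [Module.Basis.equivFun_symm_apply]
    exact Finset.sum_congr rfl fun i _ => by rw [Algebra.smul_def, he]; rfl
  unfold HasBasis
  rw [this]
  exact e.equivFun.symm.bijective

/-- An affine family with the prescribed basis is pulled back from the universal one. -/
theorem exists_classify {T Z : Scheme.{u}} [IsAffine T] [IsAffine Z] {zT : Z ⟶ T} {w : Z ⟶ W}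
    (h : HasBasis a zT w) :
    ∃ (m : T ⟶ M0 a) (n : Z ⟶ Z0 a), IsPullback n zT (π0 a) m ∧ n ≫ zW a = w := by
  letI := zT.appTop.hom.toAlgebra
  obtain ⟨e, he⟩ := exists_basis a h
  obtain ⟨ρ, φ, h1, h2⟩ := CellAlg.exists_hom w.appTop.hom e he
  have hpb := isPullback_SpecMap_of_isPushout _ _ _ _ (CellAlg.isPushout e he ρ φ h1 h2)
  refine ⟨T.isoSpec.hom ≫ Spec.map (CommRingCat.ofHom ρ), Z.isoSpec.hom ≫ Spec.map (CommRingCat.ofHom φ), ?_, ?_⟩
  · refine hpb.flip.of_iso Z.isoSpec.symm (Iso.refl _) T.isoSpec.symm (Iso.refl _) ?_ ?_ ?_ ?_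
    · simp
    · change Spec.map zT.appTop ≫ T.isoSpec.inv = Z.isoSpec.inv ≫ zT
      exact Scheme.isoSpec_inv_naturality zT
    · simp [π0]
    · simp
  · rw [zW, Category.assoc, ← Spec.map_comp_assoc, ← CommRingCat.ofHom_comp, h2, CommRingCat.ofHom_hom,
      Scheme.isoSpec_inv_naturality, Iso.hom_inv_id_assoc]

theorem classify_unique_affine {T Z : Scheme.{u}} [IsAffine T] {zT : Z ⟶ T} {n₁ n₂ : Z ⟶ Z0 a}
    {m₁ m₂ : T ⟶ M0 a} (sq : IsPullback n₁ zT (π0 a) m₁) (e₂ : n₂ ≫ π0 a = zT ≫ m₂)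
    (e : n₁ ≫ zW a = n₂ ≫ zW a) : m₁ = m₂ := by
  letI := zT.appTop.hom.toAlgebra
  obtain ⟨b, hb⟩ := exists_basis a (hasBasis_of_isPullback a sq)
  have h₁ := CellAlg.hom_ext (θ := (n₁ ≫ zW a).appTop.hom) b hb (ringOf a m₁) (ringOfZ a n₁)
    (ringOfZ_comp a sq.w) (ringOfZ_θ0 a rfl)
  have h₂ := CellAlg.hom_ext (θ := (n₁ ≫ zW a).appTop.hom) b hb (ringOf a m₂) (ringOfZ a n₂)
    (ringOfZ_comp a e₂) (ringOfZ_θ0 a e.symm)
  have h : ringOf a m₁ = ringOf a m₂ := by
    refine Ideal.Quotient.ringHom_ext (I := Ideal.span (CellAlg.relSet a)) (MvPolynomial.ringHom_ext (fun r => ?_) fun p => ?_)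
    · simp
    · exact (h₁ p.1 p.2).trans (h₂ p.1 p.2).symm
  apply ext_of_isAffine
  rw [← cancel_epi (Scheme.ΓSpecIso (CommRingCat.of (CellAlg.R0 a))).inv]
  exact CommRingCat.hom_ext h

/-- The classifying map is determined by the family. -/
theorem classify_unique {T Z : Scheme.{u}} {zT : Z ⟶ T} {n₁ n₂ : Z ⟶ Z0 a}
    {m₁ m₂ : T ⟶ M0 a} (sq : IsPullback n₁ zT (π0 a) m₁) (e₂ : n₂ ≫ π0 a = zT ≫ m₂)
    (e : n₁ ≫ zW a = n₂ ≫ zW a) : m₁ = m₂ := by
  refine T.affineCover.hom_ext _ _ fun i => ?_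
  let ι := T.affineCover.f i
  have sq' := (IsPullback.of_hasPullback zT ι).paste_horiz sq
  exact classify_unique_affine a sq' (n₂ := pullback.fst zT ι ≫ n₂)
    (by rw [Category.assoc, e₂, pullback.condition_assoc]) (by simp only [Category.assoc, e])

end Groth.Agent.ASp.Cell
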