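import Groth.Agent.ASp.CellFibre
/-!
The sheaf of cells is a scheme.
-/

set_option autoImplicit false
set_option backward.isDefEq.respectTransparency false
set_option backward.isDefEq.respectTransparency.types false

universe u

open CategoryTheory CategoryTheory.Limits AlgebraicGeometry Opposite

namespace Groth.Agent.ASp.Cell

open _root_.AlgSp

variable {S : Scheme.{u}} {F : Sp S} {W : Over S} [IsAffine W.left] (p : (yon S).obj W ⟶ F)
variable {d : ℕ} (a : Fin d → Γ(W.left, ⊤))

theorem exists_scheme_cell (hd : 0 < d) (hpl : RepWith @LocallyOfFinitePresentation p)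
    (hpq : RepWith @LocallyQuasiFinite p) (hpf : RepWith @Flat p) :
    ∃ (P : Over S) (b : (yon S).obj P ⟶ cellSp p a hpl.1), IsIso b := by
  have hp := hpl.1
  have hG := repWith_etale_cellG p a hd hpl hpq hpf
  haveI := mono_cell_map p a hp hd
  haveI : Mono (cellM p a hp) := ‹Mono (cellι p a hp ≫ prod.fst)›
  -- the family over the parameter scheme
  let pM : (MS a).left ⟶ M0 a := pullback.fst _ _
  let ZS : Over S := Over.mk (pullback.snd (π0 a) pM ≫ (MS a).hom)
  let c : ZS ⟶ MS a := Over.homMk (pullback.snd (π0 a) pM) rfl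
  let nS : ZS.left ⟶ Z0 a := pullback.fst (π0 a) pM
  haveI : Flat c.left := inferInstanceAs (Flat (pullback.snd _ _))
  haveI : LocallyOfFinitePresentation c.left := inferInstanceAs (LocallyOfFinitePresentation (pullback.snd _ _))
  haveI : Surjective c.left := by
    haveI := surjective_π0 a hd
    exact inferInstanceAs (Surjective (pullback.snd _ _))
  have sqZS : IsPullback nS c.left (π0 a) (toM a (𝟙 (MS a))) := by
    rw [show toM a (𝟙 (MS a)) = pM from Category.id_comp _]
    exact IsPullback.of_hasPullback _ _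
  -- the equalizer
  let u : ZS.left ⟶ pullback (terminal.from S) (terminal.from S) :=
    pullback.lift (nS ≫ zW a ≫ W.hom) ZS.hom (terminal.hom_ext _ _)
  let E : Over S := Over.mk (pullback.fst u (pullback.diagonal (terminal.from S)) ≫ ZS.hom)
  let eE : E ⟶ ZS := Over.homMk (pullback.fst _ _) rfl
  let wE : E ⟶ W := Over.homMk (eE.left ≫ nS ≫ zW a) (by
    change (eE.left ≫ nS ≫ zW a) ≫ W.hom = eE.left ≫ ZS.hom
    have h := pullback.condition (f := u) (g := pullback.diagonal (terminal.from S))
    have h1 := h =≫ pullback.fst _ _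
    have h2 := h =≫ pullback.snd _ _
    simp [u] at h1 h2
    simp only [Category.assoc]
    exact h1.trans h2.symm)
  haveI : LocallyOfFiniteType eE.left :=
    MorphismProperty.pullback_fst (P := @LocallyOfFiniteType) _ _ inferInstance
  haveI : Mono eE.left := inferInstanceAs (Mono (pullback.fst u (pullback.diagonal (terminal.from S))))
  haveI : Mono eE := Over.mono_of_mono_left _
  obtain ⟨VE, πE, fE, sqE⟩ := hG.1 ((yon S).map wE ≫ p)
  haveI : Etale πE.left := hG.2 _ _ _ sqE
  obtain ⟨mV, hmV⟩ := (yon S).map_surjective (fE ≫ cellM p a hp)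
  let m' : VE ⟶ MS a := πE ≫ eE ≫ c
  let Vc : Over S := pullback (prod.lift mV m') (Limits.diag (MS a))
  let jV : Vc ⟶ VE := pullback.fst _ _
  have hjV : jV ≫ mV = jV ≫ m' := by
    have h := pullback.condition (f := prod.lift mV m') (g := Limits.diag (MS a))
    have h1 := h =≫ prod.fst
    have h2 := h =≫ prod.snd
    simp at h1 h2
    exact h1.trans h2.symm
  haveI : Mono jV := inferInstanceAs (Mono (pullback.fst (prod.lift mV m') (Limits.diag (MS a))))
  haveI : LocallyOfFiniteType jV.left := by
    have sqd := isPullback_left (IsPullback.of_hasPullback (prod.lift mV m') (Limits.diag (MS a)))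
    refine MorphismProperty.of_isPullback (P := @LocallyOfFiniteType) sqd.flip ?_
    haveI : LocallyOfFiniteType ((Limits.diag (MS a)).left ≫ (Over.prodLeftIsoPullback (MS a) (MS a)).hom) := by
      rw [diag_left_comp_prodLeftIsoPullback]; infer_instance
    exact locallyOfFiniteType_of_comp (Limits.diag (MS a)).left (Over.prodLeftIsoPullback (MS a) (MS a)).hom
  let v : Vc ⟶ ZS := jV ≫ πE ≫ eE
  haveI : LocallyOfFiniteType v.left :=
    inferInstanceAs (LocallyOfFiniteType (jV.left ≫ πE.left ≫ eE.left))
  have hw : ((yon S).map jV ≫ fE) ≫ cellM p a hp = (yon S).map v ≫ (yon S).map c := by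
    rw [Category.assoc, ← hmV, ← Functor.map_comp, ← Functor.map_comp, hjV]
    simp only [m', v, Category.assoc]
  haveI : Mono ((yon S).map v) := by
    refine ⟨fun {X'} α β e => ?_⟩
    refine (cancel_mono ((yon S).map jV)).1 (sqE.hom_ext ?_ ?_)
    · refine (cancel_mono (cellM p a hp)).1 ?_
      have e2 : α ≫ (yon S).map v ≫ (yon S).map c = β ≫ (yon S).map v ≫ (yon S).map c := by
        rw [← Category.assoc, e, Category.assoc]
      rw [← hw] at e2
      simpa using e2
    · refine (cancel_mono ((yon S).map eE)).1 ?_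
      simpa [v] using e
  have sq : IsPullback ((yon S).map jV ≫ fE) ((yon S).map v) (cellM p a hp) ((yon S).map c) := by
    refine isPullback_of_mono_yon _ _ _ _ hw fun T b z e => ?_
    obtain ⟨z₀, rfl⟩ := (yon S).map_surjective z
    obtain ⟨m, hm, hc⟩ := isCell_of_point p a hp b
    obtain rfl : m = z₀ ≫ c := (yon S).map_injective (by rw [hm, e, Functor.map_comp])
    obtain ⟨Wg, fst, snd, sqW⟩ := exists_isPullback_yon hp (b ≫ cellG p a hp)
    obtain ⟨Z, zt, n, k, hL⟩ := hc.exists_Lift sqW
    obtain ⟨s, hs1, hs2⟩ : ∃ s : T.left ⟶ Z.left, s ≫ n = z₀.left ≫ nS ∧ s ≫ zt.left = 𝟙 _ :=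
      ⟨hL.sq.lift (z₀.left ≫ nS) (𝟙 _) (by
        rw [Category.assoc, sqZS.w, Category.id_comp, toM_comp]
        rw [show toM a (𝟙 (MS a)) = pM from Category.id_comp _]
        rfl), hL.sq.lift_fst _ _ _, hL.sq.lift_snd _ _ _⟩
    let sS : T ⟶ Z := Over.homMk s (by rw [← Over.w zt, ← Category.assoc, hs2, Category.id_comp])
    let wT := sS ≫ k ≫ fst
    have hwT : wT.left = z₀.left ≫ nS ≫ zW a := by
      change s ≫ (k ≫ fst).left = _
      rw [hL.fst_eq, reassoc_of% hs1]
    let zE : T ⟶ E := Over.homMk (pullback.lift z₀.left T.hom (by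
      apply pullback.hom_ext
      · simp only [u, Category.assoc, pullback.lift_fst, pullback.diagonal_fst, Category.comp_id]
        rw [← reassoc_of% hwT]
        exact Over.w wT
      · simp only [u, Category.assoc, pullback.lift_snd, pullback.diagonal_snd, Category.comp_id]
        exact Over.w z₀)) (by
      change pullback.lift z₀.left T.hom _ ≫ pullback.fst _ _ ≫ ZS.hom = T.hom
      rw [pullback.lift_fst_assoc]
      exact Over.w z₀)
    have hzE : zE ≫ eE = z₀ := Over.OverMorphism.ext (pullback.lift_fst _ _ _)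
    have hzw : zE ≫ wE = wT := Over.OverMorphism.ext (by
      change pullback.lift z₀.left T.hom _ ≫ pullback.fst _ _ ≫ nS ≫ zW a = wT.left
      rw [pullback.lift_fst_assoc, hwT])
    obtain ⟨n₁, hn₁⟩ := (yon S).map_surjective (sqE.lift b ((yon S).map zE) (by
      rw [← Functor.map_comp_assoc, hzw]
      simp only [wT, Functor.map_comp, Category.assoc]
      rw [sqW.w, ← Functor.map_comp_assoc, ← Functor.map_comp_assoc, Category.assoc, hL.snd_eq]
      rw [show sS ≫ zt = 𝟙 T from Over.OverMorphism.ext hs2, CategoryTheory.Functor.map_id, Category.id_comp]))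
    have hn₁π : n₁ ≫ πE = zE := (yon S).map_injective (by rw [Functor.map_comp, hn₁, sqE.lift_snd])
    have hn₁m : n₁ ≫ mV = z₀ ≫ c := (yon S).map_injective (by
      rw [Functor.map_comp, hn₁, hmV, sqE.lift_fst_assoc, e, Functor.map_comp])
    have hag : n₁ ≫ prod.lift mV m' = (z₀ ≫ c) ≫ Limits.diag (MS a) := by
      apply prod.hom_ext
      · simp [hn₁m]
      · simp [m', reassoc_of% hn₁π, reassoc_of% hzE]
    refine ⟨(yon S).map (pullback.lift n₁ (z₀ ≫ c) hag), ?_⟩
    rw [← Functor.map_comp]
    congr 1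
    simp only [v, jV, pullback.lift_fst_assoc, reassoc_of% hn₁π, hzE]
  obtain ⟨P, ⟨φ⟩⟩ := exists_scheme_of_mono (cellM p a hp) c v _ sq
  exact ⟨P, φ.hom, inferInstance⟩

end Groth.Agent.ASp.Cell
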