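import Groth.Agent.ASp.EqvQuot
import Groth.Agent.ASp.Affine
import Groth.Agent.ASp.FppfDiag
import Groth.Agent.ASp.Fpqc
/-!
Quotients by flat equivalence relations of schemes.
-/

set_option backward.isDefEq.respectTransparency false
set_option backward.isDefEq.respectTransparency.types false

universe u

open CategoryTheory CategoryTheory.Limits AlgebraicGeometry Opposite

namespace Groth.Agent.ASp

open _root_.AlgSp

variable {S : Scheme.{u}}

/-- A locally surjective map from a scheme whose kernel pair is flat and finitely presented is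
representable, flat, locally of finite presentation and surjective. -/
theorem repWith_flat_surjective_of_kernelPair {U R : Over S} {F : Sp S} (p : (yon S).obj U ⟶ F)
    [Sheaf.IsLocallySurjective p] {s t : R ⟶ U} [Flat t.left] [LocallyOfFinitePresentation t.left]
    (hR : IsPullback ((yon S).map t) ((yon S).map s) p p) :
    RepWith @Flat p ∧ RepWith @LocallyOfFinitePresentation p ∧ RepWith @Surjective p := by
  have hrep : ∀ ⦃T : Over S⦄ (g : (yon S).obj T ⟶ F), ∃ (P : Over S) (q : P ⟶ T) (fst : (yon S).obj P ⟶ (yon S).obj U),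
      IsPullback fst ((yon S).map q) p g ∧ (Flat q.left ∧ LocallyOfFinitePresentation q.left) ∧ Surjective q.left := by
    intro T g
    obtain ⟨W, c, l, hcf, hcl, hcs, hl⟩ := exists_fppf_lift p g
    obtain ⟨P, π₁, π₂, hP⟩ : ∃ (P : Sp S) (π₁ : P ⟶ (yon S).obj U) (π₂ : P ⟶ (yon S).obj T),
        IsPullback π₁ π₂ p g := ⟨_, _, _, IsPullback.of_hasPullback p g⟩
    let x : P ⟶ (yon S).obj (U ⨯ T) := prod.lift π₁ π₂ ≫ inv (prodComparison (yon S) U T)
    have hx1 : x ≫ (yon S).map prod.fst = π₁ := by
      simp only [x, Category.assoc, inv_prodComparison_map_fst, prod.lift_fst]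
    have hx2 : x ≫ (yon S).map prod.snd = π₂ := by
      simp only [x, Category.assoc, inv_prodComparison_map_snd, prod.lift_snd]
    have : Mono x := ⟨fun a b hab => hP.hom_ext (by rw [← hx1, reassoc_of% hab]) (by rw [← hx2, reassoc_of% hab])⟩
    let V := pullback t l
    have hV := isPullback_yon_map (IsPullback.of_hasPullback t l)
    let v₁ : V ⟶ U := pullback.fst t l ≫ s
    let vW : V ⟶ W := pullback.snd t l
    have : Flat vW.left := MorphismProperty.of_isPullback (isPullback_left (IsPullback.of_hasPullback t l)) ‹Flat t.left›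
    have : LocallyOfFinitePresentation vW.left :=
      MorphismProperty.of_isPullback (isPullback_left (IsPullback.of_hasPullback t l)) ‹LocallyOfFinitePresentation t.left›
    have hbig : IsPullback ((yon S).map v₁) ((yon S).map vW) p ((yon S).map l ≫ p) := by
      rw [Functor.map_comp]
      exact hV.paste_horiz hR.flip
    have sqP : IsPullback (hP.lift ((yon S).map v₁) ((yon S).map vW ≫ (yon S).map c) (by
        rw [hbig.w, hl, Category.assoc])) ((yon S).map vW) π₂ ((yon S).map c) := by
      refine IsPullback.of_right ?_ (hP.lift_snd _ _ _) hP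
      rw [hP.lift_fst, ← hl]
      exact hbig
    let fst := hP.lift ((yon S).map v₁) ((yon S).map vW ≫ (yon S).map c) (by rw [hbig.w, hl, Category.assoc])
    let c' : U ⨯ W ⟶ U ⨯ T := prod.map (𝟙 U) c
    have sqc : IsPullback (prod.snd : U ⨯ W ⟶ W) c' c prod.snd := by
      refine IsPullback.of_isLimit' ⟨(prod.map_snd _ _).symm⟩ (PullbackCone.IsLimit.mk _
        (fun k => prod.lift (k.snd ≫ prod.fst) k.fst) (fun k => prod.lift_snd _ _) (fun k => ?_) (fun k m h1 h2 => ?_))
      · apply prod.hom_ext
        · rw [Category.assoc, prod.map_fst, Category.comp_id, prod.lift_fst]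
        · rw [Category.assoc, prod.map_snd, prod.lift_snd_assoc]; exact k.condition
      · apply prod.hom_ext
        · rw [prod.lift_fst, ← h2, Category.assoc, prod.map_fst, Category.comp_id]
        · rw [prod.lift_snd]; exact h1
    have hcl' := isPullback_left sqc
    have : Flat c'.left := MorphismProperty.of_isPullback hcl' hcf
    have : LocallyOfFinitePresentation c'.left := MorphismProperty.of_isPullback hcl' hcl
    have : Surjective c'.left := MorphismProperty.of_isPullback hcl' hcs
    let v : V ⟶ U ⨯ W := prod.lift v₁ vW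
    have hvw : v ≫ prod.snd = vW := prod.lift_snd _ _
    have : LocallyOfFiniteType v.left := by
      have : LocallyOfFiniteType (v.left ≫ (prod.snd : U ⨯ W ⟶ W).left) := by
        rw [← Over.comp_left, hvw]; infer_instance
      exact locallyOfFiniteType_of_comp v.left (prod.snd : U ⨯ W ⟶ W).left
    have sqx : IsPullback fst ((yon S).map v) x ((yon S).map c') := by
      refine IsPullback.of_bot (h₃₁ := (yon S).map c) (v₂₁ := (yon S).map (prod.snd : U ⨯ W ⟶ W))
        (v₂₂ := (yon S).map (prod.snd : U ⨯ T ⟶ T)) ?_ ?_ (isPullback_yon_map sqc).flip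
      · rw [← Functor.map_comp, hvw, hx2]
        exact sqP
      · rw [← cancel_mono (prodComparison (yon S) U T)]
        apply prod.hom_ext
        · simp only [Category.assoc, prodComparison_fst, hx1, ← Functor.map_comp, c', prod.map_fst, Category.comp_id,
            v, prod.lift_fst, fst, hP.lift_fst]
        · simp only [Category.assoc, prodComparison_snd, hx2, ← Functor.map_comp, c', prod.map_snd,
            v, prod.lift_snd_assoc, fst, hP.lift_snd]
    obtain ⟨P', ⟨φ⟩⟩ := exists_scheme_of_mono x c' v fst sqx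
    obtain ⟨q, hq⟩ := (yon S).map_surjective (φ.hom ≫ π₂)
    obtain ⟨f', hf'⟩ := (yon S).map_surjective (fst ≫ φ.inv)
    have sq' : IsPullback ((yon S).map f') ((yon S).map vW) ((yon S).map q) ((yon S).map c) := by
      rw [hf', hq]
      exact IsPullback.of_iso sqP (Iso.refl _) φ.symm (Iso.refl _) (Iso.refl _)
        (by simp [fst]) (by simp) (by simp) (by simp)
    have hsl := (isPullback_left (isPullback_of_yon_map sq')).flip
    have hQ : (@Surjective ⊓ @Flat ⊓ @LocallyOfFinitePresentation : MorphismProperty Scheme.{u}) c.left :=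
      ⟨⟨hcs, hcf⟩, hcl⟩
    have hvs : Surjective vW.left := by
      refine ⟨fun w => ?_⟩
      obtain ⟨r, hr1, -⟩ : ∃ r : U ⟶ R, r ≫ t = 𝟙 U ∧ r ≫ s = 𝟙 U := by
        obtain ⟨r, hr⟩ := (yon S).map_surjective (hR.lift (𝟙 _) (𝟙 _) rfl)
        exact ⟨r, (yon S).map_injective (by rw [Functor.map_comp, hr, hR.lift_fst, CategoryTheory.Functor.map_id]),
          (yon S).map_injective (by rw [Functor.map_comp, hr, hR.lift_snd, CategoryTheory.Functor.map_id])⟩
      refine ⟨(pullback.lift (l ≫ r) (𝟙 W) (by rw [Category.assoc, hr1, Category.comp_id, Category.id_comp]) : W ⟶ V).left w, ?_⟩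
      rw [← Scheme.Hom.comp_apply, ← Over.comp_left, pullback.lift_snd]
      rfl
    refine ⟨P', q, φ.hom ≫ π₁, ?_, ⟨MorphismProperty.of_isPullback_of_descendsAlong hsl hQ ‹Flat vW.left›, MorphismProperty.of_isPullback_of_descendsAlong hsl hQ ‹LocallyOfFinitePresentation vW.left›⟩, ⟨fun z => ?_⟩⟩
    · rw [hq]
      exact IsPullback.of_iso hP φ.symm (Iso.refl _) (Iso.refl _) (Iso.refl _)
        (by simp) (by simp) (by simp) (by simp)
    · obtain ⟨w, hw⟩ := hcs.surj z
      obtain ⟨v', hv'⟩ := hvs.surj w
      refine ⟨f'.left v', ?_⟩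
      rw [← Scheme.Hom.comp_apply, hsl.w.symm.trans rfl, Scheme.Hom.comp_apply, hv', hw]
  have he : ∀ {Q : MorphismProperty Scheme.{u}} [Q.RespectsIso], (∀ {X Y : Scheme.{u}} (k : X ⟶ Y),
      (Flat k ∧ LocallyOfFinitePresentation k) → Surjective k → Q k) → RepWith Q p := fun hQ => repWith_of_exists fun T g => by
    obtain ⟨P, q, fst, h1, h2, h3⟩ := hrep g
    exact ⟨P, fst, q, h1, hQ _ h2 h3⟩
  exact ⟨he fun _ h _ => h.1, he fun _ h _ => h.2, he fun _ _ h => h⟩

/-- A representable flat, finitely presented, surjective map is an fppf chart. -/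
theorem isFppfChart_of_repWith {F : Sp S} {U : Over S} {p : (yon S).obj U ⟶ F} (h₁ : RepWith @Flat p)
    (h₂ : RepWith @LocallyOfFinitePresentation p) (h₃ : RepWith @Surjective p) : IsFppfChart p := by
  intro T g P fst snd sq
  obtain ⟨Q, a, b, hQ⟩ := exists_isPullback_yon h₁.1 g
  let e := sq.isoIsPullback _ _ hQ
  exact ⟨(IsAlgSpace.yon_obj Q).of_iso e.symm, locP_of_repWith (repWith_of_isPullback sq h₁),
    locP_of_repWith (repWith_of_isPullback sq h₂),
    surjective_map_of_repWith (repWith_of_isPullback sq h₃)⟩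

/-- The quotient map of a flat equivalence relation of schemes. -/
theorem exists_flat_presentation {R U : Over S} {s t : R ⟶ U} (h : IsEqvRel s t)
    [Flat t.left] [LocallyOfFinitePresentation t.left] :
    ∃ p : (yon S).obj U ⟶ QuotSh.quot Scheme.fppfPrecoverage s t,
      p = (QuotSh.repIsoUliftYoneda Scheme.fppfPrecoverage U).inv ≫ QuotSh.quotπ Scheme.fppfPrecoverage s t ∧
      IsPullback ((yon S).map t) ((yon S).map s) p p ∧ IsFppfChart p ∧
      Representable (Limits.diag (QuotSh.quot Scheme.fppfPrecoverage s t)) ∧ Epi p := by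
  have hepi : Epi (QuotSh.quotπ Scheme.fppfPrecoverage s t) :=
    inferInstanceAs (Epi (coequalizer.π (QuotSh.repMap Scheme.fppfPrecoverage s) (QuotSh.repMap Scheme.fppfPrecoverage t)))
  let p := (QuotSh.repIsoUliftYoneda Scheme.fppfPrecoverage U).inv ≫ QuotSh.quotπ Scheme.fppfPrecoverage s t
  have : Epi p := epi_comp _ _
  have : Sheaf.IsLocallySurjective p := (Sheaf.isLocallySurjective_iff_epi _).2 ‹_›
  obtain ⟨h1, h2, h3⟩ := repWith_flat_surjective_of_kernelPair p (isPullback_quot h)
  exact ⟨p, rfl, isPullback_quot h, isFppfChart_of_repWith h1 h2 h3,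
    representable_diag_of_fppfChart (IsAlgSpace.yon_obj U) (isFppfChart_of_repWith h1 h2 h3), ‹_›⟩

end Groth.Agent.ASp
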