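import Groth.Agent.QFinLib
import Groth.Agent.FpqcDesc.Stalk
import Groth.Agent.FlatLocus.Scheme
import Groth.Agent.Boot.Unity
/-!
The locus where a morphism is flat and quasi-finite.
-/

set_option autoImplicit false
set_option backward.isDefEq.respectTransparency false
set_option backward.isDefEq.respectTransparency.types false

universe u

open CategoryTheory CategoryTheory.Limits AlgebraicGeometry

namespace Groth.Agent.ASp

variable {X Y X' Y' : Scheme.{u}}

/-- `f` is flat and quasi-finite at `x`. -/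
def GoodAt (f : X ⟶ Y) (x : X) : Prop := (f.stalkMap x).hom.Flat ∧ f.QuasiFiniteAt x

theorem isOpen_goodAt (f : X ⟶ Y) [LocallyOfFinitePresentation f] : IsOpen {x | GoodAt f x} :=
  (FlatLocus.isOpen_flat_stalkMap f).inter f.isOpen_quasiFiniteAt

theorem flat_of_forall_goodAt (f : X ⟶ Y) (O : X.Opens) (h : ∀ x ∈ O, GoodAt f x) : Flat (O.ι ≫ f) := by
  refine Flat.of_stalkMap _ fun x => ?_
  exact (FlatDescStalk.flat_stalkMap_comp_iff O.ι f x (Flat.stalkMap O.ι x)).2 (h _ x.2).1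

theorem locallyQuasiFinite_of_forall_quasiFiniteAt (f : X ⟶ Y) [LocallyOfFiniteType f]
    (h : ∀ x, f.QuasiFiniteAt x) : LocallyQuasiFinite f := by
  rw [locallyQuasiFinite_iff_isDiscrete_preimage_singleton]
  intro s
  rw [isDiscrete_iff_discreteTopology]
  suffices DiscreteTopology ↑(f.fiber s) from (f.fiberHomeo s).discreteTopology
  rw [discreteTopology_iff_isOpen_singleton]
  intro z
  obtain ⟨⟨y, rfl⟩, rfl⟩ := (f.fiberHomeo s).symm.surjective z
  exact (Scheme.Hom.quasiFiniteAt_iff_isOpen_singleton_asFiber (f := f) (x := y)).1 (h y)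

theorem locallyQuasiFinite_of_forall_goodAt (f : X ⟶ Y) [LocallyOfFiniteType f] (O : X.Opens)
    (h : ∀ x ∈ O, GoodAt f x) : LocallyQuasiFinite (O.ι ≫ f) :=
  locallyQuasiFinite_of_forall_quasiFiniteAt _ fun x =>
    Scheme.Hom.quasiFiniteAt_comp_iff_of_isOpenImmersion.2 (h _ x.2).2

theorem flat_stalkMap_comp (f : X ⟶ Y) {Z : Scheme.{u}} (g : Y ⟶ Z) (k : X ⟶ Z) (e : k = f ≫ g) (x : X)
    (hf : (f.stalkMap x).hom.Flat) (hg : (g.stalkMap (f x)).hom.Flat) : (k.stalkMap x).hom.Flat := by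
  subst e
  exact (FlatDescStalk.flat_stalkMap_comp_iff f g x hf).2 hg

theorem flat_stalkMap_of_isPullback {a : X' ⟶ X} {f' : X' ⟶ Y'} {f : X ⟶ Y} {h : Y' ⟶ Y}
    (sq : IsPullback a f' f h) [LocallyOfFinitePresentation f] (x' : X')
    (hf : (f.stalkMap (a x')).hom.Flat) : (f'.stalkMap x').hom.Flat := by
  let O : X.Opens := ⟨_, FlatLocus.isOpen_flat_stalkMap f⟩
  haveI : Flat (O.ι ≫ f) := Flat.of_stalkMap _ fun x =>
    (FlatDescStalk.flat_stalkMap_comp_iff O.ι f x (Flat.stalkMap O.ι x)).2 x.2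
  haveI : Flat ((a ⁻¹ᵁ O).ι ≫ f') :=
    MorphismProperty.of_isPullback (P := @Flat) ((isPullback_morphismRestrict a O).paste_vert sq) ‹_›
  exact (FlatDescStalk.flat_stalkMap_comp_iff (a ⁻¹ᵁ O).ι f' ⟨x', hf⟩ (Flat.stalkMap _ _)).1
    (Flat.stalkMap _ _)

theorem flat_stalkMap_descend {a : X' ⟶ X} {f' : X' ⟶ Y'} {f : X ⟶ Y} {h : Y' ⟶ Y}
    (sq : IsPullback a f' f h) [Flat h] (x' : X')
    (hf : (f'.stalkMap x').hom.Flat) : (f.stalkMap (a x')).hom.Flat := by
  haveI : Flat a := MorphismProperty.of_isPullback (P := @Flat) sq.flip ‹_›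
  exact (FlatDescStalk.flat_stalkMap_comp_iff a f x' (Flat.stalkMap a x')).1
    (flat_stalkMap_comp f' h (a ≫ f) sq.w x' hf (Flat.stalkMap h _))

theorem goodAt_of_isPullback {a : X' ⟶ X} {f' : X' ⟶ Y'} {f : X ⟶ Y} {h : Y' ⟶ Y}
    (sq : IsPullback a f' f h) [LocallyOfFinitePresentation f] {x' : X'} (hf : GoodAt f (a x')) :
    GoodAt f' x' :=
  ⟨flat_stalkMap_of_isPullback sq x' hf.1, (QFinLib.quasiFiniteAt_baseChange_iff f sq x').2 hf.2⟩

theorem goodAt_iff_of_isPullback {a : X' ⟶ X} {f' : X' ⟶ Y'} {f : X ⟶ Y} {h : Y' ⟶ Y}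
    (sq : IsPullback a f' f h) [LocallyOfFinitePresentation f] [Flat h] (x' : X') :
    GoodAt f' x' ↔ GoodAt f (a x') :=
  ⟨fun hf => ⟨flat_stalkMap_descend sq x' hf.1, (QFinLib.quasiFiniteAt_baseChange_iff f sq x').1 hf.2⟩,
    goodAt_of_isPullback sq⟩

open Groth.Agent.Boot in
/-- A flat, finitely presented map to affine space with nonempty source hits a point whose coordinates
are roots of unity. -/
theorem exists_unity_point_flat {K : Type u} [Field K] [IsAlgClosed K] {d : ℕ} {C₀ : Scheme.{u}}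
    (φ : C₀ ⟶ AS d (Spec (CommRingCat.of K))) [Flat φ] [LocallyOfFinitePresentation φ] [Nonempty C₀] :
    ∃ (m : ℕ) (e : Fin d → ℕ) (ζ : K), ζ ^ (m + 1) = 1 ∧ ((m + 1 : ℕ) : K) ≠ 0 ∧
      ∃ c : Spec (CommRingCat.of K) ⟶ C₀, c ≫ φ = ptAS (𝟙 _) fun i => ζ ^ e i := by
  let I := AffineSpace.SpecIso (ULift.{u} (Fin d)) (CommRingCat.of K)
  let ψ := φ ≫ I.hom
  haveI : Flat ψ := inferInstance
  haveI : LocallyOfFinitePresentation ψ := inferInstance
  have hne : (Set.range ψ).Nonempty := Set.range_nonempty _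
  obtain ⟨p, hp⟩ := hne
  obtain ⟨_, ⟨g, rfl⟩, hpg, hgΩ⟩ :=
    PrimeSpectrum.isTopologicalBasis_basic_opens.exists_subset_of_mem_open hp ψ.isOpenMap.isOpen_range
  have hg0 : g ≠ 0 := fun h => hpg (h ▸ zero_mem _)
  let U₀ : Set K := {x | ∃ n : ℕ, (n : K) ≠ 0 ∧ x ^ n = 1}
  obtain ⟨a, haU, hag⟩ : ∃ a : ULift.{u} (Fin d) → K, (∀ i, a i ∈ U₀) ∧ MvPolynomial.eval a g ≠ 0 := by
    by_contra h
    push Not at h
    exact hg0 (MvPolynomial.funext_set (s := fun _ => U₀) (fun _ => infinite_setOf_unity K)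
      fun x hx => by rw [map_zero]; exact h x fun i => hx i trivial)
  choose n hnK hn using haU
  let M := ∏ i, n i
  have hMK : (M : K) ≠ 0 := by
    rw [Nat.cast_prod]; exact Finset.prod_ne_zero_iff.2 fun i _ => hnK i
  have hM0 : M ≠ 0 := fun h => hMK (by rw [h, Nat.cast_zero])
  haveI : NeZero (M : K) := ⟨hMK⟩
  obtain ⟨m, hm⟩ : ∃ m, M = m + 1 := ⟨M - 1, by omega⟩
  obtain ⟨ζ, hζ⟩ := HasEnoughRootsOfUnity.exists_primitiveRoot K M
  haveI : NeZero M := ⟨hM0⟩
  have he : ∀ i, ∃ k : ℕ, ζ ^ k = a i := fun i => by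
    obtain ⟨k, -, hk⟩ := hζ.eq_pow_of_pow_eq_one (ξ := a i) (by
      obtain ⟨c, hc⟩ : n i ∣ M := Finset.dvd_prod_of_mem n (Finset.mem_univ i)
      rw [hc, pow_mul, hn, one_pow])
    exact ⟨k, hk⟩
  choose e he using he
  let e' : Fin d → ℕ := fun i => e ⟨i⟩
  refine ⟨m, e', ζ, hm ▸ hζ.pow_eq_one, hm ▸ hMK, ?_⟩
  let x₀ := ptAS (𝟙 (Spec (CommRingCat.of K))) fun i => ζ ^ e' i
  let ev : CommRingCat.of (MvPolynomial (ULift.{u} (Fin d)) K) ⟶ CommRingCat.of K :=
    CommRingCat.ofHom (MvPolynomial.eval a)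
  have hx₀ : x₀ = Spec.map ev ≫ I.inv := by
    refine AffineSpace.hom_ext ?_ fun i => ?_
    · rw [Category.assoc, AffineSpace.SpecIso_inv_over, ← Spec.map_comp,
        show CommRingCat.ofHom MvPolynomial.C ≫ ev = 𝟙 _ from
          CommRingCat.hom_ext (RingHom.ext fun c => MvPolynomial.eval_C c), Spec.map_id]
      exact AffineSpace.homOfVector_over _ _
    · rw [Scheme.Hom.comp_appTop, CommRingCat.comp_apply, AffineSpace.SpecIso_inv_appTop_coord,
        ← CommRingCat.comp_apply, ← Scheme.ΓSpecIso_inv_naturality, CommRingCat.comp_apply]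
      change (ptAS _ _).appTop _ = _
      rw [ptAS, AffineSpace.homOfVector_appTop_coord]
      refine congrArg _ ?_
      change ζ ^ e i = MvPolynomial.eval a (MvPolynomial.X i)
      rw [MvPolynomial.eval_X, he]
  let pt : ↥(Spec (CommRingCat.of K)) := IsLocalRing.closedPoint K
  obtain ⟨y, hy⟩ : (Spec.map ev) pt ∈ Set.range ψ := hgΩ fun hmem => hag (by
    have h0 : MvPolynomial.eval a g ∈ pt.asIdeal := hmem
    rw [show pt.asIdeal = ⊥ from (Ideal.eq_bot_or_top _).resolve_right pt.isPrime.ne_top, Ideal.mem_bot] at h0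
    exact h0)
  have hyx : φ y = x₀ pt := by
    rw [hx₀, Scheme.Hom.comp_apply, ← hy, ← Scheme.Hom.comp_apply, Category.assoc, Iso.hom_inv_id, Category.comp_id]
  obtain ⟨z, -, -⟩ := Scheme.Pullback.exists_preimage_pullback y pt hyx
  let Cx := pullback φ x₀
  let pr : Cx ⟶ Spec (CommRingCat.of K) := pullback.snd φ x₀
  haveI : LocallyOfFinitePresentation pr := MorphismProperty.pullback_snd _ _ ‹_›
  haveI : JacobsonSpace ↥Cx := LocallyOfFiniteType.jacobsonSpace pr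
  obtain ⟨w, -, hw⟩ := nonempty_inter_closedPoints (Z := (Set.univ : Set ↥Cx)) ⟨z, trivial⟩ isOpen_univ.isLocallyClosed
  refine ⟨pointOfClosedPoint pr w hw ≫ pullback.fst φ x₀, ?_⟩
  rw [Category.assoc, pullback.condition, pointOfClosedPoint_comp_assoc]

end Groth.Agent.ASp
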