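import Groth.Agent.ASp.CellScheme
import Groth.Agent.ASp.FlatQuot
import Groth.Agent.ASp.GoodAt
import Groth.Agent.ASp.Sub
/-!
The sheaf of finite free open pieces, with a prescribed basis, of the base changes of an affine chart.
-/

set_option autoImplicit false
set_option backward.isDefEq.respectTransparency false
set_option backward.isDefEq.respectTransparency.types false

universe u

open CategoryTheory CategoryTheory.Limits AlgebraicGeometry Opposite

namespace Groth.Agent.ASp.Cell

open _root_.AlgSp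

variable {S : Scheme.{u}}

/-- A covering sieve contains a jointly surjective family of flat maps of finite presentation. -/
theorem exists_fppf_family {T : Over S} {R : Sieve T} (hR : R ∈ (J S) T) :
    ∃ (ι : Type u) (Y : ι → Over S) (k : ∀ x, Y x ⟶ T), (∀ x, R (k x)) ∧ (∀ x, Flat (k x).left) ∧
      (∀ x, LocallyOfFinitePresentation (k x).left) ∧ ∀ t : ↥T.left, ∃ x, t ∈ Set.range (k x).left := by
  have : (min (α := MorphismProperty Scheme.{u}) @Flat @LocallyOfFinitePresentation).ContainsIdentities :=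
    ⟨fun X => ⟨(inferInstance : Flat (𝟙 X)), (inferInstance : LocallyOfFinitePresentation (𝟙 X))⟩⟩
  have : Scheme.fppfPrecoverage.{u}.HasIsos := inferInstanceAs
    ((Scheme.precoverage (min (α := MorphismProperty Scheme.{u}) @Flat @LocallyOfFinitePresentation)).HasIsos)
  have : Scheme.fppfPrecoverage.{u}.HasPullbacks := inferInstanceAs
    ((Scheme.precoverage (min (α := MorphismProperty Scheme.{u}) @Flat @LocallyOfFinitePresentation)).HasPullbacks)
  rw [GrothendieckTopology.mem_over_iff, Precoverage.mem_toGrothendieck_iff_of_isStableUnderComposition] at hR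
  obtain ⟨R₀, hR₀, hle⟩ := hR
  have hex : ∀ x : ↥T.left, ∃ (Y : Scheme.{u}) (k : Y ⟶ T.left), R₀ k ∧ x ∈ Set.range k := fun x => by
    obtain ⟨Y, k, ⟨hk⟩, hY⟩ := hR₀.1 x
    exact ⟨_, _, hk, hY⟩
  choose Y k hk hY using hex
  refine ⟨↥T.left, fun x => Over.mk (k x ≫ T.hom), fun x => Over.homMk (k x) rfl, fun x => ?_,
    fun x => (hR₀.2 (hk x)).1, fun x => (hR₀.2 (hk x)).2, fun t => ⟨t, hY t⟩⟩
  obtain ⟨Z, a, b, ha, hb⟩ := hle _ _ (hk x)
  let b' : Over.mk (k x ≫ T.hom) ⟶ Z := Over.homMk b (by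
    change b ≫ Z.hom = k x ≫ T.hom
    rw [← Over.w a]
    exact (Category.assoc _ _ _).symm.trans (congrArg (· ≫ T.hom) hb.symm))
  show R (Over.homMk (k x) rfl : Over.mk (k x ≫ T.hom) ⟶ T)
  rw [show (Over.homMk (k x) rfl : Over.mk (k x ≫ T.hom) ⟶ T) = b' ≫ a from Over.OverMorphism.ext hb]
  exact R.downward_closed ha b'

variable {F : Sp S} {W : Over S} [IsAffine W.left] (p : (yon S).obj W ⟶ F)
variable {d : ℕ} (a : Fin d → Γ(W.left, ⊤))

/-- The parameter scheme over the base. -/
noncomputable def MS : Over S := Over.mk (pullback.snd (terminal.from (M0 a)) (terminal.from S))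

/-- The classifying map to the universal ring's spectrum. -/
noncomputable def toM {T : Over S} (m : T ⟶ MS a) : T.left ⟶ M0 a := m.left ≫ pullback.fst _ _

/-- The map to the parameter scheme of a classifying map. -/
noncomputable def ofM {T : Over S} (m : T.left ⟶ M0 a) : T ⟶ MS a :=
  Over.homMk (pullback.lift m T.hom (terminal.hom_ext _ _)) (pullback.lift_snd _ _ _)

theorem toM_ofM {T : Over S} (m : T.left ⟶ M0 a) : toM a (ofM a m) = m := pullback.lift_fst _ _ _

theorem toM_injective {T : Over S} {m₁ m₂ : T ⟶ MS a} (h : toM a m₁ = toM a m₂) : m₁ = m₂ :=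
  Over.OverMorphism.ext (pullback.hom_ext h ((Over.w m₁).trans (Over.w m₂).symm))

theorem toM_comp {T T' : Over S} (l : T' ⟶ T) (m : T ⟶ MS a) : toM a (l ≫ m) = l.left ≫ toM a m :=
  Category.assoc _ _ _

/-- The pair `(m, g)` is a cell: the pulled back family is an open piece of the base change of the chart. -/
def IsCell (T : Over S) (m : T ⟶ MS a) (g : (yon S).obj T ⟶ F) : Prop :=
  ∃ (Wg : Over S) (fst : Wg ⟶ W) (snd : Wg ⟶ T),
    IsPullback ((yon S).map fst) ((yon S).map snd) p g ∧
    ∃ (Z : Over S) (zt : Z ⟶ T) (n : Z.left ⟶ Z0 a), IsPullback n zt.left (π0 a) (toM a m) ∧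
    ∃ k : Z ⟶ Wg, k ≫ snd = zt ∧ (k ≫ fst).left = n ≫ zW a ∧ Flat k.left

variable {p a}

theorem IsCell.exists_lift {T : Over S} {m : T ⟶ MS a} {g : (yon S).obj T ⟶ F} (h : IsCell p a T m g)
    {Wg : Over S} {fst : Wg ⟶ W} {snd : Wg ⟶ T} (sqW : IsPullback ((yon S).map fst) ((yon S).map snd) p g)
    {Z : Over S} {zt : Z ⟶ T} {n : Z.left ⟶ Z0 a} (sq : IsPullback n zt.left (π0 a) (toM a m)) :
    ∃ k : Z ⟶ Wg, k ≫ snd = zt ∧ (k ≫ fst).left = n ≫ zW a ∧ Flat k.left := by
  obtain ⟨Wg', fst', snd', sqW', Z', zt', n', sq', k', hk1, hk2, hk3⟩ := h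
  let e := sq.isoIsPullback _ _ sq'
  let eS : Z ⟶ Z' := Over.homMk e.hom (by
    rw [← Over.w zt', ← Category.assoc]
    exact (congrArg (· ≫ T.hom) (IsPullback.isoIsPullback_hom_snd _ _ _ _)).trans (Over.w zt))
  obtain ⟨j, hj⟩ := (yon S).map_surjective (sqW'.isoIsPullback _ _ sqW).hom
  haveI : IsIso ((yon S).map j) := by rw [hj]; infer_instance
  haveI : IsIso j := isIso_of_fully_faithful (yon S) j
  have hj1 : j ≫ fst = fst' := (yon S).map_injective (by
    rw [Functor.map_comp, hj, IsPullback.isoIsPullback_hom_fst])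
  have hj2 : j ≫ snd = snd' := (yon S).map_injective (by
    rw [Functor.map_comp, hj, IsPullback.isoIsPullback_hom_snd])
  haveI : IsIso j.left := inferInstanceAs (IsIso ((Over.forget S).map j))
  haveI : IsIso eS.left := inferInstanceAs (IsIso e.hom)
  refine ⟨eS ≫ k' ≫ j, ?_, ?_, ?_⟩
  · rw [Category.assoc, Category.assoc, hj2, hk1]
    exact Over.OverMorphism.ext (IsPullback.isoIsPullback_hom_snd _ _ _ _)
  · rw [Category.assoc, Category.assoc, hj1, Over.comp_left, hk2, ← Category.assoc]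
    exact congrArg (· ≫ zW a) (IsPullback.isoIsPullback_hom_fst _ _ _ _)
  · haveI : Flat k'.left := hk3
    exact inferInstanceAs (Flat (eS.left ≫ k'.left ≫ j.left))

theorem IsCell.comp {T T' : Over S} {m : T ⟶ MS a} {g : (yon S).obj T ⟶ F} (h : IsCell p a T m g)
    (l : T' ⟶ T) : IsCell p a T' (l ≫ m) ((yon S).map l ≫ g) := by
  obtain ⟨Wg, fst, snd, sqW, Z, zt, n, sq, k, hk1, hk2, hk3⟩ := h
  have sqW' := ((IsPullback.of_hasPullback snd l).map (yon S)).paste_horiz sqW
  rw [← Functor.map_comp] at sqW'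
  have sqZ := isPullback_left (IsPullback.of_hasPullback zt l)
  have sq' := sqZ.paste_horiz sq
  rw [← toM_comp] at sq'
  let k' : pullback zt l ⟶ pullback snd l :=
    pullback.lift (pullback.fst zt l ≫ k) (pullback.snd zt l) (by rw [Category.assoc, hk1, pullback.condition])
  refine ⟨_, _, _, sqW', _, _, _, sq', k', pullback.lift_snd _ _ _, ?_, ?_⟩
  · rw [show k' ≫ pullback.fst snd l ≫ fst = pullback.fst zt l ≫ k ≫ fst from by
      rw [pullback.lift_fst_assoc, Category.assoc], Over.comp_left, hk2, Category.assoc]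
  · have sqk : IsPullback (pullback.fst zt l) k' k (pullback.fst snd l) := by
      refine IsPullback.of_bot ?_ (pullback.lift_fst _ _ _).symm (IsPullback.of_hasPullback snd l)
      rw [hk1, show k' ≫ pullback.snd snd l = pullback.snd zt l from pullback.lift_snd _ _ _]
      exact IsPullback.of_hasPullback zt l
    exact MorphismProperty.of_isPullback (P := @Flat) (isPullback_left sqk) hk3

/-- Being a cell is local for flat, finitely presented coverings. -/
theorem IsCell.of_family (hp : Representable p) {T : Over S} {m : T ⟶ MS a} {g : (yon S).obj T ⟶ F}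
    {ι : Type u} (Y : ι → Over S) (l : ∀ x, Y x ⟶ T) (hlf : ∀ x, Flat (l x).left)
    (hlp : ∀ x, LocallyOfFinitePresentation (l x).left) (hls : ∀ t : ↥T.left, ∃ x, t ∈ Set.range (l x).left)
    (h : ∀ x, IsCell p a (Y x) (l x ≫ m) ((yon S).map (l x) ≫ g)) : IsCell p a T m g := by
  obtain ⟨Wg, fst, snd, sqW⟩ := exists_isPullback_yon hp g
  let Z : Over S := Over.mk (pullback.snd (π0 a) (toM a m) ≫ T.hom)
  let zt : Z ⟶ T := Over.homMk (pullback.snd _ _) rfl
  let n : Z.left ⟶ Z0 a := pullback.fst (π0 a) (toM a m)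
  have sq : IsPullback n zt.left (π0 a) (toM a m) := IsPullback.of_hasPullback _ _
  let Zx : ι → Over S := fun x => pullback zt (l x)
  have sqx : ∀ x, IsPullback ((pullback.fst zt (l x)).left ≫ n) (pullback.snd zt (l x)).left (π0 a)
      (toM a (l x ≫ m)) := fun x => by
    rw [toM_comp]
    exact (isPullback_left (IsPullback.of_hasPullback zt (l x))).paste_horiz sq
  choose kx hk1 hk2 hk3 using fun x => (h x).exists_lift
    (fst := pullback.fst snd (l x) ≫ fst) (snd := pullback.snd snd (l x))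
    (by rw [Functor.map_comp]; exact ((IsPullback.of_hasPullback snd (l x)).map (yon S)).paste_horiz sqW) (sqx x)
  -- glue
  let C : Over S := Over.mk (Limits.Sigma.desc fun x => (Zx x).hom)
  let ιx : ∀ x, Zx x ⟶ C := fun x => Over.homMk (Sigma.ι (fun x => (Zx x).left) x) (Sigma.ι_desc _ _)
  let c : C ⟶ Z := Over.homMk (Limits.Sigma.desc fun x => (pullback.fst zt (l x)).left)
    (Sigma.hom_ext _ _ fun x => by
      change Sigma.ι (fun x => (Zx x).left) x ≫ _ ≫ Z.hom = Sigma.ι (fun x => (Zx x).left) x ≫ _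
      rw [Sigma.ι_desc_assoc]
      exact (Over.w _).trans (Sigma.ι_desc (fun x => (Zx x).hom) x).symm)
  let kC : C ⟶ Wg := Over.homMk (Limits.Sigma.desc fun x => (kx x ≫ pullback.fst snd (l x)).left)
    (Sigma.hom_ext _ _ fun x => by
      change Sigma.ι (fun x => (Zx x).left) x ≫ _ ≫ Wg.hom = Sigma.ι (fun x => (Zx x).left) x ≫ _
      rw [Sigma.ι_desc_assoc]
      exact (Over.w _).trans (Sigma.ι_desc (fun x => (Zx x).hom) x).symm)
  have hc_snd : kC ≫ snd = c ≫ zt := Over.OverMorphism.ext (Sigma.hom_ext _ _ fun x => by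
    change Sigma.ι (fun x => (Zx x).left) x ≫ Limits.Sigma.desc _ ≫ snd.left =
      Sigma.ι (fun x => (Zx x).left) x ≫ Limits.Sigma.desc _ ≫ zt.left
    rw [Sigma.ι_desc_assoc, Sigma.ι_desc_assoc, ← Over.comp_left, ← Over.comp_left, Category.assoc,
      pullback.condition, reassoc_of% (hk1 x), pullback.condition])
  have hc_fst : (kC ≫ fst).left = c.left ≫ n ≫ zW a := Sigma.hom_ext _ _ fun x => by
    change Sigma.ι (fun x => (Zx x).left) x ≫ Limits.Sigma.desc _ ≫ fst.left =
      Sigma.ι (fun x => (Zx x).left) x ≫ Limits.Sigma.desc _ ≫ n ≫ zW a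
    rw [Sigma.ι_desc_assoc, Sigma.ι_desc_assoc, ← Over.comp_left, Category.assoc, hk2, Category.assoc]
  haveI : Flat c.left := IsZariskiLocalAtSource.sigmaDesc fun x =>
    MorphismProperty.of_isPullback (P := @Flat) (isPullback_left (IsPullback.of_hasPullback zt (l x))).flip (hlf x)
  haveI : LocallyOfFinitePresentation c.left := IsZariskiLocalAtSource.sigmaDesc fun x =>
    MorphismProperty.of_isPullback (P := @LocallyOfFinitePresentation)
      (isPullback_left (IsPullback.of_hasPullback zt (l x))).flip (hlp x)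
  haveI : Surjective c.left := ⟨fun z => by
    obtain ⟨x, y, hy⟩ := hls (zt.left z)
    have sqp := isPullback_left (IsPullback.of_hasPullback zt (l x))
    obtain ⟨w, hw, -⟩ := Scheme.Pullback.exists_preimage_pullback z y hy.symm
    refine ⟨Sigma.ι (fun x => (Zx x).left) x (sqp.isoPullback.inv w), ?_⟩
    change (Sigma.ι (fun x => (Zx x).left) x ≫ Limits.Sigma.desc fun x => (pullback.fst zt (l x)).left) _ = z
    rw [Sigma.ι_desc, ← Scheme.Hom.comp_apply, sqp.isoPullback_inv_fst]
    exact hw⟩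
  haveI : Sheaf.IsLocallySurjective ((yon S).map c) := isLocallySurjective_of_repWith
    (repWith_yon_map (P := @Flat) ‹_›) (repWith_yon_map (P := @LocallyOfFinitePresentation) ‹_›)
    (repWith_yon_map (P := @Surjective) ‹_›)
  haveI : Epi ((yon S).map c) := (Sheaf.isLocallySurjective_iff_epi _).1 ‹_›
  haveI : Epi c.left := Flat.epi_of_flat_of_surjective _
  let C₂ := pullback c c
  obtain ⟨K, hK⟩ := exists_desc_of_epi ((yon S).map c) ((IsPullback.of_hasPullback c c).map (yon S))
    ((yon S).map kC) (sqW.hom_ext (by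
      rw [← Functor.map_comp, ← Functor.map_comp, ← Functor.map_comp, ← Functor.map_comp]
      refine congrArg (yon S).map (Over.OverMorphism.ext ?_)
      rw [Category.assoc, Category.assoc, Over.comp_left, Over.comp_left _ _ _ (pullback.snd c c), hc_fst,
        ← Category.assoc, ← Category.assoc (pullback.snd c c).left, ← Over.comp_left, ← Over.comp_left,
        pullback.condition])
      (by
      rw [← Functor.map_comp, ← Functor.map_comp, ← Functor.map_comp, ← Functor.map_comp, Category.assoc,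
        Category.assoc, hc_snd, pullback.condition_assoc]))
  obtain ⟨k, rfl⟩ := (yon S).map_surjective K
  have hck : c ≫ k = kC := (yon S).map_injective (by rw [Functor.map_comp, hK])
  have hks : k ≫ snd = zt := (yon S).map_injective (by
    rw [← cancel_epi ((yon S).map c), ← Functor.map_comp, ← Functor.map_comp, reassoc_of% hck, hc_snd])
  refine ⟨Wg, fst, snd, sqW, Z, zt, n, sq, k, hks, ?_, ?_⟩
  · rw [← cancel_epi c.left, ← hc_fst, ← hck]
    rfl
  · refine Flat.of_stalkMap _ fun z => ?_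
    obtain ⟨w, rfl⟩ := c.left.surjective z
    obtain ⟨x, w', rfl⟩ : ∃ x w', Sigma.ι (fun x => (Zx x).left) x w' = w :=
      (sigmaOpenCover fun x => (Zx x).left).exists_eq w
    suffices ∀ z, (pullback.fst zt (l x)).left w' = z → (k.left.stalkMap z).hom.Flat from
      this _ (congrArg (fun f => f w') (Sigma.ι_desc (fun x => (pullback.fst zt (l x)).left) x).symm)
    rintro _ rfl
    have sqk : IsPullback (pullback.fst zt (l x)) (kx x) k (pullback.fst snd (l x)) := by
      refine IsPullback.of_bot ?_ ?_ (IsPullback.of_hasPullback snd (l x))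
      · rw [hks, hk1]
        exact IsPullback.of_hasPullback zt (l x)
      · have e : kx x ≫ pullback.fst snd (l x) = ιx x ≫ kC := Over.OverMorphism.ext (by
          change _ = Sigma.ι (fun x => (Zx x).left) x ≫ Limits.Sigma.desc _
          rw [Sigma.ι_desc])
        rw [e, ← hck, ← Category.assoc]
        congr 1
        exact Over.OverMorphism.ext (by
          change _ = Sigma.ι (fun x => (Zx x).left) x ≫ Limits.Sigma.desc _
          rw [Sigma.ι_desc])
    haveI := hk3 x
    haveI : Flat (pullback.fst snd (l x)).left := MorphismProperty.of_isPullback (P := @Flat)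
      (isPullback_left (IsPullback.of_hasPullback snd (l x))).flip (hlf x)
    exact flat_stalkMap_descend (isPullback_left sqk) w' (Flat.stalkMap _ _)

variable (p a)

/-- A section of `M × F` is a cell. -/
def IsCellHom {T : Over S} (φ : (yon S).obj T ⟶ (yon S).obj (MS a) ⨯ F) : Prop :=
  ∃ m : T ⟶ MS a, (yon S).map m = φ ≫ prod.fst ∧ IsCell p a T m (φ ≫ prod.snd)

/-- The subfunctor of cells. -/
noncomputable def cellSub : Subfunctor ((yon S).obj (MS a) ⨯ F).obj where
  obj U := {s | IsCellHom p a ((J S).uliftYonedaEquiv.{u+1}.symm s :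
    (yon S).obj U.unop ⟶ (yon S).obj (MS a) ⨯ F)}
  map := by
    intro U V i s ⟨m, hm, hc⟩
    have e : ((J S).uliftYonedaEquiv.{u+1}.symm (((yon S).obj (MS a) ⨯ F).obj.map i s) :
        (yon S).obj V.unop ⟶ (yon S).obj (MS a) ⨯ F) =
        (yon S).map i.unop ≫ (J S).uliftYonedaEquiv.{u+1}.symm s := by
      apply (J S).uliftYonedaEquiv.{u+1}.injective
      rw [← GrothendieckTopology.uliftYonedaEquiv_naturality.{u+1}, Equiv.apply_symm_apply,
        Equiv.apply_symm_apply]
      rfl
    change IsCellHom p a _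
    rw [e]
    exact ⟨i.unop ≫ m, by rw [Functor.map_comp, hm, Category.assoc], by rw [Category.assoc]; exact hc.comp _⟩

theorem cellSub_isSheaf (hp : Representable p) : Presheaf.IsSheaf (J S) (cellSub p a).toFunctor := by
  rw [isSheaf_iff_isSheaf_of_type,
    Subfunctor.isSheaf_iff _ ((isSheaf_iff_isSheaf_of_type _ _).1 ((yon S).obj (MS a) ⨯ F).2)]
  intro U s hs
  obtain ⟨ι, Y, k, hk, hkf, hkl, hks⟩ := exists_fppf_family hs
  obtain ⟨m, hm⟩ := (yon S).map_surjective
    (((J S).uliftYonedaEquiv.{u+1}.symm s : (yon S).obj U.unop ⟶ (yon S).obj (MS a) ⨯ F) ≫ prod.fst)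
  refine ⟨m, hm, IsCell.of_family hp Y k hkf hkl hks fun x => ?_⟩
  have e : ((J S).uliftYonedaEquiv.{u+1}.symm (((yon S).obj (MS a) ⨯ F).obj.map (k x).op s) :
      (yon S).obj (Y x) ⟶ (yon S).obj (MS a) ⨯ F) =
      (yon S).map (k x) ≫ (J S).uliftYonedaEquiv.{u+1}.symm s := by
    apply (J S).uliftYonedaEquiv.{u+1}.injective
    rw [← GrothendieckTopology.uliftYonedaEquiv_naturality.{u+1}, Equiv.apply_symm_apply,
      Equiv.apply_symm_apply]
  obtain ⟨m', hm', hc⟩ := hk x
  rw [show ((J S).uliftYonedaEquiv.{u+1}.symm (((yon S).obj (MS a) ⨯ F).obj.map (k x).op s) :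
    (yon S).obj (Y x) ⟶ (yon S).obj (MS a) ⨯ F) = _ from e] at hm' hc
  obtain rfl : m' = k x ≫ m := (yon S).map_injective (by rw [hm', Functor.map_comp, hm, Category.assoc])
  rwa [Category.assoc] at hc

/-- The sheaf of cells. -/
noncomputable def cellSp (hp : Representable p) : Sp S := ⟨(cellSub p a).toFunctor, cellSub_isSheaf p a hp⟩

/-- Its inclusion. -/
noncomputable def cellι (hp : Representable p) : cellSp p a hp ⟶ (yon S).obj (MS a) ⨯ F := ⟨(cellSub p a).ι⟩

instance (hp : Representable p) : Mono (cellι p a hp) := by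
  refine ⟨fun f g h => Sheaf.hom_ext ?_⟩
  ext U x
  exact Subtype.ext (congr_fun (congr_arg (fun φ => (φ.hom.app U : _ → _)) h) x)

theorem isCellHom_comp_ι (hp : Representable p) {T : Over S} (b : (yon S).obj T ⟶ cellSp p a hp) :
    IsCellHom p a (b ≫ cellι p a hp) := by
  have h := ((J S).uliftYonedaEquiv.{u+1} b).2
  change IsCellHom p a _ at h
  rwa [show ((J S).uliftYonedaEquiv.{u+1}.symm ((J S).uliftYonedaEquiv.{u+1} b).1 :
      (yon S).obj T ⟶ (yon S).obj (MS a) ⨯ F) = b ≫ cellι p a hp from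
    (J S).uliftYonedaEquiv.{u+1}.injective (by rw [Equiv.apply_symm_apply]; rfl)] at h

theorem exists_of_isCell (hp : Representable p) {T : Over S} {m : T ⟶ MS a} {g : (yon S).obj T ⟶ F}
    (h : IsCell p a T m g) : ∃ b : (yon S).obj T ⟶ cellSp p a hp,
      b ≫ cellι p a hp = prod.lift ((yon S).map m) g := by
  let φ := prod.lift ((yon S).map m) g
  have hφ : IsCellHom p a φ := ⟨m, (prod.lift_fst _ _).symm, by rwa [prod.lift_snd]⟩
  refine ⟨(J S).uliftYonedaEquiv.{u+1}.symm ⟨(J S).uliftYonedaEquiv.{u+1} φ, ?_⟩,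
    (J S).uliftYonedaEquiv.{u+1}.injective ?_⟩
  · change IsCellHom p a _
    rwa [Equiv.symm_apply_apply]
  · rw [GrothendieckTopology.uliftYonedaEquiv_comp, Equiv.apply_symm_apply]
    rfl

/-- A cell is determined by its classifying map. -/
theorem mono_cell_fst (hp : Representable p) (hd : 0 < d) {T : Over S} {m : T ⟶ MS a}
    {g₁ g₂ : (yon S).obj T ⟶ F} (h₁ : IsCell p a T m g₁) (h₂ : IsCell p a T m g₂) : g₁ = g₂ := by
  obtain ⟨W₁, f₁, s₁, sq₁⟩ := exists_isPullback_yon hp g₁
  obtain ⟨W₂, f₂, s₂, sq₂⟩ := exists_isPullback_yon hp g₂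
  let Z : Over S := Over.mk (pullback.snd (π0 a) (toM a m) ≫ T.hom)
  let zt : Z ⟶ T := Over.homMk (pullback.snd _ _) rfl
  have sq : IsPullback (pullback.fst (π0 a) (toM a m)) zt.left (π0 a) (toM a m) := IsPullback.of_hasPullback _ _
  obtain ⟨k₁, hk₁, hk₁', -⟩ := h₁.exists_lift sq₁ (Z := Z) (zt := zt) (n := pullback.fst (π0 a) (toM a m)) sq
  obtain ⟨k₂, hk₂, hk₂', -⟩ := h₂.exists_lift sq₂ (Z := Z) (zt := zt) (n := pullback.fst (π0 a) (toM a m)) sq
  have hw : k₁ ≫ f₁ = k₂ ≫ f₂ := Over.OverMorphism.ext (hk₁'.trans hk₂'.symm)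
  haveI := surjective_π0 a hd
  haveI : Flat zt.left := inferInstanceAs (Flat (pullback.snd _ _))
  haveI : LocallyOfFinitePresentation zt.left := inferInstanceAs (LocallyOfFinitePresentation (pullback.snd _ _))
  haveI : Surjective zt.left := inferInstanceAs (Surjective (pullback.snd _ _))
  haveI : Sheaf.IsLocallySurjective ((yon S).map zt) := isLocallySurjective_of_repWith
    (repWith_yon_map (P := @Flat) ‹_›) (repWith_yon_map (P := @LocallyOfFinitePresentation) ‹_›)
    (repWith_yon_map (P := @Surjective) ‹_›)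
  haveI : Epi ((yon S).map zt) := (Sheaf.isLocallySurjective_iff_epi _).1 ‹_›
  rw [← cancel_epi ((yon S).map zt)]
  conv_lhs => rw [← hk₁, Functor.map_comp, Category.assoc, ← sq₁.w, ← Functor.map_comp_assoc, hw]
  conv_rhs => rw [← hk₂, Functor.map_comp, Category.assoc, ← sq₂.w, ← Functor.map_comp_assoc]

theorem mono_cell_map (hp : Representable p) (hd : 0 < d) : Mono (cellι p a hp ≫ prod.fst) := by
  suffices key : ∀ {T : Over S} (b₁ b₂ : (yon S).obj T ⟶ cellSp p a hp),
      b₁ ≫ (cellι p a hp ≫ prod.fst) = b₂ ≫ (cellι p a hp ≫ prod.fst) → b₁ = b₂ by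
    refine ⟨fun g h e => Sheaf.hom_ext ?_⟩
    ext U x
    have h1 := key ((J S).uliftYonedaEquiv.{u+1}.symm x ≫ g) ((J S).uliftYonedaEquiv.{u+1}.symm x ≫ h)
      (by rw [Category.assoc, Category.assoc, e])
    have h2 := congrArg (J S).uliftYonedaEquiv.{u+1} h1
    rwa [GrothendieckTopology.uliftYonedaEquiv_comp, GrothendieckTopology.uliftYonedaEquiv_comp,
      Equiv.apply_symm_apply] at h2
  intro T b₁ b₂ e
  obtain ⟨m₁, hm₁, h₁⟩ := isCellHom_comp_ι p a hp b₁
  obtain ⟨m₂, hm₂, h₂⟩ := isCellHom_comp_ι p a hp b₂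
  simp only [Category.assoc] at hm₁ hm₂ h₁ h₂ e
  obtain rfl : m₁ = m₂ := (yon S).map_injective (by rw [hm₁, hm₂, e])
  refine (cancel_mono (cellι p a hp)).1 (prod.hom_ext ?_ ?_)
  · simp only [Category.assoc, e]
  · simp only [Category.assoc]
    exact mono_cell_fst p a hp hd h₁ h₂

end Groth.Agent.ASp.Cell
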