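import Groth.Agent.ASp.MonoFlat
import Groth.Agent.ASp.LocP
import Groth.Prelude.Def_AlgSp4
/-!
Chevalley's theorem for algebraic spaces, etale locally.
-/

set_option autoImplicit false
set_option backward.isDefEq.respectTransparency false
set_option backward.isDefEq.respectTransparency.types false

universe u

open CategoryTheory CategoryTheory.Limits AlgebraicGeometry Opposite Topology

namespace Groth.Agent.ASp

open _root_.AlgSp

variable {S : Scheme.{u}}

/-- Images of etale locally constructible sets are etale locally constructible. -/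
theorem isLocallyConstructible_preimage_image {X Y : Sp S} (f : X ⟶ Y) (hq : IsQuasiCompactMor f)
    (hfp : LocP @LocallyOfFinitePresentation f) (E : Set (Points X))
    (hE : ∀ (U : Over S) (φ : (yon S).obj U ⟶ X), RepWith @Etale φ → IsLocallyConstructible (Points.ofPt φ ⁻¹' E))
    (U : Over S) (φ : (yon S).obj U ⟶ Y) (hφ : RepWith @Etale φ) :
    IsLocallyConstructible (Points.ofPt φ ⁻¹' (Points.map f '' E)) := by
  intro u
  obtain ⟨W, hW, huW, -⟩ := exists_isAffineOpen_mem_and_subset (x := u) (U := (⊤ : U.left.Opens)) (by simp)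
  refine ⟨W, W.isOpen.mem_nhds huW, W.isOpen, ?_⟩
  let V : Over S := Over.mk (W.ι ≫ U.hom)
  let o : V ⟶ U := Over.homMk W.ι rfl
  haveI : IsAffine V.left := hW
  let b := (yon S).map o ≫ φ
  have hb : RepWith @Etale b := repWith_comp (repWith_yon_map (inferInstanceAs (Etale W.ι))) hφ
  have sq : IsPullback (pullback.fst f b) (pullback.snd f b) f b := IsPullback.of_hasPullback _ _
  haveI : CompactSpace ↥V.left := inferInstance
  obtain ⟨A, ε, hεe, hεs, hA⟩ := hq (IsAlgSpace.yon_obj V) (isQuasiCompactSp_yon (W := V)) b _ _ sq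
  haveI : CompactSpace ↥A.left := hA
  obtain ⟨c, hc⟩ := (yon S).map_surjective (ε ≫ pullback.snd f b)
  let g := ε ≫ pullback.fst f b
  have hg : RepWith @Etale g := repWith_comp hεe (repWith_of_isPullback sq.flip hb)
  have hgc : g ≫ f = (yon S).map c ≫ b := by rw [hc, Category.assoc, Category.assoc, sq.w]
  haveI : LocallyOfFinitePresentation c.left := hfp g b c hg hb hgc
  haveI : QuasiCompact c.left := quasiCompact_of_compactSpace _
  have e : (W.ι ⁻¹' (Points.ofPt φ ⁻¹' (Points.map f '' E)) : Set ↥V.left) = c.left '' (Points.ofPt g ⁻¹' E) := by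
    ext v
    constructor
    · rintro ⟨x, hx, hxv⟩
      obtain ⟨z, hz₁, hz₂⟩ := points_exists_of_isPullback sq x (Points.ofScheme V v)
        (by rw [← Points.ofPt_eq_map_ofScheme, hxv, ofPt_yon_map_comp]; rfl)
      obtain ⟨a, rfl⟩ := surjective_ofPt hεs z
      rw [Points.map_ofPt] at hz₁ hz₂
      rw [← hc] at hz₂
      refine ⟨a, show Points.ofPt g a ∈ E by rw [hz₁]; exact hx, (Points.schemeHomeo V).injective ?_⟩
      rw [← Points.map_yon_map_apply]
      exact (Points.ofPt_eq_map_ofScheme _ _).symm.trans hz₂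
    · rintro ⟨a, ha, rfl⟩
      refine ⟨_, ha, ?_⟩
      rw [Points.map_ofPt, hgc, ofPt_yon_map_comp, ofPt_yon_map_comp]
      rfl
  show IsConstructible (W.ι ⁻¹' (Points.ofPt φ ⁻¹' (Points.map f '' E)) : Set ↥V.left)
  rw [e]
  exact (c.left.isLocallyConstructible_image (hE A g hg)).isConstructible

end Groth.Agent.ASp
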