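import Groth.Agent.ASp.CutOut
import Groth.Agent.ASp.LocP
/-!
Closed immersions of finite presentation have ideals of finite type.
-/

set_option autoImplicit false
set_option backward.isDefEq.respectTransparency false
set_option backward.isDefEq.respectTransparency.types false

universe u

open CategoryTheory CategoryTheory.Limits AlgebraicGeometry Opposite

namespace Groth.Agent.ASp

open _root_.AlgSp

variable {S : Scheme.{u}}

theorem lfp_iff_fg_of_isClosedImmersion {Z V : Scheme.{u}} (z : Z ⟶ V) [IsClosedImmersion z] [IsAffine V] :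
    LocallyOfFinitePresentation z ↔ (RingHom.ker z.appTop.hom).FG := by
  haveI : IsAffine Z := isAffine_of_isAffineHom z
  have hs : Function.Surjective z.appTop.hom := z.app_surjective ⊤ (isAffineOpen_top V)
  refine ⟨fun h => ?_, fun h => ?_⟩
  · have h1 : z.appTop.hom.FinitePresentation := HasRingHomProperty.appTop (P := @LocallyOfFinitePresentation) z h
    algebraize [z.appTop.hom]
    exact Algebra.FinitePresentation.ker_fG_of_surjective (Algebra.ofId _ _) hs
  · exact (HasRingHomProperty.iff_of_isAffine (P := @LocallyOfFinitePresentation)).2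
      (RingHom.FinitePresentation.of_surjective _ hs h)

theorem locP_lfp_iff_fg {Z X : Sp S} (hX : IsAlgSpace X) {i : Z ⟶ X} (hi : RepWith @IsClosedImmersion i) :
    LocP @LocallyOfFinitePresentation i ↔
      ∀ (E : EtOver X) (hE : IsAffine E.obj.left.left), ((idealOfRep hi.1).ideal E hE).FG := by
  constructor
  · intro h E hE
    haveI := hE
    haveI : IsClosedImmersion (EtOver.bcπ hi.1 E).left := hi.2 E.obj.hom _ _ (hi.1.isPullback _)
    exact (lfp_iff_fg_of_isClosedImmersion _).1 (h (hi.1.fst E.obj.hom) E.obj.hom (EtOver.bcπ hi.1 E)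
      (repWith_of_isPullback (hi.1.isPullback _).flip E.property) E.property (hi.1.w _))
  · intro h
    obtain ⟨U, p, hp, hps⟩ := hX.atlas
    have sq := hi.1.isPullback p
    refine locP_of_chart (repWith_of_isPullback sq.flip hp) (repWith_of_isPullback sq.flip hps) hp sq.w ?_
    haveI : IsClosedImmersion (hi.1.snd p).left := hi.2 p _ _ sq
    refine IsZariskiLocalAtTarget.of_iSup_eq_top (P := @LocallyOfFinitePresentation) (fun A : U.left.affineOpens => A.1)
      (iSup_affineOpens_eq_top _) fun A => ?_
    let E : EtOver X := openEt hp A.1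
    haveI : IsAffine A.1.toScheme := A.2
    haveI : IsAffine E.obj.left.left := A.2
    haveI : IsClosedImmersion (EtOver.bcπ hi.1 E).left := hi.2 E.obj.hom _ _ (hi.1.isPullback _)
    have hlfp : LocallyOfFinitePresentation (EtOver.bcπ hi.1 E).left :=
      (lfp_iff_fg_of_isClosedImmersion _).2 (h E A.2)
    obtain ⟨l, hl⟩ := exists_preimage_sq (hi.1.snd p) A.1
    obtain ⟨l', hl'⟩ := (yon S).map_surjective (sq.lift (hi.1.fst E.obj.hom)
      ((yon S).map (EtOver.bcπ hi.1 E ≫ openInc A.1)) (by rw [Functor.map_comp, Category.assoc]; exact hi.1.w _))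
    have sq' : IsPullback ((yon S).map l') ((yon S).map (EtOver.bcπ hi.1 E)) ((yon S).map (hi.1.snd p))
        ((yon S).map (openInc A.1)) :=
      IsPullback.of_right (h₁₂ := hi.1.fst p) (v₁₃ := i) (h₂₂ := p)
        (by rw [hl', sq.lift_fst]; exact hi.1.isPullback E.obj.hom)
        (by rw [hl', sq.lift_snd, Functor.map_comp]) sq
    have s1 : IsPullback l'.left (EtOver.bcπ hi.1 E).left (hi.1.snd p).left A.1.ι :=
      isPullback_left (IsPullback.of_map_of_faithful (F := yon S) sq')
    have s2 : IsPullback ((hi.1.snd p).left ⁻¹ᵁ A.1).ι ((hi.1.snd p).left ∣_ A.1) (hi.1.snd p).left A.1.ι :=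
      (isPullback_morphismRestrict (hi.1.snd p).left A.1).flip
    rw [← s2.isoIsPullback_hom_snd _ _ s1]
    exact (MorphismProperty.cancel_left_of_respectsIso @LocallyOfFinitePresentation _ _).2 hlfp

end Groth.Agent.ASp
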