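import Groth.Agent.ASp.SchImage
import Groth.Agent.FpqcDesc.Stalk
/-!
Closed subspaces through invariant ideals of an etale atlas.
-/

set_option autoImplicit false
set_option backward.isDefEq.respectTransparency false
set_option backward.isDefEq.respectTransparency.types false

universe u

open CategoryTheory CategoryTheory.Limits AlgebraicGeometry Opposite

namespace Groth.Agent.ASp

open _root_.AlgSp

variable {S : Scheme.{u}}

/-- A flat surjective morphism has trivial kernel. -/
theorem ker_eq_bot_of_flat_surjective {P X : Scheme.{u}} (g : P ⟶ X) [Flat g] [Surjective g] : g.ker = ⊥ := by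
  refine le_bot_iff.1 fun V => (g.ideal_ker_le V).trans fun a ha => ?_
  change g.app V.1 a = 0 at ha
  rw [Scheme.IdealSheafData.ideal_bot]
  refine X.IsSheaf.section_ext fun x hx => ?_
  obtain ⟨p, rfl⟩ := g.surjective x
  have h0 : X.presheaf.germ V.1 (g p) hx a = 0 := by
    apply FlatDescStalk.stalkMap_injective g p (Flat.stalkMap g p)
    rw [map_zero]
    erw [Scheme.Hom.germ_stalkMap_apply]
    rw [ha, map_zero]
  obtain ⟨W, hxW, i₁, i₂, e⟩ := X.presheaf.germ_eq (g p) hx hx a 0 (h0.trans (map_zero _).symm)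
  exact ⟨W, i₁.le, hxW, e⟩

/-- Precomposition with a flat surjection keeps the kernel. -/
theorem ker_flat_surjective_comp {P X Y : Scheme.{u}} (g : P ⟶ X) [Flat g] [Surjective g] (h : X ⟶ Y) :
    (g ≫ h).ker = h.ker := by
  rw [Scheme.Hom.ker_comp, ker_eq_bot_of_flat_surjective g, Scheme.IdealSheafData.map_bot]

/-- A map to the target of a monomorphism lifts if it does so after an epimorphism. -/
theorem exists_lift_of_epi {Z X F E : Sp S} (i : Z ⟶ X) [Mono i] (g : F ⟶ X) (q : E ⟶ F) [Epi q]
    (l : E ⟶ Z) (hl : l ≫ i = q ≫ g) : ∃ k : F ⟶ Z, k ≫ i = g := by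
  let P := IsPullback.of_hasPullback g i
  haveI : Epi (P.lift q l hl.symm ≫ pullback.fst g i) := by rw [P.lift_fst]; infer_instance
  haveI : Epi (pullback.fst g i) := epi_of_epi (P.lift q l hl.symm) _
  haveI : IsIso (pullback.fst g i) := isIso_of_mono_of_epi _
  exact ⟨inv (pullback.fst g i) ≫ pullback.snd g i, by
    rw [Category.assoc, ← pullback.condition, IsIso.inv_hom_id_assoc]⟩

/-- Representable etale surjections are epimorphisms of sheaves. -/
theorem epi_of_etale_surjective {F G : Sp S} {f : F ⟶ G} (he : RepWith @Etale f) (hs : RepWith @Surjective f) :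
    Epi f := by
  haveI : Sheaf.IsLocallySurjective f := isLocallySurjective_of_repWith
    (repWith_mono (fun _ _ g (hg : Etale g) => (inferInstance : Flat g)) he)
    (repWith_mono (fun _ _ g (hg : Etale g) => (inferInstance : LocallyOfFinitePresentation g)) he) hs
  infer_instance

variable {X : Sp S} {U : Over S} (p : (yon S).obj U ⟶ X)

/-- The ideal has equal pullbacks along two etale maps agreeing over the base. -/
def IsInv (I : U.left.IdealSheafData) : Prop :=
  ∀ ⦃R : Over S⦄ (r r' : R ⟶ U), Etale r.left → Etale r'.left →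
    (yon S).map r ≫ p = (yon S).map r' ≫ p → I.comap r.left = I.comap r'.left

variable {p}

theorem IsSubIdeal.isInv {D : Sp S} {i : D ⟶ X} (hi : RepWith @IsClosedImmersion i) {I : U.left.IdealSheafData}
    (hI : IsSubIdeal i p I) : IsInv p I := by
  intro R r r' _ _ h
  obtain ⟨J, hJ⟩ := exists_isSubIdeal hi ((yon S).map r ≫ p)
  rw [hI.comap_eq r rfl hJ, hI.comap_eq r' h hJ]

theorem isInv_sSup {s : Set U.left.IdealSheafData} (h : ∀ I ∈ s, IsInv p I) : IsInv p (sSup s) := by
  intro R r r' hr hr' e
  have key : ∀ w : R.left ⟶ U.left, (sSup s).comap w = ⨆ I ∈ s, I.comap w := fun w =>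
    (Scheme.IdealSheafData.map_gc w).l_sSup
  rw [key, key]
  exact iSup_congr fun I => iSup_congr fun hI => h I hI r r' hr hr' e

/-- Invariant ideals cut out closed subspaces. -/
theorem exists_sub_of_isInv (hX : IsAlgSpace X) (hp : RepWith @Etale p) (hps : RepWith @Surjective p)
    {I : U.left.IdealSheafData} (hI : IsInv p I) :
    ∃ (Z : Sp S) (_ : IsAlgSpace Z) (i : Z ⟶ X), RepWith @IsClosedImmersion i ∧ IsSubIdeal i p I := by
  let jI := subInc I
  haveI : IsClosedImmersion jI.left := inferInstanceAs (IsClosedImmersion I.subschemeι)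
  obtain ⟨R, r₁, r₂, hR⟩ := exists_isPullback_yon hp.1 p
  have hr₁ : Etale r₁.left := hp.2 p _ r₁ hR.flip
  have hr₂ : Etale r₂.left := hp.2 p _ r₂ hR
  have hV : IsPullback (pullback.fst jI r₁) (pullback.snd jI r₁) jI r₁ := IsPullback.of_hasPullback _ _
  have hbig : IsPullback ((yon S).map (pullback.fst jI r₁)) ((yon S).map (pullback.snd jI r₁ ≫ r₂))
      ((yon S).map jI ≫ p) p := by
    rw [Functor.map_comp]
    exact ((isPullback_yon_map hV).flip.paste_horiz hR.flip).flip
  have hle : jI.left.ker ≤ (pullback.snd jI r₁ ≫ r₂).left.ker := by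
    rw [show jI.left.ker = I from I.ker_subschemeι, Over.comp_left, Scheme.Hom.ker_comp,
      Scheme.IdealSheafData.le_map_iff_comap_le, ← hI r₁ r₂ hr₁ hr₂ hR.w,
      EffDescLib.comap_eq_ker_of_isPullback I (isPullback_left hV)]
  obtain ⟨Z, i, e, hZ, hi, sq, -, -⟩ := exists_closedSubspace_of_invariant hX p hp hps jI
    (inferInstanceAs (IsClosedImmersion I.subschemeι)) ⟨_, _, _, hbig,
      Over.homMk (IsClosedImmersion.lift jI.left _ hle) (by
        rw [← Over.w jI, ← Category.assoc, IsClosedImmersion.lift_fac, Over.w]),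
      Over.OverMorphism.ext (IsClosedImmersion.lift_fac _ _ _)⟩
  exact ⟨Z, hZ, i, hi, e, sq⟩

/-- Factorisation through a closed subspace is read on a chart of the source. -/
theorem exists_lift_iff_le_ker {D F : Sp S} {i : D ⟶ X} (hi : RepWith @IsClosedImmersion i)
    {I : U.left.IdealSheafData} (hI : IsSubIdeal i p I) (f : F ⟶ X) {W : Over S} (a : (yon S).obj W ⟶ F) [Epi a]
    {w : W ⟶ U} (e : a ≫ f = (yon S).map w ≫ p) : (∃ k, k ≫ i = f) ↔ I ≤ w.left.ker := by
  obtain ⟨fst, sq⟩ := hI
  haveI : IsClosedImmersion (subInc I).left := inferInstanceAs (IsClosedImmersion I.subschemeι)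
  constructor
  · rintro ⟨k, rfl⟩
    obtain ⟨l, hl⟩ := (yon S).map_surjective (sq.lift (a ≫ k) ((yon S).map w) (by rw [Category.assoc]; exact e))
    have : l ≫ subInc I = w := (yon S).map_injective (by rw [Functor.map_comp, hl, sq.lift_snd])
    rw [← this, Over.comp_left]
    exact I.ker_subschemeι.ge.trans (Scheme.Hom.le_ker_comp _ _)
  · intro hle
    have hle' : (subInc I).left.ker ≤ w.left.ker := I.ker_subschemeι.le.trans hle
    let l : W ⟶ subOver I := Over.homMk (IsClosedImmersion.lift (subInc I).left w.left hle') (by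
      show _ ≫ (subInc I).left ≫ U.hom = W.hom
      rw [IsClosedImmersion.lift_fac_assoc, Over.w])
    have hl : l ≫ subInc I = w := Over.OverMorphism.ext (IsClosedImmersion.lift_fac _ _ _)
    haveI : Mono i := mono_of_repWith (P := @IsClosedImmersion) (fun g (hg : IsClosedImmersion g) => inferInstance) hi
    refine exists_lift_of_epi i f a ((yon S).map l ≫ fst) ?_
    rw [Category.assoc, sq.w, ← Functor.map_comp_assoc, hl, e]

/-- Inclusion of closed subspaces is read on an atlas. -/
theorem exists_hom_iff_le (hp : RepWith @Etale p) (hps : RepWith @Surjective p) {D D' : Sp S} {i : D ⟶ X}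
    {i' : D' ⟶ X} (hi' : RepWith @IsClosedImmersion i') {I I' : U.left.IdealSheafData}
    (hI : IsSubIdeal i p I) (hI' : IsSubIdeal i' p I') : (∃ k, k ≫ i' = i) ↔ I' ≤ I := by
  obtain ⟨fst, sq⟩ := hI
  haveI : Epi fst := epi_of_etale_surjective (repWith_of_isPullback sq.flip hp) (repWith_of_isPullback sq.flip hps)
  rw [exists_lift_iff_le_ker hi' hI' i fst sq.w]
  exact iff_of_eq (congrArg (I' ≤ ·) I.ker_subschemeι)

end Groth.Agent.ASp
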