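import Groth.Agent.ASp.OnePoint
import Groth.Agent.ASp.MonoLQF
import Groth.Agent.ASp.Diag
import Groth.Agent.ASp.Univ
import Groth.Agent.ASp.ImmDesc

/-!
Closed points of decent algebraic spaces are closed immersions of spectra of fields.
-/

set_option backward.isDefEq.respectTransparency false
set_option backward.isDefEq.respectTransparency.types false

universe u

open CategoryTheory CategoryTheory.Limits AlgebraicGeometry Opposite TopologicalSpace

namespace Groth.Agent.ASp

open _root_.AlgSp

variable {S : Scheme.{u}}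

theorem surjective_of_mono_field {K L : Type u} [Field K] [Field L] (φ : CommRingCat.of K ⟶ CommRingCat.of L)
    [Mono (Spec.map φ)] : Function.Surjective φ.hom := by
  haveI : Epi φ := ⟨fun a b e => Spec.map_injective ((cancel_mono (Spec.map φ)).1 (by
    rw [← Spec.map_comp, ← Spec.map_comp, e]))⟩
  haveI := locallyQuasiFinite_spec_of_mono φ
  haveI : QuasiCompact (Spec.map φ) := quasiCompact_of_subsingleton _
  haveI : IsLocallyArtinian (Spec (CommRingCat.of K)) := inferInstance
  haveI : IsFinite (Spec.map φ) := IsFinite.of_locallyQuasiFinite _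
  exact RingHom.surjective_of_epi_of_finite φ ((IsFinite.SpecMap_iff φ).1 ‹_›)

/-- A monomorphism from a scheme with field stalks is surjective on stalks. -/
theorem surjectiveOnStalks_of_mono {E A : Scheme.{u}} (c : E ⟶ A) [Mono c]
    (hE : ∀ e : ↥E, IsField ↥(E.presheaf.stalk e)) : SurjectiveOnStalks c := by
  refine ⟨fun e => ?_⟩
  haveI : Mono (E.fromSpecResidueField e ≫ c) := mono_comp _ _
  have hfac : Spec.map (c.residueFieldMap e) ≫ A.fromSpecResidueField (c e) = E.fromSpecResidueField e ≫ c :=
    Scheme.Hom.SpecMap_residueFieldMap_fromSpecResidueField c e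
  haveI : Mono (Spec.map (c.residueFieldMap e)) := by
    haveI : Mono (Spec.map (c.residueFieldMap e) ≫ A.fromSpecResidueField (c e)) := by rw [hfac]; infer_instance
    exact mono_of_mono _ (A.fromSpecResidueField (c e))
  have hs := surjective_of_mono_field (K := A.residueField (c e)) (L := E.residueField e) (c.residueFieldMap e)
  have hinj : Function.Injective (E.residue e).hom := by
    letI := (hE e).toField
    exact (E.residue e).hom.injective
  intro y
  obtain ⟨z, hz⟩ := hs ((E.residue e).hom y)
  obtain ⟨w, rfl⟩ := A.residue_surjective (c e) z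
  refine ⟨w, hinj ?_⟩
  rw [← hz]
  exact (congrArg (fun g : A.presheaf.stalk (c e) ⟶ E.residueField e => g.hom w)
    (Scheme.residue_residueFieldMap c e)).symm

/-- A closed point of a decent algebraic space is a closed immersion of the spectrum of a field. -/
theorem exists_closedImmersion_of_isClosed {X : Sp S} (hX : IsAlgSpace X) (hdec : IsDecent X) (x : Points X)
    (hx : IsClosed ({x} : Set (Points X))) :
    ∃ p : FieldPt X, Points.mk p = x ∧ RepWith @IsClosedImmersion p.toHom := by
  obtain ⟨p, rfl, hm, hq⟩ := hdec x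
  refine ⟨p, rfl, ?_⟩
  obtain ⟨A, a, hae, has⟩ := hX.atlas
  have hrep : Representable p.toHom := hX.representable_from_yon _
  obtain ⟨E, s, c, sq⟩ : ∃ (E : Over S) (s : E ⟶ p.pt) (c : E ⟶ A),
      IsPullback ((yon S).map s) ((yon S).map c) p.toHom a := by
    obtain ⟨t, ht⟩ := (yon S).map_surjective (hae.1.fst p.toHom)
    exact ⟨_, hae.1.snd p.toHom, t, ht ▸ (hae.1.isPullback p.toHom).flip⟩
  haveI : Etale s.left := hae.2 _ _ _ sq.flip
  haveI : Mono c := (yon S).mono_of_mono_map (⟨fun u v e =>
    sq.hom_ext ((cancel_mono p.toHom).1 (by simp [sq.w, reassoc_of% e])) e⟩ : Mono ((yon S).map c))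
  haveI : Mono c.left := Over.mono_left_of_mono c
  have hE : ∀ e : ↥E.left, IsField ↥(E.left.presheaf.stalk e) := fun e =>
    isField_stalk_of_etale_field (K := p.K) s.left e
  haveI : DiscreteTopology ↥E.left := by
    haveI := Groth.Agent.Unibranch.locallyQuasiFinite_of_etale s.left
    exact isDiscrete_univ_iff.1 ((s.left.isDiscrete_preimage_singleton (IsLocalRing.closedPoint p.K)).mono
      fun x _ => Subsingleton.elim (α := ↥(Spec (CommRingCat.of p.K))) _ _)
  let T : Set ↥A.left := Points.ofPt a ⁻¹' {Points.mk p}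
  have hT : IsClosed T := hx.preimage (Points.continuous_ofPt a)
  have hrange : Set.range c.left ⊆ T := by
    rintro _ ⟨e, rfl⟩
    change Points.ofPt a (c.left e) = Points.mk p
    rw [← ofPt_yon_map_comp, ← sq.w, ofPt_yon_map_comp]
    haveI : Subsingleton ↥p.pt.left := inferInstanceAs (Subsingleton ↥(Spec (CommRingCat.of p.K)))
    rw [Subsingleton.elim (s.left e) (IsLocalRing.closedPoint p.K), Points.ofPt_toHom]
  have hTd : DiscreteTopology ↥T := by
    refine discreteTopology_iff_isOpen_singleton.2 fun ⟨t, ht⟩ => ?_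
    obtain ⟨W, hW, htW, -⟩ := exists_isAffineOpen_mem_and_subset (x := t) (U := (⊤ : A.left.Opens)) (by simp)
    let T' : Set ↥A.left := Points.ofPt a ⁻¹' {Points.mk p} ∩ W
    haveI : Finite ↥T' := (finite_fibre_inter hdec hae _ hW.isCompact).to_subtype
    haveI : T1Space ↥T' := t1Space_iff_specializes_imp_eq.2 fun v w hs => Subtype.ext
      (eq_of_specializes hdec hae (w.2.1.trans v.2.1.symm) (hs.map continuous_subtype_val)).symm
    obtain ⟨O, hO, hOe⟩ := isOpen_induced_iff.1 (isOpen_discrete ({⟨t, ht, htW⟩} : Set ↥T'))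
    refine isOpen_induced_iff.2 ⟨O ∩ W, hO.inter W.isOpen, Set.ext fun w => ⟨fun hw => ?_, ?_⟩⟩
    · exact Subtype.ext (congrArg Subtype.val ((Set.ext_iff.1 hOe ⟨w.1, w.2, hw.2⟩).1 hw.1) :)
    · rintro rfl
      exact ⟨(Set.ext_iff.1 hOe ⟨t, ht, htW⟩).2 rfl, htW⟩
  haveI : SurjectiveOnStalks c.left := surjectiveOnStalks_of_mono c.left hE
  have hclosed : ∀ Z : Set ↥E.left, IsClosed (c.left '' Z) := fun Z => by
    have h : IsClosed (Subtype.val ⁻¹' (c.left '' Z) : Set ↥T) := isClosed_discrete _
    have e : Subtype.val '' (Subtype.val ⁻¹' (c.left '' Z) : Set ↥T) = c.left '' Z := by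
      rw [Subtype.image_preimage_coe, Set.inter_eq_right]
      exact (Set.image_subset_range _ _).trans hrange
    rw [← e]
    exact hT.isClosedMap_subtype_val _ h
  haveI : IsPreimmersion c.left :=
    ⟨(Topology.IsClosedEmbedding.of_continuous_injective_isClosedMap c.left.continuous c.left.injective
      fun Z _ => hclosed Z).isEmbedding⟩
  haveI : IsClosedImmersion c.left := IsClosedImmersion.of_isPreimmersion _ (by
    rw [← Set.image_univ]; exact hclosed _)
  haveI := FpqcDesc.isClosedImmersion_descends.{u}
  exact repWith_of_fpqc hrep (fun _ => sq) (isFpqcCover_of_chart hX hae has)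
    fun _ => repWith_yon_map ‹IsClosedImmersion c.left›

end Groth.Agent.ASp
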