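import Groth.Prelude
import Groth.Agent.ASp.GeomRedEt
import Groth.Agent.ASp.SchDenseImage
import Groth.Agent.ASp.Quot
import Groth.Agent.S1545
import Groth.Agent.S1560
import Groth.Agent.S1610
/-!
Reducedness of base changes of algebraic spaces to fields.
-/

set_option autoImplicit false
set_option backward.isDefEq.respectTransparency false
set_option backward.isDefEq.respectTransparency.types false
set_option linter.style.haveILetI false

universe u

open CategoryTheory CategoryTheory.Limits AlgebraicGeometry Opposite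

namespace Groth.Agent.ASp

open _root_.AlgSp

theorem flat_surjective_specMap_field {K L : Type u} [Field K] [Field L] (φ : K →+* L) :
    Flat (Spec.map (CommRingCat.ofHom φ)) ∧ Surjective (Spec.map (CommRingCat.ofHom φ)) := by
  letI := φ.toAlgebra
  refine ⟨?_, ⟨fun x => ⟨IsLocalRing.closedPoint L, Subsingleton.elim (α := PrimeSpectrum K) _ _⟩⟩⟩
  rw [Flat.SpecMap_iff]
  exact RingHom.flat_algebraMap_iff.2 (inferInstance : Module.Flat K L)

theorem isReduced_of_flat_surjective {W U : Scheme.{u}} (g : W ⟶ U) [Flat g] [Surjective g] [IsReduced W] :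
    IsReduced U := by
  haveI : ∀ u : ↥U, _root_.IsReduced ↥(U.presheaf.stalk u) := fun u => by
    obtain ⟨w, rfl⟩ := g.surjective u
    exact isReduced_of_injective (g.stalkMap w).hom (injective_stalkMap_of_flat g w)
  exact isReduced_of_isReduced_stalk _

theorem fbase_iff_curv {k : Type u} [Field k] {Y : Scheme.{u}} (f : Y ⟶ Spec (CommRingCat.of k)) (y : ↥Y) :
    FBase.IsGeomReducedAt f y ↔ @Curv2.IsGeomReducedAt k _ Y ⟨f⟩ y :=
  ⟨fun h K _ _ x' hx' => h K x' hx', fun h K _ _ x' hx' => h K x' hx'⟩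

variable {S : Scheme.{u}}

/-- A product with a scheme is charted by products. -/
theorem isPullback_prodChart {U T : Over S} {X : Sp S} (a : (yon S).obj U ⟶ X) :
    IsPullback (prod.lift ((yon S).map (prod.fst : U ⨯ T ⟶ U) ≫ a) ((yon S).map prod.snd))
      ((yon S).map (prod.fst : U ⨯ T ⟶ U)) (prod.fst : X ⨯ (yon S).obj T ⟶ X) a := by
  refine IsPullback.of_isLimit' ⟨by simp⟩ (PullbackCone.IsLimit.mk _
    (fun k => prod.lift k.snd (k.fst ≫ prod.snd) ≫ inv (prodComparison (yon S) U T))
    (fun k => ?_) (fun k => by simp [inv_prodComparison_map_fst]) (fun k m h1 h2 => ?_))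
  · apply prod.hom_ext
    · simp only [Category.assoc, prod.lift_fst, inv_prodComparison_map_fst_assoc, prod.lift_fst_assoc]
      exact k.condition.symm
    · simp [inv_prodComparison_map_snd]
  · rw [← cancel_mono (prodComparison (yon S) U T), Category.assoc, IsIso.inv_hom_id, Category.comp_id]
    apply prod.hom_ext
    · simp [← h2]
    · simp [← h1]

theorem reducedSp_of_flat_surjective {T T' : Over S} (c : T' ⟶ T) [Flat c.left] [Surjective c.left] {Q P : Sp S}
    (hQ : IsAlgSpace Q) {q : Q ⟶ (yon S).obj T} {fst : P ⟶ Q} {snd : P ⟶ (yon S).obj T'}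
    (sq : IsPullback fst snd q ((yon S).map c)) (hP : IsReducedSp P) : IsReducedSp Q := by
  obtain ⟨U, a, ha, has⟩ := hQ.atlas
  have hc := repWith_yon_map (P := @Flat) (g := c) ‹Flat c.left›
  have hcs := repWith_yon_map (P := @Surjective) (g := c) ‹Surjective c.left›
  have hfst := repWith_of_isPullback sq.flip hc
  have hfsts := repWith_of_isPullback sq.flip hcs
  obtain ⟨W, g, e, sqW⟩ : ∃ (W : Over S) (g : W ⟶ U) (e : (yon S).obj W ⟶ P),
      IsPullback e ((yon S).map g) fst a := ⟨_, _, _, hfst.1.isPullback a⟩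
  haveI : Flat g.left := hfst.2 a _ g sqW
  haveI : Surjective g.left := hfsts.2 a _ g sqW
  haveI : IsReduced W.left := isReduced_of_chart hP (repWith_of_isPullback sqW.flip ha)
  exact ⟨U, a, ha, has, isReduced_of_flat_surjective g.left⟩

section Field

variable {k : Type u} [Field k]

/-- The base field change of `Spec k`, as a scheme over `k`. -/
noncomputable abbrev fieldOver (k : Type u) [Field k] (K : Type u) [Field K] [Algebra k K] :
    Over (Spec (CommRingCat.of k)) :=
  Over.mk (Spec.map (CommRingCat.ofHom (algebraMap k K)))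

theorem isReducedSp_prod_iff {X : Sp (Spec (CommRingCat.of k))} (hX : IsAlgSpace X) (K : Type u) [Field K]
    [Algebra k K] :
    IsReducedSp (X ⨯ (yon (Spec (CommRingCat.of k))).obj (fieldOver k K)) ↔
      ∀ (U : Over (Spec (CommRingCat.of k))) (a : (yon (Spec (CommRingCat.of k))).obj U ⟶ X),
        RepWith @Etale a → IsReduced (FBase.bc U.hom K) := by
  constructor
  · intro h U a ha
    have sq := isPullback_prodChart (T := fieldOver k K) a
    haveI : IsReduced (U ⨯ fieldOver k K).left := isReduced_of_chart h (repWith_of_isPullback sq.flip ha)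
    exact isReduced_of_isOpenImmersion (Over.prodLeftIsoPullback U (fieldOver k K)).inv
  · intro h
    obtain ⟨U, a, ha, has⟩ := hX.atlas
    have sq := isPullback_prodChart (T := fieldOver k K) a
    refine ⟨_, _, repWith_of_isPullback sq.flip ha, repWith_of_isPullback sq.flip has, ?_⟩
    haveI : IsReduced (pullback U.hom (fieldOver k K).hom) := h U a ha
    exact isReduced_of_isOpenImmersion (Over.prodLeftIsoPullback U (fieldOver k K)).hom

/-- Geometric reducedness of a space at every point is reducedness of every field base change. -/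
theorem geomReduced_iff_forall_isReducedSp (X : Space (Spec (CommRingCat.of k))) :
    (∀ x : Points X.obj, ∃ (U : Over (Spec (CommRingCat.of k)))
      (a : (yon (Spec (CommRingCat.of k))).obj U ⟶ X.obj) (u : ↥U.left),
      RepWith @Etale a ∧ Points.ofPt a u = x ∧ FBase.IsGeomReducedAt U.hom u) ↔
      ∀ (K : Type u) [Field K] [Algebra k K],
        IsReducedSp (X.obj ⨯ (yon (Spec (CommRingCat.of k))).obj (fieldOver k K)) := by
  constructor
  · intro h K _ _
    refine (isReducedSp_prod_iff X.property K).2 fun U a ha => ?_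
    haveI : ∀ z : ↥(FBase.bc U.hom K), _root_.IsReduced ↥((FBase.bc U.hom K).presheaf.stalk z) := fun z => by
      obtain ⟨V, b, v, hb, hv, hg⟩ := h (Points.ofPt a (FBase.bcπ U.hom K z))
      exact isGeomReducedAt_of_charts hb ha hv hg K z rfl
    exact isReduced_of_isReduced_stalk _
  · intro h x
    obtain ⟨U, a, ha, has⟩ := X.property.atlas
    obtain ⟨u, hu⟩ := surjective_ofPt has x
    refine ⟨U, a, u, ha, hu, fun K _ _ z _ => ?_⟩
    haveI := (isReducedSp_prod_iff X.property K).1 (h K) U a ha
    infer_instance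

/-- Finite purely inseparable extensions detect geometric reducedness. -/
theorem isReducedSp_prod_of_purelyInseparable (p : ℕ) [Fact p.Prime] [CharP k p]
    (X : Space (Spec (CommRingCat.of k)))
    (h : ∀ (k' : Type u) [Field k'] [Algebra k k'], Module.Finite k k' → IsPurelyInseparable k k' →
      IsReducedSp (X.obj ⨯ (yon (Spec (CommRingCat.of k))).obj (fieldOver k k')))
    (K : Type u) [Field K] [Algebra k K] :
    IsReducedSp (X.obj ⨯ (yon (Spec (CommRingCat.of k))).obj (fieldOver k K)) := by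
  refine (isReducedSp_prod_iff X.property K).2 fun U a ha => ?_
  haveI : ∀ z : ↥(FBase.bc U.hom K), _root_.IsReduced ↥((FBase.bc U.hom K).presheaf.stalk z) := fun z => by
    refine (fbase_iff_curv U.hom (FBase.bcπ U.hom K z)).2 ?_ K z rfl
    letI : U.left.Over (Spec (CommRingCat.of k)) := ⟨U.hom⟩
    refine (Groth.Agent.S1610.result k p U.left _).2 ?_
    intro k' _ _ _ _ x' _
    haveI : IsReduced (FBase.bc U.hom k') :=
      (isReducedSp_prod_iff X.property k').1 (h k' inferInstance inferInstance) U a ha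
    exact (inferInstance : _root_.IsReduced ↥((FBase.bc U.hom k').presheaf.stalk x'))
  exact isReduced_of_isReduced_stalk _

theorem isReducedSp_prod_of_algHom {X : Sp (Spec (CommRingCat.of k))} (hX : IsAlgSpace X) {L K : Type u} [Field L]
    [Algebra k L] [Field K] [Algebra k K] (σ : L →ₐ[k] K)
    (h : IsReducedSp (X ⨯ (yon (Spec (CommRingCat.of k))).obj (fieldOver k K))) :
    IsReducedSp (X ⨯ (yon (Spec (CommRingCat.of k))).obj (fieldOver k L)) := by
  let c : fieldOver k K ⟶ fieldOver k L := Over.homMk (Spec.map (CommRingCat.ofHom σ.toRingHom)) (by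
    show Spec.map (CommRingCat.ofHom σ.toRingHom) ≫ Spec.map (CommRingCat.ofHom (algebraMap k L)) = _
    rw [← Spec.map_comp, ← CommRingCat.ofHom_comp]
    rw [show σ.toRingHom.comp (algebraMap k L) = algebraMap k K from σ.comp_algebraMap]
    rfl)
  haveI : Flat c.left := (flat_surjective_specMap_field σ.toRingHom).1
  haveI : Surjective c.left := (flat_surjective_specMap_field σ.toRingHom).2
  refine reducedSp_of_flat_surjective c (isAlgSpace_prod hX (IsAlgSpace.yon_obj _))
    (q := prod.snd) (fst := prod.map (𝟙 X) ((yon _).map c)) (snd := prod.snd) ?_ h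
  refine IsPullback.of_isLimit' ⟨prod.map_snd _ _⟩ (PullbackCone.IsLimit.mk _
    (fun s => prod.lift (s.fst ≫ prod.fst) s.snd) (fun s => ?_) (fun s => prod.lift_snd _ _) fun s m h1 h2 => ?_)
  · apply prod.hom_ext
    · simp
    · simpa using s.condition.symm
  · apply prod.hom_ext
    · simp [← h1]
    · simp [← h2]

theorem isGeomReducedAt_of_isReduced_of_perfect [PerfectField k] (U : Over (Spec (CommRingCat.of k)))
    [IsReduced U.left] (u : ↥U.left) : FBase.IsGeomReducedAt U.hom u := by
  refine (fbase_iff_curv U.hom u).2 ?_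
  letI : U.left.Over (Spec (CommRingCat.of k)) := ⟨U.hom⟩
  exact Groth.Agent.S1560.result k U.left u

theorem geomReducedAt_prod_iff (X : Space (Spec (CommRingCat.of k))) (K : Type u) [Field K] [Algebra k K]
    (x : Points X.obj) (x' : Points (X.obj ⨯ (yon (Spec (CommRingCat.of k))).obj (fieldOver k K)))
    (hx' : Points.map prod.fst x' = x) :
    (∃ (U : Over (Spec (CommRingCat.of k))) (a : (yon (Spec (CommRingCat.of k))).obj U ⟶ X.obj) (u : ↥U.left),
      RepWith @Etale a ∧ Points.ofPt a u = x ∧ FBase.IsGeomReducedAt U.hom u) ↔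
      ∃ (U' : Over (Spec (CommRingCat.of k)))
        (a' : (yon (Spec (CommRingCat.of k))).obj U' ⟶ X.obj ⨯ (yon (Spec (CommRingCat.of k))).obj (fieldOver k K))
        (q : U' ⟶ fieldOver k K) (u' : ↥U'.left),
        RepWith @Etale a' ∧ a' ≫ prod.snd = (yon (Spec (CommRingCat.of k))).map q ∧
          Points.ofPt a' u' = x' ∧ FBase.IsGeomReducedAt q.left u' := by
  obtain ⟨U, a, ha, has⟩ := X.property.atlas
  obtain ⟨u, hu⟩ := surjective_ofPt has x
  have sq := isPullback_prodChart (T := fieldOver k K) a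
  let e := prod.lift ((yon (Spec (CommRingCat.of k))).map (prod.fst : U ⨯ fieldOver k K ⟶ U) ≫ a)
    ((yon (Spec (CommRingCat.of k))).map prod.snd)
  have he : RepWith @Etale e := repWith_of_isPullback sq.flip ha
  obtain ⟨z, hz1, hz2⟩ := points_exists_of_isPullback sq x' (Points.ofScheme U u)
    (by rw [hx', ← Points.ofPt_eq_map_ofScheme, hu])
  obtain ⟨w, rfl⟩ := (Points.schemeHomeo (U ⨯ fieldOver k K)).surjective z
  replace hz2 : (prod.fst : U ⨯ fieldOver k K ⟶ U).left w = u := by
    rw [Points.map_yon_map_apply] at hz2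
    exact (Points.schemeHomeo U).injective hz2
  replace hz1 : Points.ofPt e w = x' := (Points.ofPt_eq_map_ofScheme e w).trans hz1
  let e₀ := Over.prodLeftIsoPullback U (fieldOver k K)
  have hπ : FBase.bcπ U.hom K (e₀.hom w) = u := by
    rw [← hz2]
    exact (Scheme.Hom.comp_apply _ _ _).symm.trans
      (congrArg (fun g : (U ⨯ fieldOver k K).left ⟶ U.left => g w) (Over.prodLeftIsoPullback_hom_fst U (fieldOver k K)))
  have hmain : FBase.IsGeomReducedAt U.hom u ↔
      FBase.IsGeomReducedAt (prod.snd : U ⨯ fieldOver k K ⟶ fieldOver k K).left w := by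
    have h1 : FBase.IsGeomReducedAt U.hom u ↔ FBase.IsGeomReducedAt (FBase.bcStr U.hom K) (e₀.hom w) := by
      rw [fbase_iff_curv, fbase_iff_curv]
      letI : U.left.Over (Spec (CommRingCat.of k)) := ⟨U.hom⟩
      exact Groth.Agent.S1545.result k U.left K u (e₀.hom w) hπ
    rw [h1, ← isGeomReducedAt_iff_of_etale e₀.hom (FBase.bcStr U.hom K) w]
    rw [show e₀.hom ≫ FBase.bcStr U.hom K = (prod.snd : U ⨯ fieldOver k K ⟶ fieldOver k K).left from
      Over.prodLeftIsoPullback_hom_snd U (fieldOver k K)]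
  constructor
  · rintro ⟨V, b, v, hb, hv, hg⟩
    exact ⟨_, e, prod.snd, w, he, prod.lift_snd _ _, hz1,
      hmain.1 (isGeomReducedAt_of_charts hb ha (hv.trans hu.symm) hg)⟩
  · rintro ⟨U', a', q, u', ha', hq, hu', hg⟩
    obtain ⟨P, t, s, r, ht, hs, hcomm, rfl, rfl⟩ := exists_common_point ha' he (hu'.trans hz1.symm)
    have hts : t ≫ q = s ≫ prod.snd := (yon _).map_injective (by
      rw [Functor.map_comp, Functor.map_comp, ← hq, reassoc_of% hcomm]
      simp [e])
    refine ⟨U, a, u, ha, hu, hmain.2 ?_⟩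
    have hg' := (isGeomReducedAt_iff_of_etale t.left q.left r).2 hg
    rw [← Over.comp_left, hts, Over.comp_left] at hg'
    exact (isGeomReducedAt_iff_of_etale s.left _ r).1 hg'

theorem surjective_prod_fst (X : Space (Spec (CommRingCat.of k))) (K : Type u) [Field K] [Algebra k K] :
    Function.Surjective
      (Points.map (prod.fst : X.obj ⨯ (yon (Spec (CommRingCat.of k))).obj (fieldOver k K) ⟶ X.obj)) := fun x => by
  obtain ⟨U, a, ha, has⟩ := X.property.atlas
  obtain ⟨u, hu⟩ := surjective_ofPt has x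
  haveI : Surjective (fieldOver k K).hom := (flat_surjective_specMap_field (algebraMap k K)).2
  haveI : Surjective (pullback.fst U.hom (fieldOver k K).hom) := MorphismProperty.pullback_fst _ _ ‹_›
  obtain ⟨z, hz⟩ := (pullback.fst U.hom (fieldOver k K).hom).surjective u
  let e := prod.lift ((yon (Spec (CommRingCat.of k))).map (prod.fst : U ⨯ fieldOver k K ⟶ U) ≫ a)
    ((yon (Spec (CommRingCat.of k))).map prod.snd)
  refine ⟨Points.ofPt e ((Over.prodLeftIsoPullback U (fieldOver k K)).inv z), ?_⟩
  rw [Points.map_ofPt, show e ≫ prod.fst = (yon _).map prod.fst ≫ a from prod.lift_fst _ _, ofPt_yon_map_comp,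
    ← hu, ← hz, ← Scheme.Hom.comp_apply, Over.prodLeftIsoPullback_inv_fst]

end Field

section Fibre

theorem uliftYonedaEquiv_yon_map_toHom {F : Sp S} (p : FieldPt F) {T : Over S} (a : T ⟶ p.pt) :
    (J S).uliftYonedaEquiv ((yon S).map a ≫ p.toHom) = F.obj.map a.op p.val := by
  rw [← FieldPt.toHom_app p a]
  rfl

theorem yon_map_toHom_eq {F : Sp S} {p q : FieldPt F} {T : Over S} (a : T ⟶ p.pt) (b : T ⟶ q.pt)
    (h : F.obj.map a.op p.val = F.obj.map b.op q.val) :
    (yon S).map a ≫ p.toHom = (yon S).map b ≫ q.toHom := by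
  apply (J S).uliftYonedaEquiv.injective
  rw [uliftYonedaEquiv_yon_map_toHom, uliftYonedaEquiv_yon_map_toHom, h]

/-- All fibres over one point share geometric reducedness. -/
theorem geomReduced_fibre_tfae {X Y : Space S} (f : X ⟶ Y) (y : Points Y.obj) :
    [∃ (k : FieldPt Y.obj), Points.mk k = y ∧
        ∀ (k' : Type u) [Field k'] (φ : k.K →+* k') (Xk' : Sp S) (a : Xk' ⟶ X.obj)
          (b : Xk' ⟶ (yon S).obj (Over.mk (Spec.map (CommRingCat.ofHom φ) ≫ k.str))),
          IsPullback a b f.hom ((yon S).map (Over.homMk (Spec.map (CommRingCat.ofHom φ)) rfl :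
            Over.mk (Spec.map (CommRingCat.ofHom φ) ≫ k.str) ⟶ k.pt) ≫ k.toHom) →
          IsReducedSp Xk',
      ∀ (k : FieldPt Y.obj), Points.mk k = y →
        ∀ (k' : Type u) [Field k'] (φ : k.K →+* k') (Xk' : Sp S) (a : Xk' ⟶ X.obj)
          (b : Xk' ⟶ (yon S).obj (Over.mk (Spec.map (CommRingCat.ofHom φ) ≫ k.str))),
          IsPullback a b f.hom ((yon S).map (Over.homMk (Spec.map (CommRingCat.ofHom φ)) rfl :
            Over.mk (Spec.map (CommRingCat.ofHom φ) ≫ k.str) ⟶ k.pt) ≫ k.toHom) →
          IsReducedSp Xk',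
      ∀ (k : FieldPt Y.obj), Points.mk k = y →
        ∀ (Xk : Sp S) (a : Xk ⟶ X.obj) (b : Xk ⟶ (yon S).obj k.pt), IsPullback a b f.hom k.toHom →
          IsReducedSp Xk].TFAE := by
  tfae_have 2 → 3 := by
    intro h k hk Xk a b sq
    let e : Over.mk (Spec.map (CommRingCat.ofHom (RingHom.id k.K)) ≫ k.str) ⟶ k.pt :=
      Over.homMk (Spec.map (CommRingCat.ofHom (RingHom.id k.K))) rfl
    haveI : IsIso e.left := inferInstanceAs (IsIso (Spec.map (𝟙 (CommRingCat.of k.K))))
    haveI : IsIso ((Over.forget S).map e) := ‹IsIso e.left›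
    haveI : IsIso e := isIso_of_reflects_iso e (Over.forget S)
    refine h k hk k.K (RingHom.id k.K) Xk a (b ≫ (yon S).map (inv e)) ?_
    exact IsPullback.of_iso sq (Iso.refl _) (Iso.refl _) ((yon S).mapIso (asIso e).symm) (Iso.refl _)
      (by simp) (by simp) (by simp) (by simp [e, ← Functor.map_comp_assoc])
  tfae_have 3 → 2 := by
    intro h k hk k' _ φ Xk' a b sq
    let o : Over.mk (Spec.map (CommRingCat.ofHom φ) ≫ k.str) ⟶ k.pt :=
      Over.homMk (Spec.map (CommRingCat.ofHom φ)) rfl
    let kk : FieldPt Y.obj := ⟨k', Spec.map (CommRingCat.ofHom φ) ≫ k.str, Y.obj.obj.map o.op k.val⟩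
    have hkk : kk.toHom = (yon S).map o ≫ k.toHom := by
      have := yon_map_toHom_eq (p := kk) (q := k) (𝟙 _) o (by simp [kk])
      simpa using this
    exact h kk ((mk_restrict k o).trans hk) Xk' a b (hkk ▸ sq)
  tfae_have 2 → 1 := by
    intro h
    obtain ⟨k, hk⟩ := Points.mk_surjective y
    exact ⟨k, hk, h k hk⟩
  tfae_have 1 → 3 := by
    rintro ⟨k₁, hk₁, h⟩ k hk Xk a b sq
    obtain ⟨Ω, _, w, α, β, hαβ⟩ := Points.mk_eq_mk_iff.1 (hk₁.trans hk.symm)
    obtain ⟨φ, hφ⟩ : ∃ φ : k₁.K →+* Ω, Spec.map (CommRingCat.ofHom φ) = α.left :=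
      ⟨(Spec.preimage α.left).hom, Spec.map_preimage α.left⟩
    obtain rfl : Spec.map (CommRingCat.ofHom φ) ≫ k₁.str = w := by
      rw [hφ]; exact Over.w α
    obtain rfl : α = Over.homMk (Spec.map (CommRingCat.ofHom φ)) rfl := Over.OverMorphism.ext hφ.symm
    obtain ⟨ψ, hψ⟩ : ∃ ψ : k.K →+* Ω, Spec.map (CommRingCat.ofHom ψ) = β.left :=
      ⟨(Spec.preimage β.left).hom, Spec.map_preimage β.left⟩
    haveI : Flat β.left := hψ ▸ (flat_surjective_specMap_field ψ).1
    haveI : Surjective β.left := hψ ▸ (flat_surjective_specMap_field ψ).2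
    have sq' := IsPullback.of_hasPullback b ((yon S).map β)
    refine reducedSp_of_flat_surjective β
      (isAlgSpace_of_isPullback Y.property.diag X.property (IsAlgSpace.yon_obj _) sq) sq'
      (h Ω φ _ (pullback.fst b ((yon S).map β) ≫ a) (pullback.snd b ((yon S).map β)) ?_)
    rw [yon_map_toHom_eq _ β hαβ]
    exact sq'.paste_horiz sq
  tfae_finish

end Fibre

end Groth.Agent.ASp
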