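import Groth.Agent.ASp.EtDim
import Groth.Agent.S9683
import Groth.Agent.DimFormulaLib.Misc
/-!
Dimension along integral morphisms of algebraic spaces.
-/

set_option autoImplicit false
set_option backward.isDefEq.respectTransparency false
set_option backward.isDefEq.respectTransparency.types false

universe u

open CategoryTheory CategoryTheory.Limits AlgebraicGeometry TopologicalSpace Topology

namespace Groth.Agent.ASp

open _root_.AlgSp

variable {S : Scheme.{u}} {X Y : Sp S} {f : X ⟶ Y}

theorem localDim_le_topologicalKrullDim (T : Scheme.{u}) (t : ↥T) :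
    FlatMor.localDim ↥T t ≤ topologicalKrullDim ↥T :=
  iInf_le_of_le ⟨⊤, trivial⟩ (topologicalKrullDim_subspace_le ↥T _)

theorem le_dim {U : Over S} (a : (yon S).obj U ⟶ X) (ha : RepWith @Etale a) :
    topologicalKrullDim ↥U.left ≤ AlgSp.dim X :=
  le_iSup_of_le U (le_iSup_of_le a (le_iSup_of_le ha le_rfl))

theorem dim_le_of_isIntegral (hY : IsAlgSpace Y) (hf : RepWith @IsIntegralHom f) :
    AlgSp.dim X ≤ AlgSp.dim Y := by
  obtain ⟨V, b, hb, hbs⟩ := hY.atlas
  haveI : IsIntegralHom (hf.1.snd b).left := hf.2 _ _ _ (hf.1.isPullback b)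
  have hp : RepWith @Etale (hf.1.fst b) :=
    MorphismProperty.of_isPullback (hf.1.isPullback b).flip hb
  have hW : topologicalKrullDim ↥(hf.1.pullback b).left ≤ AlgSp.dim Y :=
    ((S9683.result (hf.1.snd b).left).1).trans (le_dim b hb)
  refine iSup_le fun U => iSup_le fun a => iSup_le fun ha => ?_
  rw [DimFormulaLib.topologicalKrullDim_eq_iSup_localDim]
  refine iSup_le fun u => ?_
  obtain ⟨v, hv⟩ := surjective_ofPt hbs (Points.map f (Points.ofPt a u))
  obtain ⟨z, hz, -⟩ := points_exists_of_isPullback (hf.1.isPullback b) (Points.ofPt a u) (Points.schemeHomeo V v)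
    (hv.symm.trans (congrFun (ofPt_comp_eq_map b) v))
  obtain ⟨w, rfl⟩ := (Points.schemeHomeo _).surjective z
  obtain ⟨P, t, s, r, ht, hs, -, rfl, rfl⟩ := exists_common_point ha hp (u := u) (v := w)
    (hz.symm.trans (congrFun (ofPt_comp_eq_map (hf.1.fst b)) w).symm)
  haveI := ht
  haveI := hs
  rw [localDim_eq_of_etale t.left r, ← localDim_eq_of_etale s.left r]
  exact (localDim_le_topologicalKrullDim _ _).trans hW

theorem le_dim_of_isIntegral_surjective (hf : RepWith @IsIntegralHom f)
    (hs : Function.Surjective (Points.map f)) : AlgSp.dim Y ≤ AlgSp.dim X := by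
  refine iSup_le fun V => iSup_le fun b => iSup_le fun hb => ?_
  haveI : IsIntegralHom (hf.1.snd b).left := hf.2 _ _ _ (hf.1.isPullback b)
  haveI : Surjective (hf.1.snd b).left := surjective_snd_of_surjective_map hs (hf.1.isPullback b)
  rw [← (S9683.result (hf.1.snd b).left).2 inferInstance]
  exact le_dim _ (MorphismProperty.of_isPullback (hf.1.isPullback b).flip hb)

end Groth.Agent.ASp
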