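import Groth.Agent.ASp.FppfGlue
import Groth.Agent.ASp.LocP
import Groth.Agent.ASp.Points
import Groth.Agent.FEtHom.Affine
import Groth.Agent.Hensel.FiniteEtale
import Groth.Agent.Boot.Coord
import Groth.Prelude.Def_AlgSpInf
/-!
Infinitesimal lifting for morphisms of algebraic spaces read on etale charts.
-/

set_option autoImplicit false
set_option backward.isDefEq.respectTransparency false
set_option backward.isDefEq.respectTransparency.types false

universe u

open CategoryTheory CategoryTheory.Limits AlgebraicGeometry Opposite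

namespace Groth.Agent.Inf

open _root_.AlgSp Groth.Agent.ASp

variable {S : Scheme.{u}} {A : Type u} [CommRing A]

/-- `Spec A` over `S`. -/
noncomputable abbrev TT (str : Spec (CommRingCat.of A) ⟶ S) : Over S := Over.mk str

/-- `Spec (A ⧸ I)` over `S`. -/
noncomputable abbrev T0 (I : Ideal A) (str : Spec (CommRingCat.of A) ⟶ S) : Over S :=
  Over.mk (Spec.map (CommRingCat.ofHom (Ideal.Quotient.mk I)) ≫ str)

/-- The closed immersion. -/
noncomputable abbrev qI (I : Ideal A) (str : Spec (CommRingCat.of A) ⟶ S) : T0 I str ⟶ TT str :=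
  Over.homMk (Spec.map (CommRingCat.ofHom (Ideal.Quotient.mk I))) rfl

/-- The structure map of a test ring. -/
noncomputable abbrev strR {R : Type u} [CommRing R] (φ : A →+* R)
    (str : Spec (CommRingCat.of A) ⟶ S) : Spec (CommRingCat.of R) ⟶ S :=
  Spec.map (CommRingCat.ofHom φ) ≫ str

/-- The map of test objects induced by a ring map. -/
noncomputable abbrev cc {R : Type u} [CommRing R] (φ : A →+* R)
    (str : Spec (CommRingCat.of A) ⟶ S) : TT (strR φ str) ⟶ TT str :=
  Over.homMk (Spec.map (CommRingCat.ofHom φ)) rfl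

theorem quotientMap_comp {R : Type u} [CommRing R] (φ : A →+* R) (I : Ideal A) :
    (Ideal.quotientMap (I.map φ) φ Ideal.le_comap_map).comp (Ideal.Quotient.mk I) =
      (Ideal.Quotient.mk (I.map φ)).comp φ :=
  RingHom.ext fun a => by simp

/-- The map on the closed subschemes. -/
noncomputable def cc0 {R : Type u} [CommRing R] (φ : A →+* R) (I : Ideal A)
    (str : Spec (CommRingCat.of A) ⟶ S) : T0 (I.map φ) (strR φ str) ⟶ T0 I str :=
  Over.homMk (Spec.map (CommRingCat.ofHom (Ideal.quotientMap (I.map φ) φ Ideal.le_comap_map))) (by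
    simp only [Over.mk_hom, strR, ← Category.assoc, ← Spec.map_comp, ← CommRingCat.ofHom_comp,
      quotientMap_comp])

@[reassoc]
theorem cc0_qI {R : Type u} [CommRing R] (φ : A →+* R) (I : Ideal A)
    (str : Spec (CommRingCat.of A) ⟶ S) :
    cc0 φ I str ≫ qI I str = qI (I.map φ) (strR φ str) ≫ cc φ str := by
  apply Over.OverMorphism.ext
  simp only [cc0, Over.comp_left, Over.homMk_left, ← Spec.map_comp, ← CommRingCat.ofHom_comp,
    quotientMap_comp]

theorem isPullback_cc0 {R : Type u} [CommRing R] (φ : A →+* R) (I : Ideal A)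
    (str : Spec (CommRingCat.of A) ⟶ S) :
    IsPullback (qI (I.map φ) (strR φ str)).left (cc0 φ I str).left (cc φ str).left (qI I str).left := by
  letI := φ.toAlgebra
  haveI h : CategoryTheory.IsPushout (CommRingCat.ofHom φ) (CommRingCat.ofHom (Ideal.Quotient.mk I))
      (CommRingCat.ofHom (Ideal.Quotient.mk (I.map φ)))
      (CommRingCat.ofHom (Ideal.quotientMap (I.map φ) φ Ideal.le_comap_map)) := by
    letI : Algebra (A ⧸ I) (R ⧸ I.map φ) := (Ideal.quotientMap (I.map φ) φ Ideal.le_comap_map).toAlgebra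
    haveI : IsScalarTower A (A ⧸ I) (R ⧸ I.map φ) := .of_algebraMap_eq fun r => (Ideal.quotientMap_mk).symm
    letI : Algebra (A ⧸ I) (TensorProduct A R (A ⧸ I)) := Algebra.TensorProduct.rightAlgebra
    haveI : Algebra.IsPushout A R (A ⧸ I) (R ⧸ I.map φ) :=
      Algebra.IsPushout.of_equiv (h := TensorProduct.isPushout)
        (Algebra.TensorProduct.quotIdealMapEquivTensorQuot R I).symm
        (Ideal.Quotient.ringHom_ext (RingHom.ext fun a => by
          simp [RingHom.algebraMap_toAlgebra]; erw [Algebra.TensorProduct.quotIdealMapEquivTensorQuot_symm_tmul]; rw [Algebra.smul_def, mul_one]; rfl))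
    exact CommRingCat.isPushout_of_isPushout A R (A ⧸ I) (R ⧸ I.map φ)
  exact isPullback_SpecMap_of_isPushout _ _ _ _ h

theorem map_sq_zero {R : Type u} [CommRing R] (φ : A →+* R) {I : Ideal A} (hI : I ^ 2 = ⊥) :
    (I.map φ) ^ 2 = ⊥ := by
  rw [← Ideal.map_pow, hI, Ideal.map_bot]

theorem isNilpotent_ker_qI {I : Ideal A} (hI : I ^ 2 = ⊥) (str : Spec (CommRingCat.of A) ⟶ S) :
    IsNilpotent (qI I str).left.ker := by
  refine Boot.isNilpotent_ker_SpecMap (CommRingCat.ofHom (Ideal.Quotient.mk I)) ?_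
  show RingHom.ker (Ideal.Quotient.mk I) ^ 2 = ⊥
  rw [Ideal.mk_ker, hI]

/-- Two test maps into the source of a formally unramified morphism of schemes agree. -/
theorem eq_of_formallyUnramified {I : Ideal A} (hI : I ^ 2 = ⊥) {str : Spec (CommRingCat.of A) ⟶ S}
    {U V : Over S} {h : U ⟶ V} [FormallyUnramified h.left] {u u' : TT str ⟶ U}
    (e : qI I str ≫ u = qI I str ≫ u') (e' : u ≫ h = u' ≫ h) : u = u' := by
  haveI : IsClosedImmersion (qI I str).left :=
    IsClosedImmersion.spec_of_surjective _ Ideal.Quotient.mk_surjective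
  apply Over.OverMorphism.ext
  exact FormallyUnramified.hom_ext (qI I str).left (isNilpotent_ker_qI hI str) h.left
    (by rw [← Over.comp_left, e, Over.comp_left]) (by rw [← Over.comp_left, e', Over.comp_left])

/-- Lifting in a formally etale morphism of schemes over `S`. -/
theorem existsUnique_lift_hom {I : Ideal A} (hI : I ^ 2 = ⊥) {str : Spec (CommRingCat.of A) ⟶ S}
    {U V : Over S} {h : U ⟶ V} (hf : MoreMor.IsFormallyEtaleHom h.left) {u₀ : T0 I str ⟶ U}
    {v : TT str ⟶ V} (e : u₀ ≫ h = qI I str ≫ v) :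
    ∃! u : TT str ⟶ U, qI I str ≫ u = u₀ ∧ u ≫ h = v := by
  obtain ⟨l, ⟨h1, h2⟩, hu⟩ := hf A I hI u₀.left v.left
    (by rw [← Over.comp_left, e]; rfl)
  refine ⟨Over.homMk l ?_, ⟨Over.OverMorphism.ext h1, Over.OverMorphism.ext h2⟩,
    fun m ⟨hm1, hm2⟩ => Over.OverMorphism.ext (hu m.left ⟨?_, ?_⟩)⟩
  · rw [← Over.w h, ← Category.assoc, h2]; exact Over.w v
  · rw [← hm1]; rfl
  · rw [← hm2]; rfl

/-- An etale chart lifts infinitesimal test maps uniquely. -/
theorem existsUnique_chart_lift {I : Ideal A} (hI : I ^ 2 = ⊥) {str : Spec (CommRingCat.of A) ⟶ S}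
    {F : Sp S} {V : Over S} {q : (yon S).obj V ⟶ F} (hq : RepWith @Etale q)
    (b : (yon S).obj (TT str) ⟶ F) (v₀ : T0 I str ⟶ V)
    (e : (yon S).map v₀ ≫ q = (yon S).map (qI I str) ≫ b) :
    ∃! v : TT str ⟶ V, qI I str ≫ v = v₀ ∧ (yon S).map v ≫ q = b := by
  obtain ⟨M, m₁, m₂, hM⟩ := exists_isPullback_yon hq.1 b
  have hm₂ : Etale m₂.left := hq.2 _ _ _ hM
  obtain ⟨s₀, hs₀⟩ := (yon S).map_surjective (hM.lift ((yon S).map v₀) ((yon S).map (qI I str)) e)
  have hs₀1 : s₀ ≫ m₁ = v₀ := (yon S).map_injective (by simp [hs₀])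
  have hs₀2 : s₀ ≫ m₂ = qI I str := (yon S).map_injective (by simp [hs₀])
  obtain ⟨s, ⟨hs1, hs2⟩, hsu⟩ := existsUnique_lift_hom hI (h := m₂)
    ((FEtHom.etale_iff m₂.left).1 hm₂).2 (u₀ := s₀) (v := 𝟙 _) (by rw [hs₀2, Category.comp_id])
  refine ⟨s ≫ m₁, ⟨by rw [← Category.assoc, hs1, hs₀1], ?_⟩, fun v ⟨hv1, hv2⟩ => ?_⟩
  · rw [Functor.map_comp, Category.assoc, hM.w, ← Functor.map_comp_assoc, hs2]
    simp
  · obtain ⟨t, ht⟩ := (yon S).map_surjective
      (hM.lift ((yon S).map v) (𝟙 _) (by rw [hv2, Category.id_comp]))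
    have ht1 : t ≫ m₁ = v := (yon S).map_injective (by simp [ht])
    have ht2 : t ≫ m₂ = 𝟙 _ := (yon S).map_injective (by simp [ht])
    have ht3 : qI I str ≫ t = s₀ := by
      apply (yon S).map_injective
      apply hM.hom_ext
      · rw [← Functor.map_comp, ← Functor.map_comp, Category.assoc, ht1, hv1, hs₀1]
      · rw [← Functor.map_comp, ← Functor.map_comp, Category.assoc, ht2, Category.comp_id, hs₀2]
    rw [← ht1, hsu t ⟨ht3, ht2⟩]

/-- A map from the closed subscheme into an algebraic space lifts to a chart on an etale covering of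
the thickening. -/
theorem exists_pieces {I : Ideal A} (hI : I ^ 2 = ⊥) {str : Spec (CommRingCat.of A) ⟶ S}
    {X : Sp S} {U : Over S} {p : (yon S).obj U ⟶ X} (hp : RepWith @Etale p)
    (hps : RepWith @Surjective p) (a : (yon S).obj (T0 I str) ⟶ X) :
    ∃ (ι : Type u) (R : ι → Type u) (_ : ∀ i, CommRing (R i)) (φ : ∀ i, A →+* R i)
      (u : ∀ i, T0 (I.map (φ i)) (strR (φ i) str) ⟶ U),
      (∀ i, Etale (cc (φ i) str).left) ∧
      (∀ t : ↥(TT str).left, ∃ i, t ∈ Set.range (cc (φ i) str).left) ∧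
      (∀ t : ↥(T0 I str).left, ∃ i, t ∈ Set.range (cc0 (φ i) I str).left) ∧
      ∀ i, (yon S).map (u i) ≫ p = (yon S).map (cc0 (φ i) I str) ≫ a := by
  obtain ⟨W, w, v, hwe, hws, hv, -⟩ := exists_etale_cover hp hps a
  have hloc : ∀ x : W.left, ∃ (C : CommRingCat.{u}) (g : Spec C ⟶ W.left), IsOpenImmersion g ∧ x ∈ Set.range g :=
    fun x => ⟨_, W.left.affineCover.f (W.left.affineCover.idx x), inferInstance, W.left.affineCover.covers x⟩
  choose C g hg hx using hloc
  choose ψ hψ using fun x => Spec.map_surjective (g x ≫ w.left)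
  have key : ∀ x, ∃ (R : Type u) (_ : CommRing R) (φ : A →+* R) (θ : C x ⟶ CommRingCat.of (R ⧸ I.map φ)),
      IsIso θ ∧ Etale (cc φ str).left ∧
        ψ x ≫ θ = CommRingCat.ofHom (Ideal.quotientMap (I.map φ) φ Ideal.le_comap_map) := by
    intro x
    haveI := hg x
    have he : Etale (Spec.map (ψ x)) := by rw [hψ x]; infer_instance
    have hψe : (ψ x).hom.Etale := HasRingHomProperty.Spec_iff.1 he
    letI : Algebra (A ⧸ I) (C x) := (ψ x).hom.toAlgebra
    haveI : Algebra.Etale (A ⧸ I) (C x) := hψe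
    letI : Algebra A (C x) := ((ψ x).hom.comp (Ideal.Quotient.mk I)).toAlgebra
    haveI : IsScalarTower A (A ⧸ I) (C x) := .of_algebraMap_eq fun _ => rfl
    obtain ⟨R, _, _, hRe, Φ, hΦ, hΦker⟩ := Hensel.exists_etale_lift_of_quotient (A := A) (I := I) (C x)
    let e : (R ⧸ I.map (algebraMap A R)) ≃+* C x :=
      (Ideal.quotEquivOfEq hΦker.symm).trans (RingHom.quotientKerEquivOfSurjective hΦ)
    have he' : ∀ r, e (Ideal.Quotient.mk _ r) = Φ r := fun r => rfl
    refine ⟨R, inferInstance, algebraMap A R, e.symm.toCommRingCatIso.hom, inferInstance,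
      HasRingHomProperty.Spec_iff.2 (RingHom.etale_algebraMap.mpr hRe), ?_⟩
    refine CommRingCat.hom_ext (Ideal.Quotient.ringHom_ext (RingHom.ext fun r => e.injective ?_))
    show e (e.symm ((ψ x).hom (Ideal.Quotient.mk I r))) = e (Ideal.Quotient.mk _ (algebraMap A R r))
    rw [RingEquiv.apply_symm_apply, he', Φ.commutes]
    rfl
  choose R iR φ θ hθ hφe hθψ using key
  have hu : ∀ x, ∃ k : T0 (I.map (φ x)) (strR (φ x) str) ⟶ W,
      k.left = Spec.map (θ x) ≫ g x ∧ k ≫ w = cc0 (φ x) I str := by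
    intro x
    have e1 : (Spec.map (θ x) ≫ g x) ≫ w.left = (cc0 (φ x) I str).left := by
      rw [Category.assoc, ← hψ x, ← Spec.map_comp, hθψ x]; rfl
    refine ⟨Over.homMk (Spec.map (θ x) ≫ g x) ?_, rfl, Over.OverMorphism.ext e1⟩
    rw [← Over.w w, ← Category.assoc, e1]
    exact Over.w (cc0 (φ x) I str)
  choose k hk hkw using hu
  have hcov0 : ∀ t : ↥(T0 I str).left, ∃ i, t ∈ Set.range (cc0 (φ i) I str).left := fun t => by
    obtain ⟨y, rfl⟩ := hws.surj t
    obtain ⟨z, hz⟩ := hx y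
    haveI := hθ y
    obtain ⟨z', rfl⟩ := (Spec.map (θ y)).surjective z
    refine ⟨y, z', ?_⟩
    rw [← hkw y, Over.comp_left, Scheme.Hom.comp_apply, hk y, Scheme.Hom.comp_apply]
    exact congrArg _ hz
  refine ⟨W.left, R, iR, φ, fun x => k x ≫ v, hφe, fun t => ?_, hcov0,
    fun x => by rw [Functor.map_comp, Category.assoc, hv, ← Functor.map_comp_assoc, hkw x]⟩
  obtain ⟨t₀, rfl⟩ := FEtHom.surjective_quotient A I hI t
  obtain ⟨i, z, rfl⟩ := hcov0 t₀
  refine ⟨i, (qI (I.map (φ i)) (strR (φ i) str)).left z, ?_⟩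
  rw [← Scheme.Hom.comp_apply, ← Over.comp_left, ← cc0_qI]
  rfl

variable {X Y : Sp S} {f : X ⟶ Y} {U V : Over S} {p : (yon S).obj U ⟶ X} {q : (yon S).obj V ⟶ Y}
  {h : U ⟶ V}

/-- Uniqueness of lifts from a formally unramified chart. -/
theorem eq_of_chart (hp : RepWith @Etale p) (hps : RepWith @Surjective p) (hq : RepWith @Etale q)
    (e : p ≫ f = (yon S).map h ≫ q) [FormallyUnramified h.left] {I : Ideal A} (hI : I ^ 2 = ⊥)
    {str : Spec (CommRingCat.of A) ⟶ S} (l l' : (yon S).obj (TT str) ⟶ X)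
    (h₀ : (yon S).map (qI I str) ≫ l = (yon S).map (qI I str) ≫ l') (hf : l ≫ f = l' ≫ f) :
    l = l' := by
  obtain ⟨ι, R, _, φ, u₀, hφ, hcov, -, hu₀⟩ := exists_pieces hI hp hps ((yon S).map (qI I str) ≫ l)
  refine hom_ext_fppf (c := fun i => cc (φ i) str) (fun i => by haveI := hφ i; infer_instance)
    (fun i => by haveI := hφ i; infer_instance) hcov fun i => ?_
  have hI' := map_sq_zero (φ i) hI
  obtain ⟨w, ⟨hw1, hw2⟩, -⟩ := existsUnique_chart_lift hI' hp ((yon S).map (cc (φ i) str) ≫ l) (u₀ i)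
    (by rw [hu₀ i, ← Functor.map_comp_assoc, cc0_qI, Functor.map_comp, Category.assoc])
  obtain ⟨w', ⟨hw1', hw2'⟩, -⟩ := existsUnique_chart_lift hI' hp ((yon S).map (cc (φ i) str) ≫ l') (u₀ i)
    (by rw [hu₀ i, h₀, ← Functor.map_comp_assoc, cc0_qI, Functor.map_comp, Category.assoc])
  obtain ⟨_, -, hvu⟩ := existsUnique_chart_lift hI' hq ((yon S).map (cc (φ i) str) ≫ l ≫ f) (u₀ i ≫ h)
    (by rw [Functor.map_comp, Category.assoc, ← e, reassoc_of% (hu₀ i), ← Functor.map_comp_assoc,
      cc0_qI, Functor.map_comp, Category.assoc])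
  have hh : w ≫ h = w' ≫ h := (hvu (w ≫ h) ⟨by rw [← Category.assoc, hw1], by
      rw [Functor.map_comp, Category.assoc, ← e, reassoc_of% hw2]⟩).trans
    (hvu (w' ≫ h) ⟨by rw [← Category.assoc, hw1'], by
      rw [Functor.map_comp, Category.assoc, ← e, reassoc_of% hw2', hf]⟩).symm
  rw [← hw2, ← hw2', eq_of_formallyUnramified hI' (hw1.trans hw1'.symm) hh]

/-- A formally etale morphism of schemes is formally unramified. -/
theorem formallyUnramified_of_formallyEtaleHom {U V : Scheme.{u}} {k : U ⟶ V}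
    (hk : MoreMor.IsFormallyEtaleHom k) : FormallyUnramified k := by
  refine FormallyUnramified.of_hom_ext k fun R T φ hφ hsq g₁ g₂ h1 h2 => ?_
  haveI : IsClosedImmersion (Spec.map φ) := IsClosedImmersion.spec_of_surjective φ hφ
  have hker : RingHom.ker (Spec.map φ).appTop.hom ^ 2 = ⊥ := by
    let e := (Scheme.ΓSpecIso R).commRingCatIsoToRingEquiv
    have key : RingHom.ker (Spec.map φ).appTop.hom ≤ (RingHom.ker φ.hom).comap e.toRingHom := fun z hz => by
      rw [RingHom.mem_ker] at hz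
      rw [Ideal.mem_comap, RingHom.mem_ker]
      have := congrArg (fun m => m.hom z) (Scheme.ΓSpecIso_naturality φ)
      simp only [CommRingCat.hom_comp, RingHom.comp_apply] at this
      show φ.hom ((Scheme.ΓSpecIso R).hom z) = 0
      rw [← this, hz, map_zero]
    refine eq_bot_iff.2 fun z hz => ?_
    have h2 : e z ∈ RingHom.ker φ.hom ^ 2 := by
      have := Ideal.mem_map_of_mem e.toRingHom ((Ideal.pow_right_mono key 2) hz)
      rw [Ideal.map_pow] at this
      exact Ideal.pow_right_mono Ideal.map_comap_le 2 this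
    rw [hsq, Ideal.mem_bot] at h2
    exact (map_eq_zero_iff _ e.injective).1 h2
  exact (FEtHom.existsUnique_lift_affine hk (Spec.map φ) hker (Spec.map φ ≫ g₁) (g₁ ≫ k)
    (by rw [Category.assoc])).unique ⟨rfl, rfl⟩ ⟨h1.symm, h2.symm⟩

/-- Lifts on an etale covering glue when lifts are unique. -/
theorem existsUnique_of_pieces
    (huniq : ∀ {R : Type u} [CommRing R] {J : Ideal R}, J ^ 2 = ⊥ →
      ∀ {str' : Spec (CommRingCat.of R) ⟶ S} (l l' : (yon S).obj (TT str') ⟶ X),
        (yon S).map (qI J str') ≫ l = (yon S).map (qI J str') ≫ l' → l ≫ f = l' ≫ f → l = l')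
    {I : Ideal A} (hI : I ^ 2 = ⊥) {str : Spec (CommRingCat.of A) ⟶ S}
    (a : (yon S).obj (T0 I str) ⟶ X) (b : (yon S).obj (TT str) ⟶ Y)
    {ι : Type u} {R : ι → Type u} [∀ i, CommRing (R i)] (φ : ∀ i, A →+* R i)
    (hφ : ∀ i, Etale (cc (φ i) str).left)
    (hcov : ∀ t : ↥(TT str).left, ∃ i, t ∈ Set.range (cc (φ i) str).left)
    (hcov0 : ∀ t : ↥(T0 I str).left, ∃ i, t ∈ Set.range (cc0 (φ i) I str).left)
    (l₀ : ∀ i, (yon S).obj (TT (strR (φ i) str)) ⟶ X)
    (hux : ∀ i, (yon S).map (qI (I.map (φ i)) (strR (φ i) str)) ≫ l₀ i =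
      (yon S).map (cc0 (φ i) I str) ≫ a)
    (huf : ∀ i, l₀ i ≫ f = (yon S).map (cc (φ i) str) ≫ b) :
    ∃! l : (yon S).obj (TT str) ⟶ X, (yon S).map (qI I str) ≫ l = a ∧ l ≫ f = b := by
  have hfl : ∀ i, Flat (cc (φ i) str).left := fun i => by haveI := hφ i; infer_instance
  have hfp : ∀ i, LocallyOfFinitePresentation (cc (φ i) str).left := fun i => by
    haveI := hφ i; infer_instance
  obtain ⟨l, hl, -⟩ := existsUnique_glue hfl hfp hcov l₀ (by
    intro i j W gi gj hij
    refine hom_ext_affineCover fun x => ?_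
    obtain ⟨αi, hαi⟩ := Spec.map_surjective (W.left.affineCover.f x ≫ gi.left)
    obtain ⟨αj, hαj⟩ := Spec.map_surjective (W.left.affineCover.f x ≫ gj.left)
    let g : Over.mk (W.left.affineCover.f x ≫ W.hom) ⟶ W := Over.homMk (W.left.affineCover.f x) rfl
    obtain ⟨L, hL⟩ : ∃ L : CommRingCat.{u}, W.left.affineCover.X x = Spec L := ⟨_, rfl⟩
    let T₁ := W.left.affineCover.X x
    have hcomm : (CommRingCat.ofHom (φ i)) ≫ αi = (CommRingCat.ofHom (φ j)) ≫ αj := by
      apply Spec.map_injective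
      rw [Spec.map_comp, Spec.map_comp, hαi, hαj, Category.assoc, Category.assoc]
      exact congrArg (W.left.affineCover.f x ≫ ·) (congrArg CommaMorphism.left hij)
    let β : A →+* _ := αi.hom.comp (φ i)
    have hβj : β = αj.hom.comp (φ j) := congrArg CommRingCat.Hom.hom hcomm
    let ψ := strR β str
    have hg : g ≫ gi ≫ cc (φ i) str = g ≫ gj ≫ cc (φ j) str := by rw [hij]
    have hgi : ((g ≫ gi).left) = Spec.map αi := hαi.symm
    have hgj : ((g ≫ gj).left) = Spec.map αj := hαj.symm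
    have hstr : W.left.affineCover.f x ≫ W.hom = ψ := by
      have := Over.w (g ≫ gi ≫ cc (φ i) str)
      change (g.left ≫ gi.left ≫ Spec.map (CommRingCat.ofHom (φ i))) ≫ str = _ at this
      refine this.symm.trans ?_
      simp only [ψ, strR, β, g, Over.homMk_left, CommRingCat.ofHom_comp, Spec.map_comp,
        CommRingCat.ofHom_hom, Category.assoc]
      rw [hαi, Category.assoc]
    let θ : TT ψ ⟶ Over.mk (W.left.affineCover.f x ≫ W.hom) := Over.homMk (𝟙 _) (by
      show 𝟙 _ ≫ (W.left.affineCover.f x ≫ W.hom) = ψ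
      exact (Category.id_comp _).trans hstr)
    haveI : IsIso ((Over.forget S).map θ) := inferInstanceAs (IsIso (𝟙 _))
    haveI : IsIso θ := isIso_of_reflects_iso θ (Over.forget S)
    rw [← cancel_epi ((yon S).map θ)]
    have hθg : (θ ≫ g ≫ gi) ≫ cc (φ i) str = cc β str := Over.OverMorphism.ext (by
      simp only [Over.comp_left, θ, g, β, Over.homMk_left, Category.id_comp, CommRingCat.ofHom_comp,
        Spec.map_comp, CommRingCat.ofHom_hom]
      rw [hαi])
    have hθg' : (θ ≫ g ≫ gj) ≫ cc (φ j) str = cc β str := by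
      rw [← hθg]; simp only [Category.assoc, hij]
    let gi0 : T0 (I.map β) ψ ⟶ T0 (I.map (φ i)) (strR (φ i) str) := Over.homMk
      (Spec.map (CommRingCat.ofHom (Ideal.quotientMap (I.map β) αi.hom (by
        rw [← Ideal.map_le_iff_le_comap, Ideal.map_map])))) (by
        simp only [Over.mk_hom, ψ, strR, β, ← Category.assoc, ← Spec.map_comp,
          ← CommRingCat.ofHom_comp]
        congr 2)
    let gj0 : T0 (I.map β) ψ ⟶ T0 (I.map (φ j)) (strR (φ j) str) := Over.homMk
      (Spec.map (CommRingCat.ofHom (Ideal.quotientMap (I.map β) αj.hom (by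
        rw [← Ideal.map_le_iff_le_comap, Ideal.map_map, hβj])))) (by
        simp only [Over.mk_hom, ψ, strR, hβj, ← Category.assoc, ← Spec.map_comp,
          ← CommRingCat.ofHom_comp]
        congr 2)
    have hgi0 : qI (I.map β) ψ ≫ θ ≫ g ≫ gi = gi0 ≫ qI (I.map (φ i)) (strR (φ i) str) :=
      Over.OverMorphism.ext (by
        simp only [Over.comp_left, θ, g, gi0, Over.homMk_left, Category.id_comp]
        rw [← hαi, ← Spec.map_comp, ← Spec.map_comp]
        congr 1)
    have hgj0 : qI (I.map β) ψ ≫ θ ≫ g ≫ gj = gj0 ≫ qI (I.map (φ j)) (strR (φ j) str) :=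
      Over.OverMorphism.ext (by
        simp only [Over.comp_left, θ, g, gj0, Over.homMk_left, Category.id_comp]
        rw [← hαj, ← Spec.map_comp, ← Spec.map_comp]
        congr 1)
    have hg0 : gi0 ≫ cc0 (φ i) I str = gj0 ≫ cc0 (φ j) I str := by
      haveI : Mono (qI I str).left := by
        haveI : IsClosedImmersion (qI I str).left :=
          IsClosedImmersion.spec_of_surjective _ Ideal.Quotient.mk_surjective
        infer_instance
      haveI : Mono (qI I str) := Over.mono_of_mono_left _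
      rw [← cancel_mono (qI I str)]
      simp only [Category.assoc, cc0_qI]
      rw [← reassoc_of% hgi0, ← reassoc_of% hgj0, hij]
    refine huniq (map_sq_zero β hI) _ _ ?_ ?_
    · have k1 := congrArg (fun z => (yon S).map z ≫ l₀ i) hgi0
      have k2 := congrArg (fun z => (yon S).map z ≫ l₀ j) hgj0
      simp only [Functor.map_comp, Category.assoc] at k1 k2 ⊢
      rw [k1, k2, hux i, hux j, ← Functor.map_comp_assoc, hg0, Functor.map_comp_assoc]
    · have k1 := congrArg (fun z => (yon S).map z ≫ b) hθg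
      have k2 := congrArg (fun z => (yon S).map z ≫ b) hθg'
      have k3 := huf i
      have k4 := huf j
      simp only [Functor.map_comp, Category.assoc] at k1 k2 k3 k4 ⊢
      rw [k3, k4, k1, k2])
  have hlf : l ≫ f = b := hom_ext_fppf hfl hfp hcov fun i => by
    rw [← Category.assoc, hl i, huf i]
  have hla : (yon S).map (qI I str) ≫ l = a := by
    refine hom_ext_fppf (c := fun i => cc0 (φ i) I str) (fun i => ?_) (fun i => ?_) hcov0 fun i => ?_
    · exact MorphismProperty.of_isPullback (P := @Flat) (isPullback_cc0 (φ i) I str) (hfl i)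
    · exact MorphismProperty.of_isPullback (P := @LocallyOfFinitePresentation) (isPullback_cc0 (φ i) I str) (hfp i)
    · rw [← Functor.map_comp_assoc, cc0_qI, Functor.map_comp, Category.assoc, hl i, hux i]
  exact ⟨l, ⟨hla, hlf⟩, fun l' ⟨h1, h2⟩ =>
    huniq hI _ _ (h1.trans hla.symm) (h2.trans hlf.symm)⟩

/-- Existence and uniqueness of lifts from a formally etale chart. -/
theorem existsUnique_of_chart (hp : RepWith @Etale p) (hps : RepWith @Surjective p)
    (hq : RepWith @Etale q) (e : p ≫ f = (yon S).map h ≫ q) (hh : MoreMor.IsFormallyEtaleHom h.left)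
    {I : Ideal A} (hI : I ^ 2 = ⊥) {str : Spec (CommRingCat.of A) ⟶ S}
    (a : (yon S).obj (T0 I str) ⟶ X) (b : (yon S).obj (TT str) ⟶ Y)
    (w : a ≫ f = (yon S).map (qI I str) ≫ b) :
    ∃! l : (yon S).obj (TT str) ⟶ X, (yon S).map (qI I str) ≫ l = a ∧ l ≫ f = b := by
  haveI := formallyUnramified_of_formallyEtaleHom hh
  obtain ⟨ι, R, _, φ, u₀, hφ, hcov, hcov0, hu₀⟩ := exists_pieces hI hp hps a
  have hI' := fun i => map_sq_zero (φ i) hI
  choose v hv hvu using fun i => existsUnique_chart_lift (hI' i) hq ((yon S).map (cc (φ i) str) ≫ b)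
    (u₀ i ≫ h) (by rw [Functor.map_comp, Category.assoc, ← e, reassoc_of% (hu₀ i), w,
      ← Functor.map_comp_assoc, cc0_qI, Functor.map_comp, Category.assoc])
  choose u hu huu using fun i => existsUnique_lift_hom (hI' i) (h := h) hh (u₀ := u₀ i) (v := v i)
    (hv i).1.symm
  refine existsUnique_of_pieces (f := f)
    (fun {R} _ {J} hJ {str'} l l' h₀ hf => eq_of_chart hp hps hq e hJ l l' h₀ hf)
    hI a b φ hφ hcov hcov0 (fun i => (yon S).map (u i) ≫ p) (fun i => ?_) fun i => ?_
  · rw [← Functor.map_comp_assoc, (hu i).1, hu₀ i]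
  · rw [Category.assoc, e, ← Functor.map_comp_assoc, (hu i).2, (hv i).2]

/-- An algebraic morphism has a chart with surjective etale legs. -/
theorem exists_chart (hX : IsAlgSpace X) (hY : IsAlgSpace Y) :
    ∃ (U V : Over S) (p : (yon S).obj U ⟶ X) (q : (yon S).obj V ⟶ Y) (h : U ⟶ V),
      RepWith @Etale p ∧ RepWith @Surjective p ∧ RepWith @Etale q ∧ RepWith @Surjective q ∧
        p ≫ f = (yon S).map h ≫ q := by
  obtain ⟨U, p, hpe, hps⟩ := hX.atlas
  obtain ⟨V, q, hqe, hqs⟩ := hY.atlas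
  obtain ⟨W, w, v, hwe, hws, hv, -⟩ := exists_etale_cover hqe hqs (p ≫ f)
  exact ⟨W, V, (yon S).map w ≫ p, q, v, repWith_comp (repWith_yon_map hwe) hpe,
    repWith_comp (repWith_yon_map hws) hps, hqe, hqs, by rw [Category.assoc, hv]⟩

/-- Formal unramifiedness from one chart. -/
theorem isFormallyUnramifiedMor_of_chart (hp : RepWith @Etale p) (hps : RepWith @Surjective p)
    (hq : RepWith @Etale q) (e : p ≫ f = (yon S).map h ≫ q) (hh : FormallyUnramified h.left) :
    IsFormallyUnramifiedMor f := by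
  intro sq l l' h1 h2 h3 h4
  exact eq_of_chart hp hps hq e sq.sq_zero l l' (h1.trans h3.symm) (h2.trans h4.symm)

/-- Formal etaleness from one chart. -/
theorem isFormallyEtaleMor_of_chart (hp : RepWith @Etale p) (hps : RepWith @Surjective p)
    (hq : RepWith @Etale q) (e : p ≫ f = (yon S).map h ≫ q)
    (hh : MoreMor.IsFormallyEtaleHom h.left) : IsFormallyEtaleMor f := fun sq =>
  existsUnique_of_chart hp hps hq e hh sq.sq_zero sq.top sq.bot sq.comm

/-- Charts of a formally unramified morphism are formally unramified. -/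
theorem locP_formallyUnramified_of (hf : IsFormallyUnramifiedMor f) : LocP @FormallyUnramified f := by
  intro U V a b k ha hb e
  refine FormallyUnramified.of_hom_ext k.left fun R T φ hφ hsq g₁ g₂ h1 h2 => ?_
  let I : Ideal R := RingHom.ker φ.hom
  let str : Spec (CommRingCat.of R) ⟶ S := g₁ ≫ U.hom
  let u₁ : TT str ⟶ U := Over.homMk g₁ rfl
  let u₂ : TT str ⟶ U := Over.homMk g₂ (by
    show g₂ ≫ U.hom = g₁ ≫ U.hom
    rw [← Over.w k, ← Category.assoc, ← h2, Category.assoc])
  have hφI : CommRingCat.ofHom (Ideal.Quotient.mk I) =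
      φ ≫ CommRingCat.ofHom (RingHom.quotientKerEquivOfSurjective hφ).symm.toRingHom := by
    refine CommRingCat.hom_ext (RingHom.ext fun r => ?_)
    exact (RingHom.quotientKerEquivOfSurjective_symm_apply hφ r).symm
  have hu : qI I str ≫ u₁ = qI I str ≫ u₂ := Over.OverMorphism.ext (by
    simp only [Over.comp_left, Over.homMk_left, u₁, u₂]
    rw [hφI, Spec.map_comp, Category.assoc, Category.assoc, h1])
  have hk : u₁ ≫ k = u₂ ≫ k := Over.OverMorphism.ext h2
  have hl : (yon S).map u₁ ≫ a = (yon S).map u₂ ≫ a := by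
    refine hf ⟨R, I, hsq, str, (yon S).map (qI I str ≫ u₁) ≫ a, (yon S).map (u₁ ≫ k) ≫ b, ?_⟩ _ _
      ?_ ?_ ?_ ?_
    · simp only [Functor.map_comp, Category.assoc, e]
    · exact (Functor.map_comp_assoc _ _ _ _).symm
    · show ((yon S).map u₁ ≫ a) ≫ f = (yon S).map (u₁ ≫ k) ≫ b
      simp only [Category.assoc, e, Functor.map_comp]
    · show (yon S).map (qI I str) ≫ _ = _
      rw [← Functor.map_comp_assoc]
      exact congrArg (fun z => (yon S).map z ≫ a) hu.symm
    · show ((yon S).map u₂ ≫ a) ≫ f = (yon S).map (u₁ ≫ k) ≫ b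
      rw [hk]
      simp only [Category.assoc, e, Functor.map_comp]
  exact congrArg CommaMorphism.left ((existsUnique_chart_lift (A := R) (I := I) hsq ha ((yon S).map u₁ ≫ a)
    (qI I str ≫ u₁) (by rw [Functor.map_comp, Category.assoc])).unique ⟨rfl, rfl⟩ ⟨hu.symm, hl.symm⟩)

/-- Charts of a formally etale morphism are formally etale. -/
theorem locP_formallyEtale_of (hf : IsFormallyEtaleMor f) : LocP @MoreMor.IsFormallyEtaleHom f := by
  intro U V a b k ha hb e A _ I hI a₀ b₀ w
  let str : Spec (CommRingCat.of A) ⟶ S := b₀ ≫ V.hom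
  let u₀ : T0 I str ⟶ U := Over.homMk a₀ (by
    show a₀ ≫ U.hom = _ ≫ b₀ ≫ V.hom
    rw [← Over.w k, ← Category.assoc, ← w, Category.assoc])
  let v₀ : TT str ⟶ V := Over.homMk b₀ rfl
  have hw : u₀ ≫ k = qI I str ≫ v₀ := Over.OverMorphism.ext w.symm
  obtain ⟨l, ⟨hl1, hl2⟩, hlu⟩ := hf ⟨A, I, hI, str, (yon S).map u₀ ≫ a, (yon S).map v₀ ≫ b, by
    rw [Category.assoc, e, ← Functor.map_comp_assoc, hw, Functor.map_comp, Category.assoc]⟩
  obtain ⟨v, ⟨hv1, hv2⟩, hvu⟩ := existsUnique_chart_lift (A := A) (I := I) hI ha l u₀ hl1.symm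
  have hvk : v ≫ k = v₀ := by
    refine (existsUnique_chart_lift (A := A) (I := I) hI hb ((yon S).map v₀ ≫ b) (u₀ ≫ k) ?_).unique
      ⟨by rw [← Category.assoc, hv1], ?_⟩ ⟨hw.symm, rfl⟩
    · rw [hw, Functor.map_comp, Category.assoc]
    · rw [Functor.map_comp, Category.assoc, ← e, ← Category.assoc, hv2, hl2]
  refine ⟨v.left, ⟨congrArg CommaMorphism.left hv1, congrArg CommaMorphism.left hvk⟩, fun m ⟨hm1, hm2⟩ => ?_⟩
  let m' : TT str ⟶ U := Over.homMk m (by
    show m ≫ U.hom = b₀ ≫ V.hom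
    rw [← Over.w k, ← Category.assoc, hm2])
  have h1 : qI I str ≫ m' = u₀ := Over.OverMorphism.ext hm1
  have h2 : m' ≫ k = v₀ := Over.OverMorphism.ext hm2
  exact congrArg CommaMorphism.left (hvu m' ⟨h1, hlu _ ⟨by
    show (yon S).map (qI I str) ≫ _ = _
    rw [← Functor.map_comp_assoc, h1], by
    show ((yon S).map m' ≫ a) ≫ f = (yon S).map v₀ ≫ b
    rw [Category.assoc, e, ← Functor.map_comp_assoc, h2]⟩⟩)

end Groth.Agent.Inf
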