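import Groth.Agent.ASp.LocP
import Groth.Agent.ASp.EtLocal
import Groth.Agent.ASp.DecentPt
import Groth.Agent.FpqcDesc.Noeth
import Groth.Prelude.Def_AlgSpDec
/-!
Locally Noetherian fibres of morphisms of algebraic spaces.
-/

set_option autoImplicit false
set_option backward.isDefEq.respectTransparency false
set_option backward.isDefEq.respectTransparency.types false

universe u

open CategoryTheory CategoryTheory.Limits AlgebraicGeometry Opposite

namespace Groth.Agent.ASp

open _root_.AlgSp

variable {S : Scheme.{u}}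

/-- Every etale chart of a locally Noetherian space is locally Noetherian. -/
theorem isLocallyNoetherian_of_chart {P : Sp S} (hP : IsLocNoethSp P) {U : Over S} {φ : (yon S).obj U ⟶ P}
    (hφ : RepWith @Etale φ) : IsLocallyNoetherian U.left := by
  obtain ⟨B, b, hb, hbs, hB⟩ := hP
  haveI : IsLocallyNoetherian B.left := hB
  obtain ⟨W, w, v, hwe, hws, hv, -⟩ := exists_etale_cover hb hbs φ
  haveI := hwe
  haveI := hws
  haveI : Etale v.left := etale_of_comp_eq (repWith_comp (repWith_yon_map hwe) hφ) hb hv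
  haveI : IsLocallyNoetherian W.left := LocallyOfFiniteType.isLocallyNoetherian v.left
  exact NoethDesc.of_fppf w.left

/-- Spaces locally of finite type over locally Noetherian ones are locally Noetherian. -/
theorem isLocNoethSp_of_lft {F G : Sp S} (hF : IsAlgSpace F) {f : F ⟶ G} (hf : LocP @LocallyOfFiniteType f)
    (hG : IsLocNoethSp G) : IsLocNoethSp F := by
  obtain ⟨B, b, hb, hbs, hB⟩ := hG
  haveI : IsLocallyNoetherian B.left := hB
  obtain ⟨A, a, ha, has⟩ := hF.atlas
  obtain ⟨W, w, v, hwe, hws, hv, -⟩ := exists_etale_cover hb hbs (a ≫ f)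
  have hwa : RepWith @Etale ((yon S).map w ≫ a) := repWith_comp (repWith_yon_map hwe) ha
  haveI : LocallyOfFiniteType v.left := hf _ b v hwa hb (by rw [Category.assoc, hv])
  exact ⟨W, (yon S).map w ≫ a, hwa, repWith_comp (repWith_yon_map hws) has, LocallyOfFiniteType.isLocallyNoetherian v.left⟩

/-- Being locally Noetherian descends along faithfully flat quasi-compact maps of bases. -/
theorem isLocNoethSp_descend {T T' : Over S} (c : T' ⟶ T) [Flat c.left] [Surjective c.left] [QuasiCompact c.left]
    {Q P : Sp S} (hQ : IsAlgSpace Q) {s : Q ⟶ (yon S).obj T} {k : P ⟶ Q} {s' : P ⟶ (yon S).obj T'}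
    (sq : IsPullback k s' s ((yon S).map c)) (hP : IsLocNoethSp P) : IsLocNoethSp Q := by
  obtain ⟨A, a, ha, has⟩ := hQ.atlas
  obtain ⟨l, hl⟩ := (yon S).map_surjective (a ≫ s)
  refine ⟨A, a, ha, has, ?_⟩
  have sqA : IsPullback ((yon S).map (pullback.fst l c)) ((yon S).map (pullback.snd l c)) (a ≫ s) ((yon S).map c) := by
    rw [← hl]; exact (IsPullback.of_hasPullback l c).map (yon S)
  let z := sq.lift ((yon S).map (pullback.fst l c) ≫ a) ((yon S).map (pullback.snd l c))
    (by rw [Category.assoc]; exact sqA.w)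
  have hz : RepWith @Etale z := by
    refine repWith_of_isPullback (IsPullback.of_bot (h₁₁ := (yon S).map (pullback.fst l c)) (v₁₁ := z)
      (by rw [show z ≫ s' = _ from sq.lift_snd _ _ _]; exact sqA) (sq.lift_fst _ _ _).symm sq) ha
  haveI := isLocallyNoetherian_of_chart hP hz
  have sqL := isPullback_left (IsPullback.of_hasPullback l c)
  haveI : Flat (pullback.fst l c).left := MorphismProperty.of_isPullback (P := @Flat) sqL.flip inferInstance
  haveI : Surjective (pullback.fst l c).left := MorphismProperty.of_isPullback (P := @Surjective) sqL.flip inferInstance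
  haveI : QuasiCompact (pullback.fst l c).left := MorphismProperty.of_isPullback (P := @QuasiCompact) sqL.flip inferInstance
  exact NoethDesc.of_quasiCompact (pullback.fst l c).left

/-- A map between spectra of fields is flat, surjective and quasi-compact. -/
theorem fpqc_of_fields {K L : CommRingCat.{u}} (hK : IsField K) [Nontrivial L] (φ : K ⟶ L) :
    Flat (Spec.map φ) ∧ Surjective (Spec.map φ) ∧ QuasiCompact (Spec.map φ) := by
  letI := hK.toField
  refine ⟨?_, ⟨fun z => ?_⟩, inferInstance⟩
  · rw [HasRingHomProperty.Spec_iff (P := @Flat)]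
    letI := φ.hom.toAlgebra
    exact RingHom.flat_algebraMap_iff.mpr inferInstance
  · obtain ⟨y⟩ := (inferInstance : Nonempty (PrimeSpectrum L))
    exact ⟨y, Subsingleton.elim (α := PrimeSpectrum K) _ _⟩

/-- A morphism of spectra of fields over `S` is flat, surjective and quasi-compact. -/
theorem fpqc_of_fieldPts {K L : Type u} [Field K] [Field L] {sK : Spec (CommRingCat.of K) ⟶ S}
    {sL : Spec (CommRingCat.of L) ⟶ S} (c : Over.mk sL ⟶ Over.mk sK) :
    Flat c.left ∧ Surjective c.left ∧ QuasiCompact c.left := by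
  obtain ⟨φ, hφ⟩ : ∃ φ, Spec.map φ = (c.left : Spec (CommRingCat.of L) ⟶ Spec (CommRingCat.of K)) :=
    ⟨_, Spec.map_preimage _⟩
  have := fpqc_of_fields (K := CommRingCat.of K) (L := CommRingCat.of L) (Field.toIsField K) φ
  rw [hφ] at this
  exact this

variable {X Y : Sp S}

/-- A fibre descends to a fibre over a smaller field. -/
theorem isLocNoethSp_fibre_descend (hX : IsAlgSpace X) (hY : IsAlgSpace Y) (f : X ⟶ Y) (p q : FieldPt Y)
    (c : p.pt ⟶ q.pt) (hc : (yon S).map c ≫ q.toHom = p.toHom)
    (h : IsLocNoethSp (pullback f p.toHom)) {Q : Sp S} {qfst : Q ⟶ X} {qsnd : Q ⟶ (yon S).obj q.pt}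
    (hQ : IsPullback qfst qsnd f q.toHom) : IsLocNoethSp Q := by
  obtain ⟨h1, h2, h3⟩ := fpqc_of_fieldPts c
  have sq := IsPullback.of_hasPullback f p.toHom
  refine isLocNoethSp_descend c (isAlgSpace_of_isPullback hY.diag hX (IsAlgSpace.yon_obj _) hQ)
    (k := hQ.lift (pullback.fst f p.toHom) (pullback.snd f p.toHom ≫ (yon S).map c)
      (by rw [Category.assoc, hc]; exact sq.w))
    (IsPullback.of_right (by rw [hQ.lift_fst, hc]; exact sq) (hQ.lift_snd _ _ _) hQ) h

/-- Local Noetherianness of a fibre over a monomorphic point. -/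
theorem isLocNoethSp_fibre_mono (hX : IsAlgSpace X) (hY : IsAlgSpace Y) (f : X ⟶ Y) (p p₀ : FieldPt Y)
    (hpp : Points.mk p = Points.mk p₀) [Mono p₀.toHom]
    (h : IsLocNoethSp (pullback f p.toHom)) {Q : Sp S} {qfst : Q ⟶ X} {qsnd : Q ⟶ (yon S).obj p₀.pt}
    (hQ : IsPullback qfst qsnd f p₀.toHom) : IsLocNoethSp Q := by
  obtain ⟨c, hc⟩ := factor_of_mono hY p₀ p hpp.symm
  exact isLocNoethSp_fibre_descend hX hY f p p₀ c hc h hQ

/-- Local Noetherianness of a fibre over a chart point. -/
theorem isLocNoethSp_fibre_chart (hX : IsAlgSpace X) (hY : IsAlgSpace Y) (f : X ⟶ Y) (p : FieldPt Y)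
    (h : IsLocNoethSp (pullback f p.toHom)) {V : Over S} {b : (yon S).obj V ⟶ Y} (hb : RepWith @Etale b)
    (v : ↥V.left) (hv : Points.ofPt b v = Points.mk p)
    {Q : Sp S} {qfst : Q ⟶ X} {qsnd : Q ⟶ (yon S).obj (FieldPt.ofPt b v).pt}
    (hQ : IsPullback qfst qsnd f (FieldPt.ofPt b v).toHom) : IsLocNoethSp Q := by
  obtain ⟨e₁, he₁⟩ := (yon S).map_surjective (hb.1.fst p.toHom)
  let e₀ := hb.1.snd p.toHom
  have sqE : IsPullback ((yon S).map e₁) ((yon S).map e₀) b p.toHom := by
    rw [he₁]; exact hb.1.isPullback p.toHom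
  haveI : Etale e₀.left := hb.2 _ _ _ sqE
  obtain ⟨z, hz, -⟩ := points_exists_of_isPullback sqE (Points.ofScheme V v)
    (Points.ofScheme p.pt (IsLocalRing.closedPoint p.K))
    (by rw [← Points.ofPt_eq_map_ofScheme, ← Points.ofPt_eq_map_ofScheme, hv, Points.ofPt_toHom])
  obtain ⟨e, rfl⟩ := (Points.schemeHomeo _).surjective z
  rw [Points.map_yon_map_apply] at hz
  have hz : e₁.left e = v := (Points.schemeHomeo V).injective hz
  subst hz
  let E := hb.1.pullback p.toHom
  let o : Over.mk (E.left.fromSpecResidueField e ≫ E.hom) ⟶ E := Over.homMk (E.left.fromSpecResidueField e) rfl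
  let t : Over.mk (E.left.fromSpecResidueField e ≫ E.hom) ⟶ (FieldPt.ofPt b (e₁.left e)).pt :=
    Over.homMk (Spec.map (e₁.left.residueFieldMap e)) (by
      show Spec.map (e₁.left.residueFieldMap e) ≫ V.left.fromSpecResidueField (e₁.left e) ≫ V.hom =
        E.left.fromSpecResidueField e ≫ E.hom
      rw [Scheme.Hom.SpecMap_residueFieldMap_fromSpecResidueField_assoc, Over.w])
  let r : FieldPt Y := ⟨↥(E.left.residueField e), E.left.fromSpecResidueField e ≫ E.hom,
    (J S).uliftYonedaEquiv.{u+1} ((yon S).map (o ≫ e₀) ≫ p.toHom)⟩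
  have hr : r.toHom = (yon S).map (o ≫ e₀) ≫ p.toHom := by
    rw [FieldPt.toHom]; exact Equiv.symm_apply_apply _ _
  have hrt : (yon S).map (t : r.pt ⟶ _) ≫ (FieldPt.ofPt b (e₁.left e)).toHom = r.toHom := by
    rw [hr, FieldPt.toHom_ofPt, ← Functor.map_comp_assoc, Functor.map_comp _ o e₀, Category.assoc, ← sqE.w,
      ← Functor.map_comp_assoc]
    congr 2
    exact Over.OverMorphism.ext (Scheme.Hom.SpecMap_residueFieldMap_fromSpecResidueField e₁.left e)
  have hd : DiscreteTopology ↥E.left := by
    haveI := Groth.Agent.Unibranch.locallyQuasiFinite_of_etale e₀.left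
    exact isDiscrete_univ_iff.1 ((e₀.left.isDiscrete_preimage_singleton (IsLocalRing.closedPoint p.K)).mono
      fun x _ => Subsingleton.elim (α := ↥(Spec (CommRingCat.of p.K))) _ _)
  haveI := hd
  haveI := isClosed_singleton_iff_isClosedImmersion.mp (isClosed_discrete ({e} : Set ↥E.left))
  have hlft : LocallyOfFiniteType (o ≫ e₀).left :=
    inferInstanceAs (LocallyOfFiniteType (E.left.fromSpecResidueField e ≫ e₀.left))
  have sqp := IsPullback.of_hasPullback f p.toHom
  have sqr : IsPullback (pullback.fst f r.toHom) (pullback.snd f r.toHom) f ((yon S).map (o ≫ e₀) ≫ p.toHom) := by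
    rw [← hr]; exact IsPullback.of_hasPullback _ _
  have hN : IsLocNoethSp (pullback f r.toHom) := by
    refine isLocNoethSp_of_lft (isAlgSpace_pullback hY.diag hX (IsAlgSpace.yon_obj _) f r.toHom)
      (f := sqp.lift (pullback.fst f r.toHom) (pullback.snd f r.toHom ≫ (yon S).map (o ≫ e₀))
        (by rw [sqr.w, Category.assoc])) ?_ h
    exact locP_of_repWith (repWith_of_isPullback
      (IsPullback.of_right (by rw [sqp.lift_fst]; exact sqr) (sqp.lift_snd _ _ _) sqp).flip
      (repWith_yon_map hlft))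
  exact isLocNoethSp_fibre_descend hX hY f r _ t hrt hN hQ

end Groth.Agent.ASp
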