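import Groth.Agent.ASp.ThickTop
import Groth.Agent.ASp.LocP
import Groth.Agent.ASp.SepDiag
import Groth.Agent.ASp.AffMor
import Groth.Agent.ASp.LqfRep
/-!
Proper and finite morphisms along cartesian thickenings.
-/

set_option autoImplicit false
set_option backward.isDefEq.respectTransparency false
set_option backward.isDefEq.respectTransparency.types false

universe u

open CategoryTheory CategoryTheory.Limits AlgebraicGeometry Opposite

namespace Groth.Agent.ASp

open _root_.AlgSp

variable {S : Scheme.{u}} {X X' Y Y' : Sp S} {i : X ⟶ X'} {j : Y ⟶ Y'} {f : X ⟶ Y} {f' : X' ⟶ Y'}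

theorem isQuasiCompactMor_thick_iff (hi : IsThickMor i) (hj : IsThickMor j) (w : i ≫ f' = f ≫ j)
    (hX : IsAlgSpace X) (hX' : IsAlgSpace X') (hY : IsAlgSpace Y) (hY' : IsAlgSpace Y') :
    IsQuasiCompactMor f ↔ IsQuasiCompactMor f' := by
  constructor
  · intro h Z P' hZ hqc g p' q' sq'
    obtain ⟨Zj, P, c, gj, p, q, e, hZj, sq, hc, he, -⟩ := exists_baseChange_thick hi hj w hY hY' hZ g sq'
    haveI := compactSpace_of_isQuasiCompactSp hqc
    haveI : CompactSpace (Points Zj) := (isHomeomorph_map_of_thick hc).homeomorph.symm.compactSpace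
    haveI := compactSpace_of_isQuasiCompactSp (h hZj (isQuasiCompactSp_of_compactSpace hZj) gj p q sq)
    haveI : CompactSpace (Points P') := (isHomeomorph_map_of_thick he).homeomorph.compactSpace
    exact isQuasiCompactSp_of_compactSpace (isAlgSpace_of_isPullback hY'.diag hX' hZ sq')
  · intro h Z P hZ hqc g p q sq
    obtain ⟨P', p', q', e, sq', he, -⟩ := exists_baseChange_thick' hi hj w g sq
    haveI := compactSpace_of_isQuasiCompactSp (h hZ hqc (g ≫ j) p' q' sq')
    haveI : CompactSpace (Points P) := (isHomeomorph_map_of_thick he).homeomorph.symm.compactSpace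
    exact isQuasiCompactSp_of_compactSpace (isAlgSpace_of_isPullback hY.diag hX hZ sq)

theorem isUnivClosedMor_thick_iff (hi : IsThickMor i) (hj : IsThickMor j) (w : i ≫ f' = f ≫ j)
    (hY : IsAlgSpace Y) (hY' : IsAlgSpace Y') : IsUnivClosedMor f ↔ IsUnivClosedMor f' := by
  have hcomp : ∀ {A B C : Sp S} (e : A ⟶ B) (q : B ⟶ C),
      Points.map (e ≫ q) = Points.map q ∘ Points.map e := fun e q => funext fun x => Points.map_comp e q x
  refine univSp_iff hi hj w hY hY' _ (fun e q hh => ?_) (fun q c hc => ?_) <;>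
    show IsClosedMap _ ↔ IsClosedMap _ <;> rw [hcomp]
  · exact ⟨fun h => fun K hK => by
      have := h _ (hK.preimage hh.continuous)
      rwa [Set.image_comp, Set.image_preimage_eq K hh.surjective] at this, fun h => h.comp hh.isClosedMap⟩
  · exact ⟨fun h => fun K hK => by
      have := (h K hK).preimage hc.continuous
      rwa [Set.image_comp, Set.preimage_image_eq _ hc.injective] at this, fun h => hc.isClosedMap.comp h⟩

theorem isSeparatedMor_thick_iff (hi : IsThickMor i) (hj : IsThickMor j) (w : i ≫ f' = f ≫ j)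
    (hX : IsAlgSpace X) (hX' : IsAlgSpace X') (hY : IsAlgSpace Y) (hY' : IsAlgSpace Y') :
    IsSeparatedMor f ↔ IsSeparatedMor f' := by
  haveI := mono_of_thick hj
  have sqP := IsPullback.of_hasPullback f f
  have h1 : IsPullback f (𝟙 X) (𝟙 Y) f := IsPullback.of_vert_isIso ⟨by simp⟩
  have ho : IsPullback (pullback.fst f f) (pullback.snd f f) (i ≫ f') (i ≫ f') := by
    rw [w]
    simpa using sqP.paste_vert (h1.paste_horiz
      (IsKernelPair.id_of_mono j : IsPullback (𝟙 Y) (𝟙 Y) j j))
  have sqQ := IsPullback.of_hasPullback f' (i ≫ f')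
  have sqR := IsPullback.of_hasPullback f' f'
  let e₁ : pullback f f ⟶ pullback f' (i ≫ f') :=
    sqQ.lift (pullback.fst _ _ ≫ i) (pullback.snd _ _) (by rw [Category.assoc]; exact ho.w)
  let e₂ : pullback f' (i ≫ f') ⟶ pullback f' f' :=
    sqR.lift (pullback.fst _ _) (pullback.snd _ _ ≫ i) (by rw [Category.assoc]; exact sqQ.w)
  have he₁ : IsThickMor e₁ := isThickMor_of_isPullback
    (IsPullback.of_bot (by rw [sqQ.lift_snd]; exact ho) (sqQ.lift_fst _ _ _).symm sqQ) hi
  have he₂ : IsThickMor e₂ := isThickMor_of_isPullback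
    (IsPullback.of_bot (by rw [sqR.lift_fst]; exact sqQ.flip) (sqR.lift_snd _ _ _).symm sqR.flip) hi
  have he : IsThickMor (e₁ ≫ e₂) := by
    haveI : (thick.{u}).IsStableUnderComposition := ⟨fun a b ha hb =>
      ⟨MorphismProperty.comp_mem _ _ _ ha.1 hb.1, MorphismProperty.comp_mem _ _ _ ha.2 hb.2⟩⟩
    exact repWith_comp he₁ he₂
  have wd : i ≫ pullback.diagonal f' = pullback.diagonal f ≫ e₁ ≫ e₂ := by
    apply pullback.hom_ext
    · simp only [e₁, e₂, Category.assoc, pullback.diagonal_fst, sqR.lift_fst, sqQ.lift_fst,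
        pullback.diagonal_fst_assoc, Category.comp_id]
    · simp only [e₁, e₂, Category.assoc, pullback.diagonal_snd, sqR.lift_snd, sqQ.lift_snd_assoc,
        pullback.diagonal_snd_assoc, Category.comp_id]
  rw [isSeparatedMor_iff_univClosed_diag hX, isSeparatedMor_iff_univClosed_diag hX']
  exact isUnivClosedMor_thick_iff hi he wd (isAlgSpace_pullback hY.diag hX hX _ _)
    (isAlgSpace_pullback hY'.diag hX' hX' _ _)

/-- For cartesian thickenings the chart of `f'` restricts to a chart of `f`. -/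
theorem exists_chart_cartesian (hi : IsThickMor i) (hj : IsThickMor j) (hc : IsPullback i f f' j)
    {U' V' : Over S} {a' : (yon S).obj U' ⟶ X'} {b' : (yon S).obj V' ⟶ Y'} (ha' : RepWith @Etale a')
    (hb' : RepWith @Etale b') {k' : U' ⟶ V'} (e' : a' ≫ f' = (yon S).map k' ≫ b') :
    ∃ (U V : Over S) (a : (yon S).obj U ⟶ X) (b : (yon S).obj V ⟶ Y) (k : U ⟶ V) (ιU : U ⟶ U')
      (ιV : V ⟶ V'), RepWith @Etale a ∧ RepWith @Etale b ∧ a ≫ f = (yon S).map k ≫ b ∧
      thick ιU.left ∧ thick ιV.left ∧ IsPullback ιU.left k.left k'.left ιV.left := by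
  obtain ⟨U, a, ιU, sqU⟩ : ∃ (U : Over S) (a : (yon S).obj U ⟶ X) (ιU : U ⟶ U'),
      IsPullback a ((yon S).map ιU) i a' := ⟨_, _, _, hi.1.isPullback a'⟩
  obtain ⟨V, b, ιV, sqV⟩ : ∃ (V : Over S) (b : (yon S).obj V ⟶ Y) (ιV : V ⟶ V'),
      IsPullback b ((yon S).map ιV) j b' := ⟨_, _, _, hj.1.isPullback b'⟩
  obtain ⟨k, hk⟩ := (yon S).map_surjective (sqV.lift (a ≫ f) ((yon S).map (ιU ≫ k'))
    (by rw [Functor.map_comp, Category.assoc, Category.assoc, ← e', ← reassoc_of% sqU.w, hc.w]))
  have hk1 : (yon S).map k ≫ b = a ≫ f := by rw [hk, sqV.lift_fst]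
  have hk2 : k ≫ ιV = ιU ≫ k' := (yon S).map_injective (by rw [Functor.map_comp, hk, sqV.lift_snd])
  have hout : IsPullback ((yon S).map ιU) (a ≫ f) (a' ≫ f') j := sqU.flip.paste_vert hc
  rw [e', ← hk1] at hout
  have sq : IsPullback ((yon S).map ιU) ((yon S).map k) ((yon S).map k') ((yon S).map ιV) :=
    IsPullback.of_bot hout (by rw [← Functor.map_comp, ← Functor.map_comp, hk2]) sqV.flip
  exact ⟨U, V, a, b, k, ιU, ιV, repWith_of_isPullback sqU.flip ha', repWith_of_isPullback sqV.flip hb',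
    hk1.symm, hi.2 _ _ _ sqU, hj.2 _ _ _ sqV, isPullback_left (isPullback_of_yon_map sq)⟩

theorem locP_lqf_of_thick (hi : IsThickMor i) (hj : IsThickMor j) (hc : IsPullback i f f' j)
    (hft' : LocP @LocallyOfFiniteType f')
    (h : LocP (@LocallyQuasiFinite ⊓ @LocallyOfFiniteType) f) :
    LocP (@LocallyQuasiFinite ⊓ @LocallyOfFiniteType) f' := by
  intro U' V' a' b' k' ha' hb' e'
  obtain ⟨U, V, a, b, k, ιU, ιV, ha, hb, e, hthU, hthV, sqs⟩ := exists_chart_cartesian hi hj hc ha' hb' e'
  have hP := h a b k ha hb e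
  haveI : LocallyOfFiniteType k'.left := hft' a' b' k' ha' hb' e'
  haveI : IsClosedImmersion ιU.left := hthU.1
  haveI : IsClosedImmersion ιV.left := hthV.1
  haveI : LocallyQuasiFinite k.left := hP.1
  refine ⟨?_, inferInstance⟩
  rw [locallyQuasiFinite_iff_isDiscrete_preimage_singleton]
  intro y
  obtain ⟨y₀, rfl⟩ := hthV.2.surj y
  have hd := k.left.isDiscrete_preimage_singleton y₀
  have e2 : k'.left ⁻¹' {ιV.left y₀} = ιU.left '' (k.left ⁻¹' {y₀}) := by
    ext x
    constructor
    · intro hx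
      obtain ⟨x₀, rfl⟩ := hthU.2.surj x
      refine ⟨x₀, ιV.left.isEmbedding.injective ?_, rfl⟩
      rw [← Scheme.Hom.comp_apply, ← sqs.w, Scheme.Hom.comp_apply]
      exact hx
    · rintro ⟨x₀, hx₀, rfl⟩
      show k'.left (ιU.left x₀) = _
      rw [← Scheme.Hom.comp_apply, sqs.w, Scheme.Hom.comp_apply]
      exact congrArg ιV.left hx₀
  rw [e2]
  exact hd.image ιU.left.isEmbedding.isInducing

/-- Properness does not see cartesian thickenings, given finite type upstairs. -/
theorem isProperMor_thick_iff (hi : IsThickMor i) (hj : IsThickMor j) (hc : IsPullback i f f' j)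
    (hX : IsAlgSpace X) (hX' : IsAlgSpace X') (hY : IsAlgSpace Y) (hY' : IsAlgSpace Y')
    (hft' : LocP @LocallyOfFiniteType f') : IsProperMor f ↔ IsProperMor f' := by
  have hft : LocP @LocallyOfFiniteType f := locP_of_isPullback hc.flip hX' hY' hY hft'
  rw [IsProperMor, IsProperMor, isSeparatedMor_thick_iff hi hj hc.w hX hX' hY hY',
    isUnivClosedMor_thick_iff hi hj hc.w hY hY', IsFiniteTypeMor, IsFiniteTypeMor,
    isQuasiCompactMor_thick_iff hi hj hc.w hX hX' hY hY']
  exact and_congr Iff.rfl (and_congr (and_congr (iff_of_true hft hft') Iff.rfl) Iff.rfl)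

/-- Finiteness does not see cartesian thickenings, given finite type upstairs. -/
theorem isFiniteMor_thick_iff (hi : IsThickMor i) (hj : IsThickMor j) (hc : IsPullback i f f' j)
    (hX : IsAlgSpace X) (hX' : IsAlgSpace X') (hY : IsAlgSpace Y) (hY' : IsAlgSpace Y')
    (hft' : LocP @LocallyOfFiniteType f') : IsFiniteMor f ↔ IsFiniteMor f' := by
  rw [isFiniteMor_iff hX hY, isFiniteMor_iff hX' hY']
  refine ⟨fun h => ?_, fun h => repWith_of_isPullback hc h⟩
  have hp : IsProperMor f := isProperMor_of_repWith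
    (repWith_mono (fun _ _ k hk => by have : IsFinite k := hk; exact inferInstance) h)
  obtain ⟨hs, ⟨-, hqc⟩, huc⟩ := (isProperMor_thick_iff hi hj hc hX hX' hY hY' hft').1 hp
  have hqf := locP_lqf_of_thick hi hj hc hft'
    (locP_of_repWith (repWith_mono (fun _ _ k hk => by
      have : IsFinite k := hk
      exact ⟨inferInstance, inferInstance⟩) h))
  have hr := representable_of_sep_lqf hX' hY' f' hqf hs
  have h1 := (isSeparatedMor_iff hr).1 hs
  have h2 := (repWith_universallyClosed_iff hr).2 huc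
  have h3 := (repWith_quasiCompact_iff hr).2 hqc
  have h4 := repWith_of_locP hY' hr hqf
  refine ⟨hr, fun T W g fst snd sq => ?_⟩
  haveI : IsSeparated snd.left := h1.2 _ _ _ sq
  haveI : UniversallyClosed snd.left := h2.2 _ _ _ sq
  haveI : QuasiCompact snd.left := h3.2 _ _ _ sq
  haveI : LocallyQuasiFinite snd.left := (h4.2 _ _ _ sq).1
  haveI : LocallyOfFiniteType snd.left := (h4.2 _ _ _ sq).2
  haveI : IsProper snd.left := { }
  exact IsFinite.of_isProper_of_locallyQuasiFinite snd.left

end Groth.Agent.ASp
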