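import Groth.Prelude
import Groth.Agent.ASp.GeomRedSpace
import Groth.Agent.ASp.IntegralDim
import Groth.Agent.ASp.QfFibre
import Groth.Agent.ASp.GenFinite
import Groth.Agent.FibreComp.DimSpace
import Groth.Agent.FibreDimEt.Sp
import Groth.Agent.S9777
import Groth.Agent.S0402
import Groth.Agent.S0404
/-!
Fibre dimensions of morphisms of algebraic spaces.
-/

set_option autoImplicit false
set_option backward.isDefEq.respectTransparency false
set_option linter.style.haveILetI false

universe u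

open CategoryTheory CategoryTheory.Limits AlgebraicGeometry Opposite Topology

namespace Groth.Agent.ASp

open _root_.AlgSp

variable {S : Scheme.{u}}

theorem dim_eq_of_atlas {X : Sp S} {U : Over S} {a : (yon S).obj U ⟶ X} (ha : RepWith @Etale a)
    (has : RepWith @Surjective a) : AlgSp.dim X = topologicalKrullDim ↥U.left := by
  refine le_antisymm (iSup_le fun W => iSup_le fun c => iSup_le fun hc => ?_) (le_dim a ha)
  rw [DimFormulaLib.topologicalKrullDim_eq_iSup_localDim]
  refine iSup_le fun w => ?_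
  obtain ⟨u, hu⟩ := surjective_ofPt has (Points.ofPt c w)
  obtain ⟨P, t, s, r, ht, hs, -, -, rfl⟩ := exists_common_point ha hc hu
  haveI := ht
  haveI := hs
  rw [localDim_eq_of_etale s.left r, ← localDim_eq_of_etale t.left r]
  exact localDim_le_topologicalKrullDim _ _

/-- An atlas of a space over a scheme pulls back to an atlas of a base change. -/
theorem exists_atlas_baseChange {T T' : Over S} (d : T' ⟶ T) {F F' : Sp S} {q : F ⟶ (yon S).obj T} {m : F' ⟶ F}
    {q' : F' ⟶ (yon S).obj T'} (sq : IsPullback m q' q ((yon S).map d)) {W : Over S} {a : (yon S).obj W ⟶ F}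
    (ha : RepWith @Etale a) (has : RepWith @Surjective a) {c : W ⟶ T} (hc : a ≫ q = (yon S).map c)
    {W' : Over S} {o : W' ⟶ W} {i : W' ⟶ T'} (sqW : IsPullback o i c d) :
    ∃ a' : (yon S).obj W' ⟶ F', RepWith @Etale a' ∧ RepWith @Surjective a' := by
  let a' := sq.lift ((yon S).map o ≫ a) ((yon S).map i)
    (by rw [Category.assoc, hc, ← Functor.map_comp, ← Functor.map_comp, sqW.w])
  have h : IsPullback ((yon S).map o) a' a m := by
    refine IsPullback.of_bot ?_ (sq.lift_fst _ _ _).symm sq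
    rw [sq.lift_snd, hc]
    exact isPullback_yon_map sqW
  exact ⟨a', repWith_of_isPullback h ha, repWith_of_isPullback h has⟩

theorem localDim_fiber_eq {U V : Scheme.{u}} (g : U ⟶ V) {v : ↥V} (z : ↥(g.fiber v)) :
    FlatMor.localDim ↥(g.fiber v) z = FlatMor.fibreDimAt g (g.fiberι v z) := by
  have hv : g (g.fiberι v z) = v := by
    have : g.fiberι v z ∈ Set.range (g.fiberι v) := ⟨z, rfl⟩
    rw [Scheme.Hom.range_fiberι] at this
    exact this
  have key : ∀ (u : ↥U) (_ : g u = v) (z : ↥(g.fiber v)), g.fiberι v z = u →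
      FlatMor.localDim ↥(g.fiber v) z = FlatMor.fibreDimAt g u := by
    intro u hu z hz
    subst hu
    rw [(g.fiberι (g u)).isEmbedding.injective (hz.trans (g.fiberι_asFiber u).symm)]
    rfl
  exact key _ hv z rfl

theorem topologicalKrullDim_fiber_le_iff {U V : Scheme.{u}} (g : U ⟶ V) (v : ↥V) (c : WithBot ℕ∞) :
    topologicalKrullDim ↥(g.fiber v) ≤ c ↔ ∀ u, g u = v → FlatMor.fibreDimAt g u ≤ c := by
  rw [DimFormulaLib.topologicalKrullDim_eq_iSup_localDim, iSup_le_iff]
  constructor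
  · intro h u hu
    subst hu
    exact h (g.asFiber u)
  · intro h z
    rw [localDim_fiber_eq g z]
    refine h _ ?_
    have : g.fiberι v z ∈ Set.range (g.fiberι v) := ⟨z, rfl⟩
    rw [Scheme.Hom.range_fiberι] at this
    exact this

theorem topologicalKrullDim_fiber_eq_bot_iff {U V : Scheme.{u}} (g : U ⟶ V) [LocallyOfFiniteType g] (v : ↥V) :
    topologicalKrullDim ↥(g.fiber v) = ⊥ ↔ ∀ u, g u ≠ v := by
  rw [← le_bot_iff, topologicalKrullDim_fiber_le_iff]
  refine ⟨fun h u hu => ?_, fun h u hu => absurd hu (h u)⟩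
  obtain ⟨d, t, -, -, hD⟩ := exists_fibre_dims g u
  have := h u hu
  rw [hD, le_bot_iff] at this
  exact WithBot.natCast_ne_bot (d + t) (by exact_mod_cast this)

theorem exists_nat_fibreDimAt_le {U V : Scheme.{u}} (g : U ⟶ V) [LocallyOfFiniteType g] [CompactSpace ↥U] :
    ∃ n : ℕ, ∀ u, FlatMor.fibreDimAt g u ≤ (n : WithBot ℕ∞) := by
  have hcov : (Set.univ : Set ↥U) ⊆ ⋃ n : ℕ, {u | FlatMor.fibreDimAt g u ≤ (n : WithBot ℕ∞)} := fun u _ => by
    obtain ⟨d, t, -, -, hD⟩ := exists_fibre_dims g u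
    exact Set.mem_iUnion.2 ⟨d + t, by rw [Set.mem_setOf_eq, hD]⟩
  obtain ⟨s, hs⟩ := isCompact_univ.elim_finite_subcover _ (fun n => Groth.Agent.S0402.result g n) hcov
  refine ⟨s.sup id, fun u => ?_⟩
  obtain ⟨n, hn, hu⟩ := Set.mem_iUnion₂.1 (hs (Set.mem_univ u))
  exact le_trans hu (by exact_mod_cast Finset.le_sup (f := id) hn)

variable {X Y : Space S} {f : X ⟶ Y}

/-- Charts of the base change of `f` to a scheme over `Y`. -/
structure FibreChart (f : X ⟶ Y) {V : Over S} (b : (yon S).obj V ⟶ Y.obj) where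
  U : Over S
  a : (yon S).obj U ⟶ pullback f.hom b
  g : U ⟶ V
  ha : RepWith @Etale a
  has : RepWith @Surjective a
  hg : a ≫ pullback.snd f.hom b = (yon S).map g

namespace FibreChart

variable {V : Over S} {b : (yon S).obj V ⟶ Y.obj}

theorem isAlgSpace_base (f : X ⟶ Y) (b : (yon S).obj V ⟶ Y.obj) : IsAlgSpace (pullback f.hom b) :=
  isAlgSpace_of_isPullback Y.2.diag X.2 (IsAlgSpace.yon_obj V) (IsPullback.of_hasPullback f.hom b)

theorem nonempty (f : X ⟶ Y) (b : (yon S).obj V ⟶ Y.obj) : Nonempty (FibreChart f b) := by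
  obtain ⟨U, a, ha, has⟩ := (isAlgSpace_base f b).atlas
  obtain ⟨g, hg⟩ := (yon S).map_surjective (a ≫ pullback.snd f.hom b)
  exact ⟨⟨U, a, g, ha, has, hg.symm⟩⟩

theorem exists_affine (f : X ⟶ Y) [IsAffine V.left] (b : (yon S).obj V ⟶ Y.obj)
    (hq : IsQuasiCompactMor f.hom) : ∃ D : FibreChart f b, IsAffine D.U.left := by
  obtain ⟨E, ε, hε, hεs, hE⟩ := hq (IsAlgSpace.yon_obj V) isQuasiCompactSp_yon b _ _
    (IsPullback.of_hasPullback f.hom b)
  haveI : CompactSpace ↥E.left := hE
  obtain ⟨A, c, hA, hce, hcs⟩ := exists_affine_etale_surj E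
  obtain ⟨g, hg⟩ := (yon S).map_surjective (((yon S).map c ≫ ε) ≫ pullback.snd f.hom b)
  exact ⟨⟨A, (yon S).map c ≫ ε, g, repWith_comp (repWith_yon_map hce) hε, repWith_comp (repWith_yon_map hcs) hεs,
    hg.symm⟩, hA⟩

variable (D : FibreChart f b)

theorem prop_g {P : MorphismProperty Scheme.{u}} [IsEtLocal P] [P.IsStableUnderBaseChange]
    [IsZariskiLocalAtSource P] (h : LocP P f.hom) : P D.g.left :=
  (locP_of_isPullback (IsPullback.of_hasPullback f.hom b).flip X.2 Y.2 (IsAlgSpace.yon_obj V) h) D.a (𝟙 _) D.g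
    D.ha (repWith_id _ V) (by rw [Category.comp_id, D.hg])

theorem lft_g (h : LocP @LocallyOfFiniteType f.hom) : LocallyOfFiniteType D.g.left :=
  (locP_of_isPullback (IsPullback.of_hasPullback f.hom b).flip X.2 Y.2 (IsAlgSpace.yon_obj V) h) D.a (𝟙 _) D.g
    D.ha (repWith_id _ V) (by rw [Category.comp_id, D.hg])

/-- The dimension of a fibre is read on the chart. -/
theorem dim_eq (hlft : LocP @LocallyOfFiniteType f.hom) (v : ↥V.left) (k : FieldPt Y.obj)
    (hk : Points.mk k = Points.ofPt b v) {Xk : Sp S} {fst : Xk ⟶ X.obj} {snd : Xk ⟶ (yon S).obj k.pt}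
    (sq : IsPullback fst snd f.hom k.toHom) : AlgSp.dim Xk = topologicalKrullDim ↥(D.g.left.fiber v) := by
  haveI := D.lft_g hlft
  obtain ⟨Ω, _, w, α, β, hαβ⟩ := Points.mk_eq_mk_iff.1 (hk.trans rfl : Points.mk k = Points.mk (FieldPt.ofPt b v))
  let jv : (FieldPt.ofPt b v).pt ⟶ V := Over.homMk (V.left.fromSpecResidueField v) rfl
  have hΩ : (yon S).map α ≫ k.toHom = (yon S).map (β ≫ jv) ≫ b := by
    rw [yon_map_toHom_eq α β hαβ, FieldPt.toHom_ofPt, Functor.map_comp_assoc]
  obtain ⟨W, aW, haW, haWs⟩ :=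
    (isAlgSpace_of_isPullback Y.2.diag X.2 (IsAlgSpace.yon_obj k.pt) sq).atlas
  obtain ⟨c, hc⟩ := (yon S).map_surjective (aW ≫ snd)
  haveI : LocallyOfFiniteType c.left :=
    (locP_of_isPullback sq.flip X.2 Y.2 (IsAlgSpace.yon_obj k.pt) hlft) aW (𝟙 _) c haW (repWith_id _ k.pt)
      (by rw [Category.comp_id, hc])
  rw [dim_eq_of_atlas haW haWs]
  have sqΩ := IsPullback.of_hasPullback snd ((yon S).map α)
  have sqX : IsPullback (pullback.fst snd ((yon S).map α) ≫ fst) (pullback.snd snd ((yon S).map α)) f.hom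
      ((yon S).map (β ≫ jv) ≫ b) := hΩ ▸ sqΩ.paste_horiz sq
  -- first chart
  obtain ⟨W', o, i, sqW⟩ : ∃ (W' : Over S) (o : W' ⟶ W) (i : W' ⟶ Over.mk w), IsPullback o i c α :=
    ⟨_, _, _, IsPullback.of_hasPullback c α⟩
  obtain ⟨aW', haW', haW's⟩ := exists_atlas_baseChange α sqΩ haW haWs hc.symm sqW
  -- second chart
  let sqF := IsPullback.of_hasPullback f.hom b
  let m : pullback snd ((yon S).map α) ⟶ pullback f.hom b :=
    sqF.lift (pullback.fst snd ((yon S).map α) ≫ fst) (pullback.snd snd ((yon S).map α) ≫ (yon S).map (β ≫ jv))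
      (by rw [sqX.w, Category.assoc])
  have sqm : IsPullback m (pullback.snd snd ((yon S).map α)) (pullback.snd f.hom b) ((yon S).map (β ≫ jv)) := by
    refine IsPullback.of_right ?_ (sqF.lift_snd _ _ _) sqF
    rw [sqF.lift_fst]
    exact sqX
  obtain ⟨U', o', i', sqU⟩ : ∃ (U' : Over S) (o' : U' ⟶ D.U) (i' : U' ⟶ Over.mk w), IsPullback o' i' D.g (β ≫ jv) :=
    ⟨_, _, _, IsPullback.of_hasPullback D.g (β ≫ jv)⟩
  obtain ⟨aU', haU', haU's⟩ := exists_atlas_baseChange (β ≫ jv) sqm D.ha D.has D.hg sqU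
  -- compare
  obtain ⟨φ, hφ⟩ : ∃ φ : CommRingCat.of k.K ⟶ CommRingCat.of Ω, Spec.map φ = α.left := Spec.map_surjective α.left
  obtain ⟨ψ, hψ⟩ : ∃ ψ : CommRingCat.of (FieldPt.ofPt b v).K ⟶ CommRingCat.of Ω, Spec.map ψ = β.left :=
    Spec.map_surjective β.left
  have h1 : topologicalKrullDim ↥W'.left = topologicalKrullDim ↥W.left := by
    have h := isPullback_left sqW
    rw [← hφ] at h
    exact Groth.Agent.S9777.dim_eq (k := k.K) (K := Ω) i.left c.left h
  have h2 : topologicalKrullDim ↥U'.left = topologicalKrullDim ↥(D.g.left.fiber v) := by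
    have h := isPullback_left sqU
    have e : (β ≫ jv).left = β.left ≫ V.left.fromSpecResidueField v := rfl
    rw [e] at h
    let sqv := IsPullback.of_hasPullback D.g.left (V.left.fromSpecResidueField v)
    let l := sqv.lift o'.left (i'.left ≫ β.left) (by rw [h.w, Category.assoc])
    have h' : IsPullback l i'.left (D.g.left.fiberToSpecResidueField v) β.left := by
      refine IsPullback.of_right ?_ (sqv.lift_snd _ _ _) sqv
      rw [sqv.lift_fst]
      exact h
    rw [← hψ] at h'
    haveI : LocallyOfFiniteType (D.g.left.fiberToSpecResidueField v) :=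
      MorphismProperty.pullback_snd _ _ inferInstance
    exact Groth.Agent.S9777.dim_eq (k := (FieldPt.ofPt b v).K) (K := Ω) i'.left
      (D.g.left.fiberToSpecResidueField v) h'
  rw [← h1, ← h2, ← dim_eq_of_atlas haW' haW's, dim_eq_of_atlas haU' haU's]

theorem exists_point_iff (v : ↥V.left) :
    (∃ u, D.g.left u = v) ↔ Points.ofPt b v ∈ Set.range (Points.map f.hom) := by
  constructor
  · rintro ⟨u, rfl⟩
    refine ⟨Points.ofPt (D.a ≫ pullback.fst f.hom b) u, ?_⟩
    rw [Points.map_ofPt, Category.assoc, pullback.condition, reassoc_of% D.hg, ofPt_yon_map_comp]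
  · rintro ⟨x, hx⟩
    obtain ⟨z, -, hz⟩ := points_exists_of_isPullback (IsPullback.of_hasPullback f.hom b) x (Points.ofScheme V v)
      (by rw [hx, Points.ofPt_eq_map_ofScheme])
    obtain ⟨u, rfl⟩ := surjective_ofPt D.has z
    refine ⟨u, (Points.schemeHomeo V).injective ?_⟩
    rw [Points.map_ofPt, D.hg, Points.ofPt_eq_map_ofScheme] at hz
    exact (Points.map_yon_map_apply D.g u).symm.trans hz

end FibreChart

/-- The condition on all fibres over a point is read on any chart. -/
theorem forall_fibre_iff {V : Over S} {b : (yon S).obj V ⟶ Y.obj} (D : FibreChart f b)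
    (hlft : LocP @LocallyOfFiniteType f.hom) (P : WithBot ℕ∞ → Prop) (v : ↥V.left) :
    (∀ (k : FieldPt Y.obj), Points.mk k = Points.ofPt b v →
      ∀ (Xk : Sp S) (fst : Xk ⟶ X.obj) (snd : Xk ⟶ (yon S).obj k.pt),
        IsPullback fst snd f.hom k.toHom → P (AlgSp.dim Xk)) ↔ P (topologicalKrullDim ↥(D.g.left.fiber v)) := by
  refine ⟨fun h => ?_, fun h k hk Xk fst snd sq => (D.dim_eq hlft v k hk sq).symm ▸ h⟩
  have sq := IsPullback.of_hasPullback f.hom (FieldPt.ofPt b v).toHom
  rw [← D.dim_eq hlft v (FieldPt.ofPt b v) rfl sq]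
  exact h _ rfl _ _ _ sq

/-- Openness of a condition on fibres is tested on affine schemes etale over the base. -/
theorem isOpen_fibre_condition (P : WithBot ℕ∞ → Prop)
    (h : ∀ (V : Over S), IsAffine V.left → ∀ (b : (yon S).obj V ⟶ Y.obj), RepWith @Etale b →
      ∃ D : FibreChart f b, IsOpen {v : ↥V.left | P (topologicalKrullDim ↥(D.g.left.fiber v))})
    (hlft : LocP @LocallyOfFiniteType f.hom) :
    IsOpen {y : Points Y.obj | ∀ (k : FieldPt Y.obj), Points.mk k = y →
      ∀ (Xk : Sp S) (fst : Xk ⟶ X.obj) (snd : Xk ⟶ (yon S).obj k.pt),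
        IsPullback fst snd f.hom k.toHom → P (AlgSp.dim Xk)} := by
  obtain ⟨U, p, hp, hps⟩ := Y.2.atlas
  have H : ∀ T : Set (Points Y.obj), IsOpen (Points.ofPt p ⁻¹' T) → IsOpen T :=
    fun T hT => Set.image_preimage_eq T (surjective_ofPt hps) ▸ isOpenMap_ofPt_of_etale hp _ hT
  refine H _ (isOpen_iff_forall_mem_open.2 fun u hu => ?_)
  obtain ⟨B, hB, huB, -⟩ := exists_isAffineOpen_mem_and_subset (x := u) (U := (⊤ : U.left.Opens)) trivial
  let b := (yon S).map (openInc B) ≫ p
  obtain ⟨D, hD⟩ := h (openOver B) hB b (repWith_comp (repWith_yon_map (inferInstanceAs (Etale B.ι))) hp)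
  have key := forall_fibre_iff D hlft P
  refine ⟨B.ι '' {v | P (topologicalKrullDim ↥(D.g.left.fiber v))}, ?_, B.ι.isOpenEmbedding.isOpenMap _ hD,
    ⟨⟨u, huB⟩, ?_, rfl⟩⟩
  · rintro _ ⟨v, hv, rfl⟩
    have := (key v).2 hv
    rwa [show Points.ofPt b v = Points.ofPt p (B.ι v) from ofPt_yon_map_comp _ _ _] at this
  · refine (key ⟨u, huB⟩).1 ?_
    rw [show Points.ofPt b ⟨u, huB⟩ = Points.ofPt p u from ofPt_yon_map_comp _ _ _]
    exact hu

theorem exists_chart_lowerSemicont (hfl : LocP @Flat f.hom) (hfp : LocP @LocallyOfFinitePresentation f.hom)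
    (hq : IsQuasiCompactMor f.hom) (c : WithBot ℕ∞) {V : Over S} [IsAffine V.left]
    (b : (yon S).obj V ⟶ Y.obj) :
    ∃ D : FibreChart f b, IsOpen {v : ↥V.left | c < topologicalKrullDim ↥(D.g.left.fiber v)} := by
  obtain ⟨D, hD⟩ := FibreChart.exists_affine f b hq
  haveI := hD
  haveI : Flat D.g.left := D.prop_g hfl
  haveI : LocallyOfFinitePresentation D.g.left := D.prop_g hfp
  haveI : QuasiCompact D.g.left := (quasiCompact_iff_compactSpace D.g.left).2 inferInstance
  exact ⟨D, Groth.Agent.S0404.result D.g.left c⟩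

theorem isOpen_fiberDim_le_nat {V : Over S} {b : (yon S).obj V ⟶ Y.obj} (D : FibreChart f b)
    (hlft : LocP @LocallyOfFiniteType f.hom) (hu : IsUnivClosedMor f.hom) (n : ℕ) :
    IsOpen {v : ↥V.left | topologicalKrullDim ↥(D.g.left.fiber v) ≤ (n : WithBot ℕ∞)} := by
  haveI := D.lft_g hlft
  let O : Set ↥D.U.left := {u | FlatMor.fibreDimAt D.g.left u ≤ (n : WithBot ℕ∞)}
  have hO : IsOpen O := Groth.Agent.S0402.result D.g.left n
  have hinv : ∀ u u', Points.ofPt D.a u = Points.ofPt D.a u' → u ∈ O → u' ∈ O := fun u u' e h => by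
    show FlatMor.fibreDimAt D.g.left u' ≤ (n : WithBot ℕ∞)
    rw [← FibreDimEt.fibreDimAt_eq_of_charts (f := pullback.snd f.hom b) D.ha (repWith_id _ V)
      (by rw [Category.comp_id, D.hg]) D.ha (repWith_id _ V) (by rw [Category.comp_id, D.hg]) e]
    exact h
  have hC : IsClosed (Points.ofPt D.a '' O)ᶜ := (isOpenMap_ofPt_of_etale D.ha _ hO).isClosed_compl
  have him := hu (IsAlgSpace.yon_obj V) b _ _ (IsPullback.of_hasPullback f.hom b) _ hC
  have e : {v : ↥V.left | topologicalKrullDim ↥(D.g.left.fiber v) ≤ (n : WithBot ℕ∞)} =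
      (Points.schemeHomeo V ⁻¹' (Points.map (pullback.snd f.hom b) '' (Points.ofPt D.a '' O)ᶜ))ᶜ := by
    ext v
    rw [Set.mem_setOf_eq, topologicalKrullDim_fiber_le_iff]
    have hmap : ∀ u, Points.map (pullback.snd f.hom b) (Points.ofPt D.a u) = Points.schemeHomeo V (D.g.left u) :=
      fun u => by
        rw [Points.map_ofPt, D.hg, Points.ofPt_eq_map_ofScheme]
        exact Points.map_yon_map_apply D.g u
    constructor
    · rintro h ⟨z, hz, hzv⟩
      obtain ⟨u, rfl⟩ := surjective_ofPt D.has z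
      rw [hmap] at hzv
      exact hz ⟨u, h u ((Points.schemeHomeo V).injective hzv), rfl⟩
    · intro h u huv
      by_contra hne
      refine h ⟨Points.ofPt D.a u, ?_, by rw [hmap, huv]⟩
      rintro ⟨u', hu', e⟩
      exact hne (hinv u' u e hu')
  rw [e]
  exact (him.preimage (Points.schemeHomeo V).continuous).isOpen_compl

theorem isOpen_fiberDim_bot {V : Over S} {b : (yon S).obj V ⟶ Y.obj} (D : FibreChart f b)
    (hlft : LocP @LocallyOfFiniteType f.hom) (hu : IsUnivClosedMor f.hom) :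
    IsOpen {v : ↥V.left | topologicalKrullDim ↥(D.g.left.fiber v) = ⊥} := by
  haveI := D.lft_g hlft
  have him := hu (IsAlgSpace.yon_obj V) b _ _ (IsPullback.of_hasPullback f.hom b) _ isClosed_univ
  have e : {v : ↥V.left | topologicalKrullDim ↥(D.g.left.fiber v) = ⊥} =
      (Points.schemeHomeo V ⁻¹' (Points.map (pullback.snd f.hom b) '' Set.univ))ᶜ := by
    ext v
    rw [Set.mem_setOf_eq, topologicalKrullDim_fiber_eq_bot_iff]
    have hmap : ∀ u, Points.map (pullback.snd f.hom b) (Points.ofPt D.a u) = Points.schemeHomeo V (D.g.left u) :=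
      fun u => by
        rw [Points.map_ofPt, D.hg, Points.ofPt_eq_map_ofScheme]
        exact Points.map_yon_map_apply D.g u
    constructor
    · rintro h ⟨z, -, hzv⟩
      obtain ⟨u, rfl⟩ := surjective_ofPt D.has z
      rw [hmap] at hzv
      exact h u ((Points.schemeHomeo V).injective hzv)
    · intro h u huv
      exact h ⟨Points.ofPt D.a u, trivial, by rw [hmap, huv]⟩
  rw [e]
  exact (him.preimage (Points.schemeHomeo V).continuous).isOpen_compl

theorem lt_natCast_succ_iff (a : WithBot ℕ∞) (n : ℕ) :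
    a < ((n + 1 : ℕ) : WithBot ℕ∞) ↔ a ≤ (n : WithBot ℕ∞) := by
  cases a with
  | bot => simp
  | coe a =>
    cases a with
    | top =>
      constructor
      · intro h
        exact absurd h (not_lt.2 (WithBot.coe_le_coe.2 le_top))
      · intro h
        exact absurd (WithBot.coe_le_coe.1 h) (not_le.2 (ENat.natCast_lt_top n))
    | coe m =>
      show ((m : ℕ∞) : WithBot ℕ∞) < ((n + 1 : ℕ) : WithBot ℕ∞) ↔ _
      norm_cast
      omega

theorem exists_chart_upperSemicont (hf : IsProperMor f.hom) (c : WithBot ℕ∞) {V : Over S} [IsAffine V.left]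
    (b : (yon S).obj V ⟶ Y.obj) :
    ∃ D : FibreChart f b, IsOpen {v : ↥V.left | topologicalKrullDim ↥(D.g.left.fiber v) < c} := by
  obtain ⟨D, hD⟩ := FibreChart.exists_affine f b hf.2.1.2
  haveI := hD
  haveI := D.lft_g hf.2.1.1
  refine ⟨D, ?_⟩
  cases c with
  | bot => simp only [not_lt_bot, Set.setOf_false, isOpen_empty]
  | coe c =>
    cases c with
    | top =>
      obtain ⟨n, hn⟩ := exists_nat_fibreDimAt_le D.g.left
      convert isOpen_univ using 1
      refine Set.eq_univ_of_forall fun v => ?_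
      exact lt_of_le_of_lt ((topologicalKrullDim_fiber_le_iff _ v _).2 fun u _ => hn u)
        (WithBot.coe_lt_coe.2 (ENat.natCast_lt_top n))
    | coe m =>
      cases m with
      | zero =>
        convert isOpen_fiberDim_bot D hf.2.1.1 hf.2.2 using 1
        ext v
        show topologicalKrullDim _ < ((0 : ℕ∞) : WithBot ℕ∞) ↔ _
        constructor
        · intro h
          cases h' : topologicalKrullDim ↥(D.g.left.fiber v) with
          | bot => exact h'
          | coe a =>
            rw [h'] at h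
            exact absurd (WithBot.coe_lt_coe.1 h) not_lt_zero
        · intro h
          rw [h]
          exact WithBot.bot_lt_coe 0
      | succ n =>
        convert isOpen_fiberDim_le_nat D hf.2.1.1 hf.2.2 n using 1
        ext v
        exact lt_natCast_succ_iff _ n

theorem dim_eq_iff_chart {V : Over S} {b : (yon S).obj V ⟶ Y.obj} (D : FibreChart f b)
    (hlft : LocP @LocallyOfFiniteType f.hom) (hb : RepWith @Etale b) (v : ↥V.left) (d : ℕ) :
    topologicalKrullDim ↥(D.g.left.fiber v) ≤ (d : WithBot ℕ∞) ↔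
      ∀ x : Points X.obj, Points.map f.hom x = Points.ofPt b v →
        HasAtMor (fun _ _ h u => FlatMor.fibreDimAt h u ≤ (d : WithBot ℕ∞)) f.hom x := by
  rw [topologicalKrullDim_fiber_le_iff]
  constructor
  · intro h x hx
    obtain ⟨z, hz1, hz2⟩ := points_exists_of_isPullback (IsPullback.of_hasPullback f.hom b) x (Points.ofScheme V v)
      (by rw [hx, Points.ofPt_eq_map_ofScheme])
    obtain ⟨u, rfl⟩ := surjective_ofPt D.has z
    rw [Points.map_ofPt, D.hg, Points.ofPt_eq_map_ofScheme] at hz2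
    refine ⟨D.U, V, D.a ≫ pullback.fst f.hom b, b, D.g, u,
      repWith_comp D.ha (repWith_of_isPullback (IsPullback.of_hasPullback f.hom b).flip hb), hb,
      by rw [Category.assoc, pullback.condition, reassoc_of% D.hg], (Points.map_ofPt D.a (pullback.fst f.hom b) u).symm.trans hz1,
      h u ((Points.schemeHomeo V).injective ((Points.map_yon_map_apply D.g u).symm.trans hz2))⟩
  · intro h u hu
    obtain ⟨U₁, V₁, a₁, b₁, g₁, u₁, ha₁, hb₁, e₁, hx₁, hd⟩ :=
      h (Points.ofPt (D.a ≫ pullback.fst f.hom b) u) (by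
        rw [Points.map_ofPt, Category.assoc, pullback.condition, reassoc_of% D.hg, ofPt_yon_map_comp, hu])
    rw [FibreDimEt.fibreDimAt_eq_of_charts (f := f.hom) (a := D.a ≫ pullback.fst f.hom b) (h := D.g)
        (repWith_comp D.ha (repWith_of_isPullback (IsPullback.of_hasPullback f.hom b).flip hb)) hb
        (by rw [Category.assoc, pullback.condition, reassoc_of% D.hg]) ha₁ hb₁ e₁ hx₁.symm]
    exact hd

end Groth.Agent.ASp

namespace Groth.Agent.ASp

open _root_.AlgSp

variable {S : Scheme.{u}} {X Y : Space S} {f : X ⟶ Y}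

theorem isOpen_fibre_eq (hf : IsProperMor f.hom) (hfl : LocP @Flat f.hom)
    (hfp : LocP @LocallyOfFinitePresentation f.hom) (d : WithBot ℕ∞) {V : Over S} [IsAffine V.left]
    (b : (yon S).obj V ⟶ Y.obj) :
    ∃ D : FibreChart f b, IsOpen {v : ↥V.left | topologicalKrullDim ↥(D.g.left.fiber v) = d} := by
  obtain ⟨D, hD⟩ := FibreChart.exists_affine f b hf.2.1.2
  haveI := hD
  haveI := D.lft_g hf.2.1.1
  haveI : Flat D.g.left := D.prop_g hfl
  haveI : LocallyOfFinitePresentation D.g.left := D.prop_g hfp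
  haveI : QuasiCompact D.g.left := (quasiCompact_iff_compactSpace D.g.left).2 inferInstance
  refine ⟨D, ?_⟩
  have low := fun c => Groth.Agent.S0404.result D.g.left c
  cases d with
  | bot => exact isOpen_fiberDim_bot D hf.2.1.1 hf.2.2
  | coe d =>
    cases d with
    | top =>
      obtain ⟨n, hn⟩ := exists_nat_fibreDimAt_le D.g.left
      convert isOpen_empty using 1
      refine Set.eq_empty_of_forall_notMem fun v (hv : _ = _) => ?_
      exact absurd (hv ▸ (topologicalKrullDim_fiber_le_iff _ v _).2 fun u _ => hn u)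
        (not_le.2 (WithBot.coe_lt_coe.2 (ENat.natCast_lt_top n)))
    | coe m =>
      cases m with
      | zero =>
        convert (isOpen_fiberDim_le_nat D hf.2.1.1 hf.2.2 0).inter (low ⊥) using 1
        ext v
        show topologicalKrullDim _ = ((0 : ℕ∞) : WithBot ℕ∞) ↔ _ ≤ ((0 : ℕ) : WithBot ℕ∞) ∧ (⊥ : WithBot ℕ∞) < _
        constructor
        · intro h
          rw [h]
          exact ⟨le_rfl, WithBot.bot_lt_coe 0⟩
        · rintro ⟨h1, h2⟩
          cases h' : topologicalKrullDim ↥(D.g.left.fiber v) with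
          | bot => rw [h'] at h2; exact absurd h2 (lt_irrefl _)
          | coe a =>
            rw [h'] at h1
            exact congrArg _ (le_antisymm (WithBot.coe_le_coe.1 h1) bot_le)
      | succ n =>
        convert (isOpen_fiberDim_le_nat D hf.2.1.1 hf.2.2 (n + 1)).inter (low (n : WithBot ℕ∞)) using 1
        ext v
        show topologicalKrullDim _ = ((n + 1 : ℕ) : WithBot ℕ∞) ↔
          _ ≤ ((n + 1 : ℕ) : WithBot ℕ∞) ∧ (n : WithBot ℕ∞) < _
        constructor
        · intro h
          rw [h]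
          exact ⟨le_rfl, by exact_mod_cast Nat.lt_succ_self n⟩
        · rintro ⟨h1, h2⟩
          refine le_antisymm h1 (not_lt.1 fun h3 => ?_)
          exact absurd ((lt_natCast_succ_iff _ n).1 h3) (not_le.2 h2)

end Groth.Agent.ASp
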