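import Mathlib
import Groth.Agent.ASp.Points
import Groth.Agent.ASp.FibreDimSp
import Groth.Agent.GeomIrred.AlgSp

/-! Connected components under base change along geometrically connected, universally open surjections. -/

set_option autoImplicit false
set_option backward.isDefEq.respectTransparency false
set_option backward.isDefEq.respectTransparency.types false

universe u

open CategoryTheory CategoryTheory.Limits AlgebraicGeometry Opposite Topology

namespace Groth.Agent.ASp.ConnBC

open _root_.AlgSp

variable {S : Scheme.{u}}

theorem bijective_of_chart {F F' : Sp S} {U U' : Over S} {u : U' ⟶ U} {p' : (yon S).obj U' ⟶ F'}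
    {p : (yon S).obj U ⟶ F} {q : F' ⟶ F} (sq : IsPullback ((yon S).map u) p' p q)
    (hp : RepWith @Etale p) (hs : RepWith @Surjective p)
    [Surjective u.left] [UniversallyOpen u.left] [GeometricallyConnected u.left] :
    Function.Bijective (Continuous.connectedComponentsMap (Points.continuous_map q)) := by
  have hs' : RepWith @Surjective p' := repWith_of_isPullback sq hs
  have hsurj : Function.Surjective (Points.map q) := by
    intro y
    obtain ⟨v, rfl⟩ := surjective_ofPt hs y
    obtain ⟨v', rfl⟩ := u.left.surjective v
    exact ⟨Points.ofPt p' v', by rw [Points.map_ofPt, ← sq.w, ofPt_yon_map_comp]⟩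
  have hopen : IsOpenMap (Points.map q) := by
    intro W hW
    rw [← (isQuotientMap_ofPt hp hs).isOpen_preimage, preimage_ofPt_image sq.flip]
    exact u.left.isOpenMap _ (hW.preimage (Points.continuous_ofPt _))
  refine ((hopen.isQuotientMap (Points.continuous_map _) hsurj).isCoinducing).connectedComponentsMap_bijective
    fun y => ?_
  obtain ⟨v, rfl⟩ := surjective_ofPt hs y
  have h : Points.map q ⁻¹' {Points.ofPt p v} = Points.ofPt p' '' (u.left ⁻¹' {v}) := by
    ext z
    constructor
    · intro hz
      obtain ⟨c, hc1, hc2⟩ := points_exists_of_isPullback sq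
        (Points.ofScheme _ v) z (by rw [← Points.ofPt_eq_map_ofScheme]; exact hz.symm)
      obtain ⟨w, rfl⟩ := (Points.schemeHomeo U').surjective c
      rw [Points.map_yon_map_apply] at hc1
      refine ⟨w, (Points.schemeHomeo U).injective hc1, ?_⟩
      rw [Points.ofPt_eq_map_ofScheme]
      exact hc2
    · rintro ⟨w, hw, rfl⟩
      show Points.map _ (Points.ofPt p' w) = _
      rw [Points.map_ofPt, ← sq.w, ofPt_yon_map_comp, hw]
  rw [h]
  exact (u.left.isConnected_preimage_singleton v).image _ (Points.continuous_ofPt _).continuousOn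

theorem bijective_bc {F F' : Sp S} (hF : IsAlgSpace F) {T T' : Over S} {d : T' ⟶ T}
    {b : F ⟶ (yon S).obj T} {m : F' ⟶ F} {b' : F' ⟶ (yon S).obj T'}
    (sq : IsPullback m b' b ((yon S).map d))
    [Surjective d.left] [UniversallyOpen d.left] [GeometricallyConnected d.left] :
    Function.Bijective (Continuous.connectedComponentsMap (Points.continuous_map m)) := by
  obtain ⟨U, p, hp, hs⟩ := hF.atlas
  obtain ⟨c, hc⟩ := (yon S).map_surjective (p ≫ b)
  have sqW := IsPullback.of_hasPullback c d
  have hl := isPullback_left sqW
  let u : pullback c d ⟶ U := pullback.fst c d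
  haveI : Surjective u.left := MorphismProperty.of_isPullback (P := @Surjective) hl.flip ‹_›
  haveI : UniversallyOpen u.left := MorphismProperty.of_isPullback (P := @UniversallyOpen) hl.flip ‹_›
  haveI : GeometricallyConnected u.left :=
    MorphismProperty.of_isPullback (P := @GeometricallyConnected) hl.flip ‹_›
  let p' : (yon S).obj (pullback c d) ⟶ F' := sq.lift ((yon S).map u ≫ p) ((yon S).map (pullback.snd c d))
    (by rw [Category.assoc, ← hc, ← Functor.map_comp, ← Functor.map_comp, sqW.w])
  have h : IsPullback ((yon S).map u) p' p m := by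
    refine IsPullback.of_bot ?_ (sq.lift_fst _ _ _).symm sq
    rw [sq.lift_snd, ← hc]
    exact isPullback_yon_map sqW
  exact bijective_of_chart h hp hs

theorem field_props {K Ω : Type u} [Field K] [Field Ω] [IsSepClosed K]
    (f : Spec (CommRingCat.of Ω) ⟶ Spec (CommRingCat.of K)) :
    Surjective f ∧ UniversallyOpen f ∧ GeometricallyConnected f := by
  obtain ⟨φ, rfl⟩ := Spec.map_surjective f
  letI : Algebra K Ω := φ.hom.toAlgebra
  haveI := GeomIrred.geometricallyIrreducible_field (k := K) Ω
  exact ⟨⟨fun _ => ⟨IsLocalRing.closedPoint Ω, Subsingleton.elim (α := PrimeSpectrum K) _ _⟩⟩,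
    inferInstanceAs (UniversallyOpen (Spec.map (CommRingCat.ofHom (algebraMap K Ω)))),
    GeomIrred.geometricallyConnected_of_geometricallyIrreducible (Spec.map (CommRingCat.ofHom (algebraMap K Ω)))⟩

/-- The fibre of `f` at a separably closed field point has the components of that at any larger one. -/
theorem bijective_fibre {X Y : Sp S} (hX : IsAlgSpace X) (hY : IsAlgSpace Y) {f : X ⟶ Y} {T T' : Over S}
    {g : (yon S).obj T ⟶ Y} (d : T' ⟶ T) {F : Sp S} {a : F ⟶ X} {b : F ⟶ (yon S).obj T}
    (h : IsPullback a b f g) {F' : Sp S} {a' : F' ⟶ X} {b' : F' ⟶ (yon S).obj T'}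
    (h' : IsPullback a' b' f ((yon S).map d ≫ g))
    [Surjective d.left] [UniversallyOpen d.left] [GeometricallyConnected d.left] :
    ENat.card (ConnectedComponents (Points F')) = ENat.card (ConnectedComponents (Points F)) := by
  have sq : IsPullback (h.lift a' (b' ≫ (yon S).map d) (by rw [h'.w, Category.assoc])) b' b ((yon S).map d) :=
    IsPullback.of_right (h₁₂ := a) (h₂₂ := g) (v₁₃ := f) (by rw [h.lift_fst]; exact h') (h.lift_snd _ _ _) h
  exact ENat.card_congr (Equiv.ofBijective _
    (bijective_bc (isAlgSpace_of_isPullback hY.diag hX (IsAlgSpace.yon_obj _) h) sq))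

end Groth.Agent.ASp.ConnBC
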