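import Mathlib
import Groth.Agent.ASp.ConnBC
import Groth.Agent.GeomIrred.FinSep

/-! Connectedness of fibres of spaces descends from the finite levels of an algebraic field extension. -/

set_option autoImplicit false
set_option backward.isDefEq.respectTransparency false
set_option backward.isDefEq.respectTransparency.types false

universe u

open CategoryTheory CategoryTheory.Limits AlgebraicGeometry Opposite Topology

namespace Groth.Agent.ASp.ConnFin

open _root_.AlgSp

variable {S : Scheme.{u}} {k : Type u} [Field k] (str : Spec (CommRingCat.of k) ⟶ S)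

/-- `Spec` of an extension as an object over `S`. -/
noncomputable abbrev extS (L : Type u) [Field L] [Algebra k L] : Over S :=
  Over.mk (Spec.map (CommRingCat.ofHom (algebraMap k L)) ≫ str)

/-- The structure map. -/
noncomputable abbrev dS (L : Type u) [Field L] [Algebra k L] : extS str L ⟶ Over.mk str :=
  Over.homMk (Spec.map (CommRingCat.ofHom (algebraMap k L))) rfl

/-- The map of field extensions. -/
noncomputable abbrev mapS {L M : Type u} [Field L] [Field M] [Algebra k L] [Algebra k M] (a : L →ₐ[k] M) :
    extS str M ⟶ extS str L :=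
  Over.homMk (Spec.map (CommRingCat.ofHom a.toRingHom))
    (by show _ ≫ Spec.map _ ≫ str = _; rw [← Category.assoc, GeomIrred.specMap_comp]; rfl)

theorem mapS_dS {L M : Type u} [Field L] [Field M] [Algebra k L] [Algebra k M] (a : L →ₐ[k] M) :
    mapS str a ≫ dS str L = dS str M :=
  Over.OverMorphism.ext (GeomIrred.specMap_comp a)

theorem isClopen_image {F F' : Sp S} {U U' : Over S} {u : U' ⟶ U} {p' : (yon S).obj U' ⟶ F'}
    {p : (yon S).obj U ⟶ F} {q : F' ⟶ F} (sq : IsPullback ((yon S).map u) p' p q)
    (hp : RepWith @Etale p) (hs : RepWith @Surjective p)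
    [UniversallyOpen u.left] [UniversallyClosed u.left] {A : Set (Points F')} (hA : IsClopen A) :
    IsClopen (Points.map q '' A) := by
  constructor
  · rw [← (isQuotientMap_ofPt hp hs).isClosed_preimage, preimage_ofPt_image sq.flip]
    exact u.left.isClosedMap _ (hA.1.preimage (Points.continuous_ofPt _))
  · rw [← (isQuotientMap_ofPt hp hs).isOpen_preimage, preimage_ofPt_image sq.flip]
    exact u.left.isOpenMap _ (hA.2.preimage (Points.continuous_ofPt _))

theorem connectedSpace_iff_of_bijective {α β : Type (u+1)} [TopologicalSpace α] [TopologicalSpace β] {f : α → β}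
    {hf : Continuous f} (h : Function.Bijective hf.connectedComponentsMap) :
    ConnectedSpace α ↔ ConnectedSpace β := by
  have key : ∀ γ : Type (u+1), ∀ [TopologicalSpace γ], ConnectedSpace γ ↔
      Nonempty (ConnectedComponents γ) ∧ Subsingleton (ConnectedComponents γ) := by
    intro γ _
    refine ⟨fun h => ⟨inferInstance, inferInstance⟩, fun ⟨h1, h2⟩ => ?_⟩
    haveI : Nonempty γ := ConnectedComponents.surjective_coe.nonempty
    haveI : PreconnectedSpace γ := by
      refine preconnectedSpace_iff_connectedComponent.2 fun x => Set.eq_univ_of_forall fun y => ?_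
      exact ConnectedComponents.coe_eq_coe'.1 (h2.elim (y : ConnectedComponents γ) x)
    exact ⟨inferInstance⟩
  have e := Equiv.ofBijective _ h
  constructor
  · intro hc
    haveI := hc
    exact (key β).2 ⟨⟨e (Classical.arbitrary _)⟩, e.symm.subsingleton⟩
  · intro hc
    haveI := hc
    exact (key α).2 ⟨⟨e.symm (Classical.arbitrary _)⟩, e.subsingleton⟩

variable {F : Sp S} (b : F ⟶ (yon S).obj (Over.mk str))

theorem connectedSpace_of_finite (hF : IsAlgSpace F) (K : Type u) [Field K] [Algebra k K] [Algebra.IsAlgebraic k K]
    (h : ∀ L : IntermediateField k K, FiniteDimensional k L →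
      ConnectedSpace (Points (pullback b ((yon S).map (dS str L))))) :
    ConnectedSpace (Points (pullback b ((yon S).map (dS str K)))) := by
  obtain ⟨U, p, hp, hs⟩ := hF.atlas
  obtain ⟨c, hc⟩ := (yon S).map_surjective (p ≫ b)
  -- charts at every level
  let UL : ∀ (L : Type u) [Field L] [Algebra k L], Over S := fun L _ _ =>
    Over.mk (pullback.snd c.left (Spec.map (CommRingCat.ofHom (algebraMap k L))) ≫
      Spec.map (CommRingCat.ofHom (algebraMap k L)) ≫ str)
  let fL : ∀ (L : Type u) [Field L] [Algebra k L], UL L ⟶ U := fun L _ _ =>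
    Over.homMk (pullback.fst c.left (Spec.map (CommRingCat.ofHom (algebraMap k L)))) (by
      show _ ≫ U.hom = _
      rw [← Over.w c, pullback.condition_assoc]
      rfl)
  let sL : ∀ (L : Type u) [Field L] [Algebra k L], UL L ⟶ extS str L := fun L _ _ =>
    Over.homMk (pullback.snd c.left (Spec.map (CommRingCat.ofHom (algebraMap k L)))) rfl
  have sqU : ∀ (L : Type u) [Field L] [Algebra k L], IsPullback (fL L) (sL L) c (dS str L) := fun L _ _ =>
    IsPullback.of_map (Over.forget S) (Over.OverMorphism.ext pullback.condition)
      (IsPullback.of_hasPullback c.left (Spec.map (CommRingCat.ofHom (algebraMap k L))))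
  let pL : ∀ (L : Type u) [Field L] [Algebra k L], (yon S).obj (UL L) ⟶ pullback b ((yon S).map (dS str L)) :=
    fun L _ _ => pullback.lift ((yon S).map (fL L) ≫ p) ((yon S).map (sL L))
      (by rw [Category.assoc, ← hc, ← Functor.map_comp, ← Functor.map_comp, (sqU L).w])
  have sqP : ∀ (L : Type u) [Field L] [Algebra k L],
      IsPullback ((yon S).map (fL L)) (pL L) p (pullback.fst b ((yon S).map (dS str L))) := fun L _ _ => by
    refine IsPullback.of_bot ?_ (pullback.lift_fst _ _ _).symm (IsPullback.of_hasPullback b _)
    rw [pullback.lift_snd, ← hc]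
    exact isPullback_yon_map (sqU L)
  -- nonempty
  haveI := h ⊥ inferInstance
  let L0 := ((⊥ : IntermediateField k K) : Type u)
  haveI : Nonempty (Points (pullback b ((yon S).map (dS str K)))) := by
    obtain ⟨z⟩ := (inferInstance : Nonempty (Points (pullback b ((yon S).map (dS str (⊥ : IntermediateField k K))))))
    obtain ⟨v, -⟩ := surjective_ofPt (repWith_of_isPullback (sqP (⊥ : IntermediateField k K)) hs) z
    haveI := (GeomIrred.trans_props c.left (⊥ : IntermediateField k K).val).1
    obtain ⟨v', -⟩ := (GeomIrred.trans c.left (⊥ : IntermediateField k K).val).surjective v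
    exact ⟨Points.ofPt (pL K) v'⟩
  haveI : PreconnectedSpace (Points (pullback b ((yon S).map (dS str K)))) := by
    refine preconnectedSpace_iff_clopen.mpr fun A hA => ?_
    by_contra! hne
    obtain ⟨x, hx⟩ := hne.1
    obtain ⟨v, rfl⟩ := surjective_ofPt (repWith_of_isPullback (sqP K) hs) x
    let A₀ : (GeomIrred.bcs c.left K).Opens :=
      ⟨Points.ofPt (pL K) ⁻¹' A, hA.2.preimage (Points.continuous_ofPt _)⟩
    obtain ⟨L, U', hL, -, ⟨u', hu'⟩, hsub⟩ := GeomIrred.exists_finite_preimage_subset c.left K A₀ ⟨v, hx⟩
    haveI := h L hL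
    obtain ⟨h1, h2, h3⟩ := GeomIrred.trans_props c.left L.val
    let q : pullback b ((yon S).map (dS str K)) ⟶ pullback b ((yon S).map (dS str L)) :=
      pullback.lift (pullback.fst _ _) (pullback.snd _ _ ≫ (yon S).map (mapS str L.val))
        (by rw [Category.assoc, ← Functor.map_comp, mapS_dS, pullback.condition])
    let tr : UL K ⟶ UL L := Over.homMk (GeomIrred.trans c.left L.val) (by
      show GeomIrred.trans c.left L.val ≫ pullback.snd _ _ ≫ _ = _
      rw [GeomIrred.trans, pullback.lift_snd_assoc]
      simp only [Category.assoc]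
      rw [← Category.assoc (Spec.map _) (Spec.map _) str, GeomIrred.specMap_comp]
      rfl)
    have htr1 : tr ≫ fL L = fL K := Over.OverMorphism.ext (by
      show GeomIrred.trans c.left L.val ≫ pullback.fst _ _ = pullback.fst _ _
      rw [GeomIrred.trans, pullback.lift_fst, Category.comp_id])
    have htr2 : tr ≫ sL L = sL K ≫ mapS str L.val := Over.OverMorphism.ext (by
      show GeomIrred.trans c.left L.val ≫ pullback.snd _ _ = pullback.snd _ _ ≫ _
      rw [GeomIrred.trans, pullback.lift_snd]
      rfl)
    have w : (yon S).map tr ≫ pL L = pL K ≫ q := by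
      apply pullback.hom_ext
      · rw [Category.assoc, Category.assoc, pullback.lift_fst, pullback.lift_fst, pullback.lift_fst,
          ← Functor.map_comp_assoc, htr1]
      · rw [Category.assoc, Category.assoc, pullback.lift_snd, pullback.lift_snd, pullback.lift_snd_assoc,
          ← Functor.map_comp, ← Functor.map_comp, htr2]
    have sq : IsPullback ((yon S).map tr) (pL K) (pL L) q := by
      refine IsPullback.of_right ?_ w (sqP L)
      rw [← Functor.map_comp, htr1, pullback.lift_fst]
      exact sqP K
    haveI : UniversallyOpen tr.left := h2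
    haveI : UniversallyClosed tr.left := h3 inferInstance
    have hB : Points.map q '' Aᶜ = Set.univ :=
      (isClopen_image sq (repWith_of_isPullback (sqP L) hp) (repWith_of_isPullback (sqP L) hs) hA.compl).eq_univ
        ((Set.nonempty_compl.mpr hne.2).image _)
    obtain ⟨z, hz, hzu⟩ : Points.ofPt (pL L) u' ∈ Points.map q '' Aᶜ := by rw [hB]; trivial
    obtain ⟨e, he1, he2⟩ := points_exists_of_isPullback sq (Points.ofScheme _ u') z
      (by rw [← Points.ofPt_eq_map_ofScheme]; exact hzu.symm)
    obtain ⟨w', rfl⟩ := (Points.schemeHomeo (UL K)).surjective e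
    rw [Points.map_yon_map_apply] at he1
    have hw : GeomIrred.trans c.left L.val w' = u' := (Points.schemeHomeo (UL L)).injective he1
    apply hz
    rw [← he2]
    change Points.map (pL K) (Points.ofScheme _ w') ∈ A
    rw [← Points.ofPt_eq_map_ofScheme]
    exact hsub (show GeomIrred.trans c.left L.val w' ∈ U' by rw [hw]; exact hu')
  exact ⟨inferInstance⟩

end Groth.Agent.ASp.ConnFin
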