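import Mathlib.AlgebraicGeometry.Morphisms.FinitePresentation
import Groth.Agent.ProConsLib.Scheme
import Groth.Agent.ASp.LocP
/-!
Locally constructible sets: preimages, descent along open surjections locally of finite presentation.
-/

set_option backward.isDefEq.respectTransparency.types false

universe u

open CategoryTheory CategoryTheory.Limits AlgebraicGeometry Topology TopologicalSpace

namespace Groth.Agent.ASp

open _root_.AlgSp

theorem isLocallyConstructible_preimage {X Y : Scheme.{u}} (f : X ⟶ Y) {E : Set Y} (h : IsLocallyConstructible E) :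
    IsLocallyConstructible (f ⁻¹' E) := by
  rw [ProConsLib.isLocallyConstructible_iff_pro_and_ind] at h ⊢
  exact ⟨ProConsLib.isProConstructible_preimage f h.1, ProConsLib.isIndConstructible_preimage f h.2⟩

theorem isLocallyConstructible_of_surjective {W U : Scheme.{u}} (w : W ⟶ U) [LocallyOfFinitePresentation w]
    [Surjective w] (hw : IsOpenMap w) {E : Set U} (h : IsLocallyConstructible (w ⁻¹' E)) :
    IsLocallyConstructible E := by
  refine IsLocallyConstructible.of_isOpenCover (U := fun V : U.affineOpens => (V : U.Opens))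
    (iSup_affineOpens_eq_top U) fun V => ?_
  obtain ⟨V, hV⟩ := V
  let ι := {O : W.Opens // IsAffineOpen O ∧ O ≤ w ⁻¹ᵁ V}
  have hcov : (V : Set U) ⊆ ⋃ O : ι, w '' (O.1 : Set W) := by
    intro x hx
    obtain ⟨y, rfl⟩ := w.surjective x
    obtain ⟨O, hO, hyO, hOV⟩ := exists_isAffineOpen_mem_and_subset (U := w ⁻¹ᵁ V) (x := y) hx
    exact Set.mem_iUnion.2 ⟨⟨O, hO, hOV⟩, y, hyO, rfl⟩
  obtain ⟨t, ht⟩ := hV.isCompact.elim_finite_subcover _ (fun O : ι => hw _ O.1.2) hcov
  haveI : IsAffine V.toScheme := hV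
  let g : ∀ O : ι, O.1.toScheme ⟶ V.toScheme := fun O => w.resLE V O.1 O.2.2
  have hg : ∀ O : ι, IsLocallyConstructible (g O '' (g O ⁻¹' (V.ι ⁻¹' E))) := fun O => by
    haveI : IsAffine O.1.toScheme := O.2.1
    haveI : LocallyOfFinitePresentation (w.resLE V O.1 O.2.2) :=
      IsZariskiLocalAtSource.resLE _ ‹LocallyOfFinitePresentation w›
    refine Scheme.Hom.isLocallyConstructible_image _ ?_
    have e : g O ⁻¹' (V.ι ⁻¹' E) = O.1.ι ⁻¹' (w ⁻¹' E) := by
      ext z
      simp only [Set.mem_preimage, g]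
      rw [← Scheme.Hom.comp_apply, Scheme.Hom.resLE_comp_ι, Scheme.Hom.comp_apply]
    rw [e]
    exact isLocallyConstructible_preimage _ h
  have e : (Subtype.val ⁻¹' E : Set V) = ⋃ O ∈ t, g O '' (g O ⁻¹' (V.ι ⁻¹' E)) := by
    ext x
    constructor
    · intro hx
      obtain ⟨O, hO, y, hy, e⟩ := Set.mem_iUnion₂.1 (ht x.2)
      have e' : g O ⟨y, hy⟩ = x := Subtype.ext ((Scheme.Hom.coe_resLE_apply w _ _).trans e)
      refine Set.mem_iUnion₂.2 ⟨O, hO, ⟨y, hy⟩, ?_, e'⟩
      rw [Set.mem_preimage, e']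
      exact hx
    · intro hx
      obtain ⟨O, -, y, hy, rfl⟩ := Set.mem_iUnion₂.1 hx
      exact hy
  exact (congrArg (IsLocallyConstructible (X := V.toScheme)) e).mpr
    (IsLocallyConstructible.biUnion t.finite_toSet fun O _ => hg O)

variable {S : Scheme.{u}}

/-- One surjective etale chart detects etale local constructibility. -/
theorem isLocallyConstructible_ofPt {F : Sp S} {U V : Over S} {p : (yon S).obj U ⟶ F}
    (hp : RepWith @Etale p) (hs : RepWith @Surjective p) {E : Set (Points F)}
    (h : IsLocallyConstructible (Points.ofPt p ⁻¹' E)) (a : (yon S).obj V ⟶ F) :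
    IsLocallyConstructible (Points.ofPt a ⁻¹' E) := by
  obtain ⟨W, w, v, hwe, hws, hW, -⟩ := exists_etale_cover hp hs a
  refine isLocallyConstructible_of_surjective w.left w.left.isOpenMap ?_
  have e : w.left ⁻¹' (Points.ofPt a ⁻¹' E) = v.left ⁻¹' (Points.ofPt p ⁻¹' E) := by
    ext z
    simp only [Set.mem_preimage]
    rw [← ofPt_yon_map_comp, ← ofPt_yon_map_comp, hW]
  rw [e]
  exact isLocallyConstructible_preimage _ h

end Groth.Agent.ASp
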