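import Groth.Agent.ASp.Glue
import Groth.Agent.ASp.EqvQuot
import Groth.Agent.ASp.EtaleCover
import Mathlib.CategoryTheory.Sites.LeftExact
/-!
Coproducts of sheaves: the coprojections are open and closed immersions.
-/

set_option autoImplicit false
set_option backward.isDefEq.respectTransparency false
set_option backward.isDefEq.respectTransparency.types false

universe u

open CategoryTheory CategoryTheory.Limits AlgebraicGeometry Opposite

namespace Groth.Agent.ASp

open _root_.AlgSp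

variable {S : Scheme.{u}}

theorem hom_ext_yon_base {W : Sp S} (a b : W ⟶ (yon S).obj (Over.mk (𝟙 S))) : a = b := by
  refine InducedCategory.hom_ext (NatTrans.ext (funext fun U => ?_))
  ext x
  exact ULift.ext _ _ (Over.OverMorphism.ext (((Category.comp_id _).symm.trans (Over.w (a.hom.app U x).down)).trans
    ((Category.comp_id _).symm.trans (Over.w (b.hom.app U x).down)).symm))

/-- The coprojection of a binary coproduct of sheaves is an open and closed immersion. -/
theorem repWith_inl {F G : Sp S} (c : BinaryCofan F G) (hc : IsColimit c) :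
    RepWith (@IsOpenImmersion ⊓ @IsClosedImmersion) c.inl := by
  let one : Over S := Over.mk (𝟙 S)
  let X : ULift.{u} Bool → Scheme.{u} := fun _ => S
  let Z : Over S := Over.mk (Limits.Sigma.desc fun _ => 𝟙 S : ∐ X ⟶ S)
  let z : ∀ i, one ⟶ Z := fun i => Over.homMk (Sigma.ι X i) (Sigma.ι_desc _ _)
  obtain ⟨e, he⟩ : ∃ e : ULift.{u} Bool → ((yon S).obj one ⟶ (yon S).obj Z), ∀ i, e i = (yon S).map (z i) :=
    ⟨_, fun _ => rfl⟩
  let c₀ : BinaryCofan ((yon S).obj one) ((yon S).obj one) :=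
    BinaryCofan.mk ((yon S).map (z ⟨true⟩)) ((yon S).map (z ⟨false⟩))
  have key : ∀ {T : Sp S} (f g : (yon S).obj one ⟶ T), ∃ d : (yon S).obj Z ⟶ T,
      (yon S).map (z ⟨true⟩) ≫ d = f ∧ (yon S).map (z ⟨false⟩) ≫ d = g := fun {T} f g => by
    obtain ⟨d, hd⟩ := exists_sigma_desc Z (fun _ : ULift.{u} Bool => one) z rfl (fun i => Category.comp_id _)
      (fun i => if i.down then f else g)
    exact ⟨d, by simpa using hd ⟨true⟩, by simpa using hd ⟨false⟩⟩
  choose d hd1 hd2 using @key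
  let hc₀ : IsColimit c₀ := BinaryCofan.IsColimit.mk _ (fun f g => d f g) (fun f g => hd1 f g) (fun f g => hd2 f g)
    (fun f g m h1 h2 => by
      refine sigma_hom_ext (X := X) _ _ _ fun i => ?_
      let j : Over.mk (Sigma.ι X i ≫ Limits.Sigma.desc fun _ => 𝟙 S) ⟶ one := Over.homMk (𝟙 S) (by
        change 𝟙 S ≫ 𝟙 S = Sigma.ι X i ≫ Limits.Sigma.desc fun _ => 𝟙 S
        rw [Sigma.ι_desc, Category.id_comp])
      have e' : (Over.homMk (Sigma.ι X i) rfl :
          Over.mk (Sigma.ι X i ≫ Limits.Sigma.desc fun _ => 𝟙 S) ⟶ Z) = j ≫ z i :=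
        Over.OverMorphism.ext (Category.id_comp _).symm
      have h3 : (yon S).map (z i) ≫ m = (yon S).map (z i) ≫ d f g := by
        obtain ⟨b⟩ := i
        cases b
        · exact h2.trans (hd2 f g).symm
        · exact h1.trans (hd1 f g).symm
      rw [e', Functor.map_comp]
      exact (Category.assoc _ _ _).trans ((congrArg ((yon S).map j ≫ ·) h3).trans (Category.assoc _ _ _).symm))
  let t : ∀ W : Sp S, W ⟶ (yon S).obj one := fun W =>
    ⟨{ app := fun U => ↾fun _ => ⟨Over.homMk U.unop.hom (Category.comp_id _)⟩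
       naturality := fun U V f => by
         ext x
         exact ULift.ext _ _ (Over.OverMorphism.ext (Over.w f.unop).symm) }⟩
  obtain ⟨f, hf1, hf2⟩ := BinaryCofan.IsColimit.desc' hc (t F ≫ c₀.inl) (t G ≫ c₀.inr)
  have hsq := ((BinaryCofan.isVanKampen_iff c₀).1 (FinitaryExtensive.vanKampen c₀ hc₀) c (t F) (t G) f
    hf1.symm hf2.symm).1 ⟨hc⟩
  refine repWith_of_isPullback hsq.1.flip (repWith_yon_map ?_)
  have : IsClosedImmersion (Sigma.ι X ⟨true⟩) := by
    refine IsClosedImmersion.of_isPreimmersion _ ?_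
    have h : Set.range (Sigma.ι X ⟨true⟩) = (Set.range (Sigma.ι X ⟨false⟩))ᶜ := by
      ext x
      obtain ⟨⟨b⟩, v, rfl⟩ := (sigmaOpenCover X).exists_eq x
      have hd := disjoint_opensRange_sigmaι X ⟨true⟩ ⟨false⟩ (by simp)
      cases b
      · refine ⟨fun ⟨w, hw⟩ => absurd ((disjoint_iff.1 hd).le (⟨⟨w, hw⟩, ⟨v, rfl⟩⟩ :
          (sigmaOpenCover X).f ⟨false⟩ v ∈ (Sigma.ι X ⟨true⟩).opensRange ⊓ (Sigma.ι X ⟨false⟩).opensRange)) id,
          fun h => absurd ⟨v, rfl⟩ h⟩
      · exact ⟨fun _ ⟨w, hw⟩ => (disjoint_iff.1 hd).le (⟨⟨v, rfl⟩, ⟨w, hw⟩⟩ :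
          (sigmaOpenCover X).f ⟨true⟩ v ∈ (Sigma.ι X ⟨true⟩).opensRange ⊓ (Sigma.ι X ⟨false⟩).opensRange),
          fun _ => ⟨v, rfl⟩⟩
    rw [h]
    exact (Sigma.ι X ⟨false⟩).isOpenEmbedding.isOpen_range.isClosed_compl
  exact ⟨(inferInstanceAs (IsOpenImmersion (Sigma.ι X ⟨true⟩))), this⟩

/-- A coproduct splits off each of its summands. -/
theorem exists_binaryCofan {ι : Type u} {F : ι → Sp S} (c : Cofan F) (hc : IsColimit c) (i : ι) :
    ∃ (R : Sp S) (r : R ⟶ c.pt), Nonempty (IsColimit (BinaryCofan.mk (c.inj i) r)) := by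
  classical
  let G : {j : ι // j ≠ i} → Sp S := fun j => F j.1
  refine ⟨∐ G, Limits.Sigma.desc fun j => c.inj j.1, ⟨BinaryCofan.IsColimit.mk _
    (fun {T} f g => Cofan.IsColimit.desc hc fun j => if h : j = i then eqToHom (by rw [h]) ≫ f
      else Sigma.ι G ⟨j, h⟩ ≫ g) (fun {T} f g => ?_) (fun {T} f g => ?_) (fun {T} f g m h1 h2 => ?_)⟩⟩
  · simp
  · refine Sigma.hom_ext _ _ fun j => ?_
    simp [dif_neg j.2]
  · refine Cofan.IsColimit.hom_ext hc _ _ fun j => ?_
    rw [Cofan.IsColimit.fac]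
    by_cases h : j = i
    · subst h
      simp at h1 ⊢
      exact h1
    · rw [dif_neg h]
      have := congrArg (Sigma.ι G ⟨j, h⟩ ≫ ·) h2
      simpa using this

/-- The coprojections of a coproduct of sheaves are open and closed immersions. -/
theorem repWith_inj {ι : Type u} {F : ι → Sp S} (c : Cofan F) (hc : IsColimit c) (i : ι) :
    RepWith (@IsOpenImmersion ⊓ @IsClosedImmersion) (c.inj i) := by
  obtain ⟨R, r, ⟨h⟩⟩ := exists_binaryCofan c hc i
  exact repWith_inl _ h

/-- The summands of a coproduct of sheaves cover its points. -/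
theorem points_cover_of_cofan {ι : Type u} {F : ι → Sp S} (c : Cofan F) (hc : IsColimit c) (x : Points c.pt) :
    ∃ i, x ∈ Set.range (Points.map (c.inj i)) := by
  have e : Cofan.IsColimit.desc hc c.inj = 𝟙 c.pt := Cofan.IsColimit.hom_ext hc _ _ fun i => by simp
  refine points_cover_of_isLocallySurjective F c.inj (fun i => ?_) c hc ?_ x
  · exact isOpenMap_map_of_repWith (P := @IsOpenImmersion) (fun g hg => haveI : IsOpenImmersion g := hg; g.isOpenMap)
      (repWith_mono (fun _ _ k (hk : (@IsOpenImmersion ⊓ @IsClosedImmersion) k) => hk.1) (repWith_inj c hc i))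
  · haveI : Epi (Cofan.IsColimit.desc hc c.inj) := by rw [e]; infer_instance
    exact (Sheaf.isLocallySurjective_iff_epi _).2 ‹_›

end Groth.Agent.ASp
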