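import Groth.Agent.ASp.Diag
import Groth.Agent.ASp.Univ
import Groth.Agent.ASp.LocP
import Groth.Agent.ASp.Points
import Groth.Agent.ASp.Sheaf
import Mathlib.AlgebraicGeometry.Morphisms.QuasiCompact
/-!
Charts of a quasi-compact morphism with quasi-compact map between the charts.
-/

set_option autoImplicit false
set_option backward.isDefEq.respectTransparency false
set_option backward.isDefEq.respectTransparency.types false

universe u

open CategoryTheory CategoryTheory.Limits AlgebraicGeometry Opposite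

namespace Groth.Agent.ASp

open _root_.AlgSp

variable {S : Scheme.{u}}

/-- Every algebraic space has an atlas which is a disjoint union of affine opens. -/
theorem exists_disjointAffine_atlas {X : Sp S} (hX : IsAlgSpace X) :
    ∃ (U : Over S) (p : (yon S).obj U ⟶ X) (ι : Type u) (V : ι → U.left.Opens), RepWith @Etale p ∧
      RepWith @Surjective p ∧ (∀ i, IsAffineOpen (V i)) ∧ iSup V = ⊤ ∧ ∀ i j, i ≠ j → Disjoint (V i) (V j) := by
  obtain ⟨U₀, p₀, hp₀, hp₀s⟩ := hX.atlas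
  let g : U₀.left.affineOpens → Scheme.{u} := fun V => V.1.toScheme
  let σ : ∐ g ⟶ U₀.left := Limits.Sigma.desc fun V => V.1.ι
  haveI : ∀ V, IsAffine (g V) := fun V => V.2
  haveI hσe : Etale σ := IsZariskiLocalAtSource.sigmaDesc (P := @Etale) fun V => inferInstance
  haveI hσs : Surjective σ := ⟨fun x => by
    obtain ⟨_, ⟨V : U₀.left.Opens, hV, rfl⟩, hxV, -⟩ :=
      U₀.left.isBasis_affineOpens.exists_subset_of_mem_open (Set.mem_univ x) isOpen_univ
    refine ⟨Limits.Sigma.ι g ⟨V, hV⟩ ⟨x, hxV⟩, ?_⟩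
    rw [← Scheme.Hom.comp_apply, Sigma.ι_desc]
    rfl⟩
  let U : Over S := Over.mk (σ ≫ U₀.hom)
  let s : U ⟶ U₀ := Over.homMk σ rfl
  refine ⟨U, (yon S).map s ≫ p₀, U₀.left.affineOpens, fun V => (Limits.Sigma.ι g V).opensRange,
    repWith_comp (repWith_yon_map hσe) hp₀, repWith_comp (repWith_yon_map hσs) hp₀s,
    fun V => isAffineOpen_opensRange _, ?_, fun i j h => disjoint_opensRange_sigmaι g i j h⟩
  refine eq_top_iff.2 fun x _ => ?_
  obtain ⟨V, y, rfl⟩ := (sigmaOpenCover g).exists_eq x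
  exact TopologicalSpace.Opens.mem_iSup.2 ⟨V, ⟨y, rfl⟩⟩

theorem compactSpace_points {F : Sp S} (h : IsQuasiCompactSp F) : CompactSpace (Points F) := by
  obtain ⟨U, p, hp, hps, hU⟩ := h
  haveI : CompactSpace ↥U.left := hU
  exact ⟨by
    rw [← (surjective_ofPt hps).range_eq]
    exact isCompact_range (Points.continuous_ofPt p)⟩

/-- A quasi-compact morphism is covered by charts joined by a quasi-compact map. -/
theorem exists_qc_chart {X Y : Sp S} (hX : IsAlgSpace X) (hY : IsAlgSpace Y) (f : X ⟶ Y) (hq : IsQuasiCompactMor f) :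
    ∃ (U : Over S) (p : (yon S).obj U ⟶ Y) (W : Over S) (a : (yon S).obj W ⟶ pullback f p) (w : W ⟶ U),
      RepWith @Etale p ∧ RepWith @Surjective p ∧ RepWith @Etale a ∧ RepWith @Surjective a ∧
        a ≫ pullback.snd f p = (yon S).map w ∧ QuasiCompact w.left := by
  classical
  obtain ⟨U, p, ι, V, hp, hps, hV, hVt, hVd⟩ := exists_disjointAffine_atlas hY
  have hXU := isAlgSpace_pullback hY.diag hX (IsAlgSpace.yon_obj U) f p
  obtain ⟨W₀, a₀, ha₀, ha₀s⟩ := hXU.atlas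
  obtain ⟨w₀, hw₀⟩ := (yon S).map_surjective (a₀ ≫ pullback.snd f p)
  have hw₀' : ∀ x, Points.map (pullback.snd f p) (Points.ofPt a₀ x) = Points.ofScheme U (w₀.left x) := fun x => by
    rw [Points.map_ofPt, ← hw₀, Points.ofPt_eq_map_ofScheme]
    exact Points.map_yon_map_apply w₀ x
  have hcov : ∀ i, IsCompact (Points.map (pullback.snd f p) ⁻¹' (Points.ofScheme U '' (V i : Set ↥U.left))) := by
    intro i
    let Vi : Over S := Over.mk ((V i).ι ≫ U.hom)
    let c : Vi ⟶ U := Over.homMk (V i).ι rfl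
    haveI : IsAffine Vi.left := hV i
    have sq := IsPullback.of_hasPullback (pullback.snd f p) ((yon S).map c)
    haveI := compactSpace_points (hq (IsAlgSpace.yon_obj Vi) isQuasiCompactSp_yon ((yon S).map c ≫ p) _ _
      (sq.paste_horiz (IsPullback.of_hasPullback f p)))
    convert isCompact_range (Points.continuous_map (pullback.fst (pullback.snd f p) ((yon S).map c))) using 1
    ext x
    constructor
    · rintro ⟨v, hv, hx⟩
      obtain ⟨z, hz, -⟩ := points_exists_of_isPullback sq x (Points.ofScheme Vi ⟨v, hv⟩)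
        (hx.symm.trans (Points.map_yon_map_apply c ⟨v, hv⟩).symm)
      exact ⟨z, hz⟩
    · rintro ⟨z, rfl⟩
      obtain ⟨v, hv⟩ := (Points.schemeHomeo Vi).surjective (Points.map (pullback.snd _ _) z)
      refine ⟨v.1, v.2, ?_⟩
      rw [← Points.map_comp, pullback.condition, Points.map_comp, ← hv]
      exact (Points.map_yon_map_apply c v).symm
  have hA : ∀ i, ∃ t : Finset {A : W₀.left.Opens // IsAffineOpen A ∧ A ≤ w₀.left ⁻¹ᵁ V i},
      Points.map (pullback.snd f p) ⁻¹' (Points.ofScheme U '' (V i : Set ↥U.left)) ⊆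
        ⋃ A ∈ t, Points.ofPt a₀ '' (A.1 : Set ↥W₀.left) := by
    intro i
    refine (hcov i).elim_finite_subcover (fun A : {A : W₀.left.Opens // IsAffineOpen A ∧ A ≤ w₀.left ⁻¹ᵁ V i} =>
      Points.ofPt a₀ '' (A.1 : Set ↥W₀.left)) (fun A => isOpenMap_ofPt_of_etale ha₀ _ A.1.2) ?_
    rintro x ⟨v, hv, hx⟩
    obtain ⟨y, rfl⟩ := surjective_ofPt ha₀s x
    have : w₀.left y = v := (Points.schemeHomeo U).injective ((hw₀' y).symm.trans hx.symm)
    obtain ⟨_, ⟨A : W₀.left.Opens, hA, rfl⟩, hyA, hAV⟩ := W₀.left.isBasis_affineOpens.exists_subset_of_mem_open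
      (show y ∈ w₀.left ⁻¹ᵁ V i by show w₀.left y ∈ V i; rw [this]; exact hv) (w₀.left ⁻¹ᵁ V i).2
    exact Set.mem_iUnion.2 ⟨⟨A, hA, hAV⟩, y, hyA, rfl⟩
  choose t ht using hA
  let O : W₀.left.Opens := ⨆ i, ⨆ A ∈ t i, A.1
  let W : Over S := Over.mk (O.ι ≫ W₀.hom)
  let c : W ⟶ W₀ := Over.homMk O.ι rfl
  have hO : ∀ i, (O.ι ⁻¹ᵁ (w₀.left ⁻¹ᵁ V i)) = O.ι ⁻¹ᵁ (⨆ A ∈ t i, A.1) := by
    intro i
    refine le_antisymm (fun x hx => ?_) (O.ι.preimage_mono (iSup₂_le fun A _ => A.2.2))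
    obtain ⟨j, hj⟩ := TopologicalSpace.Opens.mem_iSup.1 (show x.1 ∈ O from x.2)
    obtain ⟨A, hj⟩ := TopologicalSpace.Opens.mem_iSup.1 hj
    obtain ⟨hA, hj'⟩ := TopologicalSpace.Opens.mem_iSup.1 hj
    have hij : i = j := by_contra fun h => (hVd i j h).le_bot ⟨hx, A.2.2 hj'⟩
    subst hij
    exact TopologicalSpace.Opens.mem_iSup.2 ⟨A, TopologicalSpace.Opens.mem_iSup.2 ⟨hA, hj'⟩⟩
  have hsurj : Function.Surjective (Points.map ((yon S).map c ≫ a₀)) := by
    intro x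
    obtain ⟨y, rfl⟩ := surjective_ofPt ha₀s x
    obtain ⟨i, hi⟩ := TopologicalSpace.Opens.mem_iSup.1 (show w₀.left y ∈ iSup V by rw [hVt]; trivial)
    obtain ⟨A, hA, z, hz, e⟩ := Set.mem_iUnion₂.1 (ht i ⟨_, hi, (hw₀' y).symm⟩)
    refine ⟨Points.ofScheme W ⟨z, TopologicalSpace.Opens.mem_iSup.2 ⟨i, TopologicalSpace.Opens.mem_iSup.2
      ⟨A, TopologicalSpace.Opens.mem_iSup.2 ⟨hA, hz⟩⟩⟩⟩, ?_⟩
    rw [← Points.ofPt_eq_map_ofScheme, ofPt_yon_map_comp]
    exact e
  have hce : RepWith @Etale ((yon S).map c ≫ a₀) :=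
    repWith_comp (repWith_yon_map (P := @Etale) (inferInstanceAs (Etale O.ι))) ha₀
  refine ⟨U, p, W, (yon S).map c ≫ a₀, c ≫ w₀, hp, hps, hce, (repWith_surjective_iff hce.1).2 hsurj,
    by rw [Category.assoc, ← hw₀, Functor.map_comp], ?_⟩
  refine HasAffineProperty.of_iSup_eq_top (P := @QuasiCompact) (fun i => ⟨V i, hV i⟩) hVt fun i => ?_
  refine isCompact_iff_compactSpace.mp ?_
  show IsCompact ((((O.ι ≫ w₀.left) ⁻¹ᵁ V i) : W.left.Opens) : Set ↥W.left)
  rw [Scheme.Hom.comp_preimage, hO]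
  refine O.ι.isOpenEmbedding.isEmbedding.isCompact_iff.2 ?_
  have hle : (⨆ A ∈ t i, A.1) ≤ O.ι.opensRange := by
    rw [Scheme.Opens.opensRange_ι]
    exact le_iSup (fun i => ⨆ A ∈ t i, (A.1 : W₀.left.Opens)) i
  show IsCompact (O.ι '' (O.ι ⁻¹' ((⨆ A ∈ t i, A.1 : W₀.left.Opens) : Set ↥W₀.left)))
  rw [Set.image_preimage_eq_of_subset hle]
  simp only [TopologicalSpace.Opens.coe_iSup]
  exact (t i).finite_toSet.isCompact_biUnion fun A _ => A.2.1.isCompact

end Groth.Agent.ASp
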