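import Groth.Agent.ASp.ClosedIdeal
import Groth.Agent.ASp.QcAtlas
import Groth.Prelude.Def_AlgSpSub
/-!
Scheme-theoretic images of morphisms of algebraic spaces.
-/

set_option autoImplicit false
set_option backward.isDefEq.respectTransparency false
set_option backward.isDefEq.respectTransparency.types false

universe u

open CategoryTheory CategoryTheory.Limits AlgebraicGeometry Opposite

namespace Groth.Agent.ASp

open _root_.AlgSp

variable {S : Scheme.{u}}

/-- A closed subspace whose ideal is the kernel of a chart of the source is the scheme-theoretic image. -/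
theorem isSchImage_of_isSubIdeal_ker {F X Z : Sp S} {U W : Over S} {p : (yon S).obj U ⟶ X}
    (hp : RepWith @Etale p) (hps : RepWith @Surjective p) (f : F ⟶ X) (a : (yon S).obj W ⟶ F) [Epi a]
    {w : W ⟶ U} (e : a ≫ f = (yon S).map w ≫ p) {i : Z ⟶ X} (hi : RepWith @IsClosedImmersion i)
    (hI : IsSubIdeal i p w.left.ker) : IsSchImage f i := by
  refine ⟨hi, (exists_lift_iff_le_ker hi hI f a e).2 le_rfl, fun Z' i' _ hi' hf => ?_⟩
  obtain ⟨I', hI'⟩ := exists_isSubIdeal hi' p
  exact (exists_hom_iff_le hp hps hi' hI hI').2 ((exists_lift_iff_le_ker hi' hI' f a e).1 hf)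

/-- Every morphism has a scheme-theoretic image. -/
theorem exists_schImage {F X : Sp S} (hF : IsAlgSpace F) (hX : IsAlgSpace X) (f : F ⟶ X) :
    ∃ (Z : Sp S) (_ : IsAlgSpace Z) (i : Z ⟶ X), IsSchImage f i := by
  obtain ⟨U, p, hp, hps⟩ := hX.atlas
  obtain ⟨W₀, a₀, ha₀, ha₀s⟩ := hF.atlas
  obtain ⟨W, c, w, hc, hcs, hw, -⟩ := exists_etale_cover hp hps (a₀ ≫ f)
  haveI : Epi ((yon S).map c ≫ a₀) := epi_of_etale_surjective (repWith_comp (repWith_yon_map hc) ha₀)
    (repWith_comp (repWith_yon_map hcs) ha₀s)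
  have e : ((yon S).map c ≫ a₀) ≫ f = (yon S).map w ≫ p := by rw [Category.assoc]; exact hw.symm
  let s : Set U.left.IdealSheafData := {I | IsInv p I ∧ I ≤ w.left.ker}
  obtain ⟨Z, hZ, i, hi, hI⟩ := exists_sub_of_isInv hX hp hps (isInv_sSup (s := s) fun I hI => hI.1)
  refine ⟨Z, hZ, i, hi, (exists_lift_iff_le_ker hi hI f _ e).2 (sSup_le fun I hI => hI.2),
    fun Z' i' _ hi' hf => ?_⟩
  obtain ⟨I', hI'⟩ := exists_isSubIdeal hi' p
  exact (exists_hom_iff_le hp hps hi' hI hI').2
    (le_sSup ⟨hI'.isInv hi', (exists_lift_iff_le_ker hi' hI' f _ e).1 hf⟩)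

/-- Pulling back a quasi-compact chart along an etale or flat map of bases. -/
theorem exists_ker_cover {F X : Sp S} {f : F ⟶ X} {U W R : Over S} {p : (yon S).obj U ⟶ X}
    {a : (yon S).obj W ⟶ pullback f p} (ha : RepWith @Etale a) (has : RepWith @Surjective a) {w : W ⟶ U}
    (hw : a ≫ pullback.snd f p = (yon S).map w) [QuasiCompact w.left] (r : R ⟶ U) [Flat r.left]
    {h : (yon S).obj R ⟶ X} (hh : h = (yon S).map r ≫ p) :
    ∃ (A : Over S) (b : (yon S).obj A ⟶ pullback f h) (v : A ⟶ R), RepWith @Etale b ∧ RepWith @Surjective b ∧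
      b ≫ pullback.snd f h = (yon S).map v ∧ v.left.ker = w.left.ker.comap r.left := by
  subst hh
  let P := IsPullback.of_hasPullback f p
  let P' := IsPullback.of_hasPullback f ((yon S).map r ≫ p)
  let l := P.lift (pullback.fst f ((yon S).map r ≫ p)) (pullback.snd f ((yon S).map r ≫ p) ≫ (yon S).map r)
    (by rw [Category.assoc]; exact P'.w)
  have sql : IsPullback l (pullback.snd f ((yon S).map r ≫ p)) (pullback.snd f p) ((yon S).map r) :=
    IsPullback.of_right (h₁₂ := pullback.fst f p) (v₁₃ := f) (h₂₂ := p) (by rw [P.lift_fst]; exact P')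
      (P.lift_snd _ _ _) P
  have sA : IsPullback (pullback.fst w r) (pullback.snd w r) w r := IsPullback.of_hasPullback w r
  let b := sql.lift ((yon S).map (pullback.fst w r) ≫ a) ((yon S).map (pullback.snd w r)) (by
    rw [Category.assoc, hw, ← Functor.map_comp, ← Functor.map_comp, sA.w])
  have sqb : IsPullback ((yon S).map (pullback.fst w r)) b a l := by
    refine IsPullback.of_bot (h₃₁ := (yon S).map r) (v₂₁ := pullback.snd f ((yon S).map r ≫ p))
      (v₂₂ := pullback.snd f p) ?_ (sql.lift_fst _ _ _).symm sql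
    rw [sql.lift_snd, hw]
    exact isPullback_yon_map sA
  exact ⟨_, b, pullback.snd w r, repWith_of_isPullback sqb ha, repWith_of_isPullback sqb has,
    sql.lift_snd _ _ _, (ker_baseChange_flat (isPullback_left sA)).symm⟩

/-- The kernel of a quasi-compact chart is invariant. -/
theorem isInv_ker_of_qc {F X : Sp S} {f : F ⟶ X} {U W : Over S} {p : (yon S).obj U ⟶ X}
    {a : (yon S).obj W ⟶ pullback f p} (ha : RepWith @Etale a) (has : RepWith @Surjective a) {w : W ⟶ U}
    (hw : a ≫ pullback.snd f p = (yon S).map w) [QuasiCompact w.left] : IsInv p w.left.ker := by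
  intro R r r' _ _ e
  obtain ⟨A, bA, vA, hA, hAs, eA, kA⟩ := exists_ker_cover ha has hw r (h := (yon S).map r ≫ p) rfl
  obtain ⟨B, bB, vB, hB, hBs, eB, kB⟩ := exists_ker_cover ha has hw r' (h := (yon S).map r ≫ p) e
  obtain ⟨T, t, v, ht, hts, hv, sqT⟩ := exists_etale_cover hA hAs bB
  haveI : Etale v.left := hB.2 bA _ v sqT.flip
  haveI : Surjective v.left := hBs.2 bA _ v sqT.flip
  have hvw : v ≫ vA = t ≫ vB := (yon S).map_injective (by
    rw [Functor.map_comp, Functor.map_comp, ← eA, ← eB, reassoc_of% hv])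
  rw [← kA, ← kB, ← ker_flat_surjective_comp v.left vA.left, ← Over.comp_left, hvw, Over.comp_left,
    ker_flat_surjective_comp t.left vB.left]

/-- Data computing the scheme-theoretic image of a quasi-compact morphism. -/
theorem exists_schImage_data {F X Z : Sp S} (hF : IsAlgSpace F) (hX : IsAlgSpace X) {f : F ⟶ X}
    (hq : IsQuasiCompactMor f) {i : Z ⟶ X} (hZ : IsAlgSpace Z) (hi : IsSchImage f i) :
    ∃ (U : Over S) (p : (yon S).obj U ⟶ X) (W : Over S) (a : (yon S).obj W ⟶ pullback f p) (w : W ⟶ U),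
      RepWith @Etale p ∧ RepWith @Surjective p ∧ RepWith @Etale a ∧ RepWith @Surjective a ∧
      a ≫ pullback.snd f p = (yon S).map w ∧ QuasiCompact w.left ∧ IsSubIdeal i p w.left.ker := by
  obtain ⟨U, p, W, a, w, hp, hps, ha, has, hw, hwq⟩ := exists_qc_chart hF hX f hq
  refine ⟨U, p, W, a, w, hp, hps, ha, has, hw, hwq, ?_⟩
  haveI := epi_of_etale_surjective ha has
  haveI := epi_of_etale_surjective (repWith_of_isPullback (IsPullback.of_hasPullback f p).flip hp)
    (repWith_of_isPullback (IsPullback.of_hasPullback f p).flip hps)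
  have e : (a ≫ pullback.fst f p) ≫ f = (yon S).map w ≫ p := by
    rw [Category.assoc, pullback.condition, reassoc_of% hw]
  obtain ⟨Z₁, hZ₁, i₁, hi₁, hI₁⟩ := exists_sub_of_isInv hX hp hps (isInv_ker_of_qc ha has hw)
  obtain ⟨I, hI⟩ := exists_isSubIdeal hi.1 p
  obtain ⟨k, hk⟩ := hi.2.2 i₁ hZ₁ hi₁ ((exists_lift_iff_le_ker hi₁ hI₁ f _ e).2 le_rfl)
  rwa [le_antisymm ((exists_hom_iff_le hp hps hi₁ hI hI₁).1 ⟨k, hk⟩)
    ((exists_lift_iff_le_ker hi.1 hI f _ e).1 hi.2.1)]

/-- Scheme-theoretic images of quasi-compact morphisms commute with flat base change. -/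
theorem isSchImage_flat_baseChange {X Y V Z VX ZX : Sp S} (hX : IsAlgSpace X) (hY : IsAlgSpace Y)
    (hV : IsAlgSpace V) (hZ : IsAlgSpace Z) {f : X ⟶ Y} (hf : LocP @Flat f) {g : V ⟶ Y}
    (hg : IsQuasiCompactMor g) {i : Z ⟶ Y} (hi : IsSchImage g i) {g₁ : VX ⟶ V} {gX : VX ⟶ X}
    (sqV : IsPullback g₁ gX g f) {i₁ : ZX ⟶ Z} {iX : ZX ⟶ X} (sqZ : IsPullback i₁ iX i f) :
    IsSchImage gX iX := by
  obtain ⟨U, p, W, a, w, hp, hps, ha, has, hw, hwq, hI⟩ := exists_schImage_data hV hY hg hZ hi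
  obtain ⟨X₀, x₀, hx, hxs⟩ := hX.atlas
  obtain ⟨T, c, φ, hc, hcs, hφ, -⟩ := exists_etale_cover hp hps (x₀ ≫ f)
  have hb : RepWith @Etale ((yon S).map c ≫ x₀) := repWith_comp (repWith_yon_map hc) hx
  have hbs : RepWith @Surjective ((yon S).map c ≫ x₀) := repWith_comp (repWith_yon_map hcs) hxs
  have e : ((yon S).map c ≫ x₀) ≫ f = (yon S).map φ ≫ p := by rw [Category.assoc]; exact hφ.symm
  haveI : Flat φ.left := hf _ p φ hb hp e
  obtain ⟨A, bA, vA, hA, hAs, eA, kA⟩ := exists_ker_cover ha has hw φ e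
  let b := (yon S).map c ≫ x₀
  let P := IsPullback.of_hasPullback g (b ≫ f)
  let l := sqV.lift (pullback.fst g (b ≫ f)) (pullback.snd g (b ≫ f) ≫ b) (P.w.trans (Category.assoc _ _ _).symm)
  have sql : IsPullback l (pullback.snd g (b ≫ f)) gX b :=
    IsPullback.of_right (h₁₂ := g₁) (v₁₃ := g) (h₂₂ := f) (by rw [sqV.lift_fst]; exact P) (sqV.lift_snd _ _ _) sqV
  haveI := epi_of_etale_surjective hA hAs
  haveI := epi_of_etale_surjective (repWith_of_isPullback sql.flip hb) (repWith_of_isPullback sql.flip hbs)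
  have hiX : RepWith @IsClosedImmersion iX := repWith_of_isPullback sqZ hi.1
  obtain ⟨J, fJ, hJ⟩ := exists_isSubIdeal hiX b
  have hJ' : J = vA.left.ker := by
    rw [kA]
    exact (hI.comap_eq φ e ⟨fJ ≫ i₁, hJ.paste_horiz sqZ⟩).symm
  subst hJ'
  refine isSchImage_of_isSubIdeal_ker hb hbs gX (bA ≫ l) ?_ hiX ⟨fJ, hJ⟩
  rw [Category.assoc, sql.w, reassoc_of% eA]

/-- The scheme-theoretic image of a quasi-compact morphism lies in the closure of the image. -/
theorem range_subset_closure_of_isSchImage {F X Z : Sp S} (hF : IsAlgSpace F) (hX : IsAlgSpace X)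
    (hZ : IsAlgSpace Z) {f : F ⟶ X} (hq : IsQuasiCompactMor f) {i : Z ⟶ X} (hi : IsSchImage f i) :
    Set.range (Points.map i) ⊆ closure (Set.range (Points.map f)) := by
  obtain ⟨U, p, W, a, w, hp, hps, ha, has, hw, hwq, fst, hI⟩ := exists_schImage_data hF hX hq hZ hi
  rintro _ ⟨z, rfl⟩
  obtain ⟨v, rfl⟩ := surjective_ofPt (repWith_of_isPullback hI.flip hps) z
  rw [Points.map_ofPt, hI.w, ofPt_yon_map_comp]
  have hv : (subInc w.left.ker).left v ∈ closure (Set.range w.left) := by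
    rw [← Scheme.Hom.support_ker]
    exact w.left.ker.range_subschemeι.le ⟨v, rfl⟩
  refine closure_mono ?_ (image_closure_subset_closure_image (Points.continuous_ofPt p) ⟨_, hv, rfl⟩)
  rintro _ ⟨_, ⟨t, rfl⟩, rfl⟩
  refine ⟨Points.ofPt (a ≫ pullback.fst f p) t, ?_⟩
  rw [Points.map_ofPt, Category.assoc, pullback.condition, reassoc_of% hw, ofPt_yon_map_comp]

end Groth.Agent.ASp
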