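import Groth.Agent.ASp.ClosedIdeal
import Groth.Agent.ASp.SchImageGen
import Groth.Agent.IdealStalkLib.Comap
import Groth.Agent.ASp.SchDenseFlat
import Groth.Prelude.Def_AlgSpModX
/-!
Closed subspaces cut out by ideal sheaves on the small etale site.
-/

set_option autoImplicit false
set_option backward.isDefEq.respectTransparency false
set_option backward.isDefEq.respectTransparency.types false

universe u

open CategoryTheory CategoryTheory.Limits AlgebraicGeometry Opposite

namespace Groth.Agent.ASp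

open _root_.AlgSp

variable {S : Scheme.{u}}

/-- On an affine scheme the ideal of top sections of a pullback is the extended ideal. -/
theorem comap_ofIdealTop {T' T : Scheme.{u}} [IsAffine T'] [IsAffine T] (k : T' ⟶ T) (a : Ideal Γ(T, ⊤)) :
    (Scheme.IdealSheafData.ofIdealTop a).comap k = Scheme.IdealSheafData.ofIdealTop (a.map k.appTop.hom) := by
  refine Scheme.IdealSheafData.ext_of_isAffine ?_
  rw [IdealStalkLib.comap_ideal _ k (isAffineOpen_top T) (isAffineOpen_top T') (by simp),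
    show k.appLE ⊤ ⊤ (by simp) = k.appTop by simp [Scheme.Hom.appLE]]
  simp

theorem ofIdealTop_le_iff {T : Scheme.{u}} [IsAffine T] {a b : Ideal Γ(T, ⊤)} :
    Scheme.IdealSheafData.ofIdealTop a ≤ Scheme.IdealSheafData.ofIdealTop b ↔ a ≤ b :=
  map_le_map_iff (Scheme.IdealSheafData.equivOfIsAffine (X := T)).symm

theorem eq_ofIdealTop_top {T : Scheme.{u}} [IsAffine T] (I : T.IdealSheafData) :
    I = Scheme.IdealSheafData.ofIdealTop (I.ideal ⟨⊤, isAffineOpen_top T⟩) :=
  ((Scheme.IdealSheafData.equivOfIsAffine (X := T)).symm_apply_apply I).symm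

/-- Inclusion of ideals is tested on affine open subschemes. -/
theorem le_of_affine_comap {T : Scheme.{u}} {I J : T.IdealSheafData}
    (h : ∀ x : T, ∃ A : T.Opens, IsAffineOpen A ∧ x ∈ A ∧ I.comap A.ι ≤ J.comap A.ι) : I ≤ J := by
  choose A hA hxA hle using h
  refine Scheme.IdealSheafData.le_of_iSup_eq_top (fun x => ⟨A x, hA x⟩)
    (eq_top_iff.2 fun x _ => TopologicalSpace.Opens.mem_iSup.2 ⟨x, hxA x⟩) fun x => ?_
  have he : (⊤ : (A x).toScheme.Opens) ≤ (A x).ι ⁻¹ᵁ A x := by simp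
  have hT : IsAffineOpen (⊤ : (A x).toScheme.Opens) := haveI : IsAffine (A x).toScheme := hA x; isAffineOpen_top _
  have hb : Function.Bijective ((A x).ι.appLE (A x) ⊤ he).hom := by
    haveI : IsIso ((A x).ι.appLE (A x) ⊤ he) := by
      rw [Scheme.Opens.ι_appLE]
      have : (homOfLE (x := (A x).ι ''ᵁ ⊤) (Set.image_subset_iff.mpr he) : (A x).ι ''ᵁ ⊤ ⟶ A x) =
          eqToHom (A x).ι_image_top := rfl
      rw [this, eqToHom_op]
      infer_instance
    exact ConcreteCategory.bijective_of_isIso ((A x).ι.appLE (A x) ⊤ he)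
  have := (hle x) ⟨⊤, hT⟩
  rw [IdealStalkLib.comap_ideal I (A x).ι (hA x) hT he, IdealStalkLib.comap_ideal J (A x).ι (hA x) hT he] at this
  have h2 := Ideal.comap_mono (f := ((A x).ι.appLE (A x) ⊤ he).hom) this
  rwa [Ideal.comap_map_of_bijective _ hb, Ideal.comap_map_of_bijective _ hb] at h2

theorem eq_of_affine_comap {T : Scheme.{u}} {I J : T.IdealSheafData}
    (h : ∀ x : T, ∃ A : T.Opens, IsAffineOpen A ∧ x ∈ A ∧ I.comap A.ι = J.comap A.ι) : I = J :=
  (le_of_affine_comap fun x => (h x).imp fun _ h => ⟨h.1, h.2.1, h.2.2.le⟩).antisymm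
    (le_of_affine_comap fun x => (h x).imp fun _ h => ⟨h.1, h.2.1, h.2.2.ge⟩)

/-- Pullback of ideals along a flat surjection is injective. -/
theorem map_comap_of_flat_surjective {T' T : Scheme.{u}} (t : T' ⟶ T) [Flat t] [Surjective t] (I : T.IdealSheafData) :
    (I.comap t).map t = I := by
  haveI : Flat (pullback.snd t I.subschemeι) := MorphismProperty.pullback_snd _ _ ‹Flat t›
  haveI : Surjective (pullback.snd t I.subschemeι) := MorphismProperty.pullback_snd _ _ ‹Surjective t›
  show (pullback.fst t I.subschemeι).ker.map t = I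
  rw [Scheme.IdealSheafData.map_ker, pullback.condition, ker_flat_surjective_comp, Scheme.IdealSheafData.ker_subschemeι]

theorem ker_top {T V : Scheme.{u}} (z : T ⟶ V) [IsAffine V] :
    z.ker.ideal ⟨⊤, isAffineOpen_top V⟩ = RingHom.ker z.appTop.hom := by
  rw [Scheme.ker_of_isAffine z]
  exact (Scheme.IdealSheafData.equivOfIsAffine (X := V)).apply_symm_apply _

variable {F X : Sp S}

/-- The chart of an affine open of a chart. -/
noncomputable abbrev openEt {U : Over S} {p : (yon S).obj U ⟶ X} (hp : RepWith @Etale p) (A : U.left.Opens) : EtOver X :=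
  EtOver.mk ((yon S).map (openInc A) ≫ p)
    (repWith_comp (repWith_yon_map (P := @Etale) (inferInstanceAs (Etale A.ι))) hp)

theorem ideal_of_hom {𝓘 : IdealEt X} (h : 𝓘.IsQCoh) {E E' : EtOver X} (g : E' ⟶ E) (hE : IsAffine E.obj.left.left)
    (hE' : IsAffine E'.obj.left.left) : 𝓘.ideal E' hE' = (𝓘.ideal E hE).map g.hom.left.left.appTop.hom :=
  le_antisymm (h g hE hE') (𝓘.map_le g hE hE')

/-- A quasi-coherent family of ideals glues to an ideal sheaf on every chart. -/
theorem exists_glue {𝓘 : IdealEt X} (h : 𝓘.IsQCoh) {U : Over S} {p : (yon S).obj U ⟶ X} (hp : RepWith @Etale p) :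
    ∃ J : U.left.IdealSheafData, ∀ (E : EtOver X) (hE : IsAffine E.obj.left.left) (g : E.obj.left ⟶ U),
      (yon S).map g ≫ p = E.obj.hom → J.comap g.left = Scheme.IdealSheafData.ofIdealTop (𝓘.ideal E hE) := by
  let a : ∀ A : U.left.affineOpens, Ideal Γ(U.left, A) := fun A =>
    (𝓘.ideal (openEt hp A.1) A.2).map A.1.topIso.hom.hom
  let J : U.left.IdealSheafData := ⟨a, fun A s => by
    let B := U.left.affineBasicOpen s
    have hle : B.1 ≤ A.1 := U.left.basicOpen_le s
    let g : openEt hp B.1 ⟶ openEt hp A.1 := EtOver.homMk (Over.homMk (U.left.homOfLE hle) (by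
      show U.left.homOfLE hle ≫ A.1.ι ≫ U.hom = B.1.ι ≫ U.hom
      rw [Scheme.homOfLE_ι_assoc])) (by
      show (yon S).map _ ≫ (yon S).map (openInc A.1) ≫ p = (yon S).map (openInc B.1) ≫ p
      rw [← Functor.map_comp_assoc]
      congr 2
      exact Over.OverMorphism.ext (Scheme.homOfLE_ι _ hle))
    show ((𝓘.ideal (openEt hp A.1) A.2).map A.1.topIso.hom.hom).map _ =
      (𝓘.ideal (openEt hp B.1) B.2).map B.1.topIso.hom.hom
    rw [ideal_of_hom h g A.2 B.2, Ideal.map_map, Ideal.map_map]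
    congr 1
    rw [← CommRingCat.hom_comp, ← CommRingCat.hom_comp]
    congr 1
    show A.1.topIso.hom ≫ U.left.presheaf.map (homOfLE hle).op = (U.left.homOfLE hle).appTop ≫ B.1.topIso.hom
    rw [Scheme.homOfLE_appTop]
    simp only [Scheme.Opens.topIso, Functor.mapIso_hom, ← Functor.map_comp]
    congr 1, _, rfl⟩
  have hJ : ∀ A : U.left.affineOpens, haveI : IsAffine A.1.toScheme := A.2
      J.comap A.1.ι = Scheme.IdealSheafData.ofIdealTop (𝓘.ideal (openEt hp A.1) A.2) := by
    intro A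
    haveI : IsAffine A.1.toScheme := A.2
    have he : (⊤ : A.1.toScheme.Opens) ≤ A.1.ι ⁻¹ᵁ A.1 := by simp
    have e : A.1.topIso.hom ≫ A.1.ι.appLE A.1 ⊤ he = 𝟙 _ := by
      rw [Scheme.Opens.ι_appLE]
      simp only [Scheme.Opens.topIso, Functor.mapIso_hom]
      rw [← Functor.map_comp]
      exact (congrArg _ (Subsingleton.elim _ (𝟙 _))).trans (U.left.presheaf.map_id _)
    refine Scheme.IdealSheafData.ext_of_isAffine ?_
    rw [IdealStalkLib.comap_ideal J A.1.ι A.2 (isAffineOpen_top A.1.toScheme) he]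
    show ((𝓘.ideal (openEt hp A.1) A.2).map A.1.topIso.hom.hom).map _ = _
    rw [Ideal.map_map, ← CommRingCat.hom_comp, e]
    exact (Ideal.map_id _).trans
      ((Scheme.IdealSheafData.equivOfIsAffine (X := A.1.toScheme)).apply_symm_apply _).symm
  refine ⟨J, fun E hE g hg => ?_⟩
  haveI := hE
  refine eq_of_affine_comap fun x => ?_
  obtain ⟨_, ⟨A : U.left.Opens, hA, rfl⟩, hxA, -⟩ :=
    U.left.isBasis_affineOpens.exists_subset_of_mem_open (Set.mem_univ (g.left x)) isOpen_univ
  obtain ⟨_, ⟨B : E.obj.left.left.Opens, hB, rfl⟩, hxB, hBA⟩ :=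
    E.obj.left.left.isBasis_affineOpens.exists_subset_of_mem_open hxA (g.left ⁻¹ᵁ A).2
  haveI : IsAffine B.toScheme := hB
  haveI : IsAffine A.toScheme := hA
  refine ⟨B, hB, hxB, ?_⟩
  let l : openOver B ⟶ openOver A := Over.homMk (g.left.resLE A B hBA) (by
    show g.left.resLE A B hBA ≫ A.ι ≫ U.hom = B.ι ≫ E.obj.left.hom
    rw [Scheme.Hom.resLE_comp_ι_assoc, Over.w])
  have hl : l ≫ openInc A = openInc B ≫ g := Over.OverMorphism.ext (Scheme.Hom.resLE_comp_ι _ _)
  let E' : EtOver X := openEt E.property B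
  let gA : E' ⟶ openEt hp A := EtOver.homMk l (by
    show (yon S).map l ≫ (yon S).map (openInc A) ≫ p = (yon S).map (openInc B) ≫ E.obj.hom
    rw [← Functor.map_comp_assoc, hl, Functor.map_comp_assoc, hg])
  let gE : E' ⟶ E := EtOver.homMk (openInc B) rfl
  have e1 : B.ι ≫ g.left = l.left ≫ A.ι := (Scheme.Hom.resLE_comp_ι _ _).symm
  haveI : IsAffine (openOver A).left := hA
  haveI : IsAffine (openOver B).left := hB
  rw [← Scheme.IdealSheafData.comap_comp, e1, Scheme.IdealSheafData.comap_comp, hJ ⟨A, hA⟩]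
  rw [comap_ofIdealTop, comap_ofIdealTop]
  exact congrArg _ ((ideal_of_hom h gA hA hB).symm.trans (ideal_of_hom h gE hE hB))

/-- Every quasi-coherent ideal sheaf cuts out a closed subspace. -/
theorem exists_cutOut (hX : IsAlgSpace X) {𝓘 : IdealEt X} (h : 𝓘.IsQCoh) :
    ∃ (Z : Sp S) (_ : IsAlgSpace Z) (i : Z ⟶ X), IsCutOutBy 𝓘 i := by
  obtain ⟨U, p, hp, hps⟩ := hX.atlas
  obtain ⟨J, hJ⟩ := exists_glue h hp
  have hinv : IsInv p J := fun R r r' hr hr' e => eq_of_affine_comap fun x => by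
    obtain ⟨_, ⟨B : R.left.Opens, hB, rfl⟩, hxB, -⟩ :=
      R.left.isBasis_affineOpens.exists_subset_of_mem_open (Set.mem_univ x) isOpen_univ
    refine ⟨B, hB, hxB, ?_⟩
    let E : EtOver X := openEt (p := (yon S).map r ≫ p) (repWith_comp (repWith_yon_map hr) hp) B
    rw [← Scheme.IdealSheafData.comap_comp, ← Scheme.IdealSheafData.comap_comp]
    exact (hJ E hB (openInc B ≫ r) (by rw [Functor.map_comp, Category.assoc]; rfl)).trans
      (hJ E hB (openInc B ≫ r') (by rw [Functor.map_comp, Category.assoc, ← e]; rfl)).symm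
  obtain ⟨Z, hZ, i, hi, hI⟩ := exists_sub_of_isInv hX hp hps hinv
  refine ⟨Z, hZ, i, hi, IdealEt.ext (funext fun E => funext fun hE => ?_)⟩
  haveI := hE
  obtain ⟨JE, hJE⟩ := exists_isSubIdeal hi E.obj.hom
  obtain ⟨T, t, s, ht, hts, hs, -⟩ := exists_etale_cover hp hps E.obj.hom
  haveI := ht
  haveI := hts
  obtain ⟨K, hK⟩ := exists_isSubIdeal hi ((yon S).map t ≫ E.obj.hom)
  have h1 : JE.comap t.left = (Scheme.IdealSheafData.ofIdealTop (𝓘.ideal E hE)).comap t.left := by
    rw [hJE.comap_eq t rfl hK, ← hI.comap_eq s hs.symm hK]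
    refine eq_of_affine_comap fun x => ?_
    obtain ⟨_, ⟨B : T.left.Opens, hB, rfl⟩, hxB, -⟩ :=
      T.left.isBasis_affineOpens.exists_subset_of_mem_open (Set.mem_univ x) isOpen_univ
    refine ⟨B, hB, hxB, ?_⟩
    haveI : IsAffine B.toScheme := hB
    let E' : EtOver X := openEt (p := (yon S).map t ≫ E.obj.hom) (repWith_comp (repWith_yon_map ht) E.property) B
    let gE : E' ⟶ E := EtOver.homMk (openInc B ≫ t) (by rw [Functor.map_comp, Category.assoc]; rfl)
    rw [← Scheme.IdealSheafData.comap_comp, ← Scheme.IdealSheafData.comap_comp, comap_ofIdealTop]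
    exact (hJ E' hB (openInc B ≫ s) (by rw [Functor.map_comp, Category.assoc, hs]; rfl)).trans
      (congrArg _ (ideal_of_hom h gE hE hB))
  have h2 := congrArg (fun I => Scheme.IdealSheafData.map I t.left) h1
  simp only [map_comap_of_flat_surjective] at h2
  have h3 := ideal_top_of_isCutOutBy (𝓘 := idealOfRep hi.1) ⟨hi, rfl⟩ hE E.property hJE
  rw [h2] at h3
  exact h3.symm.trans ((Scheme.IdealSheafData.equivOfIsAffine (X := E.obj.left.left)).apply_symm_apply _)

theorem ideal_idealOfRep {f : F ⟶ X} (hf : Representable f) (E : EtOver X) (hE : IsAffine E.obj.left.left) :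
    (idealOfRep hf).ideal E hE = (EtOver.bcπ hf E).left.ker.ideal ⟨⊤, isAffineOpen_top E.obj.left.left⟩ := by
  haveI := hE
  exact (ker_top _).symm

/-- A representable map factors through a closed subspace exactly when its ideal contains that of the subspace. -/
theorem exists_lift_iff_le_idealOfRep (hX : IsAlgSpace X) {Z : Sp S} {i : Z ⟶ X} {𝓘 : IdealEt X}
    (hi : IsCutOutBy 𝓘 i) {f : F ⟶ X} (hf : Representable f) : (∃ k, k ≫ i = f) ↔ 𝓘 ≤ idealOfRep hf := by
  constructor
  · rintro ⟨k, rfl⟩ E hE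
    haveI := hE
    obtain ⟨J, hJ⟩ := exists_isSubIdeal hi.choose E.obj.hom
    obtain ⟨fJ, sqJ⟩ := id hJ
    obtain ⟨l, hl⟩ := (yon S).map_surjective (sqJ.lift (hf.fst E.obj.hom ≫ k) ((yon S).map (EtOver.bcπ hf E))
      (by rw [Category.assoc]; exact hf.w _))
    have hl' : l ≫ subInc J = EtOver.bcπ hf E :=
      (yon S).map_injective (by rw [Functor.map_comp, hl, sqJ.lift_snd])
    rw [show 𝓘.ideal E hE = _ from (ideal_top_of_isCutOutBy hi hE E.property hJ).symm, ideal_idealOfRep]
    have : J ≤ (EtOver.bcπ hf E).left.ker := by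
      rw [← hl', Over.comp_left]
      exact J.ker_subschemeι.ge.trans (Scheme.Hom.le_ker_comp _ _)
    exact this _
  · intro hle
    obtain ⟨U, p, hp, hps⟩ := hX.atlas
    obtain ⟨J, hJ⟩ := exists_isSubIdeal hi.choose p
    have sq := hf.isPullback p
    haveI : Epi (hf.fst p) :=
      epi_of_etale_surjective (repWith_of_isPullback sq.flip hp) (repWith_of_isPullback sq.flip hps)
    refine (exists_lift_iff_le_ker hi.choose hJ f (hf.fst p) sq.w).2 ?_
    suffices J.comap (hf.snd p).left ≤ ⊥ by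
      rw [← Scheme.IdealSheafData.map_bot, Scheme.IdealSheafData.le_map_iff_comap_le]; exact this
    refine le_of_affine_comap fun x => ?_
    obtain ⟨_, ⟨A : U.left.Opens, hA, rfl⟩, hxA, -⟩ :=
      U.left.isBasis_affineOpens.exists_subset_of_mem_open (Set.mem_univ ((hf.snd p).left x)) isOpen_univ
    obtain ⟨_, ⟨B : (hf.pullback p).left.Opens, hB, rfl⟩, hxB, hBA⟩ :=
      (hf.pullback p).left.isBasis_affineOpens.exists_subset_of_mem_open hxA ((hf.snd p).left ⁻¹ᵁ A).2
    haveI : IsAffine A.toScheme := hA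
    refine ⟨B, hB, hxB, ?_⟩
    let E : EtOver X := openEt hp A
    haveI : IsAffine E.obj.left.left := hA
    have sqE := hf.isPullback E.obj.hom
    let l : openOver B ⟶ openOver A := Over.homMk ((hf.snd p).left.resLE A B hBA) (by
      show (hf.snd p).left.resLE A B hBA ≫ A.ι ≫ U.hom = B.ι ≫ (hf.pullback p).hom
      rw [Scheme.Hom.resLE_comp_ι_assoc, Over.w])
    have hl : l ≫ openInc A = openInc B ≫ hf.snd p := Over.OverMorphism.ext (Scheme.Hom.resLE_comp_ι _ _)
    obtain ⟨m, hm⟩ := (yon S).map_surjective (sqE.lift ((yon S).map (openInc B) ≫ hf.fst p) ((yon S).map l) (by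
      show _ = (yon S).map l ≫ (yon S).map (openInc A) ≫ p
      rw [Category.assoc, sq.w, ← Functor.map_comp_assoc, ← Functor.map_comp_assoc, hl]))
    have hml : m ≫ EtOver.bcπ hf E = l := (yon S).map_injective (by rw [Functor.map_comp, hm, sqE.lift_snd])
    obtain ⟨JA, hJA⟩ := exists_isSubIdeal hi.choose E.obj.hom
    have hA' : JA ≤ (EtOver.bcπ hf E).left.ker := by
      rw [eq_ofIdealTop_top JA, eq_ofIdealTop_top (EtOver.bcπ hf E).left.ker, ofIdealTop_le_iff,
        ideal_top_of_isCutOutBy hi (show IsAffine E.obj.left.left from hA) E.property hJA, ← ideal_idealOfRep]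
      exact hle E hA
    have e1 : B.ι ≫ (hf.snd p).left = (m.left ≫ (EtOver.bcπ hf E).left) ≫ A.ι := by
      rw [← Over.comp_left, hml]
      exact (Scheme.Hom.resLE_comp_ι _ _).symm
    rw [Scheme.IdealSheafData.comap_bot, ← Scheme.IdealSheafData.comap_comp, e1,
      Scheme.IdealSheafData.comap_comp, show J.comap A.ι = JA from hJ.comap_eq (openInc A) rfl hJA,
      ← Scheme.IdealSheafData.le_map_iff_comap_le, Scheme.IdealSheafData.map_bot]
    exact hA'.trans (Scheme.Hom.le_ker_comp _ _)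

/-- Inclusions of cut out subspaces are inclusions of ideals. -/
theorem exists_hom_iff_ideal_le (hX : IsAlgSpace X) {Z Z' : Sp S} {i : Z ⟶ X} {i' : Z' ⟶ X} {𝓘 𝓘' : IdealEt X}
    (h : IsCutOutBy 𝓘 i) (h' : IsCutOutBy 𝓘' i') : (∃ k, k ≫ i = i') ↔ 𝓘 ≤ 𝓘' := by
  rw [exists_lift_iff_le_idealOfRep hX h h'.choose.1, h'.choose_spec]

/-- The ideal of a quasi-compact representable map is quasi-coherent. -/
theorem isQCoh_idealOfRep {f : F ⟶ X} (hf : Representable f) (hq : IsQuasiCompactMor f) :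
    (idealOfRep hf).IsQCoh := by
  intro E E' g hE hE'
  haveI := hE
  haveI := hE'
  haveI : QuasiCompact (EtOver.bcπ hf E).left :=
    ((repWith_quasiCompact_iff hf).2 hq).2 E.obj.hom _ _ (hf.isPullback E.obj.hom)
  haveI : Etale g.hom.left.left := EtOver.etale_left g
  obtain ⟨m, hm, hm'⟩ : ∃ m, (yon S).map m ≫ hf.fst E.obj.hom = hf.fst E'.obj.hom ∧
      m ≫ EtOver.bcπ hf E = EtOver.bcπ hf E' ≫ g.hom.left :=
    ⟨_, EtOver.map_bcMap_fst hf g, EtOver.bcMap_snd hf g⟩
  have sq : IsPullback ((yon S).map m) ((yon S).map (EtOver.bcπ hf E')) ((yon S).map (EtOver.bcπ hf E))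
      ((yon S).map g.hom.left) :=
    IsPullback.of_right (h₁₂ := hf.fst E.obj.hom) (v₁₃ := f) (h₂₂ := E.obj.hom)
      (by rw [hm, EtOver.w g]; exact hf.isPullback _) (by rw [← Functor.map_comp, ← Functor.map_comp, hm'])
      (hf.isPullback _)
  have hk := ker_baseChange_flat (isPullback_left (IsPullback.of_map_of_faithful (F := yon S) sq))
  rw [ideal_idealOfRep, ideal_idealOfRep, ← hk,
    IdealStalkLib.comap_ideal _ g.hom.left.left (isAffineOpen_top _) (isAffineOpen_top _) (by simp)]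
  exact le_of_eq (congrArg (fun φ => Ideal.map φ _) (by simp [Scheme.Hom.appLE]))

/-- The scheme-theoretic image of a quasi-compact representable map is cut out by its ideal. -/
theorem isSchImage_iff_isCutOutBy (hX : IsAlgSpace X) {f : F ⟶ X} (hf : Representable f) (hq : IsQuasiCompactMor f)
    {Z : Sp S} (hZ : IsAlgSpace Z) (i : Z ⟶ X) : IsSchImage f i ↔ IsCutOutBy (idealOfRep hf) i := by
  constructor
  · intro hi
    obtain ⟨Z₁, hZ₁, i₁, h₁⟩ := exists_cutOut hX (isQCoh_idealOfRep hf hq)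
    have hcut : IsCutOutBy (idealOfRep hi.1.1) i := ⟨hi.1, rfl⟩
    have h1 := (exists_lift_iff_le_idealOfRep hX hcut hf).1 hi.2.1
    have h2 := (exists_hom_iff_ideal_le hX h₁ hcut).1
      (hi.2.2 i₁ hZ₁ h₁.choose ((exists_lift_iff_le_idealOfRep hX h₁ hf).2 fun _ _ => le_rfl))
    exact ⟨hi.1, IdealEt.ext (funext fun E => funext fun hE => le_antisymm (h1 E hE) (h2 E hE))⟩
  · intro hi
    refine ⟨hi.choose, (exists_lift_iff_le_idealOfRep hX hi hf).2 (fun _ _ => le_rfl), fun Z' i' _ hi' hk => ?_⟩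
    exact (exists_hom_iff_ideal_le hX ⟨hi', rfl⟩ hi).2 ((exists_lift_iff_le_idealOfRep hX ⟨hi', rfl⟩ hf).1 hk)

end Groth.Agent.ASp
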