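import Groth.Agent.ASp.Source
import Groth.Agent.ASp.Fpqc
/-!
Locality on the source inherited from schemes.
-/

set_option backward.isDefEq.respectTransparency false
set_option backward.isDefEq.respectTransparency.types false

universe u

open CategoryTheory CategoryTheory.Limits AlgebraicGeometry Opposite

namespace Groth.Agent.ASp

open _root_.AlgSp

variable {S : Scheme.{u}}

theorem exists_compact_open_between {X : Scheme.{u}} {K : Set ↥X} (hK : IsCompact K) (W : X.Opens)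
    (hKW : K ⊆ W) : ∃ V : X.Opens, IsCompact (V : Set ↥X) ∧ K ⊆ V ∧ V ≤ W := by
  classical
  have : ∀ x : K, ∃ A : X.Opens, IsAffineOpen A ∧ x.1 ∈ A ∧ A ≤ W := fun x =>
    X.isBasis_affineOpens.exists_subset_of_mem_open (hKW x.2) W.2 |> fun ⟨_, ⟨A, hA, rfl⟩, h1, h2⟩ => ⟨A, hA, h1, h2⟩
  choose A hA hxA hAW using this
  obtain ⟨s, hs⟩ := hK.elim_finite_subcover (fun x : K => (A x : Set ↥X)) (fun x => (A x).2)
    fun x hx => Set.mem_iUnion.2 ⟨⟨x, hx⟩, hxA _⟩
  refine ⟨s.sup A, ?_, ?_, Finset.sup_le fun x _ => hAW x⟩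
  · rw [TopologicalSpace.Opens.coe_finset_sup]
    rw [Finset.sup_eq_iSup]
    exact s.finite_toSet.isCompact_biUnion fun x _ => (hA x).isCompact
  · intro x hx
    obtain ⟨i, hi, hxi⟩ := Set.mem_iUnion₂.1 (hs hx)
    exact Finset.le_sup (f := A) hi hxi

/-- Scheme-level locality on the source gives locality of the induced property of spaces. -/
theorem isLocalOnSource_aux {P : MorphismProperty Scheme.{u}} (K : Precoverage Scheme.{u})
    [P.IsLocalAtSource K] (Q : MorphismProperty Scheme.{u})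
    (hpair : ∀ {T W : Scheme.{u}} (q : T ⟶ W), Q q → ∃ R ∈ K W, R q)
    (het : ∀ {T U : Scheme.{u}} (t : T ⟶ U) [Etale t] [Surjective t], Presieve.singleton t ∈ K U)
    {ι : Type u} {X : Sp S} (Xi : ι → Sp S) (g : ∀ i, Xi i ⟶ X) (hX : IsAlgSpace X)
    (hXi : ∀ i, IsAlgSpace (Xi i)) (hg : ∀ i, LocP Q (g i))
    (hcov : ∀ (U : Over S) (a : (yon S).obj U ⟶ X) (_ : RepWith @Etale a) (A B : ι → Over S)
      (p : ∀ i, (yon S).obj (A i) ⟶ Xi i) (t : ∀ i, B i ⟶ U) (b₁ : ∀ i, B i ⟶ A i),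
      (∀ i, RepWith @Etale (p i)) → (∀ i, RepWith @Surjective (p i)) →
      (∀ i, IsPullback ((yon S).map (t i)) ((yon S).map (b₁ i)) a (p i ≫ g i)) →
      (∀ i, Q (t i).left) → Presieve.ofArrows (fun i => (B i).left) (fun i => (t i).left) ∈ K U.left)
    {Y : Sp S} (f : X ⟶ Y) : LocP P f ↔ ∀ i, LocP P (g i ≫ f) := by
  refine ⟨fun h i U V a b k ha hb e => ?_, fun h U V a b k ha hb e => ?_⟩
  · obtain ⟨A, x, hxe, hxs⟩ := hX.atlas
    obtain ⟨B, r, t, hB⟩ := exists_isPullback_yon hxe.1 (a ≫ g i)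
    obtain ⟨W, m, w, hW⟩ := exists_isPullback_yon hb.1 (x ≫ f)
    have hwe : Etale w.left := hb.2 _ _ _ hW
    have hte : Etale t.left := hxe.2 _ _ _ hB
    haveI : Surjective t.left := hxs.2 _ _ _ hB
    have hwx : RepWith @Etale ((yon S).map w ≫ x) := repWith_comp (repWith_yon_map hwe) hxe
    have hm : P m.left := h ((yon S).map w ≫ x) b m hwx hb (by rw [Category.assoc]; exact hW.w.symm)
    let q' : (yon S).obj B ⟶ (yon S).obj W := hW.lift ((yon S).map (t ≫ k)) ((yon S).map r) (by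
      rw [Functor.map_comp, Category.assoc, ← e]
      simpa [Category.assoc] using (hB.w =≫ f).symm)
    obtain ⟨q, hq⟩ := (yon S).map_surjective q'
    have hQ : Q q.left := hg i ((yon S).map t ≫ a) ((yon S).map w ≫ x) q (repWith_comp (repWith_yon_map hte) ha)
      hwx (by rw [← Category.assoc ((yon S).map q), hq, hW.lift_snd, Category.assoc]; exact hB.w.symm)
    obtain ⟨R, hR, hRq⟩ := hpair q.left hQ
    have hqm : q ≫ m = t ≫ k := (yon S).map_injective (by rw [Functor.map_comp, hq, hW.lift_fst])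
    have h1 : P (t.left ≫ k.left) := by
      rw [← Over.comp_left, ← hqm, Over.comp_left]
      exact MorphismProperty.IsLocalAtSource.comp hR q.left hRq hm
    haveI := hte
    exact MorphismProperty.IsLocalAtSource.of_forall_comp (het t.left) fun T l hl => by
      obtain ⟨⟩ := hl
      exact h1
  · choose A p hpe hps using fun i => (hXi i).atlas
    choose B t b₁ hB using fun i => exists_isPullback_yon ha.1 (p i ≫ g i)
    have hBp : ∀ i, RepWith @Etale ((yon S).map (b₁ i) ≫ p i) := fun i =>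
      repWith_comp (repWith_yon_map (ha.2 _ _ _ (hB i))) (hpe i)
    refine MorphismProperty.IsLocalAtSource.of_forall_comp (K := K)
      (hcov U a ha A B p t b₁ hpe hps hB fun i => hg i ((yon S).map (b₁ i) ≫ p i) a (t i) (hBp i) ha
        (by rw [Category.assoc]; exact (hB i).w.symm)) fun T l hl => ?_
    obtain ⟨i⟩ := hl
    exact h i ((yon S).map (b₁ i) ≫ p i) b (t i ≫ k) (hBp i) hb
      (by rw [Functor.map_comp, Category.assoc, Category.assoc, ← e]
          simpa using ((hB i).w =≫ f).symm)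

end Groth.Agent.ASp

namespace Groth.Agent.ASp

open _root_.AlgSp

variable {S : Scheme.{u}}

/-- The family of a morphism and the identity. -/
def pairSieve {T W : Scheme.{u}} (q : T ⟶ W) : Presieve W :=
  Presieve.ofArrows (fun i : ULift.{u} Bool => if i.down then T else W)
    (fun | ⟨true⟩ => q | ⟨false⟩ => 𝟙 W)

theorem pairSieve_self {T W : Scheme.{u}} (q : T ⟶ W) : pairSieve q q :=
  Presieve.ofArrows.mk (ι := ULift.{u} Bool) ⟨true⟩

theorem pairSieve_mem {Q : MorphismProperty Scheme.{u}} [Q.ContainsIdentities] {T W : Scheme.{u}} (q : T ⟶ W)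
    (hq : Q q) : pairSieve q ∈ Scheme.precoverage Q W := by
  rw [pairSieve, Scheme.ofArrows_mem_precoverage_iff]
  refine ⟨fun x => ⟨⟨false⟩, x, rfl⟩, ?_⟩
  rintro ⟨_ | _⟩
  · exact Q.id_mem W
  · exact hq

theorem pairSieve_mem_fpqc {T W : Scheme.{u}} (q : T ⟶ W) [Flat q] :
    pairSieve q ∈ Scheme.fpqcPrecoverage W := by
  refine ⟨?_, pairSieve_mem (Q := @Flat) q ‹Flat q›⟩
  let E : PreZeroHypercover.{u} W :=
    ⟨ULift.{u} Bool, fun i => if i.down then T else W, fun | ⟨true⟩ => q | ⟨false⟩ => 𝟙 W⟩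
  change E.presieve₀ ∈ _
  rw [Scheme.presieve₀_mem_qcPrecoverage_iff]
  exact ⟨fun {O} hO => IsCompactOpenCovered.of_finite (κ := PUnit.{1}) (fun _ => (⟨false⟩ : ULift.{u} Bool))
    (fun _ => O) (fun _ => hO.isCompact) (by simp [E, Set.iUnion_const])⟩

/-- The cover by the charts of a jointly surjective family. -/
theorem surjective_charts {ι : Type u} {X : Sp S} {Xi : ι → Sp S} {g : ∀ i, Xi i ⟶ X}
    (hs : ∀ x : Points X, ∃ i, x ∈ Set.range (Points.map (g i))) {U : Over S} {a : (yon S).obj U ⟶ X}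
    {A B : ι → Over S} {p : ∀ i, (yon S).obj (A i) ⟶ Xi i} {t : ∀ i, B i ⟶ U} {b₁ : ∀ i, B i ⟶ A i}
    (hps : ∀ i, RepWith @Surjective (p i))
    (hB : ∀ i, IsPullback ((yon S).map (t i)) ((yon S).map (b₁ i)) a (p i ≫ g i)) (u : ↥U.left) :
    ∃ i, u ∈ Set.range (t i).left := by
  obtain ⟨i, x, hx⟩ := hs (Points.ofPt a u)
  obtain ⟨v, rfl⟩ := surjective_ofPt (hps i) x
  rw [Points.map_ofPt] at hx
  obtain ⟨w, hw, -⟩ := (ofPt_eq_ofPt_iff (hB i) u v).1 hx.symm
  exact ⟨i, w, hw⟩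

theorem isLocalOnSource_of_isCover {P Q : MorphismProperty Scheme.{u}} [Q.ContainsIdentities]
    [P.IsLocalAtSource (Scheme.precoverage Q)]
    (het : ∀ {T U : Scheme.{u}} (t : T ⟶ U) [Etale t] [Surjective t], Q t)
    {ι : Type u} {X : Sp S} (Xi : ι → Sp S) (g : ∀ i, Xi i ⟶ X) (hX : IsAlgSpace X)
    (hXi : ∀ i, IsAlgSpace (Xi i)) (hg : ∀ i, LocP Q (g i))
    (hs : ∀ x : Points X, ∃ i, x ∈ Set.range (Points.map (g i))) {Y : Sp S} (f : X ⟶ Y) :
    LocP P f ↔ ∀ i, LocP P (g i ≫ f) :=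
  isLocalOnSource_aux (Scheme.precoverage Q) Q (fun q hq => ⟨_, pairSieve_mem q hq, pairSieve_self q⟩)
    (fun t _ _ => (Scheme.singleton_mem_precoverage_iff _ t).2 ⟨t.surjective, het t⟩)
    Xi g hX hXi hg (fun U a _ A B p t b₁ _ hps hB hQ =>
      (Scheme.ofArrows_mem_precoverage_iff _).2 ⟨surjective_charts hs hps hB, hQ⟩) f

theorem isLocalOnSource_fpqc {P : MorphismProperty Scheme.{u}} [P.IsLocalAtSource Scheme.fpqcPrecoverage]
    {ι : Type u} {X : Sp S} (Xi : ι → Sp S) (g : ∀ i, Xi i ⟶ X) (hX : IsAlgSpace X)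
    (hXi : ∀ i, IsAlgSpace (Xi i)) (hτ : IsFpqcCover Xi g) {Y : Sp S} (f : X ⟶ Y) :
    LocP P f ↔ ∀ i, LocP P (g i ≫ f) := by
  refine isLocalOnSource_aux Scheme.fpqcPrecoverage @Flat
    (fun q hq => haveI : Flat q := hq; ⟨_, pairSieve_mem_fpqc q, pairSieve_self q⟩)
    (fun t _ _ => Scheme.fppfPrecoverage_le_fpqcPrecoverage _ (Scheme.Hom.singleton_mem_fppfPrecoverage t))
    Xi g hX hXi hτ.1 (fun U a ha A B p t b₁ hpe hps hB hQ => ?_) f
  have hs := surjective_of_fpqc hτ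
  refine ⟨?_, (Scheme.ofArrows_mem_precoverage_iff _).2 ⟨surjective_charts hs hps hB, hQ⟩⟩
  let E : PreZeroHypercover.{u} U.left := ⟨ι, fun i => (B i).left, fun i => (t i).left⟩
  change E.presieve₀ ∈ _
  rw [Scheme.presieve₀_mem_qcPrecoverage_iff]
  refine ⟨fun {O} hO => ?_⟩
  let Z : Over S := Over.mk (O.ι ≫ U.hom)
  let ζ : Z ⟶ U := Over.homMk O.ι rfl
  obtain ⟨m, W, c, hWa, -, hWs, hWl⟩ := hτ.2 Z hO ((yon S).map ζ ≫ a)
  choose i l hl using hWl
  choose D d e hD using fun j => exists_isPullback_yon (hpe (i j)).1 (l j)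
  have hDsur : ∀ j, Surjective (e j).left := fun j => (hps (i j)).2 _ _ _ (hD j)
  choose r hr₁ hr₂ using fun j => show ∃ r : D j ⟶ B (i j), r ≫ t (i j) = e j ≫ c j ≫ ζ ∧ r ≫ b₁ (i j) = d j by
    obtain ⟨r, hr⟩ := (yon S).map_surjective ((hB (i j)).lift ((yon S).map (e j ≫ c j ≫ ζ)) ((yon S).map (d j)) (by
      rw [Functor.map_comp, Functor.map_comp, Category.assoc, Category.assoc, ← hl j]
      simpa [Category.assoc] using ((hD j).w =≫ g (i j)).symm))
    exact ⟨r, (yon S).map_injective (by rw [Functor.map_comp, hr, IsPullback.lift_fst]),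
      (yon S).map_injective (by rw [Functor.map_comp, hr, IsPullback.lift_snd])⟩
  have hw : ∀ j (w : ↥(W j).left), ∃ (A : (D j).left.Opens), IsAffineOpen A ∧ w ∈ (e j).left '' (A : Set _) := by
    intro j w
    obtain ⟨y, rfl⟩ := (hDsur j).surj w
    obtain ⟨_, ⟨A, hA, rfl⟩, hy, -⟩ := (D j).left.isBasis_affineOpens.exists_subset_of_mem_open
      (Set.mem_univ y) isOpen_univ
    exact ⟨A, hA, y, hy, rfl⟩
  choose O' hO' hmem using hw
  have hfin : ∀ j, ∃ s : Finset ↥(W j).left, ∀ w, ∃ w₀ ∈ s, w ∈ (e j).left '' (O' j w₀ : Set _) := by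
    intro j
    haveI := hWa j
    haveI : Etale (e j).left := (hpe (i j)).2 _ _ _ (hD j)
    obtain ⟨s, hs⟩ := (isCompact_univ (X := ↥(W j).left)).elim_finite_subcover
      (fun w => (e j).left '' (O' j w : Set _)) (fun w => (e j).left.isOpenMap _ (O' j w).2)
      fun w _ => Set.mem_iUnion.2 ⟨w, hmem j w⟩
    exact ⟨s, fun w => by simpa using Set.mem_iUnion₂.1 (hs (Set.mem_univ w))⟩
  choose s hs' using hfin
  have hV : ∀ (k : Σ j : Fin m, ↥(s j)), ∃ V : (B (i k.1)).left.Opens, IsCompact (V : Set ↥(B (i k.1)).left) ∧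
      (r k.1).left '' (O' k.1 k.2.1 : Set _) ⊆ V ∧ V ≤ (t (i k.1)).left ⁻¹ᵁ O := fun k => by
    refine exists_compact_open_between ((hO' k.1 k.2.1).isCompact.image (r k.1).left.continuous) _ ?_
    rintro _ ⟨y, -, rfl⟩
    change (t (i k.1)).left ((r k.1).left y) ∈ O
    rw [← Scheme.Hom.comp_apply, ← Over.comp_left, hr₁]
    simp [ζ]
    exact ((c k.1).left ((e k.1).left y)).2
  choose V hVc hVr hVle using hV
  refine IsCompactOpenCovered.of_finite (fun k : Σ j : Fin m, ↥(s j) => i k.1) V hVc (subset_antisymm ?_ fun x hx => ?_)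
  · refine Set.iUnion_subset fun k => ?_
    rintro _ ⟨y, hy, rfl⟩
    exact hVle k hy
  · obtain ⟨j, w, hw⟩ := hWs ⟨x, hx⟩
    obtain ⟨w₀, hw₀, y, hy, rfl⟩ := hs' j w
    refine Set.mem_iUnion.2 ⟨⟨j, ⟨w₀, hw₀⟩⟩, (r j).left y, hVr ⟨j, ⟨w₀, hw₀⟩⟩ ⟨y, hy, rfl⟩, ?_⟩
    change (t (i j)).left ((r j).left y) = x
    rw [← Scheme.Hom.comp_apply, ← Over.comp_left, hr₁]
    simp only [ζ, Over.comp_left, Over.homMk_left, Scheme.Hom.comp_apply]
    rw [hw]
    rfl

end Groth.Agent.ASp
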