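import Groth.Agent.ASp.BddDecent
import Groth.Agent.ASp.NoethFibre
import Groth.Agent.ASp.Quot
import Groth.Agent.ASp.SrcLocal
import Groth.Agent.GenFin.Dense
/-!
# A decent locally Noetherian algebraic space is quasi-separated
-/

set_option autoImplicit false
set_option backward.isDefEq.respectTransparency false
set_option backward.isDefEq.respectTransparency.types false

universe u

open CategoryTheory CategoryTheory.Limits AlgebraicGeometry Opposite TopologicalSpace

noncomputable section

namespace Groth.Agent.ASp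

open _root_.AlgSp

/-- A separated etale scheme over a Noetherian scheme with finite fibres is quasi-compact. -/
theorem compactSpace_of_finite_fibres {R U : Scheme.{u}} (r : R ⟶ U) [Etale r] [IsSeparated r]
    [IsNoetherian U] (hfin : ∀ u : U, (r ⁻¹' {u}).Finite) : CompactSpace R := by
  classical
  haveI : NoetherianSpace U := inferInstance
  suffices h : ∀ C : Closeds U, IsCompact (r ⁻¹' (C : Set U)) by
    exact ⟨by simpa using h ⊤⟩
  intro C
  induction C using (wellFounded_lt (α := Closeds U)).induction with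
  | h C ih =>
  by_cases hirr : IsIrreducible (C : Set U)
  · let Z : U.IdealSheafData := Scheme.IdealSheafData.vanishingIdeal C
    have hZ : Set.range Z.subschemeι = (C : Set U) := by
      rw [Scheme.IdealSheafData.range_subschemeι]
      simp [Z]
    obtain ⟨η, hη⟩ := QuasiSober.sober hirr C.isClosed
    have hηC : η ∈ (C : Set U) := hη.mem
    -- a quasi-compact open containing the generic fibre
    obtain ⟨V, hV, hVη⟩ : ∃ V : R.Opens, IsCompact (V : Set R) ∧ r ⁻¹' {η} ⊆ V := by
      obtain ⟨V, hV, hVη, -⟩ := exists_compact_open_between (hfin η).isCompact ⊤ (by simp)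
      exact ⟨V, hV, hVη⟩
    haveI : CompactSpace V := isCompact_iff_compactSpace.1 hV
    haveI : IsLocallyNoetherian R := LocallyOfFiniteType.isLocallyNoetherian r
    haveI : IsLocallyNoetherian V.toScheme := LocallyOfFiniteType.isLocallyNoetherian V.ι
    haveI : IsNoetherian V.toScheme := {}
    -- the base change to the reduced subscheme
    let RZ := pullback r Z.subschemeι
    let rZ : RZ ⟶ Z.subscheme := pullback.snd r Z.subschemeι
    let VZ : RZ.Opens := pullback.fst r Z.subschemeι ⁻¹ᵁ V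
    have hVZ : IsCompact (VZ : Set RZ) :=
      (pullback.fst r Z.subschemeι).isCompact_preimage hV
    haveI : CompactSpace VZ := isCompact_iff_compactSpace.1 hVZ
    obtain ⟨η', hη'⟩ : η ∈ Set.range Z.subschemeι := by rw [hZ]; exact hηC
    have hgen : ∀ z, η' ⤳ z := fun z => by
      rw [← Z.subschemeι.isEmbedding.isInducing.specializes_iff, hη']
      exact hη.specializes (by rw [← hZ]; exact ⟨z, rfl⟩)
    haveI : Subsingleton (Z.subschemeι ⁻¹' {η}) := ⟨fun a b =>
      Subtype.ext (Z.subschemeι.isEmbedding.injective (a.2.trans b.2.symm))⟩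
    haveI : Etale (VZ.ι ≫ rZ) := inferInstance
    haveI : CompactSpace Z.subscheme := QuasiCompact.compactSpace_of_compactSpace Z.subschemeι
    haveI : QuasiSeparatedSpace Z.subscheme := quasiSeparatedSpace_of_quasiSeparated Z.subschemeι
    haveI : QuasiCompact (VZ.ι ≫ rZ) := quasiCompact_of_compactSpace _
    haveI := Groth.Agent.Unibranch.locallyQuasiFinite_of_etale (VZ.ι ≫ rZ)
    obtain ⟨D, hD, hηD, hfinD⟩ := GenFin.exists_isFinite (VZ.ι ≫ rZ) η'
      (fun z hz => (hgen z).antisymm hz |>.eq.symm) ((VZ.ι ≫ rZ).finite_preimage_singleton η')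
    haveI := hfinD
    -- over `D` the open contains everything
    have hall : ∀ q : RZ, rZ q ∈ D → q ∈ VZ := by
      intro q hq
      by_contra hqV
      let j : ((VZ.ι ≫ rZ) ⁻¹ᵁ D).toScheme ⟶ (rZ ⁻¹ᵁ D).toScheme :=
        IsOpenImmersion.lift (rZ ⁻¹ᵁ D).ι ((((VZ.ι ≫ rZ) ⁻¹ᵁ D).ι) ≫ VZ.ι) (by
          rintro _ ⟨x, rfl⟩
          simp only [Scheme.Opens.range_ι]
          exact x.2)
      have hj : j ≫ (rZ ⁻¹ᵁ D).ι = ((VZ.ι ≫ rZ) ⁻¹ᵁ D).ι ≫ VZ.ι := IsOpenImmersion.lift_fac _ _ _
      have hjc : j ≫ rZ ∣_ D = (VZ.ι ≫ rZ) ∣_ D := by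
        rw [← cancel_mono D.ι, Category.assoc, morphismRestrict_ι, morphismRestrict_ι, reassoc_of% hj]
      haveI : IsFinite (j ≫ rZ ∣_ D) := by rw [hjc]; infer_instance
      haveI : IsFinite j := IsFinite.of_comp j (rZ ∣_ D)
      let q' : (rZ ⁻¹ᵁ D).toScheme := ⟨q, hq⟩
      have hq' : q' ∉ Set.range j := by
        rintro ⟨x, hx⟩
        apply hqV
        have := congrArg (rZ ⁻¹ᵁ D).ι hx
        rw [← Scheme.Hom.comp_apply, hj, Scheme.Hom.comp_apply] at this
        change _ = q at this
        rw [← this]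
        exact ((((VZ.ι ≫ rZ) ⁻¹ᵁ D).ι) x).2
      have hopen : IsOpen ((rZ ⁻¹ᵁ D).ι '' (Set.range j)ᶜ) :=
        (rZ ⁻¹ᵁ D).ι.isOpenEmbedding.isOpenMap _ j.isClosedMap.isClosed_range.isOpen_compl
      obtain ⟨t, ⟨t', ht', rfl⟩, htη⟩ : ∃ t ∈ (rZ ⁻¹ᵁ D).ι '' (Set.range j)ᶜ, rZ t = η' := by
        have ho : IsOpen (rZ '' ((rZ ⁻¹ᵁ D).ι '' (Set.range j)ᶜ)) := rZ.isOpenMap _ hopen
        exact (hgen (rZ q)).mem_open ho ⟨q, ⟨q', hq', rfl⟩, rfl⟩
      apply ht'
      have htV : (rZ ⁻¹ᵁ D).ι t' ∈ VZ := by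
        apply hVη
        rw [Set.mem_preimage, Set.mem_singleton_iff, ← Scheme.Hom.comp_apply, pullback.condition,
          Scheme.Hom.comp_apply, ← hη']
        exact congrArg _ htη
      refine ⟨⟨⟨_, htV⟩, t'.2⟩, (rZ ⁻¹ᵁ D).ι.isOpenEmbedding.injective ?_⟩
      rw [← Scheme.Hom.comp_apply, hj]
      rfl
    -- split off the closed complement
    obtain ⟨W, hW, hWe⟩ := Z.subschemeι.isEmbedding.isInducing.isOpen_iff.1 D.2
    have hηW : η ∈ W := by rw [← hη']; exact (Set.ext_iff.1 hWe η').2 hηD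
    let C' : Closeds U := ⟨(C : Set U) \ W, C.isClosed.sdiff hW⟩
    have hlt : C' < C := lt_of_le_of_ne (fun x hx => hx.1) (fun e => by
      have : η ∈ (C' : Set U) := by rw [e]; exact hηC
      exact this.2 hηW)
    have hsub : r ⁻¹' ((C : Set U) ∩ W) ⊆ V := by
      rintro x ⟨hxC, hxW⟩
      obtain ⟨z, hz⟩ : r x ∈ Set.range Z.subschemeι := by rw [hZ]; exact hxC
      obtain ⟨p, hp1, hp2⟩ := Scheme.Pullback.exists_preimage_pullback x z hz.symm
      have := hall p (by
        change pullback.snd r Z.subschemeι p ∈ D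
        rw [hp2]
        exact (Set.ext_iff.1 hWe z).1 (by rw [Set.mem_preimage, hz]; exact hxW))
      rw [← hp1]; exact this
    have hcpt : IsCompact (r ⁻¹' ((C : Set U) ∩ W)) := by
      have : r ⁻¹' ((C : Set U) ∩ W) = V.ι '' (V.ι ⁻¹' (r ⁻¹' ((C : Set U) ∩ W))) := by
        rw [Set.image_preimage_eq_of_subset]
        rw [Scheme.Opens.range_ι]; exact hsub
      rw [this]
      exact (NoetherianSpace.isCompact _).image V.ι.continuous
    have : r ⁻¹' (C : Set U) = r ⁻¹' ((C : Set U) ∩ W) ∪ r ⁻¹' (C' : Set U) := by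
      rw [← Set.preimage_union]
      exact congrArg _ (Set.inter_union_sdiff _ _).symm
    rw [this]
    exact hcpt.union (ih C' hlt)
  · obtain rfl | hne := eq_or_ne C ⊥
    · simp
    · rw [IsIrreducible, not_and_or, Set.not_nonempty_iff_eq_empty] at hirr
      obtain hC | hC := hirr
      · exact (hne (Closeds.ext hC)).elim
      rw [isPreirreducible_iff_isClosed_union_isClosed] at hC
      simp only [not_forall, not_or] at hC
      obtain ⟨A, B, hA, hB, hAB, hnA, hnB⟩ := hC
      let C₁ : Closeds U := ⟨(C : Set U) ∩ A, C.isClosed.inter hA⟩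
      let C₂ : Closeds U := ⟨(C : Set U) ∩ B, C.isClosed.inter hB⟩
      have h₁ : C₁ < C := lt_of_le_of_ne (fun x hx => hx.1) (fun e => hnA (fun x hx => by
        have : x ∈ (C₁ : Set U) := by rw [e]; exact hx
        exact this.2))
      have h₂ : C₂ < C := lt_of_le_of_ne (fun x hx => hx.1) (fun e => hnB (fun x hx => by
        have : x ∈ (C₂ : Set U) := by rw [e]; exact hx
        exact this.2))
      have : r ⁻¹' (C : Set U) = r ⁻¹' (C₁ : Set U) ∪ r ⁻¹' (C₂ : Set U) := by
        rw [← Set.preimage_union]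
        refine congrArg _ (Set.Subset.antisymm (fun x hx => ?_) (fun x hx => hx.elim And.left And.left))
        exact (hAB hx).imp (fun h => ⟨hx, h⟩) (fun h => ⟨hx, h⟩)
      rw [this]
      exact (ih C₁ h₁).union (ih C₂ h₂)

variable {S : Scheme.{u}}

/-- The points of a fibre product of two affine charts of a decent space over a point form a finite set. -/
theorem finite_fibre_pair {X : Sp S} (hX : IsAlgSpace X) (hd : IsDecent X) {A B R : Over S} [IsAffine A.left]
    [IsAffine B.left] {φ : (yon S).obj A ⟶ X} {ψ : (yon S).obj B ⟶ X} (hφ : RepWith @Etale φ)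
    (hψ : RepWith @Etale ψ) {a : R ⟶ A} {b : R ⟶ B}
    (sq : IsPullback ((yon S).map a) ((yon S).map b) φ ψ) (x : ↥A.left) : (a.left ⁻¹' {x}).Finite := by
  obtain ⟨p, hp, -, hpq⟩ := hd (Points.ofPt φ x)
  obtain ⟨T, v, c, sqT⟩ := exists_isPullback_yon (hX.representable_from_yon φ) p.toHom
  obtain ⟨T', v', c', sqT'⟩ := exists_isPullback_yon (hX.representable_from_yon ψ) p.toHom
  haveI : QuasiCompact v.left := hpq.2 _ _ _ sqT.flip
  haveI : QuasiCompact v'.left := hpq.2 _ _ _ sqT'.flip
  haveI : CompactSpace ↥T.left := QuasiCompact.compactSpace_of_compactSpace v.left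
  haveI : CompactSpace ↥T'.left := QuasiCompact.compactSpace_of_compactSpace v'.left
  haveI : Etale c.left := hφ.2 _ _ _ sqT
  haveI : Etale c'.left := hψ.2 _ _ _ sqT'
  haveI : IsLocallyArtinian p.pt.left := inferInstanceAs (IsLocallyArtinian (Spec (CommRingCat.of p.K)))
  haveI : QuasiSeparatedSpace ↥p.pt.left :=
    inferInstanceAs (QuasiSeparatedSpace ↥(Spec (CommRingCat.of p.K)))
  haveI : QuasiCompact c.left := quasiCompact_of_compactSpace _
  haveI : QuasiCompact c'.left := quasiCompact_of_compactSpace _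
  have sqE := isPullback_left (IsPullback.of_hasPullback c c')
  haveI : QuasiCompact (pullback.fst c c').left := MorphismProperty.of_isPullback (P := @QuasiCompact) sqE.flip ‹_›
  haveI : Etale (pullback.fst c c').left := MorphismProperty.of_isPullback (P := @Etale) sqE.flip ‹_›
  haveI : CompactSpace ↥(pullback c c').left := QuasiCompact.compactSpace_of_compactSpace (pullback.fst c c').left
  haveI : Finite ↥(pullback c c').left := by
    haveI := Groth.Agent.Unibranch.locallyQuasiFinite_of_etale ((pullback.fst c c').left ≫ c.left)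
    haveI : IsLocallyArtinian (pullback c c').left :=
      IsLocallyArtinian.of_locallyQuasiFinite ((pullback.fst c c').left ≫ c.left)
    exact finite_of_compact_of_discrete
  obtain ⟨m, hm⟩ := (yon S).map_surjective (sq.lift ((yon S).map (pullback.fst c c' ≫ v))
    ((yon S).map (pullback.snd c c' ≫ v')) (by
      rw [Functor.map_comp, Functor.map_comp, Category.assoc, Category.assoc, sqT.w, sqT'.w,
        ← Functor.map_comp_assoc, ← Functor.map_comp_assoc, pullback.condition]))
  refine (Set.finite_range m.left).subset fun z hz => ?_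
  obtain ⟨k, hk, -⟩ : ∃ k, Points.ofPt ((yon S).map a ≫ φ) z = Points.ofPt p.toHom k ∧ True :=
    ⟨IsLocalRing.closedPoint p.K, by
      rw [Points.ofPt_toHom, hp, ofPt_yon_map_comp, show a.left z = x from hz], trivial⟩
  obtain ⟨E, e, d, sqR⟩ := exists_isPullback_yon (hX.representable_from_yon ((yon S).map a ≫ φ)) p.toHom
  obtain ⟨w, hw, -⟩ := (ofPt_eq_ofPt_iff sqR z k).1 hk
  obtain ⟨l₁, hl₁⟩ := (yon S).map_surjective (sqT.lift ((yon S).map (e ≫ a)) ((yon S).map d)
    (by rw [Functor.map_comp, Category.assoc]; exact sqR.w))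
  obtain ⟨l₂, hl₂⟩ := (yon S).map_surjective (sqT'.lift ((yon S).map (e ≫ b)) ((yon S).map d)
    (by rw [Functor.map_comp, Category.assoc, ← sq.w]; exact sqR.w))
  have h1 : l₁ ≫ v = e ≫ a := (yon S).map_injective (by rw [Functor.map_comp, hl₁, sqT.lift_fst])
  have h1' : l₁ ≫ c = d := (yon S).map_injective (by rw [Functor.map_comp, hl₁, sqT.lift_snd])
  have h2 : l₂ ≫ v' = e ≫ b := (yon S).map_injective (by rw [Functor.map_comp, hl₂, sqT'.lift_fst])
  have h2' : l₂ ≫ c' = d := (yon S).map_injective (by rw [Functor.map_comp, hl₂, sqT'.lift_snd])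
  have he : pullback.lift l₁ l₂ (h1'.trans h2'.symm) ≫ m = e := by
    have ma : m ≫ a = pullback.fst c c' ≫ v := (yon S).map_injective (by rw [Functor.map_comp, hm, sq.lift_fst])
    have mb : m ≫ b = pullback.snd c c' ≫ v' := (yon S).map_injective (by rw [Functor.map_comp, hm, sq.lift_snd])
    apply (yon S).map_injective
    apply sq.hom_ext <;> rw [← Functor.map_comp, ← Functor.map_comp] <;> refine congrArg _ ?_
    · rw [Category.assoc, ma, pullback.lift_fst_assoc, h1]
    · rw [Category.assoc, mb, pullback.lift_snd_assoc, h2]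
  exact ⟨(pullback.lift l₁ l₂ (h1'.trans h2'.symm)).left w, by
    rw [← Scheme.Hom.comp_apply, ← Over.comp_left, he, hw]⟩

/-- The product of two affine charts receives their fibre product quasi-compactly. -/
theorem quasiCompact_pair {X : Sp S} (hX : IsAlgSpace X) (hd : IsDecent X) (hN : IsLocNoethSp X) {A B R : Over S}
    [IsAffine A.left] [IsAffine B.left] {φ : (yon S).obj A ⟶ X} {ψ : (yon S).obj B ⟶ X}
    (hφ : RepWith @Etale φ) (hψ : RepWith @Etale ψ) {a : R ⟶ A} {b : R ⟶ B}
    (sq : IsPullback ((yon S).map a) ((yon S).map b) φ ψ) :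
    QuasiCompact (pullback.lift a.left b.left ((Over.w a).trans (Over.w b).symm) :
      R.left ⟶ pullback A.hom B.hom) := by
  haveI : Mono (prod.lift a b) := ⟨fun f f' h => by
    have h1 := congrArg (· ≫ prod.fst) h
    have h2 := congrArg (· ≫ prod.snd) h
    simp only [Category.assoc, prod.lift_fst, prod.lift_snd] at h1 h2
    apply (yon S).map_injective
    apply sq.hom_ext <;> rw [← Functor.map_comp, ← Functor.map_comp]
    · rw [h1]
    · rw [h2]⟩
  haveI : Mono (prod.lift a b).left := inferInstanceAs (Mono ((Over.forget S).map (prod.lift a b)))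
  let κ : pullback A.hom B.hom ⟶ pullback (terminal.from A.left) (terminal.from B.left) :=
    pullback.map _ _ _ _ (𝟙 _) (𝟙 _) (terminal.from S) (terminal.hom_ext _ _) (terminal.hom_ext _ _)
  let j : R.left ⟶ pullback A.hom B.hom := pullback.lift a.left b.left ((Over.w a).trans (Over.w b).symm)
  haveI : Mono κ := ⟨fun f f' h => by
    apply pullback.hom_ext
    · simpa [κ] using congrArg (· ≫ pullback.fst _ _) h
    · simpa [κ] using congrArg (· ≫ pullback.snd _ _) h⟩
  have hj : j = (prod.lift a b).left ≫ (Over.prodLeftIsoPullback A B).hom := by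
    apply pullback.hom_ext
    · rw [pullback.lift_fst, Category.assoc, Over.prodLeftIsoPullback_hom_fst, ← Over.comp_left, prod.lift_fst]
    · rw [pullback.lift_snd, Category.assoc, Over.prodLeftIsoPullback_hom_snd, ← Over.comp_left, prod.lift_snd]
  haveI : Mono j := by rw [hj]; infer_instance
  haveI : Etale a.left := hψ.2 _ _ _ sq.flip
  haveI : IsSeparated a.left := by
    rw [show a.left = (j ≫ κ) ≫ pullback.fst _ _ by simp [j, κ]]
    infer_instance
  haveI : IsLocallyNoetherian A.left := isLocallyNoetherian_of_chart hN hφ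
  haveI : IsNoetherian A.left := {}
  haveI := compactSpace_of_finite_fibres a.left (finite_fibre_pair hX hd hφ hψ sq)
  haveI : QuasiSeparatedSpace ↥(pullback A.hom B.hom) := quasiSeparatedSpace_of_quasiSeparated κ
  exact quasiCompact_of_compactSpace _

/-- The diagonal of a decent locally Noetherian algebraic space is quasi-compact. -/
theorem isQuasiSeparatedSp_of_decent_noeth {X : Sp S} (hX : IsAlgSpace X) (hd : IsDecent X)
    (hN : IsLocNoethSp X) : IsQuasiSeparatedSp X := by
  obtain ⟨U₀, a₀, hae, has⟩ := hX.atlas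
  refine ⟨hX.diag, fun T VT g fst snd sq => ?_⟩
  change QuasiCompact snd.left
  obtain ⟨T₁, w₁, α, hw₁e, hw₁s, hα, -⟩ := exists_etale_cover hae has (g ≫ prod.fst)
  obtain ⟨T₂, w₂, β, hw₂e, hw₂s, hβ, -⟩ := exists_etale_cover hae has ((yon S).map w₁ ≫ g ≫ prod.snd)
  haveI := hw₁e; haveI := hw₁s; haveI := hw₂e; haveI := hw₂s
  let w : T₂ ⟶ T := w₂ ≫ w₁
  let α' : T₂ ⟶ U₀ := w₂ ≫ α
  haveI : Etale w.left := inferInstanceAs (Etale (w₂.left ≫ w₁.left))
  haveI : Surjective w.left := inferInstanceAs (Surjective (w₂.left ≫ w₁.left))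
  suffices h : QuasiCompact (pullback.snd snd w).left by
    haveI := h
    exact quasiCompact_of_isPullback_open (isPullback_left (IsPullback.of_hasPullback snd w))
  let E := pullback snd w
  let sE : E ⟶ T₂ := pullback.snd snd w
  let 𝒰 : T₂.left.OpenCover :=
    Scheme.openCoverOfIsOpenCover (X := T₂.left)
      (fun i : {p : U₀.left.Opens × U₀.left.Opens // IsAffineOpen p.1 ∧ IsAffineOpen p.2} =>
        (α'.left ⁻¹ᵁ i.1.1) ⊓ (β.left ⁻¹ᵁ i.1.2))
      (by
        rw [TopologicalSpace.IsOpenCover, eq_top_iff]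
        intro t _
        obtain ⟨P, hP, hPt, -⟩ := exists_isAffineOpen_mem_and_subset (x := α'.left t) (U := (⊤ : U₀.left.Opens)) trivial
        obtain ⟨Q, hQ, hQt, -⟩ := exists_isAffineOpen_mem_and_subset (x := β.left t) (U := (⊤ : U₀.left.Opens)) trivial
        exact TopologicalSpace.Opens.mem_iSup.2 ⟨⟨(P, Q), hP, hQ⟩, hPt, hQt⟩)
  rw [IsZariskiLocalAtTarget.iff_of_openCover (P := @QuasiCompact) 𝒰]
  rintro ⟨⟨P, Q⟩, hP, hQ⟩
  let O : T₂.left.Opens := (α'.left ⁻¹ᵁ P) ⊓ (β.left ⁻¹ᵁ Q)
  let A : Over S := Over.mk (P.ι ≫ U₀.hom)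
  let B : Over S := Over.mk (Q.ι ≫ U₀.hom)
  haveI : IsAffine A.left := hP
  haveI : IsAffine B.left := hQ
  let oA : A ⟶ U₀ := Over.homMk P.ι rfl
  let oB : B ⟶ U₀ := Over.homMk Q.ι rfl
  have hφ : RepWith @Etale ((yon S).map oA ≫ a₀) :=
    repWith_comp (repWith_yon_map (inferInstanceAs (Etale P.ι))) hae
  have hψ : RepWith @Etale ((yon S).map oB ≫ a₀) :=
    repWith_comp (repWith_yon_map (inferInstanceAs (Etale Q.ι))) hae
  obtain ⟨R, a, b, sqR⟩ := exists_isPullback_yon (hX.representable_from_yon ((yon S).map oA ≫ a₀))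
    ((yon S).map oB ≫ a₀)
  have hqc := quasiCompact_pair hX hd hN hφ hψ sqR
  let T₃ : Over S := Over.mk (O.ι ≫ T₂.hom)
  let oT : T₃ ⟶ T₂ := Over.homMk O.ι rfl
  obtain ⟨α₃, hα₃⟩ : ∃ k : T₃ ⟶ A, k ≫ oA = oT ≫ α' :=
    ⟨Over.homMk (IsOpenImmersion.lift P.ι (O.ι ≫ α'.left) (by
      rintro _ ⟨x, rfl⟩; exact ⟨⟨_, x.2.1⟩, rfl⟩)) (by
        simp only [A, T₃, Over.mk_hom]
        rw [IsOpenImmersion.lift_fac_assoc, Category.assoc, Over.w α']),
      by ext : 1; exact IsOpenImmersion.lift_fac _ _ _⟩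
  obtain ⟨β₃, hβ₃⟩ : ∃ k : T₃ ⟶ B, k ≫ oB = oT ≫ β :=
    ⟨Over.homMk (IsOpenImmersion.lift Q.ι (O.ι ≫ β.left) (by
      rintro _ ⟨x, rfl⟩; exact ⟨⟨_, x.2.2⟩, rfl⟩)) (by
        simp only [B, T₃, Over.mk_hom]
        rw [IsOpenImmersion.lift_fac_assoc, Category.assoc, Over.w β]),
      by ext : 1; exact IsOpenImmersion.lift_fac _ _ _⟩
  -- the restriction is a base change of the pair map
  let D := pullback (prod.lift a b) (prod.lift α₃ β₃)
  have sqdiag : IsPullback ((yon S).map a ≫ (yon S).map oA ≫ a₀) (prod.lift ((yon S).map a) ((yon S).map b))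
      (Limits.diag X) (prod.map ((yon S).map oA ≫ a₀) ((yon S).map oB ≫ a₀)) := by
    refine IsPullback.of_isLimit' ⟨by
      apply prod.hom_ext
      · simp
      · simpa using sqR.w⟩ (PullbackCone.IsLimit.mk _
      (fun s => sqR.lift (s.snd ≫ prod.fst) (s.snd ≫ prod.snd) ?_) (fun s => ?_) (fun s => ?_) (fun s l h1 h2 => ?_))
    · have e1 := congrArg (· ≫ prod.fst) s.condition
      have e2 := congrArg (· ≫ prod.snd) s.condition
      simp [Limits.diag] at e1 e2
      simp only [Category.assoc]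
      rw [← e1, ← e2]
    · have e1 := congrArg (· ≫ prod.fst) s.condition
      simp [Limits.diag] at e1
      rw [sqR.lift_fst_assoc, Category.assoc]
      exact e1.symm
    · apply prod.hom_ext <;> simp
    · apply sqR.hom_ext
      · rw [sqR.lift_fst, ← h2]; simp
      · rw [sqR.lift_snd, ← h2]; simp
  have hg3 : (yon S).map oT ≫ (yon S).map w ≫ g =
      prod.lift ((yon S).map α₃) ((yon S).map β₃) ≫ prod.map ((yon S).map oA ≫ a₀) ((yon S).map oB ≫ a₀) := by
    apply prod.hom_ext
    · simp only [Category.assoc, prod.map_fst, prod.lift_fst_assoc]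
      have e := congrArg (fun k => (yon S).map k ≫ a₀) hα₃
      simp only [Functor.map_comp, Category.assoc, α'] at e
      simp only [w, Functor.map_comp, Category.assoc]
      rw [e, hα]
    · simp only [Category.assoc, prod.map_snd, prod.lift_snd_assoc]
      have e := congrArg (fun k => (yon S).map k ≫ a₀) hβ₃
      simp only [Functor.map_comp, Category.assoc] at e
      simp only [w, Functor.map_comp, Category.assoc]
      rw [e, hβ]
  have hpd : RepWith @QuasiCompact (prod.lift ((yon S).map a) ((yon S).map b)) := by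
    have e : prod.lift ((yon S).map a) ((yon S).map b) = (yon S).map (prod.lift a b) ≫ prodComparison (yon S) A B := by
      apply prod.hom_ext <;> simp [prodComparison, ← Functor.map_comp]
    rw [e]
    refine repWith_comp (repWith_yon_map ?_) (repWith_of_isIso _)
    have : (prod.lift a b).left = pullback.lift a.left b.left ((Over.w a).trans (Over.w b).symm) ≫
        (Over.prodLeftIsoPullback A B).inv := by
      rw [Iso.eq_comp_inv]
      apply pullback.hom_ext
      · rw [pullback.lift_fst, Category.assoc, Over.prodLeftIsoPullback_hom_fst, ← Over.comp_left, prod.lift_fst]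
      · rw [pullback.lift_snd, Category.assoc, Over.prodLeftIsoPullback_hom_snd, ← Over.comp_left, prod.lift_snd]
    rw [this]
    infer_instance
  obtain ⟨H, h₁, h₂, sqH⟩ := exists_isPullback_yon hpd.1 (prod.lift ((yon S).map α₃) ((yon S).map β₃))
  have h₂q : QuasiCompact h₂.left := hpd.2 _ _ _ sqH
  have sqW := sqH.paste_horiz sqdiag
  rw [← hg3] at sqW
  have sqP := ((isPullback_yon_map (IsPullback.of_hasPullback sE oT)).paste_horiz
    (isPullback_yon_map (IsPullback.of_hasPullback snd w))).paste_horiz sq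
  rw [← Category.assoc] at sqW
  let i := sqP.isoIsPullback _ _ sqW
  obtain ⟨i₀, hi₀⟩ := (yon S).map_surjective i.hom
  have hi2 : i₀ ≫ h₂ = pullback.snd sE oT := (yon S).map_injective (by
    rw [Functor.map_comp, hi₀]; exact sqP.isoIsPullback_hom_snd _ _ sqW)
  haveI : IsIso ((yon S).map i₀) := by rw [hi₀]; infer_instance
  haveI : IsIso i₀ := isIso_of_fully_faithful (yon S) i₀
  haveI : IsIso i₀.left := inferInstanceAs (IsIso ((Over.forget S).map i₀))
  haveI := h₂q
  have : QuasiCompact (pullback.snd sE oT).left := by rw [← hi2, Over.comp_left]; infer_instance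
  have sL := isPullback_left (IsPullback.of_hasPullback sE oT)
  change QuasiCompact (pullback.snd sE.left O.ι)
  rw [show pullback.snd sE.left O.ι = sL.isoPullback.inv ≫ (pullback.snd sE oT).left from
    sL.isoPullback_inv_snd.symm]
  infer_instance

end Groth.Agent.ASp
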