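import Groth.Agent.ASp.SepEtale
import Groth.Agent.ASp.DecentPt
import Groth.Agent.ASp.DecentTop

/-!
Decent algebraic spaces are sober.
-/

set_option backward.isDefEq.respectTransparency false
set_option backward.isDefEq.respectTransparency.types false

universe u

open CategoryTheory CategoryTheory.Limits AlgebraicGeometry Opposite TopologicalSpace Topology

namespace Groth.Agent.ASp

open _root_.AlgSp

variable {S : Scheme.{u}}

/-- Every field-valued point of a decent algebraic space is quasi-compact. -/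
theorem repWith_qc_of_isDecent {X : Sp S} (hX : IsAlgSpace X) (hdec : IsDecent X) {K : Type u} [Field K]
    (str : Spec (CommRingCat.of K) ⟶ S) (q : (yon S).obj (Over.mk str) ⟶ X) :
    RepWith @QuasiCompact q := by
  let qp : FieldPt X := ⟨K, str, (J S).uliftYonedaEquiv.{u+1} q⟩
  obtain ⟨p, hp, hm, hq⟩ := hdec (Points.mk qp)
  haveI := hm
  have h := repWith_qc_of_same_pt hX p qp hp hq
  rwa [FieldPt.toHom, Equiv.symm_apply_apply] at h

/-- The space of points of a decent algebraic space is sober. -/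
theorem quasiSober_of_isDecent {X : Sp S} (hX : IsAlgSpace X) (hdec : IsDecent X) : QuasiSober (Points X) := by
  classical
  refine ⟨fun {T} hT hTc => ?_⟩
  obtain ⟨U, a₀, hae, has⟩ := hX.atlas
  obtain ⟨x, hxT⟩ := hT.nonempty
  obtain ⟨u₀, hu₀⟩ := surjective_ofPt has x
  obtain ⟨W₀, hW₀, hu₀W, -⟩ := exists_isAffineOpen_mem_and_subset (x := u₀) (U := (⊤ : U.left.Opens)) (by simp)
  let W : Over S := Over.mk (W₀.ι ≫ U.hom)
  let o : W ⟶ U := Over.homMk W₀.ι rfl
  let a : (yon S).obj W ⟶ X := (yon S).map o ≫ a₀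
  have ha : RepWith @Etale a := by
    haveI : Etale o.left := inferInstanceAs (Etale W₀.ι)
    exact repWith_comp (repWith_yon_map (P := @Etale) (g := o) ‹_›) hae
  haveI : IsAffine W.left := hW₀
  obtain ⟨R, t, s, sq⟩ : ∃ (R : Over S) (t s : R ⟶ W),
      IsPullback ((yon S).map t) ((yon S).map s) a a := by
    obtain ⟨t, ht⟩ := (yon S).map_surjective (ha.1.fst a)
    exact ⟨_, t, ha.1.snd a, ht ▸ ha.1.isPullback a⟩
  haveI : Etale s.left := ha.2 _ _ _ sq
  haveI : Etale t.left := ha.2 _ _ _ sq.flip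
  -- separatedness
  have sqW := IsPullback.of_hasPullback W.hom W.hom
  haveI : IsSeparated W.hom := IsSeparated.of_comp W.hom (terminal.from S)
  haveI : Mono (pullback.lift t.left s.left (by rw [Over.w, Over.w] : t.left ≫ W.hom = s.left ≫ W.hom)) := by
    refine ⟨fun {Z} g h e => ?_⟩
    have e1 : g ≫ t.left = h ≫ t.left := by simpa using congrArg (· ≫ pullback.fst W.hom W.hom) e
    have e2 : g ≫ s.left = h ≫ s.left := by simpa using congrArg (· ≫ pullback.snd W.hom W.hom) e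
    let Z' : Over S := Over.mk (g ≫ R.hom)
    let g' : Z' ⟶ R := Over.homMk g rfl
    let h' : Z' ⟶ R := Over.homMk h (by
      change h ≫ R.hom = g ≫ R.hom
      rw [← Over.w s, ← Category.assoc, ← e2, Category.assoc])
    have : g' = h' := (yon S).map_injective (sq.hom_ext
      (by rw [← (yon S).map_comp, ← (yon S).map_comp]; congr 1; exact Over.OverMorphism.ext e1)
      (by rw [← (yon S).map_comp, ← (yon S).map_comp]; congr 1; exact Over.OverMorphism.ext e2))
    exact congrArg CommaMorphism.left this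
  haveI : IsSeparated s.left := by
    rw [← pullback.lift_snd t.left s.left (by rw [Over.w, Over.w] : t.left ≫ W.hom = s.left ≫ W.hom)]
    infer_instance
  -- fibres are quasi-compact
  have hfib : ∀ (K : Type u) [Field K] (φ : Spec (CommRingCat.of K) ⟶ W.left), CompactSpace ↥(pullback s.left φ) := by
    intro K _ φ
    let pK : Over S := Over.mk (φ ≫ W.hom)
    let φ' : pK ⟶ W := Over.homMk φ rfl
    let E : Over S := Over.mk (pullback.fst s.left φ ≫ R.hom)
    let e₁ : E ⟶ R := Over.homMk (pullback.fst s.left φ) rfl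
    let e₂ : E ⟶ pK := Over.homMk (pullback.snd s.left φ) (by
      change pullback.snd s.left φ ≫ φ ≫ W.hom = pullback.fst s.left φ ≫ R.hom
      rw [← Over.w s, pullback.condition_assoc])
    have sqE : IsPullback e₁ e₂ s φ' :=
      IsPullback.of_map (Over.forget S) (Over.OverMorphism.ext pullback.condition)
        (IsPullback.of_hasPullback s.left φ)
    have sq' := (sqE.map (yon S)).paste_horiz sq
    rw [← (yon S).map_comp] at sq'
    haveI : QuasiCompact (e₁ ≫ t).left :=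
      (repWith_qc_of_isDecent hX hdec (φ ≫ W.hom) ((yon S).map φ' ≫ a)).2 _ _ _ sq'.flip
    exact QuasiCompact.compactSpace_of_compactSpace (e₁ ≫ t).left
  -- points of `R`
  have hpt : ∀ r, Points.ofPt a (t.left r) = Points.ofPt a (s.left r) := fun r => by
    rw [← ofPt_yon_map_comp, sq.w, ofPt_yon_map_comp]
  have hex : ∀ w w' : ↥W.left, Points.ofPt a w = Points.ofPt a w' → ∃ r, t.left r = w ∧ s.left r = w' := by
    intro w w' hww
    obtain ⟨z, hz1, hz2⟩ := points_exists_of_isPullback sq (Points.ofScheme W w) (Points.ofScheme W w')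
      (by rw [← Points.ofPt_eq_map_ofScheme, ← Points.ofPt_eq_map_ofScheme]; exact hww)
    obtain ⟨r, rfl⟩ := (Points.schemeHomeo R).surjective z
    rw [Points.map_yon_map_apply] at hz1 hz2
    exact ⟨r, (Points.schemeHomeo W).injective hz1, (Points.schemeHomeo W).injective hz2⟩
  let Z : Set ↥W.left := Points.ofPt a ⁻¹' T
  have hZ : IsClosed Z := hTc.preimage (Points.continuous_ofPt a)
  have hne : (Z ∩ (⊤ : W.left.Opens) : Set ↥W.left).Nonempty := by
    refine ⟨(⟨u₀, hu₀W⟩ : ↥W₀.toScheme), ?_, trivial⟩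
    change Points.ofPt ((yon S).map o ≫ a₀) _ ∈ T
    rw [ofPt_yon_map_comp]
    change Points.ofPt a₀ u₀ ∈ T
    rwa [hu₀]
  obtain ⟨O, hO, -, ⟨v₀, hv₀Z, hv₀O⟩, hcpt⟩ :=
    SepEtale.exists_compact s.left Z hZ ⊤ (isAffineOpen_top _) hne hfib
  obtain ⟨g₀, hg₀O, hv₀g⟩ := (isAffineOpen_top W.left).exists_basicOpen_le (V := O) ⟨v₀, hv₀O⟩ trivial
  let B : Γ(W.left, ⊤) → Set ↥W.left := fun g => (W.left.basicOpen g : Set ↥W.left)
  let G : Γ(W.left, ⊤) → Set ↥W.left := fun g => t.left '' (s.left ⁻¹' B g) ∩ B g₀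
  have hGo : ∀ g, IsOpen (G g) := fun g =>
    (t.left.isOpenMap _ ((W.left.basicOpen g).isOpen.preimage s.left.continuous)).inter (W.left.basicOpen g₀).isOpen
  have hGc : ∀ g, B g ⊆ B g₀ → IsCompact (Z ∩ G g) := by
    intro g hg
    have hC1 := isCompact_inter_basicOpen (hZ.preimage s.left.continuous) (U := s.left ⁻¹ᵁ O) hcpt
      (s.left.app O (W.left.presheaf.map (homOfLE (le_top (a := O))).op g))
    rw [← Scheme.preimage_basicOpen, Scheme.basicOpen_res] at hC1
    have hC2 := isCompact_inter_basicOpen (hZ.preimage s.left.continuous)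
      (U := s.left ⁻¹ᵁ (O ⊓ W.left.basicOpen g)) hC1
      (R.left.presheaf.map (homOfLE le_top).op (t.left.app ⊤ g₀))
    rw [Scheme.basicOpen_res, ← Scheme.preimage_basicOpen] at hC2
    convert hC2.image t.left.continuous using 1
    ext w
    constructor
    · rintro ⟨hwZ, ⟨r, hr, rfl⟩, hwg₀⟩
      refine ⟨r, ⟨?_, ⟨⟨hg₀O (hg hr), hr⟩, hwg₀⟩⟩, rfl⟩
      change Points.ofPt a (s.left r) ∈ T
      rw [← hpt]; exact hwZ
    · rintro ⟨r, ⟨hrZ, ⟨hr, hr₀⟩⟩, rfl⟩
      refine ⟨?_, ⟨r, hr.2, rfl⟩, hr₀⟩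
      change Points.ofPt a (t.left r) ∈ T
      rw [hpt]; exact hrZ
  obtain ⟨z, hz⟩ := exists_forall_mem_of_constructible
    (fun g : {g : Γ(W.left, ⊤) // B g ⊆ B g₀ ∧ (Z ∩ B g).Nonempty} => Z ∩ G g.1)
    (fun g => isClosed_constructible_of_inter hZ (hGo _) (hGc _ g.2.1))
    (fun l => by
      let F : Finset (Set (Points X)) := insert (Points.ofPt a '' B g₀) (l.image fun g => Points.ofPt a '' B g.1)
      obtain ⟨y, hyT, hy⟩ := isIrreducible_iff_sInter.1 hT F (by
        intro u hu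
        simp only [F, Finset.mem_insert, Finset.mem_image] at hu
        rcases hu with rfl | ⟨g, -, rfl⟩
        · exact isOpenMap_ofPt_of_etale ha _ (W.left.basicOpen g₀).isOpen
        · exact isOpenMap_ofPt_of_etale ha _ (W.left.basicOpen g.1).isOpen) (by
        intro u hu
        simp only [F, Finset.mem_insert, Finset.mem_image] at hu
        rcases hu with rfl | ⟨g, -, rfl⟩
        · exact ⟨_, hv₀Z, v₀, hv₀g, rfl⟩
        · obtain ⟨v, hvZ, hvg⟩ := g.2.2
          exact ⟨_, hvZ, v, hvg, rfl⟩)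
      obtain ⟨w, hwg, rfl⟩ := hy (Points.ofPt a '' B g₀) (by simp [F])
      refine ⟨w, fun g hg => ?_⟩
      obtain ⟨v, hvg, hv⟩ := hy (Points.ofPt a '' B g.1) (Finset.mem_coe.2
        (Finset.mem_insert_of_mem (Finset.mem_image.2 ⟨g, hg, rfl⟩)))
      obtain ⟨r, hr1, hr2⟩ := hex w v hv.symm
      exact ⟨hyT, ⟨r, by change s.left r ∈ B g.1; rwa [hr2], hr1⟩, hwg⟩)
  refine ⟨Points.ofPt a z, ?_⟩
  have hzZ : z ∈ Z := (hz ⟨g₀, subset_rfl, v₀, hv₀Z, hv₀g⟩).1
  rw [isGenericPoint_def]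
  refine subset_antisymm (hTc.closure_subset_iff.2 (Set.singleton_subset_iff.2 hzZ)) fun y hy => ?_
  rw [mem_closure_iff]
  intro P hP hyP
  obtain ⟨y', hy'T, hy'P, w, hwg₀, rfl⟩ := hT.2 P (Points.ofPt a '' B g₀) hP
    (isOpenMap_ofPt_of_etale ha _ (W.left.basicOpen g₀).isOpen) ⟨y, hy, hyP⟩ ⟨_, hv₀Z, v₀, hv₀g, rfl⟩
  obtain ⟨g, hg, hwg⟩ := (isAffineOpen_top W.left).exists_basicOpen_le
    (V := W.left.basicOpen g₀ ⊓ ⟨_, hP.preimage (Points.continuous_ofPt a)⟩) ⟨w, hwg₀, hy'P⟩ trivial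
  obtain ⟨-, ⟨r, hr, hrz⟩, -⟩ := hz ⟨g, fun v hv => (hg hv).1, w, hy'T, hwg⟩
  refine ⟨_, ?_, rfl⟩
  rw [← hrz, hpt]
  exact (hg hr).2

end Groth.Agent.ASp
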