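import Groth.Agent.ASp.FinEqvSch
import Groth.Agent.ASp.SoberDecent
import Groth.Agent.ASp.DecentDim

/-!
A decent algebraic space with a single point is an affine scheme.
-/

set_option backward.isDefEq.respectTransparency false
set_option backward.isDefEq.respectTransparency.types false

universe u

open CategoryTheory CategoryTheory.Limits AlgebraicGeometry Opposite

namespace Groth.Agent.ASp

open _root_.AlgSp

variable {S : Scheme.{u}}

/-- An etale chart of a decent space has isolated points over each isolated fibre. -/
theorem isOpen_singleton_of_subsingleton {X : Sp S} (hdec : IsDecent X) [Subsingleton (Points X)] {U : Over S}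
    {a : (yon S).obj U ⟶ X} (ha : RepWith @Etale a) (u : ↥U.left) : IsOpen ({u} : Set ↥U.left) := by
  obtain ⟨E, hE, huE, -⟩ := exists_isAffineOpen_mem_and_subset (x := u) (U := (⊤ : U.left.Opens)) (by simp)
  have hfin : (E : Set ↥U.left).Finite := (finite_fibre_inter hdec ha (Points.ofPt a u) hE.isCompact).subset
    fun w hw => ⟨Subsingleton.elim (α := Points X) _ _, hw⟩
  haveI := hfin.to_subtype
  haveI : T1Space ↥(E : Set ↥U.left) := t1Space_iff_specializes_imp_eq.2 fun v w hs =>
    Subtype.ext (eq_of_specializes hdec ha (Subsingleton.elim (α := Points X) _ _)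
      (hs.map continuous_subtype_val)).symm
  have := (isOpen_discrete ({⟨u, huE⟩} : Set ↥(E : Set ↥U.left)))
  rw [E.isOpen.isOpenEmbedding_subtypeVal.isOpen_iff_image_isOpen, Set.image_singleton] at this
  exact this

/-- A decent algebraic space with a single point is an affine scheme. -/
theorem exists_affine_of_subsingleton {X : Sp S} (hX : IsAlgSpace X) (hdec : IsDecent X) [Nonempty (Points X)]
    [Subsingleton (Points X)] : ∃ P : Over S, IsAffine P.left ∧ Nonempty ((yon S).obj P ≅ X) := by
  obtain ⟨A, a, hae, has⟩ := hX.atlas
  obtain ⟨u₀, -⟩ := surjective_ofPt has (Classical.arbitrary (Points X))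
  let V : A.left.Opens := ⟨{u₀}, isOpen_singleton_of_subsingleton hdec hae u₀⟩
  let U : Over S := Over.mk (V.ι ≫ A.hom)
  haveI : Subsingleton ↥U.left := inferInstanceAs (Subsingleton ↥({u₀} : Set ↥A.left))
  haveI : Nonempty ↥U.left := ⟨(⟨u₀, rfl⟩ : V.toScheme)⟩
  haveI : IsAffine U.left := IsAffineOpen.of_subsingleton Set.subsingleton_singleton
  let ι : U ⟶ A := Over.homMk V.ι rfl
  let p : (yon S).obj U ⟶ X := (yon S).map ι ≫ a
  have hpe : RepWith @Etale p :=
    repWith_comp (repWith_yon_map (P := @Etale) (g := ι) (inferInstanceAs (Etale V.ι))) hae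
  have hps : RepWith @Surjective p := by
    rw [repWith_surjective_iff hpe.1]
    exact fun y => ⟨Classical.choice (Nonempty.map (Points.ofScheme U) inferInstance), Subsingleton.elim _ _⟩
  haveI : Epi p := by
    haveI : Sheaf.IsLocallySurjective p := isLocallySurjective_of_repWith
      (repWith_mono (fun _ _ g (hg : Etale g) => inferInstanceAs (Flat g)) hpe)
      (repWith_mono (fun _ _ g (hg : Etale g) => inferInstanceAs (LocallyOfFinitePresentation g)) hpe) hps
    infer_instance
  obtain ⟨R, s, t, sq⟩ := exists_isPullback_yon hpe.1 p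
  haveI : Etale t.left := hpe.2 _ _ _ sq
  haveI := Groth.Agent.Unibranch.locallyQuasiFinite_of_etale t.left
  haveI : DiscreteTopology ↥R.left := by
    obtain ⟨w⟩ := ‹Nonempty ↥U.left›
    exact isDiscrete_univ_iff.1 ((t.left.isDiscrete_preimage_singleton w).mono
      fun x _ => Subsingleton.elim (α := ↥U.left) _ _)
  haveI : CompactSpace ↥R.left := by
    obtain ⟨w⟩ := ‹Nonempty ↥U.left›
    let str : Spec (CommRingCat.of (U.left.residueField w)) ⟶ S := U.left.fromSpecResidueField w ≫ U.hom
    let k : Over.mk str ⟶ U := Over.homMk (U.left.fromSpecResidueField w) rfl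
    have sqk := IsPullback.of_hasPullback t k
    haveI : Surjective k.left := ⟨fun x => ⟨IsLocalRing.closedPoint _, Subsingleton.elim _ _⟩⟩
    haveI : Surjective (pullback.fst t k).left :=
      MorphismProperty.of_isPullback (isPullback_left sqk).flip ‹Surjective k.left›
    have sqq : IsPullback ((yon S).map (pullback.fst t k ≫ s)) ((yon S).map (pullback.snd t k)) p
        ((yon S).map k ≫ p) := by
      rw [Functor.map_comp]
      exact IsPullback.paste_horiz (isPullback_yon_map sqk) sq
    haveI : QuasiCompact (pullback.fst t k ≫ s).left :=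
      (repWith_qc_of_isDecent hX hdec str ((yon S).map k ≫ p)).2 _ _ _ sqq.flip
    haveI : CompactSpace ↥(pullback t k).left :=
      QuasiCompact.compactSpace_of_compactSpace (pullback.fst t k ≫ s).left
    exact (pullback.fst t k).left.surjective.compactSpace (pullback.fst t k).left.continuous
  haveI : Finite ↥R.left := finite_of_compact_of_discrete
  haveI : IsFinite t.left := isFinite_of_discrete t.left
  exact exists_affine_of_finite_chart p sq

end Groth.Agent.ASp
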