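import Groth.Agent.ASp.Residual
import Groth.Agent.Unibranch.Open
/-!
Quasi-separated algebraic spaces are decent.
-/

set_option backward.isDefEq.respectTransparency false
set_option backward.isDefEq.respectTransparency.types false

universe u

open CategoryTheory CategoryTheory.Limits AlgebraicGeometry Opposite

namespace Groth.Agent.ASp

open _root_.AlgSp

variable {S : Scheme.{u}}

/-- A map from a scheme into a quasi-separated sheaf over `T` is quasi-compact as soon as it is over `T`. -/
theorem repWith_qc_of_qs {T U : Over S} {X : Sp S} {π : X ⟶ (yon S).obj T} (hπ : IsQuasiSeparatedMor π)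
    (q : (yon S).obj U ⟶ X) (w : U ⟶ T) (hw : q ≫ π = (yon S).map w) [QuasiCompact w.left] :
    RepWith @QuasiCompact q := by
  let Γ : (yon S).obj U ⟶ pullback ((yon S).map w) π := pullback.lift (𝟙 _) q (by rw [Category.id_comp, hw])
  let m : pullback ((yon S).map w) π ⟶ pullback π π :=
    pullback.lift (pullback.fst _ _ ≫ q) (pullback.snd _ _) (by rw [Category.assoc, hw, pullback.condition])
  have sq : IsPullback q Γ (pullback.diagonal π) m := by
    refine IsPullback.of_iso_pullback ⟨?_⟩
      ⟨pullback.lift q Γ ?_, pullback.snd _ _ ≫ pullback.fst _ _, ?_, ?_⟩ ?_ ?_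
    · ext <;> simp [Γ, m]
    · ext <;> simp [Γ, m]
    · ext <;> simp [Γ]
    · have e₁ : pullback.fst (pullback.diagonal π) m =
          (pullback.snd (pullback.diagonal π) m ≫ pullback.fst _ _) ≫ q := by
        simpa [m] using congrArg (· ≫ pullback.fst _ _) (pullback.condition (f := pullback.diagonal π) (g := m))
      have e₂ : pullback.fst (pullback.diagonal π) m =
          pullback.snd (pullback.diagonal π) m ≫ pullback.snd _ _ := by
        simpa [m] using congrArg (· ≫ pullback.snd _ _) (pullback.condition (f := pullback.diagonal π) (g := m))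
      refine pullback.hom_ext ?_ (pullback.hom_ext ?_ ?_)
      · rw [Category.assoc, pullback.lift_fst, Category.id_comp, ← e₁]
      · simp [Γ]
      · simp only [Γ, Category.assoc, pullback.lift_snd, Category.id_comp]
        rw [← Category.assoc]
        exact e₁.symm.trans e₂
    · simp
    · simp
  have hΓ : RepWith @QuasiCompact Γ := repWith_of_isPullback sq hπ
  have hsnd : RepWith @QuasiCompact (pullback.snd ((yon S).map w) π) :=
    repWith_of_isPullback (IsPullback.of_hasPullback ((yon S).map w) π) (repWith_yon_map ‹QuasiCompact w.left›)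
  have := repWith_comp hΓ hsnd
  rwa [show Γ ≫ pullback.snd _ _ = q from pullback.lift_snd _ _ _] at this

/-- An algebraic space with quasi-separated map to a scheme is decent. -/
theorem isDecent_of_qs {T : Over S} {X : Sp S} (hX : IsAlgSpace X) (π : X ⟶ (yon S).obj T)
    (hπ : IsQuasiSeparatedMor π) : IsDecent X := by
  intro x
  obtain ⟨U₀, a₀, hae, has⟩ := hX.atlas
  obtain ⟨u₀, rfl⟩ := surjective_ofPt has x
  obtain ⟨v₀, hv₀⟩ := (yon S).map_surjective (a₀ ≫ π)
  obtain ⟨B, hB, huB, -⟩ := exists_isAffineOpen_mem_and_subset (x := v₀.left u₀) (U := (⊤ : T.left.Opens)) (by simp)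
  obtain ⟨W, hW, huW, hWB⟩ := exists_isAffineOpen_mem_and_subset (x := u₀) (U := v₀.left ⁻¹ᵁ B) huB
  let U : Over S := Over.mk (W.ι ≫ U₀.hom)
  haveI : IsAffine U.left := hW
  let ι : U ⟶ U₀ := Over.homMk W.ι rfl
  let a : (yon S).obj U ⟶ X := (yon S).map ι ≫ a₀
  have ha : RepWith @Etale a := repWith_comp (repWith_yon_map (P := @Etale) (g := ι) (inferInstanceAs (Etale W.ι))) hae
  let v : U ⟶ T := ι ≫ v₀
  have hv : (yon S).map v = a ≫ π := by rw [(yon S).map_comp, hv₀, Category.assoc]
  -- `U ×_T U` is affine
  haveI : IsAffine B.toScheme := hB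
  have hvr : Set.range v.left ⊆ Set.range B.ι := by
    rintro _ ⟨y, rfl⟩
    rw [Scheme.Opens.range_ι]
    exact hWB y.2
  have hau : ∀ z : ↥U.left, Points.ofPt a z = Points.ofPt a₀ (ι.left z) := fun z => ofPt_yon_map_comp ι a₀ z
  clear_value a v
  let u : U.left ⟶ B.toScheme := IsOpenImmersion.lift B.ι v.left hvr
  have hu : u ≫ B.ι = v.left := IsOpenImmersion.lift_fac _ _ _
  let Z := pullback v v
  have hZ := isPullback_left (IsPullback.of_hasPullback v v)
  haveI : IsAffine Z.left := by
    have h1 : IsPullback (pullback.fst u u) (pullback.snd u u) v.left v.left :=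
      ⟨⟨by rw [← hu, pullback.condition_assoc]⟩, ⟨PullbackCone.IsLimit.mk _
        (fun c => pullback.lift c.fst c.snd ((cancel_mono B.ι).1 (by
          rw [Category.assoc, Category.assoc, hu]; exact c.condition)))
        (fun c => pullback.lift_fst _ _ _) (fun c => pullback.lift_snd _ _ _)
        (fun c m h1 h2 => pullback.hom_ext (h1.trans (pullback.lift_fst _ _ _).symm)
          (h2.trans (pullback.lift_snd _ _ _).symm))⟩⟩
    exact .of_isIso (hZ.isoIsPullback _ _ h1).hom
  -- `R = U ×_X U` is quasi-compact
  let R := ha.1.pullback a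
  have sqR := ha.1.isPullback a
  obtain ⟨t, ht⟩ := (yon S).map_surjective (ha.1.fst a)
  rw [← ht] at sqR
  let s := ha.1.snd a
  let g : (yon S).obj Z ⟶ pullback π π :=
    pullback.lift ((yon S).map (pullback.fst v v) ≫ a) ((yon S).map (pullback.snd v v) ≫ a) (by
      rw [Category.assoc, Category.assoc, ← hv, ← (yon S).map_comp, ← (yon S).map_comp, pullback.condition])
  have sqE := hπ.1.isPullback g
  haveI : QuasiCompact (hπ.1.snd g).left := hπ.2 _ _ _ sqE
  haveI : CompactSpace ↥(hπ.1.pullback g).left := QuasiCompact.compactSpace_of_compactSpace (hπ.1.snd g).left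
  obtain ⟨e, he⟩ := (yon S).map_surjective (sqR.lift ((yon S).map (hπ.1.snd g ≫ pullback.fst v v))
    ((yon S).map (hπ.1.snd g ≫ pullback.snd v v)) (by
      have e1 := congrArg (· ≫ pullback.fst π π) sqE.w
      have e2 := congrArg (· ≫ pullback.snd π π) sqE.w
      simp [g] at e1 e2
      simp only [(yon S).map_comp, Category.assoc]
      exact e1.symm.trans e2))
  haveI : CompactSpace ↥R.left := by
    let l : R ⟶ Z := pullback.lift t s ((yon S).map_injective (by
      rw [(yon S).map_comp, (yon S).map_comp, hv, ← Category.assoc, ← Category.assoc, sqR.w]))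
    obtain ⟨n, hn⟩ := (yon S).map_surjective (sqE.lift ((yon S).map t ≫ a) ((yon S).map l) (by
      apply pullback.hom_ext
      · rw [Category.assoc, pullback.diagonal_fst, Category.comp_id, Category.assoc, pullback.lift_fst,
          ← Category.assoc, ← (yon S).map_comp, pullback.lift_fst]
      · rw [Category.assoc, pullback.diagonal_snd, Category.comp_id, Category.assoc, pullback.lift_snd,
          ← Category.assoc, ← (yon S).map_comp, pullback.lift_snd, sqR.w]))
    have hn2 : n ≫ hπ.1.snd g = l := (yon S).map_injective (by rw [(yon S).map_comp, hn, sqE.lift_snd])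
    have hne : n ≫ e = 𝟙 R := by
      refine (yon S).map_injective (sqR.hom_ext ?_ ?_)
      · rw [(yon S).map_comp, he, Category.assoc, sqR.lift_fst, ← (yon S).map_comp, reassoc_of% hn2,
          pullback.lift_fst, CategoryTheory.Functor.map_id, Category.id_comp]
      · rw [(yon S).map_comp, he, Category.assoc, sqR.lift_snd, ← (yon S).map_comp, reassoc_of% hn2,
          pullback.lift_snd, CategoryTheory.Functor.map_id, Category.id_comp]
    have hs : Function.Surjective e.left := fun y =>
      ⟨n.left y, by rw [← Scheme.Hom.comp_apply, ← Over.comp_left, hne]; rfl⟩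
    exact hs.compactSpace e.left.continuous
  haveI : Etale t.left := ha.2 a ((yon S).map s) t sqR.flip
  haveI : QuasiCompact t.left := inferInstance
  haveI := Groth.Agent.Unibranch.locallyQuasiFinite_of_etale t.left
  -- the field-valued point of `U`
  let u₁ : ↥U.left := ⟨u₀, huW⟩
  let j : Over.mk (U.left.fromSpecResidueField u₁ ≫ U.hom) ⟶ U := Over.homMk (U.left.fromSpecResidueField u₁) rfl
  haveI : Subsingleton ↥(Over.mk (U.left.fromSpecResidueField u₁ ≫ U.hom)).left :=
    inferInstanceAs (Subsingleton ↥(Spec (CommRingCat.of (U.left.residueField u₁))))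
  haveI : QuasiCompact j.left := quasiCompact_of_subsingleton _
  haveI : LocallyQuasiFinite j.left := inferInstanceAs (LocallyQuasiFinite (U.left.fromSpecResidueField u₁))
  let m₁ := pullback.fst j t
  let n₁ := pullback.fst (pullback.snd j t ≫ s) j
  let n₂ := pullback.snd (pullback.snd j t ≫ s) j
  have sM : IsPullback ((yon S).map (n₁ ≫ m₁)) ((yon S).map n₂) ((yon S).map j ≫ a) ((yon S).map j ≫ a) := by
    rw [(yon S).map_comp]
    have h1 : IsPullback ((yon S).map m₁) ((yon S).map (pullback.snd j t) ≫ (yon S).map s) ((yon S).map j ≫ a) a :=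
      (isPullback_yon_map (IsPullback.of_hasPullback j t)).paste_vert sqR
    have h2 : IsPullback ((yon S).map n₁) ((yon S).map n₂) ((yon S).map (pullback.snd j t) ≫ (yon S).map s)
        ((yon S).map j) := by
      rw [← (yon S).map_comp]; exact isPullback_yon_map (IsPullback.of_hasPullback (pullback.snd j t ≫ s) j)
    exact h2.paste_horiz h1
  have f₁ := isPullback_left (IsPullback.of_hasPullback j t)
  have f₂ := isPullback_left (IsPullback.of_hasPullback (pullback.snd j t ≫ s) j)
  haveI : QuasiCompact m₁.left := MorphismProperty.of_isPullback f₁.flip ‹QuasiCompact t.left›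
  haveI : QuasiCompact n₁.left := MorphismProperty.of_isPullback f₂.flip ‹QuasiCompact j.left›
  haveI : LocallyQuasiFinite m₁.left := MorphismProperty.of_isPullback f₁.flip ‹LocallyQuasiFinite t.left›
  haveI : LocallyQuasiFinite n₁.left := MorphismProperty.of_isPullback f₂.flip ‹LocallyQuasiFinite j.left›
  haveI : QuasiCompact (n₁ ≫ m₁).left := inferInstanceAs (QuasiCompact (n₁.left ≫ m₁.left))
  haveI : LocallyQuasiFinite (n₁ ≫ m₁).left := inferInstanceAs (LocallyQuasiFinite (n₁.left ≫ m₁.left))
  haveI : IsLocallyArtinian (Over.mk (U.left.fromSpecResidueField u₁ ≫ U.hom)).left :=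
    inferInstanceAs (IsLocallyArtinian (Spec (CommRingCat.of (U.left.residueField u₁))))
  haveI : IsFinite (n₁ ≫ m₁).left := IsFinite.of_locallyQuasiFinite _
  obtain ⟨p, r, hr, hp⟩ := exists_mono_of_finite (L := U.left.residueField u₁) ((yon S).map j ≫ a) sM
  refine ⟨p, ?_, hp, ?_⟩
  · have e1 : Points.ofPt ((yon S).map r ≫ p.toHom) (IsLocalRing.closedPoint (U.left.residueField u₁)) = Points.mk p := by
      rw [ofPt_yon_map_comp, Points.ofPt_toHom]
    rw [← e1, hr, ofPt_yon_map_comp, show j.left (IsLocalRing.closedPoint (U.left.residueField u₁)) = u₁ from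
      Scheme.fromSpecResidueField_apply _ _, hau]
    rfl
  · obtain ⟨w, hw⟩ := (yon S).map_surjective (p.toHom ≫ π)
    haveI : Subsingleton ↥p.pt.left := inferInstanceAs (Subsingleton ↥(Spec (CommRingCat.of p.K)))
    haveI : QuasiCompact w.left := quasiCompact_of_subsingleton _
    exact repWith_qc_of_qs hπ p.toHom w hw.symm

end Groth.Agent.ASp
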