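import Groth.Agent.ASp.FibreCard
import Groth.Agent.FpqcDesc.Basic
import Mathlib.AlgebraicGeometry.Artinian
import Mathlib.AlgebraicGeometry.Limits
import Mathlib.AlgebraicGeometry.Fiber
import Mathlib.AlgebraicGeometry.Morphisms.Etale
import Mathlib.AlgebraicGeometry.Morphisms.QuasiFinite
import Mathlib.RingTheory.RingHom.FaithfullyFlat
import Mathlib.RingTheory.Unramified.Field
import Mathlib.LinearAlgebra.TensorProduct.Quotient
/-!
Schemes finite of bounded degree over a field.
-/

set_option autoImplicit false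
set_option backward.isDefEq.respectTransparency false
set_option backward.isDefEq.respectTransparency.types false

universe u

open CategoryTheory CategoryTheory.Limits AlgebraicGeometry TensorProduct

namespace Groth.Agent.ASp

variable {K : Type u} [Field K]

/-- `c` is finite of degree at most `n` over a field. -/
def DegLE {T : Scheme.{u}} (c : T ⟶ Spec (CommRingCat.of K)) (n : ℕ) : Prop :=
  IsFinite c ∧ ∀ s, c.finrank s ≤ n

theorem degLE_spec_iff (A : Type u) [CommRing A] [Algebra K A] (n : ℕ) :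
    DegLE (Spec.map (CommRingCat.ofHom (algebraMap K A))) n ↔
      Module.Finite K A ∧ Module.finrank K A ≤ n := by
  unfold DegLE
  rw [IsFinite.SpecMap_iff, CommRingCat.hom_ofHom, RingHom.finite_algebraMap]
  refine and_congr_right fun hfin => ?_
  have e : ∀ s : ↥(Spec (CommRingCat.of K)),
      (Spec.map (CommRingCat.ofHom (algebraMap K A))).finrank s = Module.finrank K A := by
    intro s
    rw [Scheme.Hom.finrank_SpecMap_eq_finrank (by simpa [RingHom.finite_algebraMap])
      (by simpa [RingHom.flat_algebraMap_iff] using (inferInstance : Module.Flat K A)),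
      CommRingCat.hom_ofHom, RingHom.finrank_algebraMap, Module.rankAtStalk_eq_finrank_of_free]
    rfl
  exact ⟨fun h => e (IsLocalRing.closedPoint K) ▸ h _, fun h s => (e s).symm ▸ h⟩

theorem degLE_iso_comp {T T' : Scheme.{u}} (e : T' ⟶ T) [IsIso e] (c : T ⟶ Spec (CommRingCat.of K)) (n : ℕ) :
    DegLE (e ≫ c) n ↔ DegLE c n := by
  unfold DegLE
  refine ⟨fun h => ?_, fun h => ?_⟩
  · haveI : IsFinite c := (MorphismProperty.cancel_left_of_respectsIso @IsFinite e c).1 h.1
    refine ⟨inferInstance, fun s => ?_⟩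
    have := h.2 s
    rwa [Scheme.Hom.finrank_comp_left_of_isIso] at this
  · haveI := h.1
    refine ⟨inferInstance, fun s => ?_⟩
    rw [Scheme.Hom.finrank_comp_left_of_isIso]
    exact h.2 s

theorem exists_algebra_of_isAffine {T : Scheme.{u}} [IsAffine T] (c : T ⟶ Spec (CommRingCat.of K)) :
    ∃ (A : Type u) (_ : CommRing A) (_ : Algebra K A) (e : T ≅ Spec (CommRingCat.of A)),
      c = e.hom ≫ Spec.map (CommRingCat.ofHom (algebraMap K A)) := by
  obtain ⟨φ, hφ⟩ := Spec.map_surjective (T.isoSpec.inv ≫ c)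
  letI := φ.hom.toAlgebra
  refine ⟨Γ(T, ⊤), inferInstance, inferInstance, T.isoSpec, ?_⟩
  show c = T.isoSpec.hom ≫ Spec.map φ
  rw [hφ, Iso.hom_inv_id_assoc]

theorem DegLE.mono {T : Scheme.{u}} {c : T ⟶ Spec (CommRingCat.of K)} {n m : ℕ} (h : DegLE c n) (hnm : n ≤ m) :
    DegLE c m :=
  ⟨h.1, fun s => (h.2 s).trans hnm⟩

theorem DegLE.finite_discrete {T : Scheme.{u}} {c : T ⟶ Spec (CommRingCat.of K)} {n : ℕ} (h : DegLE c n) :
    Finite T ∧ DiscreteTopology T := by
  haveI := h.1
  haveI : IsLocallyArtinian T := IsLocallyArtinian.of_locallyQuasiFinite c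
  have h1 := encard_univ_le_finrank c n h.2
  refine ⟨?_, inferInstance⟩
  exact Set.finite_univ_iff.1 (Set.finite_of_encard_le_coe h1)

/-- A finite open covering by schemes of bounded degree has bounded degree. -/
theorem degLE_of_openCover {T : Scheme.{u}} (c : T ⟶ Spec (CommRingCat.of K)) {ι : Type*} [Fintype ι]
    (O : ι → T.Opens) (hO : ∀ x : T, ∃ i, x ∈ O i) (n : ι → ℕ) (h : ∀ i, DegLE ((O i).ι ≫ c) (n i)) :
    DegLE c (∑ i, n i) := by
  have hfd := fun i => (h i).finite_discrete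
  haveI : Finite T := by
    haveI : ∀ i, Finite ↥(O i) := fun i => (hfd i).1
    haveI : ∀ i, Finite ↥(O i).toScheme := fun i => (hfd i).1
    refine Finite.of_surjective (α := Σ i, ↥(O i).toScheme) (fun p => (O p.1).ι p.2) fun x => ?_
    obtain ⟨i, hi⟩ := hO x
    exact ⟨⟨i, ⟨x, hi⟩⟩, rfl⟩
  haveI : DiscreteTopology T := discreteTopology_iff_isOpen_singleton.2 fun x => by
    obtain ⟨i, hi⟩ := hO x
    haveI := (hfd i).2
    have := (O i).ι.isOpenEmbedding.isOpenMap {⟨x, hi⟩} (isOpen_discrete _)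
    rwa [Set.image_singleton] at this
  obtain ⟨A, _, _, e, rfl⟩ := exists_algebra_of_isAffine c
  rw [degLE_iso_comp, degLE_spec_iff]
  haveI : ∀ i, IsAffine (O i).toScheme := fun i => by
    haveI := (hfd i).1; haveI := (hfd i).2; infer_instance
  choose B hB hA eB he using fun i => exists_algebra_of_isAffine ((O i).ι ≫ e.hom ≫ Spec.map (CommRingCat.ofHom (algebraMap K A)))
  choose φ hφ using fun i => Spec.map_surjective ((eB i).inv ≫ (O i).ι ≫ e.hom)
  let g : ∀ i, A →ₐ[K] B i := fun i => AlgHom.mk (φ i).hom fun k => by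
    have h1 : Spec.map (CommRingCat.ofHom (algebraMap K A) ≫ φ i) = Spec.map (CommRingCat.ofHom (algebraMap K (B i))) := by
      rw [Spec.map_comp, hφ]
      simp only [Category.assoc]
      rw [he i, Iso.inv_hom_id_assoc]
    exact congrArg (fun ψ => ψ.hom k) (Spec.map_injective h1)
  have hfin : ∀ i, Module.Finite K (B i) ∧ Module.finrank K (B i) ≤ n i := fun i => by
    have := h i
    rw [he i, degLE_iso_comp, degLE_spec_iff] at this
    exact this
  let G : A →ₗ[K] ∀ i, B i := LinearMap.pi fun i => (g i).toLinearMap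
  have hG : Function.Injective G := by
    rw [← LinearMap.ker_eq_bot, Submodule.eq_bot_iff]
    intro a ha
    have hz : ∀ i, (φ i).hom a = 0 := fun i => congrFun ha i
    let x : Γ(T, ⊤) := e.hom.appTop ((Scheme.ΓSpecIso (CommRingCat.of A)).inv a)
    have hx : ∀ i, (O i).ι.appTop x = 0 := fun i => by
      have h1 : (O i).ι ≫ e.hom = (eB i).hom ≫ Spec.map (φ i) := by rw [hφ, Iso.hom_inv_id_assoc]
      have h2 := congrArg (fun q => q.appTop.hom ((Scheme.ΓSpecIso (CommRingCat.of A)).inv a)) h1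
      simp only [Scheme.Hom.comp_appTop, CommRingCat.hom_comp, RingHom.comp_apply] at h2
      refine h2.trans ?_
      rw [show (Spec.map (φ i)).appTop ((Scheme.ΓSpecIso (CommRingCat.of A)).inv a) =
        (Scheme.ΓSpecIso _).inv ((φ i) a) from
        (congrArg (fun q => q.hom a) (Scheme.ΓSpecIso_inv_naturality (φ i))).symm,
        show (φ i) a = 0 from hz i, map_zero, map_zero]
    have hx0 : x = 0 := by
      refine TopCat.Presheaf.section_ext T.sheaf ⊤ x 0 fun y hy => ?_
      obtain ⟨i, hi⟩ := hO y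
      refine (ConcreteCategory.bijective_of_isIso ((O i).ι.stalkMap ⟨y, hi⟩)).1 ?_
      show (O i).ι.stalkMap ⟨y, hi⟩ (T.presheaf.germ ⊤ ((O i).ι ⟨y, hi⟩) trivial x) =
        (O i).ι.stalkMap ⟨y, hi⟩ (T.presheaf.germ ⊤ ((O i).ι ⟨y, hi⟩) trivial 0)
      rw [Scheme.Hom.germ_stalkMap_apply, Scheme.Hom.germ_stalkMap_apply]
      exact congrArg _ ((hx i).trans (map_zero _).symm)
    exact ((ConcreteCategory.bijective_of_isIso ((Scheme.ΓSpecIso (CommRingCat.of A)).inv ≫ e.hom.appTop)).1
      (hx0.trans (map_zero _).symm))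
  haveI := fun i => (hfin i).1
  haveI : Module.Finite K A := Module.Finite.of_injective G hG
  refine ⟨inferInstance, (LinearMap.finrank_le_finrank_of_injective hG).trans ?_⟩
  rw [Module.finrank_pi_fintype]
  exact Finset.sum_le_sum fun i _ => (hfin i).2

/-- A scheme covered flatly by one of bounded degree has bounded degree. -/
theorem degLE_of_flat_surjective {T T' : Scheme.{u}} (t : T' ⟶ T) [Flat t] [Surjective t]
    (c : T ⟶ Spec (CommRingCat.of K)) {n : ℕ} (h : DegLE (t ≫ c) n) : DegLE c n := by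
  obtain ⟨hf, hd⟩ := h.finite_discrete
  haveI : Finite T := Finite.of_surjective t t.surjective
  haveI : T1Space T := t1Space_iff_specializes_imp_eq.2 fun {y y'} hy => by
    obtain ⟨u, rfl⟩ := t.surjective y'
    obtain ⟨u', hu, rfl⟩ := Flat.generalizingMap t hy
    rw [hu.eq]
  haveI : IsAffine T' := inferInstance
  obtain ⟨A, _, _, e, rfl⟩ := exists_algebra_of_isAffine c
  obtain ⟨B, _, _, e', he'⟩ := exists_algebra_of_isAffine (t ≫ e.hom ≫ Spec.map (CommRingCat.ofHom (algebraMap K A)))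
  rw [he', degLE_iso_comp, degLE_spec_iff] at h
  rw [degLE_iso_comp, degLE_spec_iff]
  obtain ⟨φ, hφ⟩ := Spec.map_surjective (e'.inv ≫ t ≫ e.hom)
  let g : A →ₐ[K] B := AlgHom.mk φ.hom fun k => by
    have h1 : Spec.map (CommRingCat.ofHom (algebraMap K A) ≫ φ) = Spec.map (CommRingCat.ofHom (algebraMap K B)) := by
      rw [Spec.map_comp, hφ]
      simp only [Category.assoc]
      rw [he', Iso.inv_hom_id_assoc]
    exact congrArg (fun ψ => ψ.hom k) (Spec.map_injective h1)
  haveI : Flat (Spec.map φ) := by rw [hφ]; infer_instance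
  haveI : Surjective (Spec.map φ) := by rw [hφ]; infer_instance
  have hg : Function.Injective g.toLinearMap :=
    (RingHom.FaithfullyFlat.iff_flat_and_comap_surjective.2
      ⟨(Flat.SpecMap_iff).1 ‹_›, (Spec.map φ).surjective⟩).injective
  haveI := h.1
  exact ⟨Module.Finite.of_injective g.toLinearMap hg, (LinearMap.finrank_le_finrank_of_injective hg).trans h.2⟩

/-- Bounded degree can be tested after a field extension. -/
theorem degLE_of_isPullback {L : Type u} [Field L] {T T' : Scheme.{u}} {b : T' ⟶ T}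
    {c' : T' ⟶ Spec (CommRingCat.of L)} {c : T ⟶ Spec (CommRingCat.of K)}
    {w : Spec (CommRingCat.of L) ⟶ Spec (CommRingCat.of K)} (sq : IsPullback b c' c w) {n : ℕ}
    (h : DegLE c' n) : DegLE c n := by
  haveI : Surjective w := ⟨fun x => ⟨IsLocalRing.closedPoint L, Subsingleton.elim _ _⟩⟩
  obtain ⟨φ, rfl⟩ := Spec.map_surjective w
  haveI : Flat (Spec.map φ) := by
    rw [Flat.SpecMap_iff]
    letI := φ.hom.toAlgebra
    exact RingHom.flat_algebraMap_iff.2 inferInstance
  haveI := h.1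
  haveI := FpqcDesc.isFinite_descends.{u}
  haveI : IsFinite c := MorphismProperty.of_isPullback_of_descendsAlong
    (Q := (@Surjective ⊓ @Flat ⊓ @QuasiCompact : MorphismProperty Scheme.{u})) (P := @IsFinite)
    sq.flip ⟨⟨‹_›, ‹_›⟩, inferInstance⟩ h.1
  refine ⟨inferInstance, fun s => ?_⟩
  have := h.2 (IsLocalRing.closedPoint L)
  rwa [Scheme.Hom.finrank_of_isPullback b c' c (Spec.map φ) sq, Subsingleton.elim (Spec.map φ _) s] at this

/-- Towers: a map with bounded fibres to a scheme of bounded degree. -/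
theorem degLE_comp {T T' : Scheme.{u}} (t : T ⟶ T') (c : T' ⟶ Spec (CommRingCat.of K)) {n m : ℕ}
    (hc : DegLE c n) (ht : ∀ (L : Type u) [Field L] (x : Spec (CommRingCat.of L) ⟶ T'), DegLE (pullback.snd t x) m) :
    DegLE (t ≫ c) (n * n * m) := by
  obtain ⟨hf', hd'⟩ := hc.finite_discrete
  have hfib : ∀ s : T', Finite ↥(t ⁻¹' {s}) ∧ DiscreteTopology ↥(t ⁻¹' {s}) := fun s => by
    obtain ⟨hf, hd⟩ := (ht (T'.residueField s) (T'.fromSpecResidueField s)).finite_discrete
    haveI : Finite ↥(t.fiber s) := hf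
    haveI : DiscreteTopology ↥(t.fiber s) := hd
    exact ⟨Finite.of_equiv _ (t.fiberHomeo s).toEquiv, (t.fiberHomeo s).discreteTopology⟩
  haveI : Finite T := by
    haveI := fun s => (hfib s).1
    exact Finite.of_surjective (fun p : Σ s, ↥(t ⁻¹' {s}) => p.2.1) fun x => ⟨⟨t x, x, rfl⟩, rfl⟩
  haveI : DiscreteTopology T := discreteTopology_iff_isOpen_singleton.2 fun x => by
    haveI := (hfib (t x)).2
    have h1 : IsOpen (t ⁻¹' {t x}) := (isOpen_discrete _).preimage t.continuous
    have := h1.isOpenEmbedding_subtypeVal.isOpenMap {⟨x, rfl⟩} (isOpen_discrete _)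
    rwa [Set.image_singleton] at this
  obtain ⟨A, _, _, e, rfl⟩ := exists_algebra_of_isAffine c
  rw [degLE_iso_comp, degLE_spec_iff] at hc
  obtain ⟨hA, hn⟩ := hc
  obtain ⟨ψ, hψ⟩ := Spec.map_surjective (T.isoSpec.inv ≫ t ≫ e.hom)
  letI : Algebra A Γ(T, ⊤) := ψ.hom.toAlgebra
  letI : Algebra K Γ(T, ⊤) := (ψ.hom.comp (algebraMap K A)).toAlgebra
  haveI : IsScalarTower K A Γ(T, ⊤) := .of_algebraMap_eq fun _ => rfl
  have htc : t ≫ e.hom ≫ Spec.map (CommRingCat.ofHom (algebraMap K A)) =
      T.isoSpec.hom ≫ Spec.map (CommRingCat.ofHom (algebraMap K Γ(T, ⊤))) := by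
    rw [show CommRingCat.ofHom (algebraMap K Γ(T, ⊤)) = CommRingCat.ofHom (algebraMap K A) ≫ ψ from rfl,
      Spec.map_comp, hψ]
    simp
  rw [htc, degLE_iso_comp, degLE_spec_iff]
  haveI : IsArtinianRing A := IsArtinianRing.of_finite K A
  haveI := Fintype.ofFinite (MaximalSpectrum A)
  have key : ∀ M : MaximalSpectrum A, ∃ G : Finset Γ(T, ⊤), G.card ≤ m ∧
      Submodule.span A (G : Set Γ(T, ⊤)) ⊔ M.asIdeal • (⊤ : Submodule A Γ(T, ⊤)) = ⊤ := by
    intro M
    haveI := M.isMaximal
    letI := Ideal.Quotient.field M.asIdeal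
    let x : Spec (CommRingCat.of (A ⧸ M.asIdeal)) ⟶ T' :=
      Spec.map (CommRingCat.ofHom (algebraMap A (A ⧸ M.asIdeal))) ≫ e.inv
    have hd := ht (A ⧸ M.asIdeal) x
    have e1 : pullback.snd t x = (pullback.map t x (Spec.map (CommRingCat.ofHom (algebraMap A Γ(T, ⊤))))
        (Spec.map (CommRingCat.ofHom (algebraMap A (A ⧸ M.asIdeal)))) T.isoSpec.hom (𝟙 _) e.hom
        (by rw [show CommRingCat.ofHom (algebraMap A Γ(T, ⊤)) = ψ from rfl, hψ]; simp) (by simp [x]) ≫
        (pullbackSymmetry _ _).hom ≫ (pullbackSpecIso A (A ⧸ M.asIdeal) Γ(T, ⊤)).hom) ≫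
        Spec.map (CommRingCat.ofHom (algebraMap (A ⧸ M.asIdeal) ((A ⧸ M.asIdeal) ⊗[A] Γ(T, ⊤)))) := by
      simp [pullback.map]
    haveI : IsIso (pullback.map t x (Spec.map (CommRingCat.ofHom (algebraMap A Γ(T, ⊤))))
        (Spec.map (CommRingCat.ofHom (algebraMap A (A ⧸ M.asIdeal)))) T.isoSpec.hom (𝟙 _) e.hom
        (by rw [show CommRingCat.ofHom (algebraMap A Γ(T, ⊤)) = ψ from rfl, hψ]; simp) (by simp [x])) :=
      pullback.map_isIso _ _ _ _ _ _ _ _ _
    rw [e1, degLE_iso_comp, degLE_spec_iff] at hd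
    obtain ⟨hfin, hle⟩ := hd
    have hsurj : Function.Surjective fun b : Γ(T, ⊤) => (1 : A ⧸ M.asIdeal) ⊗ₜ[A] b :=
      TensorProduct.mk_surjective A Γ(T, ⊤) (A ⧸ M.asIdeal) Ideal.Quotient.mk_surjective
    let bas := Module.finBasis (A ⧸ M.asIdeal) ((A ⧸ M.asIdeal) ⊗[A] Γ(T, ⊤))
    choose g hg using fun i => hsurj (bas i)
    classical
    refine ⟨Finset.univ.image g, (Finset.card_image_le.trans (by simp)).trans hle, eq_top_iff.2 fun b _ => ?_⟩
    have hb := bas.sum_repr ((1 : A ⧸ M.asIdeal) ⊗ₜ[A] b)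
    choose a ha using fun i => Ideal.Quotient.mk_surjective (bas.repr ((1 : A ⧸ M.asIdeal) ⊗ₜ[A] b) i)
    have h2 : (1 : A ⧸ M.asIdeal) ⊗ₜ[A] (b - ∑ i, a i • g i) = 0 := by
      rw [TensorProduct.tmul_sub, TensorProduct.tmul_sum, sub_eq_zero]
      refine hb.symm.trans (Finset.sum_congr rfl fun i _ => ?_)
      rw [TensorProduct.tmul_smul, show (1 : A ⧸ M.asIdeal) ⊗ₜ[A] g i = bas i from hg i, ← ha i, ← Ideal.Quotient.algebraMap_eq, algebraMap_smul]
    have h3 := congrArg (TensorProduct.quotTensorEquivQuotSMul Γ(T, ⊤) M.asIdeal) h2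
    rw [show ((1 : A ⧸ M.asIdeal)) = Ideal.Quotient.mk M.asIdeal 1 from rfl,
      TensorProduct.quotTensorEquivQuotSMul_mk_tmul, map_zero, Submodule.Quotient.mk_eq_zero, one_smul] at h3
    refine Submodule.mem_sup.2 ⟨∑ i, a i • g i, Submodule.sum_mem _ fun i _ => Submodule.smul_mem _ _
      (Submodule.subset_span (by simp)), _, h3, by abel⟩
  choose G hG hsup using key
  classical
  let GG := Finset.univ.biUnion G
  let N := Submodule.span A (GG : Set Γ(T, ⊤))
  have hN : N = ⊤ := by
    have h0 : ∀ M : MaximalSpectrum A, N ⊔ M.asIdeal • (⊤ : Submodule A Γ(T, ⊤)) = ⊤ := fun M =>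
      eq_top_iff.2 ((hsup M).ge.trans (sup_le_sup_right (Submodule.span_mono
        (Finset.coe_subset.2 (Finset.subset_biUnion_of_mem G (Finset.mem_univ M)))) _))
    let good : Ideal A → Prop := fun I => N ⊔ I • (⊤ : Submodule A Γ(T, ⊤)) = ⊤
    have hmul : ∀ I J, good I → good J → good (I * J) := by
      intro I J hI hJ
      refine eq_top_iff.2 (hI.ge.trans (sup_le le_sup_left ?_))
      rw [Submodule.mul_smul]
      refine (Submodule.smul_mono le_rfl hJ.ge).trans ?_
      rw [Submodule.smul_sup]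
      exact sup_le (Submodule.smul_le_right.trans le_sup_left) le_sup_right
    have h1 : good (∏ M : MaximalSpectrum A, M.asIdeal) :=
      Finset.prod_induction _ good hmul (by show N ⊔ _ = ⊤; rw [Ideal.one_eq_top, Submodule.top_smul, sup_top_eq]) fun M _ => h0 M
    obtain ⟨k, hk⟩ := IsArtinianRing.isNilpotent_jacobson_bot (R := A)
    have h2 : (∏ M : MaximalSpectrum A, M.asIdeal) ^ k = ⊥ := by
      refine le_bot_iff.1 ((Ideal.pow_right_mono ?_ k).trans hk.le)
      exact le_sInf fun I hI => Ideal.prod_le_inf.trans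
        (Finset.inf_le (Finset.mem_univ (⟨I, hI.2⟩ : MaximalSpectrum A)))
    have h3 : good ((∏ M : MaximalSpectrum A, M.asIdeal) ^ k) := by
      clear h2 hk
      induction k with
      | zero => show N ⊔ _ = ⊤; rw [pow_zero, Ideal.one_eq_top, Submodule.top_smul, sup_top_eq]
      | succ k ih => rw [pow_succ]; exact hmul _ _ ih h1
    rw [h2] at h3
    simpa [good] using h3
  let L : (↥GG → A) →ₗ[A] Γ(T, ⊤) := Fintype.linearCombination A (fun g => g.1)
  have hL : Function.Surjective (L.restrictScalars K) := by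
    intro b
    obtain ⟨v, hv⟩ : b ∈ LinearMap.range L := by
      rw [Fintype.range_linearCombination, show Set.range (fun g : ↥GG => g.1) = (GG : Set Γ(T, ⊤)) from Subtype.range_coe]
      show b ∈ N
      rw [hN]; trivial
    exact ⟨v, hv⟩
  refine ⟨Module.Finite.of_surjective _ hL, (LinearMap.finrank_le_finrank_of_surjective hL).trans ?_⟩
  rw [Module.finrank_pi_fintype, Finset.sum_const, smul_eq_mul, Finset.card_univ]
  have hcard : Fintype.card (MaximalSpectrum A) ≤ n := by
    rw [← Nat.card_eq_fintype_card, ← Nat.card_congr IsArtinianRing.primeSpectrumEquivMaximalSpectrum]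
    exact (natCard_primeSpectrum_le_finrank K A).2.trans hn
  calc Fintype.card ↥GG * Module.finrank K A ≤ (n * m) * n := by
        refine Nat.mul_le_mul ?_ hn
        rw [Fintype.card_coe]
        refine Finset.card_biUnion_le.trans ((Finset.sum_le_sum fun M _ => hG M).trans ?_)
        rw [Finset.sum_const, smul_eq_mul, Finset.card_univ]
        exact Nat.mul_le_mul_right m hcard
    _ = n * n * m := by ring

end Groth.Agent.ASp
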