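import Groth.Agent.ASp.DegLE
import Groth.Agent.EtaleSplit.Bound
import Groth.Agent.Unibranch.Open
/-!
Bounded degree for etale schemes over a field.
-/

set_option autoImplicit false
set_option backward.isDefEq.respectTransparency false
set_option backward.isDefEq.respectTransparency.types false

universe u

open CategoryTheory CategoryTheory.Limits AlgebraicGeometry Groth.Agent.EtaleSplit

namespace Groth.Agent.ASp

theorem degLE_etale_isAlgClosed {K : Type u} [Field K] [IsAlgClosed K] {T : Scheme.{u}}
    (c : T ⟶ Spec (CommRingCat.of K)) [Etale c] [Finite T] {N : ℕ} (hN : Nat.card T ≤ N) : DegLE c N := by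
  haveI := Groth.Agent.Unibranch.locallyQuasiFinite_of_etale c
  haveI : IsLocallyArtinian T := IsLocallyArtinian.of_locallyQuasiFinite c
  haveI : IsFinite c := IsFinite.of_locallyQuasiFinite _
  obtain ⟨A, _, _, e, rfl⟩ := exists_algebra_of_isAffine c
  have hc : Nat.card (PrimeSpectrum A) ≤ N :=
    (Nat.card_congr (Scheme.homeoOfIso e).toEquiv).symm.le.trans hN
  haveI : IsFinite (Spec.map (CommRingCat.ofHom (algebraMap K A))) :=
    (MorphismProperty.cancel_left_of_respectsIso @IsFinite e.hom _).1 ‹_›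
  haveI : Etale (Spec.map (CommRingCat.ofHom (algebraMap K A))) :=
    (MorphismProperty.cancel_left_of_respectsIso @Etale e.hom _).1 ‹_›
  have hfin : Module.Finite K A := RingHom.finite_algebraMap.1 ((IsFinite.SpecMap_iff _).1 ‹_›)
  have het : Algebra.Etale K A :=
    RingHom.etale_algebraMap.1 ((HasRingHomProperty.Spec_iff (P := @Etale)).1 ‹_›)
  rw [degLE_iso_comp, degLE_spec_iff]
  refine ⟨hfin, ?_⟩
  haveI : IsArtinianRing A := IsArtinianRing.of_finite K A
  haveI : Algebra.EssFiniteType K A := inferInstance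
  haveI : IsReduced A := Algebra.FormallyUnramified.isReduced_of_field K A
  haveI := Fintype.ofFinite (MaximalSpectrum A)
  let π : A →ₗ[K] ∀ m : MaximalSpectrum A, A ⧸ m.asIdeal :=
    LinearMap.pi fun m => (Ideal.Quotient.mkₐ K m.asIdeal).toLinearMap
  have hπ : Function.Injective π := by
    rw [← LinearMap.ker_eq_bot, Submodule.eq_bot_iff]
    intro a ha
    have h1 : a ∈ nilradical A := by
      rw [nilradical_eq_sInf, Ideal.mem_sInf]
      intro (p : Ideal A) hp
      haveI : p.IsPrime := hp
      exact Ideal.Quotient.eq_zero_iff_mem.1 (congrFun ha ⟨p, IsArtinianRing.isMaximal_of_isPrime p⟩)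
    rwa [nilradical_eq_zero] at h1
  refine (LinearMap.finrank_le_finrank_of_injective hπ).trans ?_
  have h2 : ∀ m : MaximalSpectrum A, Module.finrank K (A ⧸ m.asIdeal) = 1 := fun m => by
    haveI := m.isMaximal
    letI := Ideal.Quotient.field m.asIdeal
    let ε := AlgEquiv.ofBijective (Algebra.ofId K (A ⧸ m.asIdeal))
      IsAlgClosed.algebraMap_bijective_of_isIntegral
    rw [← ε.toLinearEquiv.finrank_eq, Module.finrank_self]
  rw [Module.finrank_pi_fintype, Finset.sum_congr rfl fun m _ => h2 m, Finset.sum_const, smul_eq_mul, mul_one,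
    Finset.card_univ, ← Nat.card_eq_fintype_card,
    ← Nat.card_congr IsArtinianRing.primeSpectrumEquivMaximalSpectrum]
  exact hc

/-- A quasi-compact etale scheme map has fibres of bounded degree. -/
theorem exists_degLE_of_etale {W U : Scheme.{u}} (g : W ⟶ U) [Etale g] [CompactSpace W] :
    ∃ N : ℕ, ∀ (K : Type u) [Field K] (x : Spec (CommRingCat.of K) ⟶ U) (T : Scheme.{u}) (b : T ⟶ W)
      (c : T ⟶ Spec (CommRingCat.of K)), IsPullback b c g x → DegLE c N := by
  haveI := Groth.Agent.Unibranch.locallyQuasiFinite_of_etale g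
  obtain ⟨N, hN⟩ := EtaleSplit.exists_bound_gpts g
  refine ⟨N, fun K _ x T b c sq => ?_⟩
  let Ω := AlgebraicClosure K
  let w : Spec (CommRingCat.of Ω) ⟶ Spec (CommRingCat.of K) := Spec.map (CommRingCat.ofHom (algebraMap K Ω))
  haveI : Etale c := MorphismProperty.of_isPullback (P := @Etale) sq ‹_›
  haveI : Etale (pullback.snd c w) := inferInstance
  haveI := Groth.Agent.Unibranch.locallyQuasiFinite_of_etale (pullback.snd c w)
  have sq' : IsPullback (pullback.fst c w ≫ b) (pullback.snd c w) g (w ≫ x) :=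
    (IsPullback.of_hasPullback c w).paste_horiz sq
  have hex : ∀ z : ↥(pullback c w), ∃ p : GPts (pullback.snd c w) (𝟙 _), pt p.1 = z := fun z =>
    EtaleSplit.exists_gpt _ (𝟙 (Spec (CommRingCat.of Ω))) z (Subsingleton.elim _ _)
  choose p hp using hex
  let Φ : ↥(pullback c w) → GPts g (𝟙 _ ≫ w ≫ x) := fun z => EtaleSplit.gptsBaseChange sq' (𝟙 _) (p z)
  have hinj : Function.Injective Φ := fun z z' h => by
    rw [← hp z, ← hp z', (EtaleSplit.gptsBaseChange sq' (𝟙 _)).injective h]
  obtain ⟨hfin, hcard⟩ := hN Ω (𝟙 _ ≫ w ≫ x)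
  haveI := Finite.of_injective Φ hinj
  exact degLE_of_isPullback (IsPullback.of_hasPullback c w)
    (degLE_etale_isAlgClosed (pullback.snd c w) ((Nat.card_le_card_of_injective Φ hinj).trans hcard))

end Groth.Agent.ASp
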