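import Groth.Agent.ASp.ChartDim
import Groth.Agent.ASp.DecentDim
import Groth.Agent.ASp.FieldMono
import Groth.Agent.WLocalLib.WeakEtaleScheme

/-!
Algebraic spaces all of whose etale charts have fields as local rings.
-/

set_option backward.isDefEq.respectTransparency false
set_option backward.isDefEq.respectTransparency.types false

universe u

open CategoryTheory CategoryTheory.Limits AlgebraicGeometry Opposite TopologicalSpace

namespace Groth.Agent.ASp

open _root_.AlgSp

variable {S : Scheme.{u}}

/-- All etale charts have fields as local rings. -/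
def HasFieldStalks (Z : Sp S) : Prop :=
  ∀ ⦃V : Over S⦄ (b : (yon S).obj V ⟶ Z), RepWith @Etale b → ∀ v : ↥V.left, IsField ↥(V.left.presheaf.stalk v)

theorem isReduced_of_hasFieldStalks {Z : Sp S} (hZ : HasFieldStalks Z) {V : Over S} {b : (yon S).obj V ⟶ Z}
    (hb : RepWith @Etale b) : IsReduced V.left := by
  haveI : ∀ v : ↥V.left, _root_.IsReduced ↥(V.left.presheaf.stalk v) := fun v => by
    letI := (hZ b hb v).toField
    infer_instance
  exact isReduced_of_isReduced_stalk _

theorem flat_of_isField_stalk {U V : Scheme.{u}} (h : U ⟶ V) (hV : ∀ v : ↥V, IsField ↥(V.presheaf.stalk v)) :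
    Flat h := by
  refine Flat.of_stalkMap h fun x => ?_
  letI := (hV (h x)).toField
  letI := (h.stalkMap x).hom.toAlgebra
  change Module.Flat ↥(V.presheaf.stalk (h x)) ↥(U.presheaf.stalk x)
  infer_instance

theorem locP_flat_of_hasFieldStalks {Z : Sp S} (hZ : HasFieldStalks Z) {X : Sp S} (q : X ⟶ Z) :
    LocP @Flat q := fun _ _ _ b h _ hb _ => flat_of_isField_stalk h.left (hZ b hb)

theorem isClosed_singleton_of_isField {V : Scheme.{u}} (hV : ∀ v : ↥V, IsField ↥(V.presheaf.stalk v)) (v : ↥V) :
    IsClosed ({v} : Set ↥V) := by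
  refine isClosed_of_closure_subset fun w hw => ?_
  have hs : v ⤳ w := specializes_iff_mem_closure.2 hw
  refine (eq_of_ringKrullDim_stalk_eq_zero ?_ hs).symm
  letI := (hV w).toField
  exact ringKrullDim_eq_zero_of_field _

theorem isField_stalk_of_etale_field {K : Type u} [Field K] {U : Scheme.{u}} (f : U ⟶ Spec (CommRingCat.of K))
    [Etale f] (x : ↥U) : IsField ↥(U.presheaf.stalk x) := by
  haveI : IsReduced U := Groth.Agent.WLocalLib.isReduced_of_weaklyEtale_scheme f
  have h : ringKrullDim ↥(U.presheaf.stalk x) = 0 := by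
    rw [← ringKrullDim_stalk_eq_of_etale f x]
    exact ringKrullDim_stalk_eq_zero fun v _ => Subsingleton.elim (α := ↥(Spec (CommRingCat.of K))) v (f x)
  haveI : Ring.KrullDimLE 0 ↥(U.presheaf.stalk x) := (Ring.krullDimLE_iff).2 (by rw [h]; rfl)
  exact Ring.KrullDimLE.isField_of_isReduced

theorem isField_of_flat_isLocalHom {A B : Type u} [CommRing A] [IsLocalRing A] [CommRing B] (φ : A →+* B)
    (hφ : φ.Flat) (hB : IsField B) [IsLocalHom φ] : IsField A := by
  algebraize [φ]
  haveI : IsLocalHom (algebraMap A B) := ‹IsLocalHom φ›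
  letI := hB.toField
  haveI := Module.FaithfullyFlat.of_flat_of_isLocalHom (A := A) (B := B)
  rw [IsLocalRing.isField_iff_maximalIdeal_eq, eq_bot_iff]
  intro x hx
  have h0 : φ x = 0 := by
    by_contra hne
    exact hx ((isUnit_map_iff φ x).1 (isUnit_iff_ne_zero.2 hne))
  exact (FaithfulSMul.algebraMap_injective A B) (h0.trans (map_zero φ).symm)

/-- An etale chart meets a flat surjective field-valued point in an etale scheme over the field. -/
theorem exists_meet {Z : Sp S} (hZ : IsAlgSpace Z) {k : Type u} [Field k] {str : Spec (CommRingCat.of k) ⟶ S}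
    (p : (yon S).obj (Over.mk str) ⟶ Z) (hs : IsSurjectiveMor p) {V : Over S} {b : (yon S).obj V ⟶ Z}
    (hb : RepWith @Etale b) (v : ↥V.left) :
    ∃ (F : Over S) (a : F ⟶ Over.mk str) (h : F ⟶ V) (f : ↥F.left), Etale a.left ∧ h.left f = v ∧
      (yon S).map a ≫ p = (yon S).map h ≫ b ∧
      ∀ {P : MorphismProperty Scheme.{u}}, LocP P p → P h.left := by
  obtain ⟨P, fst, snd, sq⟩ : ∃ (P : Sp S) (fst : P ⟶ (yon S).obj (Over.mk str)) (snd : P ⟶ (yon S).obj V),
      IsPullback fst snd p b := ⟨_, _, _, IsPullback.of_hasPullback _ _⟩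
  have hP : IsAlgSpace P := isAlgSpace_of_isPullback hZ.diag (IsAlgSpace.yon_obj _) (IsAlgSpace.yon_obj V) sq
  obtain ⟨y, hy⟩ := hs (Points.map b (Points.ofScheme V v))
  obtain ⟨w, -, hw⟩ := points_exists_of_isPullback sq y (Points.ofScheme V v) hy
  obtain ⟨F, c, hce, hcs⟩ := hP.atlas
  obtain ⟨f, hf⟩ := surjective_ofPt hcs w
  have hce' : RepWith @Etale (c ≫ fst) := repWith_comp hce (repWith_of_isPullback sq.flip hb)
  obtain ⟨a, ha⟩ := (yon S).map_surjective (c ≫ fst)
  obtain ⟨h, hh⟩ := (yon S).map_surjective (c ≫ snd)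
  have e : (yon S).map a ≫ p = (yon S).map h ≫ b := by rw [ha, hh, Category.assoc, Category.assoc, sq.w]
  rw [← ha] at hce'
  refine ⟨F, a, h, f, (repWith_yon_map_iff _ a).1 hce', (Points.schemeHomeo V).injective ?_, e, fun {P} hP =>
    hP ((yon S).map a) b h hce' hb e⟩
  rw [← Points.map_yon_map_apply, hh, Points.map_comp]
  refine Eq.trans (congrArg (Points.map snd) ?_) hw
  exact (Points.ofPt_eq_map_ofScheme c f).symm.trans hf

theorem hasFieldStalks_of_flat {Z : Sp S} (hZ : IsAlgSpace Z) {k : Type u} [Field k]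
    {str : Spec (CommRingCat.of k) ⟶ S} (p : (yon S).obj (Over.mk str) ⟶ Z) (hp : LocP @Flat p)
    (hs : IsSurjectiveMor p) : HasFieldStalks Z := by
  intro V b hb v
  obtain ⟨F, a, h, f, ha, rfl, -, hP⟩ := exists_meet hZ p hs hb v
  haveI : Etale a.left := ha
  haveI : Flat h.left := hP hp
  exact isField_of_flat_isLocalHom (h.left.stalkMap f).hom (Flat.stalkMap h.left f)
    (isField_stalk_of_etale_field (K := k) a.left f)

theorem hasFieldStalks_of_isReduced {Z : Sp S} [Subsingleton (Points Z)]
    (hr : EtaleLocally (fun U => IsReduced U) Z) : HasFieldStalks Z := by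
  obtain ⟨U, a, ha, has, hU⟩ := hr
  haveI : IsReduced U.left := hU
  intro V b hb v
  obtain ⟨u, hu⟩ := surjective_ofPt has (Points.ofPt b v)
  obtain ⟨P, t, s, r, ht, hs', -, -, rfl⟩ := exists_common_point ha hb hu
  haveI := ht
  haveI := hs'
  haveI : IsReduced P.left := Groth.Agent.WLocalLib.isReduced_of_weaklyEtale_scheme t.left
  obtain ⟨w, hw⟩ : ∃ w : ↥V.left, ∀ y, y ⤳ w → y = w := by
    let T := irreducibleComponent (s.left r)
    obtain ⟨w, hw⟩ := QuasiSober.sober (isIrreducible_irreducibleComponent (x := s.left r)) isClosed_irreducibleComponent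
    exact ⟨w, (exists_component_iff w).1 ⟨T, irreducibleComponent_mem_irreducibleComponents _, hw⟩⟩
  have hd : ringKrullDim ↥(V.left.presheaf.stalk (s.left r)) = 0 := by
    rw [ringKrullDim_stalk_eq_of_charts hb hb (show Points.ofPt b (s.left r) = Points.ofPt b w from
      Subsingleton.elim _ _)]
    exact ringKrullDim_stalk_eq_zero hw
  haveI : _root_.IsReduced ↥(V.left.presheaf.stalk (s.left r)) := by
    letI := (s.left.stalkMap r).hom.toAlgebra
    haveI : Module.Flat ↥(V.left.presheaf.stalk (s.left r)) ↥(P.left.presheaf.stalk r) := Flat.stalkMap s.left r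
    haveI : IsLocalHom (algebraMap ↥(V.left.presheaf.stalk (s.left r)) ↥(P.left.presheaf.stalk r)) :=
      inferInstanceAs (IsLocalHom (s.left.stalkMap r).hom)
    haveI := Module.FaithfullyFlat.of_flat_of_isLocalHom (A := ↥(V.left.presheaf.stalk (s.left r)))
      (B := ↥(P.left.presheaf.stalk r))
    exact isReduced_of_injective _ (FaithfulSMul.algebraMap_injective ↥(V.left.presheaf.stalk (s.left r))
      ↥(P.left.presheaf.stalk r))
  haveI : Ring.KrullDimLE 0 ↥(V.left.presheaf.stalk (s.left r)) := (Ring.krullDimLE_iff).2 (by rw [hd]; rfl)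
  exact Ring.KrullDimLE.isField_of_isReduced

theorem etaleLocally_isReduced {Z : Sp S} (hZ : IsAlgSpace Z) (hf : HasFieldStalks Z) :
    EtaleLocally (fun U => IsReduced U) Z := by
  obtain ⟨U, a, ha, has⟩ := hZ.atlas
  exact ⟨U, a, ha, has, isReduced_of_hasFieldStalks hf ha⟩

/-- A one point space with field stalks receives flat surjective maps from residue fields of its charts. -/
theorem exists_point_of_hasFieldStalks {Z : Sp S} (hZ : IsAlgSpace Z) (hf : HasFieldStalks Z)
    [Subsingleton (Points Z)] {V : Over S} {b : (yon S).obj V ⟶ Z} (hb : RepWith @Etale b) (v : ↥V.left) :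
    let str : Spec (CommRingCat.of (V.left.residueField v)) ⟶ S := V.left.fromSpecResidueField v ≫ V.hom
    let q : (yon S).obj (Over.mk str) ⟶ Z :=
      (yon S).map (Over.homMk (V.left.fromSpecResidueField v) rfl : Over.mk str ⟶ V) ≫ b
    RepWith @LocallyOfFiniteType q ∧ LocP @Flat q ∧ IsSurjectiveMor q := by
  intro str q
  haveI : IsClosedImmersion (V.left.fromSpecResidueField v) :=
    isClosed_singleton_iff_isClosedImmersion.1 (isClosed_singleton_of_isField (hf b hb) v)
  refine ⟨repWith_comp (repWith_yon_map (inferInstanceAs (LocallyOfFiniteType (V.left.fromSpecResidueField v))))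
    (repWith_mono (fun _ _ g (hg : Etale g) => inferInstanceAs (LocallyOfFiniteType g)) hb),
    locP_flat_of_hasFieldStalks hf q, fun y => ?_⟩
  exact ⟨Points.ofScheme (Over.mk str) (IsLocalRing.closedPoint (V.left.residueField v)), Subsingleton.elim _ _⟩

theorem subsingleton_points_of_surjective {Z : Sp S} {k : Type u} [Field k]
    {str : Spec (CommRingCat.of k) ⟶ S} (p : (yon S).obj (Over.mk str) ⟶ Z) (hs : IsSurjectiveMor p) :
    Nonempty (Points Z) ∧ Subsingleton (Points Z) := by
  haveI : Subsingleton ↥(Over.mk str).left := inferInstanceAs (Subsingleton ↥(Spec (CommRingCat.of k)))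
  haveI : Subsingleton (Points ((yon S).obj (Over.mk str))) :=
    (Points.schemeHomeo (Over.mk str)).surjective.subsingleton
  exact ⟨⟨Points.map p (Points.ofScheme (Over.mk str) (IsLocalRing.closedPoint k))⟩, hs.subsingleton⟩

/-- The charts of a one point reduced locally Noetherian space are discrete. -/
theorem isOpen_singleton_of_isLocallyNoetherian {V : Scheme.{u}} [IsLocallyNoetherian V]
    (hV : ∀ v : ↥V, IsField ↥(V.presheaf.stalk v)) (v : ↥V) : IsOpen ({v} : Set ↥V) := by
  obtain ⟨E, hE, hvE, -⟩ := exists_isAffineOpen_mem_and_subset (x := v) (U := (⊤ : V.Opens)) (by simp)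
  haveI : IsNoetherianRing ↥Γ(V, E) := IsLocallyNoetherian.component_noetherian ⟨E, hE⟩
  haveI : Finite (irreducibleComponents ↥(E : Set ↥V)) := by
    haveI : IsAffine E.toScheme := hE
    haveI : NoetherianSpace ↥E.toScheme := noetherianSpace_of_isAffineOpen E hE
    exact (NoetherianSpace.finite_irreducibleComponents (α := ↥E.toScheme)).to_subtype
  haveI : T1Space ↥(E : Set ↥V) := ⟨fun w => by
    rw [show ({w} : Set ↥(E : Set ↥V)) = Subtype.val ⁻¹' {w.1} from Set.ext fun z => Subtype.ext_iff]
    exact (isClosed_singleton_of_isField hV w.1).preimage continuous_subtype_val⟩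
  haveI : Finite ↥(E : Set ↥V) := by
    refine Finite.of_injective (fun w => (⟨irreducibleComponent w, irreducibleComponent_mem_irreducibleComponents w⟩ :
      irreducibleComponents ↥(E : Set ↥V))) fun a b e => ?_
    have key : ∀ w : ↥(E : Set ↥V), irreducibleComponent w = {w} := fun w => by
      haveI : QuasiSober ↥(E : Set ↥V) := inferInstanceAs (QuasiSober ↥E.toScheme)
      obtain ⟨g, hg⟩ := QuasiSober.sober (isIrreducible_irreducibleComponent (x := w)) isClosed_irreducibleComponent
      have hgw : closure {g} = irreducibleComponent w := hg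
      rw [closure_singleton] at hgw
      have : w ∈ ({g} : Set _) := hgw ▸ mem_irreducibleComponent
      rw [Set.mem_singleton_iff] at this
      rw [← hgw, this]
    have e' := congrArg Subtype.val e
    simpa [key] using e'
  have := (isOpen_discrete ({⟨v, hvE⟩} : Set ↥(E : Set ↥V)))
  rw [E.isOpen.isOpenEmbedding_subtypeVal.isOpen_iff_image_isOpen, Set.image_singleton] at this
  exact this

theorem isLocallyNoetherian_of_discrete {V : Scheme.{u}} [DiscreteTopology ↥V]
    (hV : ∀ v : ↥V, IsField ↥(V.presheaf.stalk v)) : IsLocallyNoetherian V := by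
  refine isLocallyNoetherian_of_affine_cover (S := fun v : ↥V =>
    ⟨⟨{v}, isOpen_discrete _⟩, IsAffineOpen.of_subsingleton Set.subsingleton_singleton⟩) ?_ fun v => ?_
  · rw [eq_top_iff]
    intro v _
    exact TopologicalSpace.Opens.mem_iSup.2 ⟨v, rfl⟩
  · let E : V.Opens := ⟨{v}, isOpen_discrete _⟩
    have hE : IsAffineOpen E := IsAffineOpen.of_subsingleton Set.subsingleton_singleton
    letI := TopCat.Presheaf.algebra_section_stalk V.presheaf (⟨v, rfl⟩ : E)
    haveI := hE.isLocalization_stalk ⟨v, rfl⟩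
    change IsNoetherianRing ↥Γ(V, E)
    haveI : Subsingleton (PrimeSpectrum ↥Γ(V, E)) := by
      haveI : Subsingleton ↥E.toScheme := inferInstanceAs (Subsingleton ↥({v} : Set ↥V))
      exact hE.isoSpec.hom.homeomorph.symm.injective.subsingleton
    have hu : ∀ x : (hE.primeIdealOf ⟨v, rfl⟩).asIdeal.primeCompl, IsUnit (x : ↥Γ(V, E)) := fun x => by
      by_contra hx
      obtain ⟨M, hM, hxM⟩ := exists_max_ideal_of_mem_nonunits hx
      exact x.2 (Eq.mp (congrArg (fun I : Ideal ↥Γ(V, E) => (x : ↥Γ(V, E)) ∈ I) (congrArg PrimeSpectrum.asIdeal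
        (Subsingleton.elim (⟨M, hM.isPrime⟩ : PrimeSpectrum ↥Γ(V, E)) (hE.primeIdealOf ⟨v, rfl⟩)))) hxM)
    let e := (IsLocalization.atUnits (↥Γ(V, E)) (hE.primeIdealOf ⟨v, rfl⟩).asIdeal.primeCompl
      (S := ↥(V.presheaf.stalk v)) fun x hx => hu ⟨x, hx⟩).symm.toRingEquiv
    letI := (hV v).toField
    exact isNoetherianRing_of_ringEquiv _ e

end Groth.Agent.ASp

namespace Groth.Agent.ASp

open _root_.AlgSp

/-- Finite type morphisms to locally Noetherian schemes are of finite presentation. -/
theorem locallyOfFinitePresentation_of_noetherian {U V : Scheme.{u}} (f : U ⟶ V) [LocallyOfFiniteType f]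
    [IsLocallyNoetherian V] : LocallyOfFinitePresentation f := by
  rw [HasRingHomProperty.iff_appLE (P := @LocallyOfFinitePresentation)]
  intro W E e
  haveI : IsNoetherianRing ↥Γ(V, W) := IsLocallyNoetherian.component_noetherian W
  exact RingHom.FinitePresentation.of_finiteType.1
    (HasRingHomProperty.appLE (P := @LocallyOfFiniteType) f ‹_› W E e)

/-- The charts of a space covered by a field in the fppf topology are discrete. -/
theorem discreteTopology_chart_of_fppf {S : Scheme.{u}} {Z : Sp S} (hZ : IsAlgSpace Z) {k : Type u} [Field k]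
    {str : Spec (CommRingCat.of k) ⟶ S} (p : (yon S).obj (Over.mk str) ⟶ Z)
    (hp : LocP @LocallyOfFinitePresentation p) (hf : LocP @Flat p) (hs : IsSurjectiveMor p)
    {V : Over S} {b : (yon S).obj V ⟶ Z} (hb : RepWith @Etale b) : DiscreteTopology ↥V.left := by
  refine discreteTopology_iff_isOpen_singleton.2 fun v => ?_
  obtain ⟨F, a, h, f, ha, rfl, -, hP⟩ := exists_meet hZ p hs hb v
  haveI : Etale a.left := ha
  haveI : Flat h.left := hP hf
  haveI : LocallyOfFinitePresentation h.left := hP hp
  haveI := Groth.Agent.Unibranch.locallyQuasiFinite_of_etale a.left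
  haveI : DiscreteTopology ↥F.left := isDiscrete_univ_iff.1
    ((a.left.isDiscrete_preimage_singleton (IsLocalRing.closedPoint k)).mono
      fun x _ => Subsingleton.elim (α := ↥(Spec (CommRingCat.of k))) _ _)
  rw [← Set.image_singleton]
  exact h.left.isOpenMap _ (isOpen_discrete _)

end Groth.Agent.ASp
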