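import Groth.Agent.ASp.DecentDim
import Groth.Agent.ASp.LocP
import Groth.Agent.ASp.EtLocal
import Groth.Agent.ASp.OnePoint
/-!
Locally quasi-finite morphisms and discrete fibres.
-/

set_option autoImplicit false
set_option backward.isDefEq.respectTransparency false
set_option backward.isDefEq.respectTransparency.types false

universe u

open CategoryTheory CategoryTheory.Limits AlgebraicGeometry Opposite TopologicalSpace

namespace Groth.Agent.ASp

open _root_.AlgSp

variable {S : Scheme.{u}}

/-- A locally Noetherian scheme all whose points are closed is discrete. -/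
theorem discreteTopology_of_t1 (V : Scheme.{u}) [IsLocallyNoetherian V] [T1Space ↥V] : DiscreteTopology ↥V := by
  refine discreteTopology_iff_isOpen_singleton.2 fun v => ?_
  obtain ⟨E, hE, hvE, -⟩ := exists_isAffineOpen_mem_and_subset (x := v) (U := (⊤ : V.Opens)) (by simp)
  haveI : IsAffine E.toScheme := hE
  haveI : IsNoetherianRing ↥Γ(V, E) := IsLocallyNoetherian.component_noetherian ⟨E, hE⟩
  haveI : NoetherianSpace ↥E.toScheme := noetherianSpace_of_isAffineOpen E hE
  haveI : T1Space ↥E.toScheme := inferInstanceAs (T1Space ↥(E : Set ↥V))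
  haveI : Finite (irreducibleComponents ↥E.toScheme) := (NoetherianSpace.finite_irreducibleComponents).to_subtype
  haveI : Finite ↥E.toScheme := by
    refine Finite.of_injective (fun w => (⟨irreducibleComponent w, irreducibleComponent_mem_irreducibleComponents w⟩ :
      irreducibleComponents ↥E.toScheme)) fun a b e => ?_
    have key : ∀ w : ↥E.toScheme, irreducibleComponent w = {w} := fun w => by
      obtain ⟨g, hg⟩ := QuasiSober.sober (isIrreducible_irreducibleComponent (x := w)) isClosed_irreducibleComponent
      have hgw : closure {g} = irreducibleComponent w := hg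
      rw [closure_singleton] at hgw
      have : w ∈ ({g} : Set _) := hgw ▸ mem_irreducibleComponent
      rw [Set.mem_singleton_iff] at this
      rw [← hgw, this]
    have e' := congrArg Subtype.val e
    simpa [key] using e'
  have := E.ι.isOpenEmbedding.isOpenMap _ (isOpen_discrete ({⟨v, hvE⟩} : Set ↥E.toScheme))
  rwa [Set.image_singleton] at this

/-- An etale chart, locally of finite type over a field, of a space with discrete points is discrete. -/
theorem discreteTopology_of_chart {P : Sp S} [DiscreteTopology (Points P)] {U : Over S}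
    {a : (yon S).obj U ⟶ P} (ha : RepWith @Etale a) {k : Type u} [Field k] (c : U.left ⟶ Spec (CommRingCat.of k))
    [LocallyOfFiniteType c] : DiscreteTopology ↥U.left := by
  haveI : IsLocallyNoetherian U.left := LocallyOfFiniteType.isLocallyNoetherian c
  haveI : JacobsonSpace ↥U.left := LocallyOfFiniteType.jacobsonSpace c
  haveI : T1Space ↥U.left := ⟨fun w => by
    obtain ⟨z, hz, hzc⟩ := nonempty_inter_closedPoints (Z := Points.ofPt a ⁻¹' {Points.ofPt a w})
      ⟨w, rfl⟩ ((isClosed_discrete _).preimage (Points.continuous_ofPt a)).isLocallyClosed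
    exact isClosed_singleton_of_fibre ha ha hzc hz.symm⟩
  exact discreteTopology_of_t1 _

/-- Discrete fibres give locally quasi-finite charts. -/
theorem locallyQuasiFinite_chart_of_discrete {X Y : Sp S} (hY : IsAlgSpace Y) {f : X ⟶ Y}
    (hd : ∀ (k : Type u) [Field k] (str : Spec (CommRingCat.of k) ⟶ S) (y : (yon S).obj (Over.mk str) ⟶ Y)
      (P : Sp S) (fst : P ⟶ X) (snd : P ⟶ (yon S).obj (Over.mk str)), IsPullback fst snd f y → DiscreteTopology (Points P))
    {U V : Over S} {a : (yon S).obj U ⟶ X} {b : (yon S).obj V ⟶ Y} {h : U ⟶ V}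
    (ha : RepWith @Etale a) (e : a ≫ f = (yon S).map h ≫ b) [LocallyOfFiniteType h.left]
    (hf : LocP @LocallyOfFiniteType f) (hX : IsAlgSpace X) : LocallyQuasiFinite h.left := by
  refine locallyQuasiFinite_iff_isDiscrete_preimage_singleton.2 fun v => ?_
  let pt : Over S := Over.mk (V.left.fromSpecResidueField v ≫ V.hom)
  let t : pt ⟶ V := Over.homMk (V.left.fromSpecResidueField v) rfl
  let y : (yon S).obj pt ⟶ Y := (yon S).map t ≫ b
  have sqP : IsPullback (pullback.fst f y) (pullback.snd f y) f y := IsPullback.of_hasPullback _ _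
  haveI := hd ↥(V.left.residueField v) _ y _ _ _ sqP
  obtain ⟨U', u₁, u₂, sqU⟩ := exists_isPullback_yon (hY.representable_from_yon (a ≫ f)) y
  have hlift : ((yon S).map u₁ ≫ a) ≫ f = (yon S).map u₂ ≫ y := by rw [Category.assoc]; exact sqU.w
  let θ := sqP.lift ((yon S).map u₁ ≫ a) ((yon S).map u₂) hlift
  have hθ : RepWith @Etale θ := by
    refine repWith_of_isPullback (IsPullback.of_bot (h₁₁ := (yon S).map u₁) (v₁₁ := θ) ?_
      (sqP.lift_fst _ _ hlift).symm sqP) ha
    rw [show θ ≫ pullback.snd f y = _ from sqP.lift_snd _ _ _]; exact sqU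
  haveI : LocallyOfFiniteType u₂.left :=
    locP_of_isPullback sqP.flip hX hY (IsAlgSpace.yon_obj pt) hf θ (𝟙 _) u₂ hθ (repWith_id _ _)
      (by rw [Category.comp_id]; exact sqP.lift_snd _ _ _)
  haveI : DiscreteTopology ↥U'.left := discreteTopology_of_chart hθ (k := ↥(V.left.residueField v)) u₂.left
  have sqW := IsPullback.of_hasPullback h t
  obtain ⟨m, hm⟩ := (yon S).map_surjective (sqU.lift ((yon S).map (pullback.fst h t)) ((yon S).map (pullback.snd h t))
    (by rw [e, ← Functor.map_comp_assoc, sqW.w, Functor.map_comp_assoc]))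
  have hm1 : m ≫ u₁ = pullback.fst h t := (yon S).map_injective (by rw [(yon S).map_comp, hm, sqU.lift_fst])
  have hm2 : m ≫ u₂ = pullback.snd h t := (yon S).map_injective (by rw [(yon S).map_comp, hm, sqU.lift_snd])
  haveI : Mono m := ⟨fun p q hpq => sqW.hom_ext (by rw [← hm1, reassoc_of% hpq]) (by rw [← hm2, reassoc_of% hpq])⟩
  haveI : Mono m.left := Over.mono_left_of_mono m
  haveI : DiscreteTopology ↥(pullback h t).left :=
    DiscreteTopology.of_continuous_injective m.left.continuous m.left.injective
  let e' := (isPullback_left sqW).isoPullback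
  haveI : DiscreteTopology ↥(h.left.fiber v) :=
    DiscreteTopology.of_continuous_injective e'.inv.continuous e'.inv.homeomorph.injective
  haveI : DiscreteTopology ↥(h.left ⁻¹' {v}) :=
    DiscreteTopology.of_continuous_injective (h.left.fiberHomeo v).symm.continuous (h.left.fiberHomeo v).symm.injective
  exact isDiscrete_iff_discreteTopology.2 inferInstance

/-- Locally quasi-finite morphisms have discrete fibres. -/
theorem discreteTopology_fibre {X Y : Sp S} (hX : IsAlgSpace X) (hY : IsAlgSpace Y) {f : X ⟶ Y}
    (hf : LocP @LocallyQuasiFinite f) {k : Type u} [Field k] {str : Spec (CommRingCat.of k) ⟶ S}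
    (y : (yon S).obj (Over.mk str) ⟶ Y) {P : Sp S} {fst : P ⟶ X} {snd : P ⟶ (yon S).obj (Over.mk str)}
    (sq : IsPullback fst snd f y) : DiscreteTopology (Points P) := by
  have hPa := isAlgSpace_of_isPullback hY.diag hX (IsAlgSpace.yon_obj _) sq
  obtain ⟨A, a, ha, has⟩ := hPa.atlas
  obtain ⟨c, hc⟩ := (yon S).map_surjective (a ≫ snd)
  haveI : LocallyQuasiFinite c.left :=
    locP_of_isPullback sq.flip hX hY (IsAlgSpace.yon_obj _) hf a (𝟙 _) c ha (repWith_id _ _)
      (by rw [Category.comp_id]; exact hc.symm)
  haveI : DiscreteTopology ↥A.left := isDiscrete_univ_iff.1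
    ((c.left.isDiscrete_preimage_singleton (IsLocalRing.closedPoint k)).mono
      fun z _ => Subsingleton.elim (α := ↥(Spec (CommRingCat.of k))) _ _)
  refine discreteTopology_iff_isOpen_singleton.2 fun x => ?_
  obtain ⟨w, rfl⟩ := surjective_ofPt has x
  have := isOpenMap_ofPt_of_etale ha _ (isOpen_discrete ({w} : Set ↥A.left))
  rwa [Set.image_singleton] at this

end Groth.Agent.ASp
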