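import Groth.Agent.EffDescLib.Basic
import Groth.Agent.ASp.ChartDim
import Groth.Agent.ASp.LocP
import Groth.Prelude.Def_AlgSpSub
import Groth.Prelude.Def_AlgSpModX
/-!
Effective Cartier divisors on algebraic spaces, read on etale charts.
-/

set_option autoImplicit false
set_option backward.isDefEq.respectTransparency false
set_option backward.isDefEq.respectTransparency.types false

universe u

open CategoryTheory CategoryTheory.Limits AlgebraicGeometry Opposite

namespace Groth.Agent.ASp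

open _root_.AlgSp

variable {S : Scheme.{u}} {X Y D : Sp S}

/-- The closed subscheme of an ideal sheaf, over `S`. -/
noncomputable abbrev subOver {U : Over S} (I : U.left.IdealSheafData) : Over S := Over.mk (I.subschemeι ≫ U.hom)

/-- Its inclusion. -/
noncomputable abbrev subInc {U : Over S} (I : U.left.IdealSheafData) : subOver I ⟶ U := Over.homMk I.subschemeι rfl

/-- `I` is the ideal of the inverse image of `i` in the chart `φ`. -/
def IsSubIdeal (i : D ⟶ X) {U : Over S} (φ : (yon S).obj U ⟶ X) (I : U.left.IdealSheafData) : Prop :=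
  ∃ fst : (yon S).obj (subOver I) ⟶ D, IsPullback fst ((yon S).map (subInc I)) i φ

theorem exists_isSubIdeal {i : D ⟶ X} (hi : RepWith @IsClosedImmersion i) {U : Over S} (φ : (yon S).obj U ⟶ X) :
    ∃ I : U.left.IdealSheafData, IsSubIdeal i φ I := by
  let Z := hi.1.pullback φ
  let z := hi.1.snd φ
  have sq := hi.1.isPullback φ
  haveI : IsClosedImmersion z.left := hi.2 _ _ _ sq
  let e : Z ≅ subOver z.left.ker := Over.isoMk (asIso z.left.toImage) (by
    show z.left.toImage ≫ z.left.imageι ≫ U.hom = Z.hom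
    rw [Scheme.Hom.toImage_imageι_assoc, Over.w])
  refine ⟨z.left.ker, (yon S).map e.inv ≫ hi.1.fst φ, ?_⟩
  refine IsPullback.of_iso sq ((yon S).mapIso e) (Iso.refl _) (Iso.refl _) (Iso.refl _) ?_ ?_ (by simp) (by simp)
  · simp
  · simp only [Functor.mapIso_hom, Iso.refl_hom, Category.comp_id, ← (yon S).map_comp]
    congr 1
    exact Over.OverMorphism.ext (z.left.toImage_imageι).symm

/-- The ideal of the inverse image is compatible with maps of charts. -/
theorem IsSubIdeal.comap_eq {i : D ⟶ X} {U U' : Over S} {φ : (yon S).obj U ⟶ X} (w : U' ⟶ U)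
    {I : U.left.IdealSheafData} {J : U'.left.IdealSheafData} {φ' : (yon S).obj U' ⟶ X}
    (e : φ' = (yon S).map w ≫ φ) (hI : IsSubIdeal i φ I) (hJ : IsSubIdeal i φ' J) :
    I.comap w.left = J := by
  obtain ⟨a, sqI⟩ := hI
  obtain ⟨b, sqJ⟩ := hJ
  subst e
  obtain ⟨l, hl⟩ := (yon S).map_surjective (sqI.lift b ((yon S).map (subInc J ≫ w)) (by
    rw [sqJ.w, (yon S).map_comp, Category.assoc]))
  have sql : IsPullback ((yon S).map l) ((yon S).map (subInc J)) ((yon S).map (subInc I)) ((yon S).map w) :=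
    IsPullback.of_right (h₁₂ := a) (v₁₃ := i) (h₂₂ := φ) (by rw [hl, sqI.lift_fst]; exact sqJ)
      (by rw [hl, sqI.lift_snd, (yon S).map_comp]) sqI
  rw [EffDescLib.comap_eq_ker_of_isPullback I (isPullback_left (IsPullback.of_map_of_faithful (F := yon S) sql))]
  exact J.ker_subschemeι

/-- Effective Cartier divisors are effective Cartier on every chart. -/
theorem isEffCartier_of_chart {i : D ⟶ X} (hD : IsEffCartierSub i) {U : Over S} {φ : (yon S).obj U ⟶ X}
    (hφ : RepWith @Etale φ) {I : U.left.IdealSheafData} (hI : IsSubIdeal i φ I) :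
    BlowUp.IsEffCartierIdeal I := by
  obtain ⟨hi, V, b, J, fJ, hb, hbs, sqJ, hJ⟩ := hD
  refine EffDescLib.isEffCartier_of_flat_open I fun u => ?_
  obtain ⟨v, hv⟩ := surjective_ofPt hbs (Points.ofPt φ u)
  obtain ⟨P, t, s, r, ht, hs, hts, rfl, -⟩ := exists_common_point hφ hb hv.symm
  haveI := ht
  haveI := hs
  obtain ⟨K, hK⟩ := exists_isSubIdeal hi ((yon S).map t ≫ φ)
  refine ⟨P.left, t.left, r, inferInstance, t.left.isOpenMap, rfl, ?_⟩
  rw [IsSubIdeal.comap_eq t rfl hI hK, ← IsSubIdeal.comap_eq s hts ⟨fJ, sqJ⟩ hK]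
  exact BlowCompLib.isEffCartier_comap_flat hJ s.left

theorem isEffCartierSub_of_charts (hX : IsAlgSpace X) {i : D ⟶ X} (hi : RepWith @IsClosedImmersion i)
    (h : ∀ (U : Over S) (φ : (yon S).obj U ⟶ X), RepWith @Etale φ → ∀ I, IsSubIdeal i φ I →
      BlowUp.IsEffCartierIdeal I) : IsEffCartierSub i := by
  obtain ⟨V, b, hb, hbs⟩ := hX.atlas
  obtain ⟨J, fst, sq⟩ := exists_isSubIdeal hi b
  exact ⟨hi, V, b, J, fst, hb, hbs, sq, h V b hb J ⟨fst, sq⟩⟩

/-- Local affine equations give effective Cartier divisors. -/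
theorem isEffCartierSub_of_local (hX : IsAlgSpace X) {i : D ⟶ X} (hi : RepWith @IsClosedImmersion i)
    (h : ∀ x : Points D, ∃ (U : Over S) (a : (yon S).obj U ⟶ X) (u : ↥U.left) (I : U.left.IdealSheafData),
      RepWith @Etale a ∧ Points.ofPt a u = Points.map i x ∧ IsSubIdeal i a I ∧ BlowUp.IsEffCartierIdeal I) :
    IsEffCartierSub i := by
  refine isEffCartierSub_of_charts hX hi fun U φ hφ I hI => EffDescLib.isEffCartier_of_flat_open I fun u => ?_
  by_cases hu : u ∈ Set.range I.subschemeι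
  · obtain ⟨z, rfl⟩ := hu
    obtain ⟨fI, sqI⟩ := id hI
    obtain ⟨U', a, u', I', ha, hau, hI', hC⟩ := h (Points.ofPt fI z)
    have he : Points.ofPt φ (I.subschemeι z) = Points.ofPt a u' := by
      rw [hau, Points.map_ofPt, sqI.w, ofPt_yon_map_comp]
      rfl
    obtain ⟨P, t, s, r, ht, hs, hts, hr, -⟩ := exists_common_point hφ ha he
    haveI := ht
    haveI := hs
    obtain ⟨K, hK⟩ := exists_isSubIdeal hi ((yon S).map t ≫ φ)
    refine ⟨P.left, t.left, r, inferInstance, t.left.isOpenMap, hr, ?_⟩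
    rw [IsSubIdeal.comap_eq t rfl hI hK, ← IsSubIdeal.comap_eq s hts hI' hK]
    exact BlowCompLib.isEffCartier_comap_flat hC s.left
  · rw [Scheme.IdealSheafData.range_subschemeι] at hu
    refine ⟨_, Scheme.Opens.ι I.support.compl, ⟨u, hu⟩, inferInstance,
      (Scheme.Opens.ι I.support.compl).isOpenEmbedding.isOpenMap, rfl, ?_⟩
    have : I.comap (Scheme.Opens.ι I.support.compl) = ⊤ := by
      rw [← Scheme.IdealSheafData.support_eq_bot_iff, Scheme.IdealSheafData.support_comap]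
      ext y
      simp only [TopologicalSpace.Closeds.coe_bot, Set.mem_empty_iff_false, iff_false]
      exact y.2
    rw [this]
    exact BlowCompLib.isEffCartier_top

/-- Effective Cartier divisors pull back along flat morphisms. -/
theorem isEffCartierSub_pullback_flat (hX : IsAlgSpace X) (hY : IsAlgSpace Y) (f : X ⟶ Y)
    (hf : LocP @Flat f) {i : D ⟶ Y} (hD : IsEffCartierSub i) {P : Sp S} {fst : P ⟶ D} {snd : P ⟶ X}
    (sq : IsPullback fst snd i f) : IsEffCartierSub snd := by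
  have hi := hD.1
  refine isEffCartierSub_of_charts hX (repWith_of_isPullback sq hi) fun U φ hφ I hI => ?_
  refine EffDescLib.isEffCartier_of_flat_open I fun u => ?_
  obtain ⟨V, b, hb, hbs⟩ := hY.atlas
  obtain ⟨W, w, v, hwe, hws, hv, -⟩ := exists_etale_cover hb hbs (φ ≫ f)
  haveI : Etale w.left := hwe
  obtain ⟨r, rfl⟩ := hws.surj u
  haveI : Flat v.left := hf ((yon S).map w ≫ φ) b v (repWith_comp (repWith_yon_map hwe) hφ) hb
    (by rw [Category.assoc, hv])
  obtain ⟨K, hK⟩ := exists_isSubIdeal (repWith_of_isPullback sq hi) ((yon S).map w ≫ φ)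
  obtain ⟨J, hJ⟩ := exists_isSubIdeal hi b
  obtain ⟨fK, sqK⟩ := id hK
  refine ⟨W.left, w.left, r, inferInstance, w.left.isOpenMap, rfl, ?_⟩
  rw [IsSubIdeal.comap_eq w rfl hI hK,
    ← IsSubIdeal.comap_eq v rfl hJ (show IsSubIdeal i ((yon S).map v ≫ b) K from
      ⟨fK ≫ fst, by rw [hv, ← Category.assoc]; exact sqK.paste_horiz sq⟩)]
  exact BlowCompLib.isEffCartier_comap_flat (isEffCartier_of_chart hD hb hJ) v.left

theorem IsSubIdeal.unique {i : D ⟶ X} {U : Over S} {φ : (yon S).obj U ⟶ X} {I J : U.left.IdealSheafData}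
    (hI : IsSubIdeal i φ I) (hJ : IsSubIdeal i φ J) : I = J := by
  have h := IsSubIdeal.comap_eq (𝟙 U) (φ' := φ) (by simp) hI hJ
  rwa [Over.id_left, Scheme.IdealSheafData.comap_id] at h

/-- The ideal of a subspace cut out by an ideal sheaf, on an affine chart. -/
theorem ideal_top_of_isCutOutBy {i : D ⟶ X} {𝓘 : IdealEt X} (h : IsCutOutBy 𝓘 i) {U : Over S} (hU : IsAffine U.left)
    {φ : (yon S).obj U ⟶ X} (hφ : RepWith @Etale φ) {I : U.left.IdealSheafData} (hI : IsSubIdeal i φ I) :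
    I.ideal ⟨⊤, isAffineOpen_top U.left⟩ = 𝓘.ideal (EtOver.mk φ hφ) hU := by
  obtain ⟨hi, rfl⟩ := h
  let z := hi.1.snd φ
  haveI : IsClosedImmersion z.left := hi.2 _ _ _ (hi.1.isPullback φ)
  let e : hi.1.pullback φ ≅ subOver z.left.ker := Over.isoMk (asIso z.left.toImage) (by
    show z.left.toImage ≫ z.left.imageι ≫ U.hom = _
    rw [Scheme.Hom.toImage_imageι_assoc, Over.w])
  have hJ : IsSubIdeal i φ z.left.ker := by
    refine ⟨(yon S).map e.inv ≫ hi.1.fst φ, ?_⟩
    refine IsPullback.of_iso (hi.1.isPullback φ) ((yon S).mapIso e) (Iso.refl _) (Iso.refl _) (Iso.refl _) ?_ ?_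
      (by simp) (by simp)
    · simp
    · simp only [Functor.mapIso_hom, Iso.refl_hom, Category.comp_id, ← (yon S).map_comp]
      congr 1
      exact Over.OverMorphism.ext (z.left.toImage_imageι).symm
  rw [hI.unique hJ, Scheme.Hom.ker_apply]
  rfl

/-- The ideals of a product cut out subspace, on an affine chart. -/
theorem mul_eq_of_isCutOutBy {Z₁ Z₂ : Sp S} {i₁ : Z₁ ⟶ X} {i₂ : Z₂ ⟶ X} {i : D ⟶ X} {𝓘 𝓙 : IdealEt X}
    (h₁ : IsCutOutBy 𝓘 i₁) (h₂ : IsCutOutBy 𝓙 i₂) (h : IsCutOutBy (𝓘 * 𝓙) i) {U : Over S} (hU : IsAffine U.left)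
    {φ : (yon S).obj U ⟶ X} (hφ : RepWith @Etale φ) {I J K : U.left.IdealSheafData}
    (hI : IsSubIdeal i₁ φ I) (hJ : IsSubIdeal i₂ φ J) (hK : IsSubIdeal i φ K) : K = I * J := by
  haveI := hU
  refine Scheme.IdealSheafData.ext_of_isAffine ?_
  rw [Scheme.IdealSheafData.ideal_mul, Pi.mul_apply, ideal_top_of_isCutOutBy h hU hφ hK,
    ideal_top_of_isCutOutBy h₁ hU hφ hI, ideal_top_of_isCutOutBy h₂ hU hφ hJ, IdealEt.mul_ideal]

/-- Being effective Cartier is tested on affine charts. -/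
theorem isEffCartierSub_of_affine_charts (hX : IsAlgSpace X) {i : D ⟶ X} (hi : RepWith @IsClosedImmersion i)
    (h : ∀ (U : Over S), IsAffine U.left → ∀ φ : (yon S).obj U ⟶ X, RepWith @Etale φ → ∀ I, IsSubIdeal i φ I →
      BlowUp.IsEffCartierIdeal I) : IsEffCartierSub i := by
  refine isEffCartierSub_of_charts hX hi fun U φ hφ I hI => EffDescLib.isEffCartier_of_flat_open I fun u => ?_
  obtain ⟨W, hW, huW, -⟩ := exists_isAffineOpen_mem_and_subset (x := u) (U := (⊤ : U.left.Opens)) (by simp)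
  let o : Over.mk (W.ι ≫ U.hom) ⟶ U := Over.homMk W.ι rfl
  obtain ⟨K, hK⟩ := exists_isSubIdeal hi ((yon S).map o ≫ φ)
  refine ⟨_, W.ι, ⟨u, huW⟩, inferInstance, W.ι.isOpenEmbedding.isOpenMap, rfl, ?_⟩
  rw [show I.comap W.ι = K from IsSubIdeal.comap_eq o rfl hI hK]
  exact h (Over.mk (W.ι ≫ U.hom)) (show IsAffine W.toScheme from hW) _
    (repWith_comp (repWith_yon_map (P := @Etale) (g := o) (inferInstanceAs (Etale W.ι))) hφ) K hK

/-- Effective Cartier divisors have affine equations near each point. -/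
theorem exists_affine_equation {i : D ⟶ X} (hD : IsEffCartierSub i) (x : Points D) :
    ∃ (U : Over S) (_ : IsAffine U.left) (a : (yon S).obj U ⟶ X) (u : ↥U.left) (f : Γ(U.left, ⊤))
      (I : U.left.IdealSheafData),
      RepWith @Etale a ∧ Points.ofPt a u = Points.map i x ∧ f ∈ nonZeroDivisors Γ(U.left, ⊤) ∧
        I.ideal ⟨⊤, isAffineOpen_top U.left⟩ = Ideal.span {f} ∧ IsSubIdeal i a I := by
  obtain ⟨hi, V, b, J, fJ, hb, hbs, sqJ, hJ⟩ := hD
  obtain ⟨v, hv⟩ := surjective_ofPt hbs (Points.map i x)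
  obtain ⟨W, hvW, g, hg, hgW⟩ := hJ v
  let o : Over.mk (W.1.ι ≫ V.hom) ⟶ V := Over.homMk W.1.ι rfl
  haveI hWa : IsAffine W.1.toScheme := W.2
  haveI : IsAffine (Over.mk (W.1.ι ≫ V.hom)).left := W.2
  obtain ⟨K, hK⟩ := exists_isSubIdeal hi ((yon S).map o ≫ b)
  have e : (⊤ : W.1.toScheme.Opens) ≤ W.1.ι ⁻¹ᵁ W.1 := fun y _ => y.2
  have hKg : K.ideal ⟨⊤, isAffineOpen_top _⟩ = Ideal.span {W.1.ι.appLE W.1 ⊤ e g} := by
    rw [← IsSubIdeal.comap_eq o rfl ⟨fJ, sqJ⟩ hK]
    exact BlowCompLib.ideal_comap_span J W.1.ι hgW ⟨⊤, isAffineOpen_top _⟩ e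
  have hbij : Function.Bijective (W.1.ι.appLE W.1 ⊤ e).hom := by
    haveI : IsIso (W.1.ι.appLE W.1 ⊤ e) := by
      rw [Scheme.Hom.appLE]
      haveI : IsIso (W.1.ι.app W.1) := W.1.ι.isIso_app _ (by rw [Scheme.Opens.opensRange_ι])
      haveI : IsIso (homOfLE e) := by
        rw [show homOfLE e = eqToHom (Scheme.Opens.ι_preimage_self W.1).symm from Subsingleton.elim _ _]
        infer_instance
      infer_instance
    exact ConcreteCategory.bijective_of_isIso _
  refine ⟨Over.mk (W.1.ι ≫ V.hom), W.2, (yon S).map o ≫ b, ⟨v, hvW⟩, W.1.ι.appLE W.1 ⊤ e g, K,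
    repWith_comp (repWith_yon_map (P := @Etale) (g := o) (inferInstanceAs (Etale W.1.ι))) hb,
    by rw [ofPt_yon_map_comp]; exact hv, mem_nonZeroDivisors_iff_right.2 fun z hz => ?_, hKg, hK⟩
  obtain ⟨z, rfl⟩ := hbij.2 z
  have h0 : z * g = 0 := hbij.1 (by rw [map_mul, map_zero]; exact hz)
  rw [mem_nonZeroDivisors_iff_right.1 hg z h0, map_zero]

end Groth.Agent.ASp
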