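import Groth.Agent.ASp.EffCartier
import Groth.Agent.RelDivLib.BaseChange
/-!
Base change of effective Cartier divisors that are flat over the base.
-/

set_option autoImplicit false
set_option backward.isDefEq.respectTransparency false
set_option backward.isDefEq.respectTransparency.types false

universe u

open CategoryTheory CategoryTheory.Limits AlgebraicGeometry Opposite

namespace Groth.Agent.ASp

open _root_.AlgSp

variable {S : Scheme.{u}}

/-- Effective Cartier divisors flat over the base stay effective Cartier after any base change. -/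
theorem isEffCartierSub_baseChange_flat {X Y D Y' X' D' : Sp S} (hX : IsAlgSpace X) (hY : IsAlgSpace Y)
    (hY' : IsAlgSpace Y') {f : X ⟶ Y} {i : D ⟶ X} (hD : IsEffCartierSub i) (hflat : LocP @Flat (i ≫ f))
    {g : Y' ⟶ Y} {g' : X' ⟶ X} {f' : X' ⟶ Y'} (hX' : IsPullback g' f' f g)
    {k : D' ⟶ D} {i' : D' ⟶ X'} (hD' : IsPullback k i' i g') : IsEffCartierSub i' := by
  obtain ⟨A, a₀, ha₀, ha₀s⟩ := hX.atlas
  obtain ⟨V, b, hb, hbs⟩ := hY.atlas
  obtain ⟨V', b', hb', hb's⟩ := hY'.atlas
  obtain ⟨W, w, v, hwe, hws, hv, -⟩ := exists_etale_cover hb hbs (a₀ ≫ f)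
  let a := (yon S).map w ≫ a₀
  have ha : RepWith @Etale a := repWith_comp (repWith_yon_map hwe) ha₀
  have has : RepWith @Surjective a := repWith_comp (repWith_yon_map hws) ha₀s
  have hva : a ≫ f = (yon S).map v ≫ b := by rw [Category.assoc]; exact hv.symm
  obtain ⟨p₁, hp₁⟩ := (yon S).map_surjective (hb.1.fst (b' ≫ g))
  let V₂ := hb.1.pullback (b' ≫ g)
  let p₂ := hb.1.snd (b' ≫ g)
  have sq₂ : IsPullback ((yon S).map p₁) ((yon S).map p₂) b (b' ≫ g) := by
    rw [hp₁]; exact hb.1.isPullback (b' ≫ g)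
  let T : Over S := pullback v p₁
  have sqT : IsPullback ((yon S).map (pullback.fst v p₁)) ((yon S).map (pullback.snd v p₁ ≫ p₂)) (a ≫ f) (b' ≫ g) := by
    rw [hva, (yon S).map_comp (pullback.snd v p₁) p₂]
    exact ((IsPullback.of_hasPullback v p₁).map (yon S)).paste_vert sq₂
  have sq₁ : IsPullback (pullback.fst a g') (pullback.snd a g') a g' := IsPullback.of_hasPullback a g'
  have sqZ : IsPullback (pullback.fst (pullback.snd a g' ≫ f') b' ≫ pullback.fst a g')
      (pullback.snd (pullback.snd a g' ≫ f') b') (a ≫ f) (b' ≫ g) :=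
    (IsPullback.of_hasPullback (pullback.snd a g' ≫ f') b').paste_horiz (sq₁.paste_vert hX')
  let e := sqT.isoIsPullback _ _ sqZ
  let q : (yon S).obj T ⟶ X' := e.hom ≫ pullback.fst (pullback.snd a g' ≫ f') b' ≫ pullback.snd a g'
  have hrep : ∀ (P : MorphismProperty Scheme.{u}) [P.IsStableUnderComposition] [P.RespectsIso],
      RepWith P a → RepWith P b' → RepWith P (pullback.fst (pullback.snd a g' ≫ f') b' ≫ pullback.snd a g') :=
    fun P _ _ h h' => repWith_comp (repWith_of_isPullback (IsPullback.of_hasPullback _ _).flip h')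
      (repWith_of_isPullback sq₁ h)
  have hq : ∀ (P : MorphismProperty Scheme.{u}) [P.IsStableUnderComposition] [P.RespectsIso],
      RepWith P a → RepWith P b' → RepWith P q := fun P _ _ h h' =>
    repWith_of_isPullback (IsPullback.of_horiz_isIso (fst := e.hom) (g := 𝟙 _) ⟨(Category.comp_id q).symm⟩) (hrep P h h')
  have hqg : q ≫ g' = (yon S).map (pullback.fst v p₁) ≫ a := by
    rw [show (yon S).map (pullback.fst v p₁) = e.hom ≫ pullback.fst (pullback.snd a g' ≫ f') b' ≫ pullback.fst a g'
      from (sqT.isoIsPullback_hom_fst _ _ sqZ).symm]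
    simp only [q, Category.assoc, pullback.condition]
  obtain ⟨K, hK⟩ := exists_isSubIdeal (repWith_of_isPullback hD' hD.1) q
  obtain ⟨J, hJ⟩ := exists_isSubIdeal hD.1 a
  obtain ⟨fK, sqK⟩ := id hK
  obtain ⟨fJ, sqJ⟩ := id hJ
  refine ⟨repWith_of_isPullback hD' hD.1, T, q, K, fK, hq _ ha hb', hq _ has hb's, sqK, ?_⟩
  haveI : Flat (J.subschemeι ≫ v.left) := hflat fJ b (subInc J ≫ v) (repWith_of_isPullback sqJ.flip ha) hb
    (by rw [← Category.assoc, sqJ.w, Category.assoc, hva, (yon S).map_comp, Category.assoc])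
  rw [← IsSubIdeal.comap_eq (pullback.fst v p₁) rfl hJ
    (show IsSubIdeal i ((yon S).map (pullback.fst v p₁) ≫ a) K from
      ⟨fK ≫ k, by rw [← hqg]; exact sqK.paste_horiz hD'⟩)]
  have sqS := isPullback_left (IsPullback.of_hasPullback v p₁)
  rw [← sqS.isoPullback_hom_fst, Scheme.IdealSheafData.comap_comp]
  exact BlowCompLib.isEffCartier_comap_flat
    (RelDivLib.isEffCartier_baseChange v.left J (isEffCartier_of_chart hD ha hJ) p₁.left) _

end Groth.Agent.ASp
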