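import Groth.Agent.ASp.EtStalkSH
import Groth.Agent.HensBranch.EtaleNbhd
import Groth.Agent.S9238
import Groth.Agent.S9236
import Groth.Prelude.Def_CAlgX
/-!
Geometric branches of algebraic spaces at a point.
-/

set_option autoImplicit false
set_option linter.style.haveILetI false
set_option backward.isDefEq.respectTransparency false
set_option backward.isDefEq.respectTransparency.types false

universe u

open CategoryTheory CategoryTheory.Limits AlgebraicGeometry Opposite

namespace Groth.Agent.ASp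

open _root_.AlgSp

variable {S : Scheme.{u}} {X : Sp S}

theorem comap_equiv_mem_minimalPrimes {A : Type*} {B : Type*} [CommRing A] [CommRing B] (f : A ≃+* B) (q : Ideal B)
    (hq : q ∈ minimalPrimes B) : q.comap f.toRingHom ∈ minimalPrimes A := by
  haveI := hq.1.1
  refine ⟨⟨Ideal.IsPrime.comap _, bot_le⟩, fun Q hQ hle => ?_⟩
  haveI := hQ.1
  have hQ' : Q.comap f.symm.toRingHom ≤ q := fun x hx => by
    have h := hle hx
    rw [Ideal.mem_comap] at h
    simpa using h
  intro x hx
  have h := hq.2 ⟨Ideal.IsPrime.comap _, bot_le⟩ hQ' hx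
  rw [Ideal.mem_comap] at h
  simpa using h

theorem encard_minimalPrimes_congr {A : Type*} {B : Type*} [CommRing A] [CommRing B] (e : A ≃+* B) :
    (minimalPrimes A).encard = (minimalPrimes B).encard := by
  refine le_antisymm ?_ ?_
  · refine Set.encard_le_encard_of_injOn (f := fun q => q.comap e.symm.toRingHom)
      (fun q hq => comap_equiv_mem_minimalPrimes e.symm q hq) fun q _ q' _ h => Ideal.ext fun x => ?_
    simpa using SetLike.ext_iff.1 h (e x)
  · refine Set.encard_le_encard_of_injOn (f := fun q => q.comap e.toRingHom)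
      (fun q hq => comap_equiv_mem_minimalPrimes e q hq) fun q _ q' _ h => Ideal.ext fun x => ?_
    have h' := SetLike.ext_iff.1 h (e.symm x)
    rw [Ideal.mem_comap, Ideal.mem_comap, show e.toRingHom (e.symm x) = x from e.apply_symm_apply x] at h'
    exact h' 

theorem encard_minimalPrimes_stalk (hX : IsAlgSpace X) {p : FieldPt X} (hp : p.IsGeometric) {U : Over S}
    {a : (yon S).obj U ⟶ X} (ha : RepWith @Etale a) {v : ↥U.left} (hv : Points.ofPt a v = Points.mk p) :
    (minimalPrimes ↥(OEtStalk p)).encard = Brnch.numGeomBranchesAt U.left v := by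
  obtain ⟨T, _, _, _, _, hT, ⟨e⟩⟩ := exists_isStrictHenselization_stalk hX hp a ha v hv
  rw [Brnch.numGeomBranchesAt, ← Groth.Agent.S9238.result (U.left.presheaf.stalk v) T, ENat.card_coe_set_eq]
  exact encard_minimalPrimes_congr e

/-- Counting with a positive bound. -/
theorem branches_iff (hX : IsAlgSpace X) (x : Points X) (n : ℕ) (hn : 1 ≤ n) :
    ((∀ (U : Over S) (a : (yon S).obj U ⟶ X) (v : ↥U.left),
        RepWith @Etale a → Points.ofPt a v = x → (minimalPrimes ↥(U.left.presheaf.stalk v)).encard ≤ n) ∧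
        HasAt (fun U v => (minimalPrimes ↥(U.presheaf.stalk v)).encard = n) X x) ↔
      (∀ (U : Over S) (a : (yon S).obj U ⟶ X) (v : ↥U.left),
        RepWith @Etale a → Points.ofPt a v = x → Brnch.numGeomBranchesAt U.left v = n) := by
  constructor
  · rintro ⟨hle, U₀, a₀, v₀, ha₀, hv₀, he₀⟩ U a v ha hv
    have le_geo : ∀ (U : Over S) (a : (yon S).obj U ⟶ X) (v : ↥U.left), RepWith @Etale a → Points.ofPt a v = x →
        Brnch.numGeomBranchesAt U.left v ≤ n := fun U a v ha hv => by
      rw [HensBranch.numGeomBranchesAt_eq_iSup]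
      refine iSup_le fun U' => iSup_le fun g => iSup_le fun w => iSup_le fun ⟨hg, hgw⟩ => ?_
      let W : Over S := Over.mk (g ≫ U.hom)
      let gW : W ⟶ U := Over.homMk g rfl
      rw [HensBranch.encard_components_eq, ENat.card_coe_set_eq]
      exact hle W ((yon S).map gW ≫ a) w (repWith_comp (repWith_yon_map (g := gW) hg) ha)
        (by rw [ofPt_yon_map_comp]; show Points.ofPt a (g w) = x; rw [hgw]; exact hv)
    refine le_antisymm (le_geo U a v ha hv) ?_
    obtain ⟨p, hp, l, hl⟩ := exists_geometric_lift (EtOver.mk a ha) v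
    have hpv : Points.ofPt a v = Points.mk p := by rw [mk_eq_ofPt l, hl]; rfl
    rw [← encard_minimalPrimes_stalk hX hp ha hpv,
      encard_minimalPrimes_stalk hX hp ha₀ (hv₀.trans (hv.symm.trans hpv)), ← he₀,
      HensBranch.numGeomBranchesAt_eq_iSup]
    refine le_iSup_of_le U₀.left (le_iSup_of_le (𝟙 _) (le_iSup_of_le v₀ (le_iSup_of_le ⟨inferInstance, rfl⟩ ?_)))
    rw [HensBranch.encard_components_eq, ENat.card_coe_set_eq]
  · intro h
    refine ⟨fun U a v ha hv => ?_, ?_⟩
    · rw [← h U a v ha hv, HensBranch.numGeomBranchesAt_eq_iSup]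
      refine le_iSup_of_le U.left (le_iSup_of_le (𝟙 _) (le_iSup_of_le v (le_iSup_of_le ⟨inferInstance, rfl⟩ ?_)))
      rw [HensBranch.encard_components_eq, ENat.card_coe_set_eq]
    · obtain ⟨U, a, v, ha, hv⟩ := exists_chart_through hX x
      by_contra hne
      have hlt : Brnch.numGeomBranchesAt U.left v ≤ ((n - 1 : ℕ) : ℕ∞) := by
        rw [HensBranch.numGeomBranchesAt_eq_iSup]
        refine iSup_le fun U' => iSup_le fun g => iSup_le fun w => iSup_le fun ⟨hg, hgw⟩ => ?_
        let W : Over S := Over.mk (g ≫ U.hom)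
        let gW : W ⟶ U := Over.homMk g rfl
        have haW := repWith_comp (repWith_yon_map (g := gW) hg) ha
        have hwW : Points.ofPt ((yon S).map gW ≫ a) w = x := by
          rw [ofPt_yon_map_comp]; show Points.ofPt a (g w) = x; rw [hgw]; exact hv
        have hb : {Z : Set U' | Z ∈ irreducibleComponents (U' : Type u) ∧ w ∈ Z}.encard ≤ n := by
          rw [← h W _ w haW hwW, HensBranch.numGeomBranchesAt_eq_iSup]
          exact le_iSup_of_le U' (le_iSup_of_le (𝟙 _) (le_iSup_of_le w (le_iSup_of_le ⟨inferInstance, rfl⟩ le_rfl)))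
        obtain ⟨k, hk⟩ := ENat.ne_top_iff_exists.1 (ne_top_of_le_ne_top (ENat.coe_ne_top n) hb)
        rw [← hk] at hb ⊢
        have hkn : k ≠ n := fun e => hne ⟨W, _, w, haW, hwW, by
          subst e
          rw [← ENat.card_coe_set_eq, ← HensBranch.encard_components_eq]
          exact hk.symm⟩
        have := ENat.coe_le_coe.1 hb
        exact ENat.coe_le_coe.2 (by omega)
      rw [h U a v ha hv] at hlt
      have := ENat.coe_le_coe.1 hlt
      omega

theorem geomBranches_iff_stalk (hX : IsAlgSpace X) (x : Points X) (m : ℕ∞) :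
    (∀ (U : Over S) (a : (yon S).obj U ⟶ X) (v : ↥U.left),
        RepWith @Etale a → Points.ofPt a v = x → Brnch.numGeomBranchesAt U.left v = m) ↔
      ∀ p : FieldPt X, p.IsGeometric → Points.mk p = x → (minimalPrimes ↥(OEtStalk p)).encard = m := by
  refine ⟨fun h p hp hx => ?_, fun h U a v ha hv => ?_⟩
  · obtain ⟨U, a, v, ha, hv⟩ := exists_chart_through hX (Points.mk p)
    rw [encard_minimalPrimes_stalk hX hp ha hv]
    exact h U a v ha (hv.trans hx)
  · obtain ⟨p, hp, l, hl⟩ := exists_geometric_lift (EtOver.mk a ha) v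
    have hpv : Points.ofPt a v = Points.mk p := by rw [mk_eq_ofPt l, hl]; rfl
    rw [← encard_minimalPrimes_stalk hX hp ha hpv]
    exact h p hp (hpv.symm.trans hv)

theorem hasUniqueMinimalPrime_iff_encard (A : Type*) [CommRing A] :
    CAlgX.HasUniqueMinimalPrime A ↔ (minimalPrimes A).encard = 1 := by
  rw [Set.encard_eq_one]
  exact ⟨fun ⟨P, h1, h2⟩ => ⟨P, Set.eq_singleton_iff_unique_mem.2 ⟨h1, h2⟩⟩,
    fun ⟨P, h⟩ => ⟨P, (Set.eq_singleton_iff_unique_mem.1 h).1, (Set.eq_singleton_iff_unique_mem.1 h).2⟩⟩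

theorem unibranch_iff (hX : IsAlgSpace X) (x : Points X) :
    ((∀ (U : Over S) (a : (yon S).obj U ⟶ X) (v : ↥U.left),
        RepWith @Etale a → Points.ofPt a v = x → CAlgX.HasUniqueMinimalPrime ↥(U.left.presheaf.stalk v)) ↔
      (∀ (U : Over S) (a : (yon S).obj U ⟶ X) (v : ↥U.left),
        RepWith @Etale a → Points.ofPt a v = x → CAlg2.IsGeomUnibranch ↥(U.left.presheaf.stalk v))) ∧
    ((∀ (U : Over S) (a : (yon S).obj U ⟶ X) (v : ↥U.left),
        RepWith @Etale a → Points.ofPt a v = x → CAlgX.HasUniqueMinimalPrime ↥(U.left.presheaf.stalk v)) ↔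
      ∀ p : FieldPt X, p.IsGeometric → Points.mk p = x → CAlgX.HasUniqueMinimalPrime ↥(OEtStalk p)) := by
  have h4 : (∀ (U : Over S) (a : (yon S).obj U ⟶ X) (v : ↥U.left),
        RepWith @Etale a → Points.ofPt a v = x → CAlgX.HasUniqueMinimalPrime ↥(U.left.presheaf.stalk v)) ↔
      (∀ (U : Over S) (a : (yon S).obj U ⟶ X) (v : ↥U.left),
        RepWith @Etale a → Points.ofPt a v = x → Brnch.numGeomBranchesAt U.left v = (1 : ℕ)) := by
    rw [← branches_iff hX x 1 le_rfl]
    constructor
    · intro h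
      refine ⟨fun U a v ha hv => ((hasUniqueMinimalPrime_iff_encard _).1 (h U a v ha hv)).le, ?_⟩
      obtain ⟨U, a, v, ha, hv⟩ := exists_chart_through hX x
      exact ⟨U, a, v, ha, hv, (hasUniqueMinimalPrime_iff_encard _).1 (h U a v ha hv)⟩
    · rintro ⟨h, -⟩ U a v ha hv
      refine (hasUniqueMinimalPrime_iff_encard _).2 (le_antisymm (h U a v ha hv) ?_)
      exact Set.one_le_encard_iff_nonempty.2 (Set.nonempty_coe_sort.1 (Ideal.nonempty_minimalPrimes bot_ne_top))
  refine ⟨h4.trans ?_, h4.trans ?_⟩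
  · exact forall_congr' fun U => forall_congr' fun a => forall_congr' fun v => forall₂_congr fun _ _ =>
      Groth.Agent.S9236.result (U.left.presheaf.stalk v)
  · rw [geomBranches_iff_stalk hX x]
    exact forall_congr' fun p => forall₂_congr fun _ _ => (hasUniqueMinimalPrime_iff_encard _).symm

end Groth.Agent.ASp
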