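import Groth.Agent.ASp.ChartDim
import Groth.Prelude.Def_Flat
/-!
Local dimension along etale maps, and transfer of pointed chart properties along etale morphisms.
-/

set_option backward.isDefEq.respectTransparency false
set_option backward.isDefEq.respectTransparency.types false

universe u

open CategoryTheory CategoryTheory.Limits AlgebraicGeometry TopologicalSpace Topology

namespace Groth.Agent.ASp

open _root_.AlgSp

theorem topologicalKrullDim_image_of_etale {A B : Scheme.{u}} (t : A ⟶ B) [Etale t] (V : A.Opens) :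
    topologicalKrullDim (t '' (V : Set A)) = topologicalKrullDim (V : Set A) := by
  haveI : QuasiSober (V : Set A) := V.2.isOpenEmbedding_subtypeVal.quasiSober
  haveI : QuasiSober (t '' (V : Set A)) := (t.isOpenMap _ V.2).isOpenEmbedding_subtypeVal.quasiSober
  exact ((IsGenLift.restrict (isGenLift_of_etale t) t.isOpenMap V.2).topologicalKrullDim_eq (by
    rintro ⟨_, v, hv, rfl⟩; exact ⟨⟨v, hv⟩, rfl⟩)).symm

theorem localDim_eq_of_etale {A B : Scheme.{u}} (t : A ⟶ B) [Etale t] (a : ↥A) :
    FlatMor.localDim ↥B (t a) = FlatMor.localDim ↥A a := by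
  apply le_antisymm
  · refine le_iInf fun V => ?_
    refine iInf_le_of_le ⟨⟨t '' (V.1 : Set A), t.isOpenMap _ V.1.2⟩, a, V.2, rfl⟩ ?_
    exact (topologicalKrullDim_image_of_etale t V.1).le
  · refine le_iInf fun W => ?_
    refine iInf_le_of_le ⟨(TopologicalSpace.Opens.comap ⟨t, t.continuous⟩ W.1), W.2⟩ ?_
    refine (topologicalKrullDim_image_of_etale t (TopologicalSpace.Opens.comap ⟨t, t.continuous⟩ W.1)).ge.trans ?_
    exact IsInducing.topologicalKrullDim_le
      (IsEmbedding.inclusion (Set.image_preimage_subset t (W.1 : Set B))).isInducing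

variable {S : Scheme.{u}}

/-- A pointed property compatible with etale maps is transported by etale morphisms of spaces. -/
theorem hasAt_iff_of_etale {Q : ∀ U : Scheme.{u}, ↥U → Prop}
    (hQ : ∀ {A B : Scheme.{u}} (t : A ⟶ B) [Etale t] (a : ↥A), Q A a ↔ Q B (t a))
    {X Y : Sp S} (hX : IsAlgSpace X) {f : X ⟶ Y} (hf : IsEtaleMor f) (x : Points X) :
    HasAt Q X x ↔ HasAt Q Y (Points.map f x) := by
  constructor
  · rintro ⟨U, a, u, ha, rfl, h⟩
    exact ⟨U, a ≫ f, u, hf a ha, (Points.map_ofPt _ _ _).symm, h⟩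
  · rintro ⟨V, b, v, hb, hv, h⟩
    obtain ⟨U, a, ha, has⟩ := hX.atlas
    obtain ⟨u, hu⟩ := surjective_ofPt has x
    obtain ⟨P, t, s, r, ht, hs, -, htu, rfl⟩ :=
      exists_common_point (hf a ha) hb (u := u) (v := v) (by rw [hv, ← hu, Points.map_ofPt])
    exact ⟨U, a, u, ha, hu, by rw [← htu]; exact (hQ t.left r).1 ((hQ s.left r).2 h)⟩

end Groth.Agent.ASp
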