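import Groth.Agent.ASp.Smooth
import Groth.Agent.ASp.Source
import Groth.Agent.ASp.Sub
import Groth.Agent.ASp.EtLocal
import Groth.Prelude.Def_AlgSpDec
/-!
Etale local properties: one chart suffices, and the neighbourhood version at points.
-/

set_option autoImplicit false
set_option backward.isDefEq.respectTransparency false
set_option backward.isDefEq.respectTransparency.types false

universe u

open CategoryTheory CategoryTheory.Limits AlgebraicGeometry Opposite

namespace Groth.Agent.ASp

open _root_.AlgSp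

variable {S : Scheme.{u}}

theorem isEtLocal_of_list (P : MorphismProperty Scheme.{u})
    (hP : P = @LocallyOfFiniteType ∨ P = @LocallyOfFinitePresentation ∨ P = @Flat ∨ P = @Smooth ∨ P = @Etale ∨
      (∀ ⦃A B : Scheme.{u}⦄ (g : A ⟶ B), P g ↔ (LocallyQuasiFinite g ∧ LocallyOfFiniteType g)) ∨
      (∀ ⦃A B : Scheme.{u}⦄ (g : A ⟶ B), P g ↔ (LocallyOfFiniteType g ∧ FormallyUnramified g))) :
    IsEtLocal P ∧ IsZariskiLocalAtSource P := by
  rcases hP with rfl | rfl | rfl | rfl | rfl | h | h
  iterate 5 exact ⟨inferInstance, inferInstance⟩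
  · obtain rfl : P = (@LocallyQuasiFinite ⊓ @LocallyOfFiniteType : MorphismProperty Scheme.{u}) := by
      ext A B g; exact h g
    exact ⟨inferInstance, inferInstance⟩
  · obtain rfl : P = (@LocallyOfFiniteType ⊓ @FormallyUnramified : MorphismProperty Scheme.{u}) := by
      ext A B g; exact h g
    exact ⟨inferInstance, inferInstance⟩

variable {P : MorphismProperty Scheme.{u}} [IsEtLocal P]

/-- One chart with etale surjective source gives the property on all charts. -/
theorem locP_of_one_chart {X Y : Sp S} (hY : IsAlgSpace Y) {f : X ⟶ Y} {U V : Over S}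
    {a : (yon S).obj U ⟶ X} {b : (yon S).obj V ⟶ Y} {h : U ⟶ V} (ha : RepWith @Etale a)
    (has : RepWith @Surjective a) (hb : RepWith @Etale b) (comm : a ≫ f = (yon S).map h ≫ b) (hh : P h.left) :
    LocP P f := by
  refine locP_of_comp_chart hY ha has ?_
  rw [comm]
  exact locP_comp (IsAlgSpace.yon_obj V) (locP_of_repWith (repWith_yon_map hh))
    (locP_of_repWith (repWith_mono (fun _ _ g hg => IsEtLocal.etale_le g hg) hb))

/-- The neighbourhood form of a property at a point. -/
theorem hasAtMor_nbhd_iff {X Y : Space S} (f : X ⟶ Y) (x : Points X.obj) :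
    HasAtMor (fun U _ h u => ∃ W : U.Opens, u ∈ W ∧ P (W.ι ≫ h)) f.hom x ↔
      ∃ (X' : Space S) (j : X' ⟶ X), RepWith @IsOpenImmersion j.hom ∧
        x ∈ Set.range (Points.map j.hom) ∧ LocP P (j ≫ f).hom := by
  constructor
  · rintro ⟨U, V, a, b, h, u, ha, hb, e, rfl, W, huW, hW⟩
    let U' : Over S := Over.mk (W.ι ≫ U.hom)
    let i : U' ⟶ U := Over.homMk W.ι rfl
    let q := (yon S).map i ≫ a
    have hqe : RepWith @Etale q := repWith_comp (repWith_yon_map (inferInstanceAs (Etale W.ι))) ha
    let Ω : Set (Points X.obj) := Set.range (Points.ofPt q)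
    have hΩ : IsOpen Ω := (isOpenMap_ofPt_of_etale hqe).isOpen_range
    have hsub := repWith_subι X.obj Ω hΩ
    haveI : Mono (subι X.obj Ω) := mono_of_repWith (P := @IsOpenImmersion)
      (fun g hg => haveI : IsOpenImmersion g := hg; inferInstance) hsub
    obtain ⟨q', hq'⟩ := exists_lift_subι X.obj Ω q fun v => ⟨v, rfl⟩
    have sqq : IsPullback (𝟙 _) q' q (subι X.obj Ω) := IsPullback.of_isLimit' ⟨by rw [Category.id_comp, hq']⟩
      (PullbackCone.IsLimit.mk _ (fun s => s.fst) (fun s => Category.comp_id _)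
        (fun s => (cancel_mono (subι X.obj Ω)).1 (by rw [Category.assoc, hq']; exact s.condition))
        (fun s m e1 e2 => by rw [← e1, Category.comp_id]))
    have hq'e : RepWith @Etale q' := repWith_of_isPullback sqq hqe
    have hq's : RepWith @Surjective q' := by
      rw [repWith_surjective_iff hq'e.1]
      intro y
      obtain ⟨v, hv⟩ : Points.map (subι X.obj Ω) y ∈ Ω := (range_map_subι X.obj Ω).le ⟨y, rfl⟩
      refine ⟨Points.schemeHomeo U' v, ?_⟩
      apply injective_map_of_repWith (P := @IsOpenImmersion)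
        (fun g hg => haveI : IsOpenImmersion g := hg; g.isOpenEmbedding.injective) hsub
      rw [← Points.map_comp, hq', ← hv, ofPt_comp_eq_map]
      rfl
    refine ⟨⟨subSp X.obj Ω, isAlgSpace_subSp X.property hΩ⟩, ObjectProperty.homMk (subι X.obj Ω), hsub, ?_,
      locP_of_one_chart Y.property hq'e hq's hb (h := i ≫ h) ?_ hW⟩
    · change Points.ofPt a u ∈ Set.range (Points.map (subι X.obj Ω))
      rw [range_map_subι]
      exact ⟨⟨u, huW⟩, by rw [ofPt_yon_map_comp]; rfl⟩
    · change q' ≫ subι X.obj Ω ≫ f.hom = _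
      rw [reassoc_of% hq', Category.assoc, e, Functor.map_comp, Category.assoc]
  · rintro ⟨X', j, hj, ⟨x', rfl⟩, hP⟩
    obtain ⟨A, a, hae, has⟩ := X'.property.atlas
    obtain ⟨V, b, hbe, hbs⟩ := Y.property.atlas
    obtain ⟨U, p, h, hpe, hps, he, -⟩ := exists_etale_cover hbe hbs (a ≫ (j ≫ f).hom)
    obtain ⟨w, rfl⟩ := surjective_ofPt has x'
    obtain ⟨u, rfl⟩ := hps.surj w
    refine ⟨U, V, (yon S).map p ≫ a ≫ j.hom, b, h, u, repWith_comp (repWith_yon_map hpe)
      (repWith_comp hae (repWith_mono (fun _ _ g (hg : IsOpenImmersion g) => (inferInstance : Etale g)) hj)),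
      hbe, ?_, ?_, ⊤, trivial, ?_⟩
    · rw [he, Category.assoc, Category.assoc]; rfl
    · rw [ofPt_yon_map_comp, Points.map_ofPt]
    · refine P.comp_mem _ _ (IsEtLocal.etale_le _ inferInstance) ?_
      exact hP ((yon S).map p ≫ a) b h (repWith_comp (repWith_yon_map hpe) hae) hbe (by rw [he, Category.assoc])

end Groth.Agent.ASp
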