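import Groth.Agent.ASp.LocP
import Groth.Agent.ASp.Sub
import Groth.Agent.ASp.OneChart
import Groth.Prelude.Def_AlgSpMor6
/-!
Morphisms having a property etale locally on the source and target, for properties which are only
stable under flat base change.
-/

set_option autoImplicit false
set_option backward.isDefEq.respectTransparency false
set_option backward.isDefEq.respectTransparency.types false
set_option linter.style.haveILetI false

universe u

open CategoryTheory CategoryTheory.Limits AlgebraicGeometry Opposite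

namespace Groth.Agent.ASp.EtW

open _root_.AlgSp Groth.Agent.ASp

/-- Etale local properties which are stable under flat base change only. -/
class IsEtLocW (P : MorphismProperty Scheme.{u}) : Prop extends P.IsStableUnderComposition where
  etale_le : ∀ {X Y : Scheme.{u}} (f : X ⟶ Y), Etale f → P f
  of_precomp : ∀ {X Y Z : Scheme.{u}} (f : X ⟶ Y) (g : Y ⟶ Z), Etale f → Surjective f → P (f ≫ g) → P g
  of_postcomp : ∀ {X Y Z : Scheme.{u}} (f : X ⟶ Y) (g : Y ⟶ Z), Etale g → P (f ≫ g) → P f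
  flat_baseChange : ∀ {X Y X' Y' : Scheme.{u}} {f : X ⟶ Y} {g : Y' ⟶ Y} {f' : X' ⟶ Y'} {g' : X' ⟶ X},
    IsPullback g' f' f g → ∀ [Flat g], P f → P f'

variable {S : Scheme.{u}} {P : MorphismProperty Scheme.{u}} [IsEtLocW P]

/-- One chart suffices for `LocP`. -/
theorem locP_of_chart {F G : Sp S} {f : F ⟶ G} {U V : Over S} {a : (yon S).obj U ⟶ F}
    {b : (yon S).obj V ⟶ G} {h : U ⟶ V} (ha : RepWith @Etale a) (has : RepWith @Surjective a)
    (hb : RepWith @Etale b) (e : a ≫ f = (yon S).map h ≫ b) (hP : P h.left) : LocP P f := by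
  intro U' V' a' b' h' ha' hb' e'
  obtain ⟨W, w2, w1, hw2, hw2s, hW, hpb⟩ := exists_etale_cover ha has a'
  have hw1 : Etale w1.left := ha'.2 a _ _ hpb.flip
  refine IsEtLocW.of_precomp w2.left h'.left hw2 hw2s ?_
  obtain ⟨X, x1, x2, hX⟩ := exists_isPullback_yon hb.1 b'
  have hx2 : Etale x2.left := hb.2 b' _ _ hX
  have hx1 : Etale x1.left := hb'.2 b _ _ hX.flip
  obtain ⟨l, hl⟩ := (yon S).map_surjective (hX.lift ((yon S).map (w1 ≫ h)) ((yon S).map (w2 ≫ h')) (by
    rw [Functor.map_comp, Functor.map_comp, Category.assoc, Category.assoc, ← e, ← e',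
      reassoc_of% hW]))
  have h1 : l ≫ x1 = w1 ≫ h := (yon S).map_injective (by simp [hl])
  have h2 : l ≫ x2 = w2 ≫ h' := (yon S).map_injective (by simp [hl])
  have hl1 : P (l.left ≫ x1.left) := by
    rw [← Over.comp_left, h1, Over.comp_left]
    exact P.comp_mem _ _ (IsEtLocW.etale_le _ hw1) hP
  have : P (l.left ≫ x2.left) :=
    P.comp_mem _ _ (IsEtLocW.of_postcomp _ _ hx1 hl1) (IsEtLocW.etale_le _ hx2)
  rwa [← Over.comp_left, h2, Over.comp_left] at this

/-- Cancellation on the right for a pair of etale local properties. -/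
theorem locP_of_comp {Q : MorphismProperty Scheme.{u}}
    (hPQ : ∀ {X Y Z : Scheme.{u}} (f : X ⟶ Y) (g : Y ⟶ Z), P (f ≫ g) → Q g → P f)
    {F G H : Sp S} {f : F ⟶ G} {g : G ⟶ H} (hH : IsAlgSpace H)
    (hfg : LocP P (f ≫ g)) (hg : LocP Q g) : LocP P f := by
  intro U V a b h ha hb e
  obtain ⟨W₀, z, hze, hzs⟩ := hH.atlas
  obtain ⟨V₁, v, r, hve, hvs, hr, -⟩ := exists_etale_cover hze hzs (b ≫ g)
  have hU : IsPullback (pullback.fst h v) (pullback.snd h v) h v := IsPullback.of_hasPullback h v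
  have hu : Etale (pullback.fst h v).left :=
    MorphismProperty.of_isPullback (P := @Etale) (isPullback_left hU).flip hve
  refine IsEtLocW.of_precomp (pullback.fst h v).left h.left hu
    (MorphismProperty.of_isPullback (P := @Surjective) (isPullback_left hU).flip hvs) ?_
  rw [← Over.comp_left, hU.w, Over.comp_left]
  refine P.comp_mem _ _ (hPQ _ r.left ?_ ?_) (IsEtLocW.etale_le _ hve)
  · rw [← Over.comp_left]
    refine hfg ((yon S).map (pullback.fst h v) ≫ a) z _ (repWith_comp (repWith_yon_map hu) ha) hze ?_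
    rw [Functor.map_comp, Category.assoc, Category.assoc, hr, reassoc_of% e, ← Functor.map_comp_assoc,
      hU.w, Functor.map_comp_assoc]
  · exact hg ((yon S).map v ≫ b) z r (repWith_comp (repWith_yon_map hve) hb) hze
      (by rw [Category.assoc, hr])

theorem locP_of_isPullback {X Y Z T : Sp S} {f : X ⟶ Y} {g : Z ⟶ Y} {fst : T ⟶ Z} {snd : T ⟶ X}
    (h : IsPullback fst snd g f) (hX : IsAlgSpace X) (hY : IsAlgSpace Y) (hZ : IsAlgSpace Z)
    (hg : LocP @Flat g) (hf : LocP P f) : LocP P fst := by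
  obtain ⟨X₀, x₀, hxe, hxs⟩ := hX.atlas
  obtain ⟨Y₀, y₀, hye, hys⟩ := hY.atlas
  obtain ⟨Z₀, z₀, hze, hzs⟩ := hZ.atlas
  obtain ⟨Z₁, cz, r, hcze, hczs, hr, -⟩ := exists_etale_cover hye hys (z₀ ≫ g)
  have hr' : (yon S).map r ≫ y₀ = ((yon S).map cz ≫ z₀) ≫ g := by rw [hr, Category.assoc]
  set z₁ := (yon S).map cz ≫ z₀
  have hz₁e : RepWith @Etale z₁ := repWith_comp (repWith_yon_map hcze) hze
  have hz₁s : RepWith @Surjective z₁ := repWith_comp (repWith_yon_map hczs) hzs
  obtain ⟨X', i, j, hX'⟩ : ∃ (X' : Sp S) (i : X' ⟶ X) (j : X' ⟶ (yon S).obj Y₀),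
      IsPullback i j f y₀ := ⟨_, _, _, IsPullback.of_hasPullback f y₀⟩
  obtain ⟨X₁, q, p, hX₁⟩ := exists_isPullback_yon hye.1 (x₀ ≫ f)
  have hpe : Etale p.left := hye.2 _ _ _ hX₁
  have hPq : P q.left := hf ((yon S).map p ≫ x₀) y₀ q (repWith_comp (repWith_yon_map hpe) hxe) hye
    (by rw [Category.assoc]; exact hX₁.w.symm)
  obtain ⟨x₁, hx₁i, hx₁j⟩ : ∃ l : (yon S).obj X₁ ⟶ X', l ≫ i = (yon S).map p ≫ x₀ ∧
      l ≫ j = (yon S).map q :=
    ⟨hX'.lift _ _ (by rw [Category.assoc]; exact hX₁.w.symm), hX'.lift_fst _ _ _, hX'.lift_snd _ _ _⟩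
  have hX₁' : IsPullback ((yon S).map p) x₁ x₀ i := by
    refine IsPullback.of_bot (h₃₁ := y₀) (v₂₁ := j) (v₂₂ := f) ?_ hx₁i.symm hX'
    rw [hx₁j]
    exact hX₁.flip
  obtain ⟨T₀, c, d, hT₀⟩ : ∃ (T₀ : Sp S) (c : T₀ ⟶ T) (d : T₀ ⟶ (yon S).obj Z₁),
      IsPullback c d fst z₁ := ⟨_, _, _, IsPullback.of_hasPullback fst z₁⟩
  have hbig : IsPullback (c ≫ snd) d f (z₁ ≫ g) := hT₀.paste_horiz h.flip
  obtain ⟨e, hei, hej⟩ : ∃ l : T₀ ⟶ X', l ≫ i = c ≫ snd ∧ l ≫ j = d ≫ (yon S).map r :=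
    ⟨hX'.lift _ _ (by rw [hbig.w, Category.assoc d _ y₀, hr']), hX'.lift_fst _ _ _, hX'.lift_snd _ _ _⟩
  have hT₀' : IsPullback e d j ((yon S).map r) := by
    refine IsPullback.of_right (h₁₂ := i) (v₁₃ := f) (h₂₂ := y₀) ?_ hej hX'
    rw [hei, hr']
    exact hbig
  have hM0 : IsPullback (pullback.fst q r) (pullback.snd q r) q r := IsPullback.of_hasPullback q r
  have hM := isPullback_yon_map hM0
  obtain ⟨m, hme, hmd⟩ : ∃ l, l ≫ e = (yon S).map (pullback.fst q r) ≫ x₁ ∧
      l ≫ d = (yon S).map (pullback.snd q r) :=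
    ⟨hT₀'.lift _ _ (by rw [Category.assoc, hx₁j, hM.w]), hT₀'.lift_fst _ _ _, hT₀'.lift_snd _ _ _⟩
  have hM' : IsPullback ((yon S).map (pullback.fst q r)) m x₁ e := by
    refine IsPullback.of_bot (h₃₁ := (yon S).map r) (v₂₁ := d) (v₂₂ := j) ?_ hme.symm hT₀'
    rw [hmd, hx₁j]
    exact hM
  refine locP_of_chart (a := m ≫ c) (b := z₁) (h := pullback.snd q r) ?_ ?_ hz₁e ?_ ?_
  · exact repWith_comp (repWith_of_isPullback hM' (repWith_of_isPullback hX₁' hxe))
      (repWith_of_isPullback hT₀.flip hz₁e)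
  · exact repWith_comp (repWith_of_isPullback hM' (repWith_of_isPullback hX₁' hxs))
      (repWith_of_isPullback hT₀.flip hz₁s)
  · rw [Category.assoc, hT₀.w, reassoc_of% hmd]
  · haveI : Flat r.left := hg z₁ y₀ r hz₁e hye hr'.symm
    exact IsEtLocW.flat_baseChange (isPullback_left hM0) hPq

/-- The neighbourhood form of a property at a point, read in a chart. -/
theorem locPNear_iff_of_chart {X Y : Sp S} (hX : IsAlgSpace X) {f : X ⟶ Y} {U V : Over S}
    {a : (yon S).obj U ⟶ X} {b : (yon S).obj V ⟶ Y} {h : U ⟶ V} (ha : RepWith @Etale a)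
    (hb : RepWith @Etale b) (e : a ≫ f = (yon S).map h ≫ b) (u : ↥U.left) :
    LocPNear P f (Points.ofPt a u) ↔ ∃ W : U.left.Opens, u ∈ W ∧ P (W.ι ≫ h.left) := by
  constructor
  · rintro ⟨W₀, j, hj, ⟨w, hw⟩, hP⟩
    obtain ⟨U₁, i, a₁, sq⟩ : ∃ (U₁ : Over S) (i : U₁ ⟶ U) (a₁ : (yon S).obj U₁ ⟶ W₀),
        IsPullback a₁ ((yon S).map i) j a :=
      ⟨hj.1.pullback a, hj.1.snd a, hj.1.fst a, hj.1.isPullback a⟩
    haveI : IsOpenImmersion i.left := hj.2 a _ _ sq
    have ha₁ : RepWith @Etale a₁ := repWith_of_isPullback sq.flip ha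
    obtain ⟨v₁, -, hv₁⟩ := points_exists_of_isPullback sq w (Points.ofScheme U u)
      (by rw [hw, Points.ofPt_eq_map_ofScheme])
    obtain ⟨v, rfl⟩ := (Points.schemeHomeo U₁).surjective v₁
    refine ⟨i.left.opensRange, ⟨v, ?_⟩, ?_⟩
    · apply (Points.schemeHomeo U).injective
      rw [Points.map_yon_map_apply] at hv₁
      exact hv₁
    · rw [← i.left.isoOpensRange_inv_comp, Category.assoc]
      refine P.comp_mem _ _ (IsEtLocW.etale_le _ inferInstance) ?_
      rw [← Over.comp_left]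
      exact hP a₁ b (i ≫ h) ha₁ hb (by rw [reassoc_of% sq.w, e, Functor.map_comp, Category.assoc])
  · rintro ⟨W, huW, hW⟩
    let U' : Over S := Over.mk (W.ι ≫ U.hom)
    let i : U' ⟶ U := Over.homMk W.ι rfl
    let q := (yon S).map i ≫ a
    have hqe : RepWith @Etale q := repWith_comp (repWith_yon_map (inferInstanceAs (Etale W.ι))) ha
    let Ω : Set (Points X) := Set.range (Points.ofPt q)
    have hΩ : IsOpen Ω := (isOpenMap_ofPt_of_etale hqe).isOpen_range
    have hsub := repWith_subι X Ω hΩ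
    haveI : Mono (subι X Ω) := mono_of_repWith (P := @IsOpenImmersion)
      (fun g hg => haveI : IsOpenImmersion g := hg; inferInstance) hsub
    obtain ⟨q', hq'⟩ := exists_lift_subι X Ω q fun v => ⟨v, rfl⟩
    have sqq : IsPullback (𝟙 _) q' q (subι X Ω) := IsPullback.of_isLimit' ⟨by rw [Category.id_comp, hq']⟩
      (PullbackCone.IsLimit.mk _ (fun s => s.fst) (fun s => Category.comp_id _)
        (fun s => (cancel_mono (subι X Ω)).1 (by rw [Category.assoc, hq']; exact s.condition))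
        (fun s m e1 e2 => by rw [← e1, Category.comp_id]))
    have hq'e : RepWith @Etale q' := repWith_of_isPullback sqq hqe
    have hq's : RepWith @Surjective q' := by
      rw [repWith_surjective_iff hq'e.1]
      intro y
      obtain ⟨v, hv⟩ : Points.map (subι X Ω) y ∈ Ω := (range_map_subι X Ω).le ⟨y, rfl⟩
      refine ⟨Points.schemeHomeo U' v, ?_⟩
      apply injective_map_of_repWith (P := @IsOpenImmersion)
        (fun g hg => haveI : IsOpenImmersion g := hg; g.isOpenEmbedding.injective) hsub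
      rw [← Points.map_comp, hq', ← hv, ofPt_comp_eq_map]
      rfl
    refine ⟨subSp X Ω, subι X Ω, hsub, ?_,
      locP_of_chart hq'e hq's hb (h := i ≫ h) ?_ hW⟩
    · rw [range_map_subι]
      exact ⟨⟨u, huW⟩, by rw [ofPt_yon_map_comp]; rfl⟩
    · rw [reassoc_of% hq', Category.assoc, e, Functor.map_comp, Category.assoc]

/-- A property local on the source holds iff it holds near every point. -/
theorem locP_iff_forall_locPNear [IsZariskiLocalAtSource P] {X Y : Sp S} (hX : IsAlgSpace X) {f : X ⟶ Y} :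
    LocP P f ↔ ∀ x, LocPNear P f x := by
  refine ⟨fun h x => ⟨X, 𝟙 X, repWith_of_isIso _, ⟨x, Points.map_id _⟩, by rwa [Category.id_comp]⟩,
    fun h U V a b k ha hb e => ?_⟩
  choose W hW hPW using fun u => (locPNear_iff_of_chart hX ha hb e u).1 (h _)
  exact (IsZariskiLocalAtSource.iff_of_iSup_eq_top (P := P) W
    (top_le_iff.1 fun x _ => TopologicalSpace.Opens.mem_iSup.2 ⟨x, hW x⟩)).2 hPW

/-- The locus where a morphism has a property near the point is open. -/
theorem isOpen_locPNear {Q : MorphismProperty Scheme.{u}} {X Y : Sp S} (f : X ⟶ Y) :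
    IsOpen {x | LocPNear Q f x} := by
  refine isOpen_iff_forall_mem_open.2 fun x ⟨W, j, hj, hx, hP⟩ => ⟨Set.range (Points.map j),
    fun y hy => ⟨W, j, hj, hy, hP⟩, ?_, hx⟩
  exact (isOpenMap_map_of_repWith (fun g hg => by haveI : IsOpenImmersion g := hg; exact g.isOpenEmbedding.isOpenMap) hj).isOpen_range

end Groth.Agent.ASp.EtW
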