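import Groth.Agent.ASp.SoberTop
import Groth.Agent.Unibranch.Open

/-!
A separated etale morphism with finite fibres is quasi-compact over some affine open meeting a given closed set.
-/

universe u

open CategoryTheory CategoryTheory.Limits AlgebraicGeometry TopologicalSpace Topology

namespace Groth.Agent.ASp.SepEtale

/-- The complement of the diagonal in `R ×[W] R`. -/
noncomputable def offDiag {R W : Scheme.{u}} (s : R ⟶ W) : (pullback s s).Opens :=
  ⟨(closure (Set.range (pullback.diagonal s)))ᶜ, isClosed_closure.isOpen_compl⟩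

/-- The second projection from the complement of the diagonal. -/
noncomputable def offSnd {R W : Scheme.{u}} (s : R ⟶ W) : (offDiag s).toScheme ⟶ R :=
  (offDiag s).ι ≫ pullback.snd s s

instance {R W : Scheme.{u}} (s : R ⟶ W) [Etale s] : Etale (offSnd s) := by
  unfold offSnd; infer_instance

instance {R W : Scheme.{u}} (s : R ⟶ W) [IsSeparated s] : IsSeparated (offSnd s) := by
  unfold offSnd; infer_instance

theorem isClosed_range_diagonal {R W : Scheme.{u}} (s : R ⟶ W) [IsSeparated s] :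
    IsClosed (Set.range (pullback.diagonal s)) :=
  (pullback.diagonal s).isClosedEmbedding.isClosed_range

theorem mem_offDiag {R W : Scheme.{u}} (s : R ⟶ W) [IsSeparated s] {x : ↥(pullback s s)} :
    x ∈ offDiag s ↔ x ∉ Set.range (pullback.diagonal s) := by
  change x ∈ (closure _)ᶜ ↔ _
  rw [(isClosed_range_diagonal s).closure_eq, Set.mem_compl_iff]

/-- The points over which there are at least `n + 1` geometric points. -/
noncomputable def bound : ℕ → ∀ {R W : Scheme.{u}}, (R ⟶ W) → Set ↥W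
  | 0, _, _, s => Set.range s
  | n + 1, _, _, s => s '' bound n (offSnd s)

theorem isOpen_bound : ∀ (n : ℕ) {R W : Scheme.{u}} (s : R ⟶ W) [Etale s], IsOpen (bound n s)
  | 0, _, _, s, _ => by simpa [bound] using s.isOpenMap.isOpen_range
  | n + 1, _, _, s, _ => s.isOpenMap _ (isOpen_bound n (offSnd s))

theorem bound_subset_range : ∀ (n : ℕ) {R W : Scheme.{u}} (s : R ⟶ W), bound n s ⊆ Set.range s
  | 0, _, _, _ => subset_rfl
  | _ + 1, _, _, _ => Set.image_subset_range _ _

section Geometric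

variable {R W : Scheme.{u}} {K : Type u} [Field K]

theorem discrete_fibre (s : R ⟶ W) [Etale s] (φ : Spec (CommRingCat.of K) ⟶ W) :
    DiscreteTopology ↥(pullback s φ) := by
  haveI : Etale (pullback.snd s φ) := inferInstance
  haveI := Groth.Agent.Unibranch.locallyQuasiFinite_of_etale (pullback.snd s φ)
  haveI : Subsingleton ↥(Spec (CommRingCat.of K)) := inferInstance
  have h := (pullback.snd s φ).isDiscrete_preimage_singleton (IsLocalRing.closedPoint K)
  exact isDiscrete_univ_iff.1 (h.mono fun x _ => Subsingleton.elim (α := ↥(Spec (CommRingCat.of K))) _ _)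

/-- Geometric points lift to every point of the fibre. -/
theorem exists_lift_point [IsAlgClosed K] (s : R ⟶ W) [Etale s] (φ : Spec (CommRingCat.of K) ⟶ W) (r : ↥R)
    (hr : s r = φ (IsLocalRing.closedPoint K)) :
    ∃ ψ : Spec (CommRingCat.of K) ⟶ R, ψ ≫ s = φ ∧ ψ (IsLocalRing.closedPoint K) = r := by
  obtain ⟨p, hp, -⟩ := Scheme.Pullback.exists_preimage_pullback (f := s) (g := φ) r _ hr
  haveI := discrete_fibre s φ
  refine ⟨pointOfClosedPoint (pullback.snd s φ) p (isClosed_discrete _) ≫ pullback.fst s φ, ?_, ?_⟩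
  · rw [Category.assoc, pullback.condition, ← Category.assoc, pointOfClosedPoint_comp, Category.id_comp]
  · rw [Scheme.Hom.comp_apply, pointOfClosedPoint_apply, hp]

theorem exists_distinct_points [IsAlgClosed K] : ∀ (n : ℕ) {R W : Scheme.{u}} (s : R ⟶ W) [Etale s]
    [IsSeparated s] (φ : Spec (CommRingCat.of K) ⟶ W), φ (IsLocalRing.closedPoint K) ∈ bound n s →
    ∃ g : Fin (n + 1) → (Spec (CommRingCat.of K) ⟶ R), Function.Injective g ∧ ∀ i, g i ≫ s = φ
  | 0, _, _, s, _, _, φ, h => by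
    obtain ⟨r, hr⟩ := h
    obtain ⟨ψ, hψ, -⟩ := exists_lift_point s φ r hr
    exact ⟨fun _ => ψ, fun i j _ => Fin.ext (by omega), fun _ => hψ⟩
  | n + 1, _, _, s, _, _, φ, h => by
    obtain ⟨r, hr, hsr⟩ := h
    obtain ⟨ψ, hψ, hψr⟩ := exists_lift_point s φ r hsr
    obtain ⟨g, hg, hgs⟩ := exists_distinct_points n (offSnd s) ψ (hψr ▸ hr)
    have hg2 : ∀ i, g i ≫ (offDiag s).ι ≫ pullback.snd s s = ψ := hgs
    have hne : ∀ i, g i ≫ (offDiag s).ι ≫ pullback.fst s s ≠ ψ := by
      intro i hi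
      have e : g i ≫ (offDiag s).ι = ψ ≫ pullback.diagonal s := by
        ext1
        · simp [hi]
        · simp [hg2 i]
      have hmem : (offDiag s).ι (g i (IsLocalRing.closedPoint K)) ∈ Set.range (pullback.diagonal s) :=
        ⟨ψ (IsLocalRing.closedPoint K), by rw [← Scheme.Hom.comp_apply, ← Scheme.Hom.comp_apply, e]⟩
      exact (mem_offDiag s).1 (g i (IsLocalRing.closedPoint K)).2 hmem
    refine ⟨Fin.cons ψ fun i => g i ≫ (offDiag s).ι ≫ pullback.fst s s, ?_, ?_⟩
    · rw [Fin.cons_injective_iff]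
      refine ⟨by rintro ⟨i, hi⟩; exact hne i hi, fun i j hij => hg ?_⟩
      dsimp only at hij
      rw [← cancel_mono (offDiag s).ι]
      ext1
      · simpa using hij
      · simp [hg2 i, hg2 j]
    · intro i
      refine Fin.cases ?_ (fun j => ?_) i
      · simpa using hψ
      · simp only [Fin.cons_succ, Category.assoc, pullback.condition]
        rw [← hψ, ← hg2 j]; simp

/-- A quasi-compact fibre bounds the number of geometric points. -/
theorem exists_not_mem_bound [IsAlgClosed K] (s : R ⟶ W) [Etale s] [IsSeparated s]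
    (φ : Spec (CommRingCat.of K) ⟶ W) [CompactSpace ↥(pullback s φ)] :
    ∃ n, φ (IsLocalRing.closedPoint K) ∉ bound n s := by
  by_contra! h
  haveI := discrete_fibre s φ
  haveI : Finite ↥(pullback s φ) := finite_of_compact_of_discrete
  haveI : Finite {p : Spec (CommRingCat.of K) ⟶ pullback s φ // p ≫ pullback.snd s φ = 𝟙 _} :=
    Finite.of_equiv _ (pointEquivClosedPoint (pullback.snd s φ)).symm
  haveI : Finite {g : Spec (CommRingCat.of K) ⟶ R // g ≫ s = φ} :=
    Finite.of_injective (β := {p : Spec (CommRingCat.of K) ⟶ pullback s φ // p ≫ pullback.snd s φ = 𝟙 _})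
      (fun g => ⟨pullback.lift g.1 (𝟙 _) (by rw [g.2, Category.id_comp]), pullback.lift_snd _ _ _⟩)
      (fun g g' e => Subtype.ext (by
        have := congrArg (fun p => p.1 ≫ pullback.fst s φ) e
        exact (pullback.lift_fst _ _ _).symm.trans (this.trans (pullback.lift_fst _ _ _))))
  obtain ⟨g, hg, hgs⟩ := exists_distinct_points _ s φ (h (Nat.card {g : Spec (CommRingCat.of K) ⟶ R // g ≫ s = φ}))
  have := Nat.card_le_card_of_injective (fun i => (⟨g i, hgs i⟩ : {g : Spec (CommRingCat.of K) ⟶ R // g ≫ s = φ}))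
    (fun i j e => hg (congrArg Subtype.val e))
  simp at this

end Geometric

/-- If at most `n` geometric points lie over each point of `Z ∩ O₀`, then `s` is quasi-compact over
some affine open meeting `Z`. -/
theorem exists_compact_of_disjoint : ∀ (n : ℕ) {R W : Scheme.{u}} (s : R ⟶ W) [Etale s] [IsSeparated s]
    (Z : Set ↥W), IsClosed Z → ∀ (O₀ : W.Opens), IsAffineOpen O₀ → (Z ∩ O₀ : Set ↥W).Nonempty →
    Disjoint (bound n s) (Z ∩ O₀) →
    ∃ O : W.Opens, IsAffineOpen O ∧ O ≤ O₀ ∧ (Z ∩ O : Set ↥W).Nonempty ∧ IsCompact (s ⁻¹' (Z ∩ O)) := by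
  intro n
  induction n with
  | zero =>
    intro R W s _ _ Z hZ O₀ hO₀ hne hd
    refine ⟨O₀, hO₀, le_rfl, hne, ?_⟩
    rw [Set.preimage_eq_empty_iff.2 hd.symm]
    exact isCompact_empty
  | succ n ih =>
    intro R W s _ _ Z hZ O₀ hO₀ hne hd
    by_cases hr : ∃ r, s r ∈ Z ∩ (O₀ : Set ↥W)
    swap
    · refine ⟨O₀, hO₀, le_rfl, hne, ?_⟩
      rw [show s ⁻¹' (Z ∩ (O₀ : Set ↥W)) = ∅ from Set.eq_empty_of_forall_notMem fun r h => hr ⟨r, h⟩]
      exact isCompact_empty
    obtain ⟨r, hrZ, hrO⟩ := hr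
    obtain ⟨V, hV, hrV, hVle⟩ := exists_isAffineOpen_mem_and_subset (x := r) (U := s ⁻¹ᵁ O₀) hrO
    obtain ⟨V', hV', hV'le, hne', hcpt⟩ := ih (offSnd s) (s ⁻¹' Z) (hZ.preimage s.continuous) V hV
      ⟨r, hrZ, hrV⟩ (Set.disjoint_left.2 fun x hx hx' =>
        Set.disjoint_left.1 hd ⟨x, hx, rfl⟩ ⟨hx'.1, hVle hx'.2⟩)
    -- the whole preimage in `R ×[W] R` is compact
    set P := pullback s s
    have hC : IsCompact ((pullback.snd s s) ⁻¹' (s ⁻¹' Z ∩ (V' : Set ↥R))) := by
      have hK : IsCompact (s ⁻¹' Z ∩ (V' : Set ↥R)) :=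
        hV'.isCompact.inter_left (hZ.preimage s.continuous)
      have e : (pullback.snd s s) ⁻¹' (s ⁻¹' Z ∩ (V' : Set ↥R)) =
          (offDiag s).ι '' (offSnd s ⁻¹' (s ⁻¹' Z ∩ (V' : Set ↥R))) ∪
            pullback.diagonal s '' (s ⁻¹' Z ∩ (V' : Set ↥R)) := by
        ext p
        constructor
        · intro hp
          by_cases hpd : p ∈ Set.range (pullback.diagonal s)
          · obtain ⟨v, rfl⟩ := hpd
            refine Or.inr ⟨v, ?_, rfl⟩
            rw [Set.mem_preimage, ← Scheme.Hom.comp_apply, pullback.diagonal_snd] at hp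
            exact hp
          · exact Or.inl ⟨⟨p, (mem_offDiag s).2 hpd⟩, hp, rfl⟩
        · rintro (⟨q, hq, rfl⟩ | ⟨v, hv, rfl⟩)
          · exact hq
          · rw [Set.mem_preimage, ← Scheme.Hom.comp_apply, pullback.diagonal_snd]
            exact hv
      rw [e]
      exact (hcpt.image (offDiag s).ι.continuous).union (hK.image (pullback.diagonal s).continuous)
    -- choose a basic open of `O₀` inside the image of `V'`
    obtain ⟨v, hvZ, hvV⟩ := hne'
    have hopen : IsOpen (s '' (V' : Set ↥R)) := s.isOpenMap _ V'.isOpen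
    obtain ⟨f, hfle, hvf⟩ := hO₀.exists_basicOpen_le (V := ⟨_, hopen⟩ ⊓ O₀)
      ⟨s v, ⟨v, hvV, rfl⟩, hVle (hV'le hvV)⟩ (hVle (hV'le hvV))
    refine ⟨W.basicOpen f, hO₀.basicOpen f, W.basicOpen_le f, ⟨s v, hvZ, hvf⟩, ?_⟩
    have hle : V' ≤ s ⁻¹ᵁ O₀ := hV'le.trans hVle
    let g : Γ(R, V') := R.presheaf.map (homOfLE hle).op (s.app O₀ f)
    let g' : Γ(P, pullback.snd s s ⁻¹ᵁ V') := (pullback.snd s s).app V' g
    have hC' := isCompact_inter_basicOpen (F := (pullback.snd s s) ⁻¹' (s ⁻¹' Z))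
      ((hZ.preimage s.continuous).preimage (pullback.snd s s).continuous)
      (U := pullback.snd s s ⁻¹ᵁ V') hC g'
    convert hC'.image (pullback.fst s s).continuous using 1
    have hbo : ∀ p : ↥P, p ∈ P.basicOpen g' ↔
        pullback.snd s s p ∈ V' ∧ s (pullback.snd s s p) ∈ W.basicOpen f := fun p => by
      simp only [g', g, ← Scheme.preimage_basicOpen, Scheme.Hom.mem_preimage, Scheme.basicOpen_res]
      exact Iff.rfl
    ext x
    constructor
    · rintro ⟨hxZ, hxf⟩
      obtain ⟨w, hwV, hw⟩ := (hfle hxf).1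
      obtain ⟨p, hp1, hp2⟩ := Scheme.Pullback.exists_preimage_pullback (f := s) (g := s) x w hw.symm
      refine ⟨p, ⟨?_, (hbo p).2 ⟨hp2 ▸ hwV, by rw [hp2, hw]; exact hxf⟩⟩, hp1⟩
      change s (pullback.snd s s p) ∈ Z
      rw [hp2, hw]; exact hxZ
    · rintro ⟨p, ⟨hpZ, hpf⟩, rfl⟩
      have e : s (pullback.fst s s p) = s (pullback.snd s s p) := by
        rw [← Scheme.Hom.comp_apply, pullback.condition, Scheme.Hom.comp_apply]
      change s (pullback.fst s s p) ∈ Z ∩ _
      rw [e]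
      exact ⟨hpZ, ((hbo p).1 hpf).2⟩

/-- A separated etale morphism with quasi-compact geometric fibres is quasi-compact over some affine
open meeting a given closed set. -/
theorem exists_compact {R W : Scheme.{u}} (s : R ⟶ W) [Etale s] [IsSeparated s] (Z : Set ↥W) (hZ : IsClosed Z)
    (O₀ : W.Opens) (hO₀ : IsAffineOpen O₀) (hne : (Z ∩ O₀ : Set ↥W).Nonempty)
    (hfib : ∀ (K : Type u) [Field K] (φ : Spec (CommRingCat.of K) ⟶ W), CompactSpace ↥(pullback s φ)) :
    ∃ O : W.Opens, IsAffineOpen O ∧ O ≤ O₀ ∧ (Z ∩ O : Set ↥W).Nonempty ∧ IsCompact (s ⁻¹' (Z ∩ O)) := by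
  classical
  by_contra hcon
  have hstep : ∀ (n : ℕ) (O : W.Opens), IsAffineOpen O ∧ O ≤ O₀ ∧ (Z ∩ O : Set ↥W).Nonempty →
      ∃ O' : W.Opens, (IsAffineOpen O' ∧ O' ≤ O₀ ∧ (Z ∩ O' : Set ↥W).Nonempty) ∧ O' ≤ O ∧
        (O' : Set ↥W) ⊆ bound n s := by
    rintro n O ⟨hO, hle, hne⟩
    obtain ⟨z, hzT, hzZ, hzO⟩ : (bound n s ∩ (Z ∩ (O : Set ↥W))).Nonempty := by
      rw [← Set.not_disjoint_iff_nonempty_inter]
      intro hd
      obtain ⟨O', h1, h2, h3, h4⟩ := exists_compact_of_disjoint n s Z hZ O hO hne hd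
      exact hcon ⟨O', h1, h2.trans hle, h3, h4⟩
    obtain ⟨O', hO', hzO', hle'⟩ := exists_isAffineOpen_mem_and_subset (x := z)
      (U := (⟨bound n s, isOpen_bound n s⟩ : W.Opens) ⊓ O) ⟨hzT, hzO⟩
    exact ⟨O', ⟨hO', fun x hx => hle (hle' hx).2, z, hzZ, hzO'⟩, fun x hx => (hle' hx).2,
      fun x hx => (hle' hx).1⟩
  choose next hnext hnextle hnextT using hstep
  let D : ℕ → {O : W.Opens // IsAffineOpen O ∧ O ≤ O₀ ∧ (Z ∩ O : Set ↥W).Nonempty} :=
    fun n => Nat.rec ⟨O₀, hO₀, le_rfl, hne⟩ (fun m O => ⟨next m O.1 O.2, hnext m O.1 O.2⟩) n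
  have hmono : Antitone fun n => (D n).1 := antitone_nat_of_succ_le fun n => hnextle n (D n).1 (D n).2
  haveI : IsAffine O₀.toScheme := hO₀
  obtain ⟨w, hw⟩ := exists_forall_mem_of_constructible (X := ↥O₀.toScheme)
    (fun n => O₀.ι ⁻¹' (Z ∩ ((D n).1 : Set ↥W))) (fun n => by
      refine isClosed_constructible_of_inter (hZ.preimage O₀.ι.continuous)
        ((D n).1.isOpen.preimage O₀.ι.continuous) ?_
      refine IsCompact.inter_left ?_ (hZ.preimage O₀.ι.continuous)
      rw [O₀.ι.isOpenEmbedding.isEmbedding.isCompact_iff]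
      change IsCompact (O₀.ι '' (O₀.ι ⁻¹' ((D n).1 : Set ↥W)))
      rw [Set.image_preimage_eq_inter_range, Scheme.Opens.range_ι,
        Set.inter_eq_left.2 (show ((D n).1 : Set ↥W) ⊆ O₀ from (D n).2.2.1)]
      exact (D n).2.1.isCompact)
    (fun t => by
      obtain ⟨z, hzZ, hzD⟩ := (D (t.sup id)).2.2.2
      exact ⟨⟨z, (D (t.sup id)).2.2.1 hzD⟩, fun i hi => ⟨hzZ, hmono (Finset.le_sup (f := id) hi) hzD⟩⟩)
  let z : ↥W := O₀.ι w
  let φ : Spec (CommRingCat.of (AlgebraicClosure (W.residueField z))) ⟶ W :=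
    Spec.map (CommRingCat.ofHom (algebraMap (W.residueField z) (AlgebraicClosure (W.residueField z)))) ≫
      W.fromSpecResidueField z
  haveI := hfib _ φ
  obtain ⟨n, hn⟩ := exists_not_mem_bound s φ
  refine hn ?_
  have : φ (IsLocalRing.closedPoint _) = z := by
    simp only [φ, Scheme.Hom.comp_apply]
    exact Scheme.fromSpecResidueField_apply _ _
  rw [this]
  exact hnextT n (D n).1 (D n).2 (hw (n + 1)).2

end Groth.Agent.ASp.SepEtale
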