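import Groth.Agent.ASp.Basic
import Groth.Agent.ASp.LocP
import Groth.Agent.ASp.SepEtale
import Groth.Prelude.Def_AlgSpOX3
import Mathlib.CategoryTheory.Sites.Point.Basic
/-!
Étale neighbourhoods of a geometric point of an algebraic space.
-/

set_option autoImplicit false
set_option backward.isDefEq.respectTransparency false
set_option backward.isDefEq.respectTransparency.types false

universe u

open CategoryTheory CategoryTheory.Limits AlgebraicGeometry Opposite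

namespace Groth.Agent.ASp

open _root_.AlgSp

variable {S : Scheme.{u}} {X : Sp S}

/-- A lift of the point along an open or étale map of neighbourhoods. -/
theorem exists_liftsTo_of_mem_range {p : FieldPt X} (hp : p.IsGeometric) {E E' : EtOver X} (g : E' ⟶ E)
    (u : (FieldPt.liftsTo p).obj E)
    (h : u.1.left (IsLocalRing.closedPoint p.K) ∈ Set.range g.hom.left.left) :
    ∃ u' : (FieldPt.liftsTo p).obj E', (FieldPt.liftsTo p).map g u' = u := by
  haveI : IsAlgClosed p.K := hp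
  haveI := EtOver.etale_left g
  obtain ⟨r, hr⟩ := h
  obtain ⟨ψ, hψ, -⟩ := SepEtale.exists_lift_point g.hom.left.left u.1.left r hr
  let v : p.pt ⟶ E'.obj.left := Over.homMk ψ (by
    show ψ ≫ E'.obj.left.hom = p.str
    rw [← Over.w g.hom.left, reassoc_of% hψ]
    exact Over.w u.1)
  have hv : v ≫ g.hom.left = u.1 := Over.OverMorphism.ext hψ
  refine ⟨⟨v, ?_⟩, Subtype.ext hv⟩
  rw [← EtOver.w g, ← Category.assoc, ← Functor.map_comp, hv]
  exact u.2

theorem exists_liftsTo_of_mem_etPre {p : FieldPt X} (hp : p.IsGeometric) {E : EtOver X} {R : Presieve E}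
    (hR : R ∈ etPre X E) (u : (FieldPt.liftsTo p).obj E) :
    ∃ (E' : EtOver X) (g : E' ⟶ E) (_ : R g) (u' : (FieldPt.liftsTo p).obj E'),
      (FieldPt.liftsTo p).map g u' = u := by
  obtain ⟨ι, Y, g, rfl⟩ := Presieve.exists_eq_ofArrows R
  obtain ⟨i, hi⟩ := (ofArrows_mem_etPre_iff Y g).1 hR (u.1.left (IsLocalRing.closedPoint p.K))
  obtain ⟨u', hu'⟩ := exists_liftsTo_of_mem_range hp (g i) u hi
  exact ⟨_, g i, ⟨i⟩, u', hu'⟩

/-- Étale neighbourhoods exist. -/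
theorem nonempty_etNbhd (hX : IsAlgSpace X) {p : FieldPt X} (hp : p.IsGeometric) : Nonempty (EtNbhd p) := by
  haveI : IsAlgClosed p.K := hp
  obtain ⟨U, φ, hφ, hφs⟩ := hX.atlas
  obtain ⟨W, w, v, hw, hws, hv, -⟩ := exists_etale_cover hφ hφs p.toHom
  haveI := hw
  haveI := hws
  obtain ⟨r, hr⟩ := w.left.surjective (IsLocalRing.closedPoint p.K)
  obtain ⟨ψ, hψ, -⟩ := SepEtale.exists_lift_point w.left (𝟙 _) r hr
  let s : p.pt ⟶ W := Over.homMk ψ (by
    show ψ ≫ W.hom = p.str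
    rw [← Over.w w, reassoc_of% hψ]
    rfl)
  have hs : s ≫ w = 𝟙 _ := Over.OverMorphism.ext hψ
  refine ⟨⟨EtOver.mk φ hφ, ⟨s ≫ v, ?_⟩⟩⟩
  show (yon S).map (s ≫ v) ≫ φ = p.toHom
  rw [Functor.map_comp, Category.assoc, hv, ← Functor.map_comp_assoc, hs, (yon S).map_id, Category.id_comp]

/-- Two neighbourhoods are dominated by a third. -/
theorem exists_prod {p : FieldPt X} (N₁ N₂ : EtNbhd p) :
    ∃ N : EtNbhd p, Nonempty (N ⟶ N₁) ∧ Nonempty (N ⟶ N₂) := by
  obtain ⟨E₁, u₁⟩ := N₁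
  obtain ⟨E₂, u₂⟩ := N₂
  let u : p.pt ⟶ (EtOver.prodObj E₁ E₂).obj.left :=
    E₂.property.1.lift' u₂.1 u₁.1 (by rw [u₁.2, u₂.2])
  have h₁ : u ≫ (EtOver.prodFst E₁ E₂).hom.left = u₁.1 := Functor.relativelyRepresentable.lift'_snd _ _ _ _
  have h₂ : u ≫ (EtOver.prodSnd E₁ E₂).hom.left = u₂.1 := Functor.relativelyRepresentable.lift'_fst _ _ _ _
  refine ⟨⟨EtOver.prodObj E₁ E₂, ⟨u, ?_⟩⟩, ⟨⟨EtOver.prodFst E₁ E₂, Subtype.ext h₁⟩⟩, ⟨⟨EtOver.prodSnd E₁ E₂, Subtype.ext h₂⟩⟩⟩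
  rw [← EtOver.w (EtOver.prodFst E₁ E₂), ← Category.assoc, ← Functor.map_comp, h₁]
  exact u₁.2

/-- Parallel maps of neighbourhoods are equalised. -/
theorem exists_equalizer {p : FieldPt X} {N N' : EtNbhd p} (f g : N ⟶ N') :
    ∃ (M : EtNbhd p) (k : M ⟶ N), k ≫ f = k ≫ g := by
  obtain ⟨E, u⟩ := N
  obtain ⟨E', u'⟩ := N'
  obtain ⟨f, hf⟩ := f
  obtain ⟨g, hg⟩ := g
  dsimp at f g hf hg
  obtain ⟨d, hd₁, hd₂⟩ : ∃ d : E' ⟶ EtOver.prodObj E' E', d ≫ EtOver.prodFst E' E' = 𝟙 _ ∧ d ≫ EtOver.prodSnd E' E' = 𝟙 _ :=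
    ⟨_, (EtOver.prodIsLimit E' E').fac (BinaryFan.mk (𝟙 _) (𝟙 _)) ⟨WalkingPair.left⟩,
      (EtOver.prodIsLimit E' E').fac (BinaryFan.mk (𝟙 _) (𝟙 _)) ⟨WalkingPair.right⟩⟩
  obtain ⟨c, hc₁, hc₂⟩ : ∃ c : E ⟶ EtOver.prodObj E' E', c ≫ EtOver.prodFst E' E' = f ∧ c ≫ EtOver.prodSnd E' E' = g :=
    ⟨_, (EtOver.prodIsLimit E' E').fac (BinaryFan.mk f g) ⟨WalkingPair.left⟩,
      (EtOver.prodIsLimit E' E').fac (BinaryFan.mk f g) ⟨WalkingPair.right⟩⟩
  have hf' : u.1 ≫ f.hom.left = u'.1 := congrArg Subtype.val hf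
  have hg' : u.1 ≫ g.hom.left = u'.1 := congrArg Subtype.val hg
  have e₁ : u'.1 ≫ d.hom.left = u.1 ≫ c.hom.left := by
    refine Functor.relativelyRepresentable.hom_ext' _ ?_ ?_
    · show (u'.1 ≫ d.hom.left) ≫ (EtOver.prodSnd E' E').hom.left = (u.1 ≫ c.hom.left) ≫ (EtOver.prodSnd E' E').hom.left
      rw [Category.assoc, Category.assoc, show d.hom.left ≫ (EtOver.prodSnd E' E').hom.left = 𝟙 _ from congrArg (fun k => k.hom.left) hd₂,
        show c.hom.left ≫ (EtOver.prodSnd E' E').hom.left = g.hom.left from congrArg (fun k => k.hom.left) hc₂,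
        Category.comp_id, hg']
    · show (u'.1 ≫ d.hom.left) ≫ (EtOver.prodFst E' E').hom.left = (u.1 ≫ c.hom.left) ≫ (EtOver.prodFst E' E').hom.left
      rw [Category.assoc, Category.assoc, show d.hom.left ≫ (EtOver.prodFst E' E').hom.left = 𝟙 _ from congrArg (fun k => k.hom.left) hd₁,
        show c.hom.left ≫ (EtOver.prodFst E' E').hom.left = f.hom.left from congrArg (fun k => k.hom.left) hc₁,
        Category.comp_id, hf']
  let m : p.pt ⟶ (EtOver.pullbackObj d c).obj.left := pullback.lift u'.1 u.1 e₁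
  have hm : m ≫ (EtOver.pullbackSnd d c).hom.left = u.1 := pullback.lift_snd _ _ _
  refine ⟨⟨EtOver.pullbackObj d c, ⟨m, ?_⟩⟩, ⟨EtOver.pullbackSnd d c, Subtype.ext hm⟩, ?_⟩
  · rw [← EtOver.w (EtOver.pullbackSnd d c), ← Category.assoc, ← Functor.map_comp, hm]
    exact u.2
  · apply Subtype.ext
    show EtOver.pullbackSnd d c ≫ f = EtOver.pullbackSnd d c ≫ g
    rw [← hc₁, ← hc₂, ← Category.assoc, ← Category.assoc, ← EtOver.pullback_condition, Category.assoc,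
      Category.assoc, hd₁, hd₂]

theorem isCofiltered_etNbhd (hX : IsAlgSpace X) {p : FieldPt X} (hp : p.IsGeometric) : IsCofiltered (EtNbhd p) := by
  haveI : IsCofilteredOrEmpty (EtNbhd p) :=
    ⟨fun N₁ N₂ => by
      obtain ⟨N, ⟨a⟩, ⟨b⟩⟩ := exists_prod N₁ N₂
      exact ⟨N, a, b, trivial⟩,
    fun _ _ f g => exists_equalizer f g⟩
  haveI := nonempty_etNbhd hX hp
  exact { }

/-- An affine open of a scheme locally of finite presentation over an affine open, in coordinates. -/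
theorem exists_affine_model {Y Y₀ : Scheme.{u}} (g : Y ⟶ Y₀) [LocallyOfFinitePresentation g] {A : Y₀.Opens}
    (hA : IsAffineOpen A) {B : Y.Opens} (hB : IsAffineOpen B) (hBA : B ≤ g ⁻¹ᵁ A) :
    ∃ (n : ℕ) (I : Ideal (MvPolynomial (Fin n) Γ(Y₀, A)))
      (κ : Spec (CommRingCat.of (MvPolynomial (Fin n) Γ(Y₀, A) ⧸ I)) ⟶ Y),
      IsOpenImmersion κ ∧ Set.range κ = (B : Set Y) ∧
        κ ≫ g = Spec.map (CommRingCat.ofHom (algebraMap Γ(Y₀, A) _)) ≫ hA.fromSpec := by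
  have hfp := g.finitePresentation_appLE hA hB hBA
  algebraize [(g.appLE A B hBA).hom]
  obtain ⟨n, f, hf, -⟩ := Algebra.FinitePresentation.out (R := Γ(Y₀, A)) (A := Γ(Y, B))
  let e := Ideal.quotientKerAlgEquivOfSurjective hf
  haveI : IsIso (Spec.map (CommRingCat.ofHom e.symm.toRingHom)) :=
    inferInstanceAs (IsIso (Scheme.Spec.map (e.symm.toRingEquiv.toCommRingCatIso).hom.op))
  refine ⟨n, RingHom.ker f, Spec.map (CommRingCat.ofHom e.symm.toRingHom) ≫ hB.fromSpec, inferInstance, ?_, ?_⟩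
  · rw [Scheme.Hom.comp_base, TopCat.coe_comp, Set.range_comp, (Spec.map (CommRingCat.ofHom e.symm.toRingHom)).surjective.range_eq,
      Set.image_univ]
    exact hB.range_fromSpec
  · rw [Category.assoc, ← IsAffineOpen.SpecMap_appLE_fromSpec g hA hB hBA, ← Spec.map_comp_assoc]
    congr 2
    ext1
    exact e.symm.toAlgHom.comp_algebraMap

/-- Affine neighbourhoods over a fixed one form a small weakly initial set. -/
theorem exists_small_weakly_initial (hX : IsAlgSpace X) {p : FieldPt X} (hp : p.IsGeometric) :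
    ∃ (s : Set (EtNbhd p)) (_ : Small.{u} s), ∀ N, ∃ M ∈ s, Nonempty (M ⟶ N) := by
  obtain ⟨⟨E₀, u₀⟩⟩ := nonempty_etNbhd hX hp
  obtain ⟨_, ⟨A : E₀.obj.left.left.Opens, hA, rfl⟩, hu₀A, -⟩ :=
    E₀.obj.left.left.isBasis_affineOpens.exists_subset_of_mem_open
      (Set.mem_univ (u₀.1.left (IsLocalRing.closedPoint p.K))) isOpen_univ
  let q : ∀ (n : ℕ) (I : Ideal (MvPolynomial (Fin n) Γ(E₀.obj.left.left, A))),
      Spec (CommRingCat.of (MvPolynomial (Fin n) Γ(E₀.obj.left.left, A) ⧸ I)) ⟶ E₀.obj.left.left := fun n I =>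
    Spec.map (CommRingCat.ofHom (algebraMap Γ(E₀.obj.left.left, A) _)) ≫ hA.fromSpec
  let T : ∀ (n : ℕ) (I : Ideal (MvPolynomial (Fin n) Γ(E₀.obj.left.left, A))), Over S := fun n I =>
    Over.mk (q n I ≫ E₀.obj.left.hom)
  let t : ∀ n I, T n I ⟶ E₀.obj.left := fun n I => Over.homMk (q n I) rfl
  let obj : ∀ n I, Etale (q n I) → EtOver X := fun n I h =>
    EtOver.mk ((yon S).map (t n I) ≫ E₀.obj.hom) (repWith_comp (repWith_yon_map (g := t n I) h) E₀.property)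
  let F : (Σ (n : ℕ) (I : Ideal (MvPolynomial (Fin n) Γ(E₀.obj.left.left, A))) (h : PLift (Etale (q n I))),
      (FieldPt.liftsTo p).obj (obj n I h.down)) → EtNbhd p := fun x => ⟨obj x.1 x.2.1 x.2.2.1.down, x.2.2.2⟩
  refine ⟨Set.range F, inferInstance, fun N => ?_⟩
  obtain ⟨M, ⟨a⟩, ⟨b⟩⟩ := exists_prod N ⟨E₀, u₀⟩
  obtain ⟨E, u⟩ := M
  obtain ⟨b, hb⟩ := b
  dsimp at b hb
  have hbl : u.1.left ≫ b.hom.left.left = u₀.1.left := congrArg (fun z => z.1.left) hb
  have hxA : u.1.left (IsLocalRing.closedPoint p.K) ∈ b.hom.left.left ⁻¹ᵁ A := by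
    show b.hom.left.left (u.1.left (IsLocalRing.closedPoint p.K)) ∈ A
    rw [← Scheme.Hom.comp_apply, hbl]
    exact hu₀A
  obtain ⟨_, ⟨B : E.obj.left.left.Opens, hB, rfl⟩, huB, hBA⟩ :=
    E.obj.left.left.isBasis_affineOpens.exists_subset_of_mem_open hxA (b.hom.left.left ⁻¹ᵁ A).2
  haveI := EtOver.etale_left b
  obtain ⟨n, I, κ, hκo, hκB, hκ⟩ := exists_affine_model b.hom.left.left hA hB hBA
  haveI := hκo
  have hq : Etale (q n I) := by
    show Etale (Spec.map _ ≫ hA.fromSpec)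
    rw [← hκ]; infer_instance
  have hκ' : κ ≫ E.obj.left.hom = q n I ≫ E₀.obj.left.hom := by
    rw [← Over.w b.hom.left]
    exact (Category.assoc _ _ _).symm.trans (congrArg (· ≫ E₀.obj.left.hom) hκ)
  let κ' : T n I ⟶ E.obj.left := Over.homMk κ hκ'
  have hκb : κ' ≫ b.hom.left = t n I := Over.OverMorphism.ext hκ
  let k : obj n I hq ⟶ E := EtOver.homMk κ' (by
    show _ = (yon S).map (t n I) ≫ E₀.obj.hom
    rw [← hκb, Functor.map_comp, Category.assoc, EtOver.w b])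
  have hrange : u.1.left (IsLocalRing.closedPoint p.K) ∈ Set.range k.hom.left.left :=
    hκB.symm.le huB
  obtain ⟨u', hu'⟩ := exists_liftsTo_of_mem_range hp k u hrange
  exact ⟨⟨_, u'⟩, ⟨⟨n, I, ⟨hq⟩, u'⟩, rfl⟩, ⟨⟨k, hu'⟩ ≫ a⟩⟩

/-- The geometric point as a point of the small étale site. -/
theorem exists_point_liftsTo (hX : IsAlgSpace X) {p : FieldPt X} (hp : p.IsGeometric) :
    ∃ P : GrothendieckTopology.Point.{u} (etTop X), P.fiber = FieldPt.liftsTo p := by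
  haveI := isCofiltered_etNbhd hX hp
  exact ⟨{ fiber := FieldPt.liftsTo p
           isCofiltered := isCofiltered_etNbhd hX hp
           initiallySmall := (initiallySmall_iff_exists_small_weakly_initial_set _).2 (exists_small_weakly_initial hX hp)
           jointly_surjective := fun {E} R hR u => by
             obtain ⟨R₀, hR₀, hle⟩ := Precoverage.mem_toGrothendieck_iff_of_isStableUnderComposition.1 hR
             obtain ⟨E', g, hg, u', hu'⟩ := exists_liftsTo_of_mem_etPre hp hR₀ u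
             exact ⟨E', g, hle _ _ hg, u', hu'⟩ }, rfl⟩

end Groth.Agent.ASp
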