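import Groth.Agent.ASp.DegLEEtale
import Groth.Agent.ASp.LocP
import Groth.Agent.ASp.ChartDim
import Groth.Agent.ASp.DecentPt
import Groth.Prelude.Def_W4decUnivBdd
/-!
Universally bounded fibres: composition, descent, covers, etale maps.
-/

set_option autoImplicit false
set_option backward.isDefEq.respectTransparency false
set_option backward.isDefEq.respectTransparency.types false

universe u

open CategoryTheory CategoryTheory.Limits AlgebraicGeometry Opposite

namespace Groth.Agent.ASp

open _root_.AlgSp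

variable {S : Scheme.{u}} {X Y : Sp S}

/-- The field-valued point of a morphism from the spectrum of a field. -/
noncomputable def fieldPtOf {K : Type u} [Field K] {str : Spec (CommRingCat.of K) ⟶ S}
    (φ : (yon S).obj (Over.mk str) ⟶ X) : FieldPt X :=
  ⟨K, str, (J S).uliftYonedaEquiv.{u+1} φ⟩

theorem toHom_fieldPtOf {K : Type u} [Field K] {str : Spec (CommRingCat.of K) ⟶ S}
    (φ : (yon S).obj (Over.mk str) ⟶ X) : (fieldPtOf φ).toHom = φ := Equiv.symm_apply_apply _ _

/-- Composites of maps with universally bounded fibres. -/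
theorem hasUnivBddFibres_comp (hX : IsAlgSpace X) {U V : Over S} (f : V ⟶ U) (g : (yon S).obj U ⟶ X)
    (hf : W4dec.HasUnivBddFibres ((yon S).map f)) (hg : W4dec.HasUnivBddFibres g) :
    W4dec.HasUnivBddFibres ((yon S).map f ≫ g) := by
  obtain ⟨m, hm⟩ := hf
  obtain ⟨n, hn⟩ := hg
  refine ⟨n * n * m, fun q T c snd sq => ?_⟩
  obtain ⟨T', b, c', sq'⟩ := exists_isPullback_yon (hX.representable_from_yon g) q.toHom
  obtain ⟨v, rfl⟩ := (yon S).map_surjective snd
  have hc' : DegLE c'.left n := hn q T' c' ((yon S).map b) sq'.flip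
  obtain ⟨t, ht⟩ := (yon S).map_surjective (sq'.lift ((yon S).map (v ≫ f)) ((yon S).map c) (by
    rw [(yon S).map_comp, Category.assoc, sq.w]))
  have ht1 : t ≫ b = v ≫ f := (yon S).map_injective (by rw [(yon S).map_comp, ht, sq'.lift_fst])
  have ht2 : t ≫ c' = c := (yon S).map_injective (by rw [(yon S).map_comp, ht, sq'.lift_snd])
  have sqT : IsPullback ((yon S).map v) ((yon S).map t) ((yon S).map f) ((yon S).map b) :=
    IsPullback.of_bot (v₂₁ := (yon S).map c') (v₂₂ := g) (h₃₁ := q.toHom)
      (by rw [← (yon S).map_comp, ht2]; exact sq.flip)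
      (by rw [← (yon S).map_comp, ← (yon S).map_comp, ht1]) sq'
  have hd : DegLE (t.left ≫ c'.left) (n * n * m) := by
    refine degLE_comp t.left c'.left hc' fun L _ x => ?_
    let x' : Over.mk (x ≫ T'.hom) ⟶ T' := Over.homMk x rfl
    let r := fieldPtOf ((yon S).map (x' ≫ b))
    have h1 : IsPullback ((yon S).map (pullback.fst t x' ≫ v)) ((yon S).map (pullback.snd t x'))
        ((yon S).map f) ((yon S).map (x' ≫ b)) := by
      rw [(yon S).map_comp, (yon S).map_comp]
      exact (isPullback_yon_map (IsPullback.of_hasPullback t x')).paste_horiz sqT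
    have h2 : DegLE (pullback.snd t x').left m :=
      hm r _ (pullback.snd t x') ((yon S).map (pullback.fst t x' ≫ v)) (by
        rw [toHom_fieldPtOf]; exact h1.flip)
    have e := isPullback_left (IsPullback.of_hasPullback t x')
    have h3 : (e.isoPullback.inv ≫ (pullback.snd t x').left) = pullback.snd t.left x := e.isoPullback_inv_snd
    rw [← h3]
    exact (degLE_iso_comp _ _ _).2 h2
  rw [← Over.comp_left, ht2] at hd
  exact hd

/-- Universally bounded fibres descend along a morphism covering the image. -/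
theorem hasUnivBddFibres_of_baseChange (hX : IsAlgSpace X) {U V : Over S} (g : Y ⟶ X)
    (f : (yon S).obj U ⟶ X) (fst : (yon S).obj V ⟶ (yon S).obj U) (f' : (yon S).obj V ⟶ Y)
    (h : IsPullback fst f' f g) (him : Set.range (Points.ofPt f) ⊆ Set.range (Points.map g))
    (hf' : W4dec.HasUnivBddFibres f') : W4dec.HasUnivBddFibres f := by
  obtain ⟨n, hn⟩ := hf'
  refine ⟨n, fun q T c snd sq => ?_⟩
  obtain ⟨v, rfl⟩ := (yon S).map_surjective snd
  show DegLE (K := q.K) c.left n
  by_cases hq : Points.mk q ∈ Set.range (Points.map g)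
  · obtain ⟨y, hy⟩ := hq
    obtain ⟨r, rfl⟩ := Points.mk_surjective y
    rw [Points.map_mk] at hy
    obtain ⟨Ω, _, w, a, b, hab⟩ := Points.mk_eq_mk_iff.1 hy
    have e : (yon S).map a ≫ r.toHom ≫ g = (yon S).map b ≫ q.toHom := by
      rw [← FieldPt.toHom_map]
      apply (J S).uliftYonedaEquiv.{u+1}.injective
      rw [← GrothendieckTopology.uliftYonedaEquiv_naturality.{u+1}, ← GrothendieckTopology.uliftYonedaEquiv_naturality.{u+1},
        FieldPt.uliftYonedaEquiv_toHom, FieldPt.uliftYonedaEquiv_toHom]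
      exact hab
    let r' := fieldPtOf ((yon S).map a ≫ r.toHom)
    have hP : IsPullback ((yon S).map (pullback.fst c b ≫ v)) ((yon S).map (pullback.snd c b)) f
        (((yon S).map a ≫ r.toHom) ≫ g) := by
      rw [(yon S).map_comp, Category.assoc, e]
      exact (isPullback_yon_map (IsPullback.of_hasPullback c b)).paste_horiz sq.flip
    obtain ⟨l, hl1, hl2⟩ : ∃ l : (yon S).obj (pullback c b) ⟶ (yon S).obj V,
        l ≫ fst = (yon S).map (pullback.fst c b ≫ v) ∧
        l ≫ f' = (yon S).map (pullback.snd c b) ≫ (yon S).map a ≫ r.toHom :=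
      ⟨h.lift _ _ (by rw [hP.w, Category.assoc, Category.assoc, Category.assoc]),
        h.lift_fst _ _ _, h.lift_snd _ _ _⟩
    have hl : IsPullback l ((yon S).map (pullback.snd c b)) f' ((yon S).map a ≫ r.toHom) :=
      IsPullback.of_right (h₁₂ := fst) (v₁₃ := f) (h₂₂ := g) (by rw [hl1]; exact hP) hl2 h
    have h2 : DegLE (K := Ω) (pullback.snd c b).left n :=
      hn r' _ (pullback.snd c b) l (by rw [toHom_fieldPtOf]; exact hl.flip)
    exact degLE_of_isPullback (isPullback_left (IsPullback.of_hasPullback c b)) h2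
  · haveI : IsEmpty ↥T.left := ⟨fun z => hq (him ⟨v.left z, by
      rw [(ofPt_eq_ofPt_iff sq.flip (v.left z) (c.left z)).2 ⟨z, rfl, rfl⟩, Points.ofPt_toHom]⟩)⟩
    exact (degLE_of_openCover (K := q.K) c.left (ι := PEmpty.{1}) (fun i => i.elim)
      (fun z => isEmptyElim z) (fun i => i.elim) fun i => i.elim).mono (by simp)

/-- Universally bounded fibres descend along finite flat jointly surjective families. -/
theorem hasUnivBddFibres_of_cover {κ : Type u} [Fintype κ] {V : Over S} (U : κ → Over S)
    (w : ∀ k, U k ⟶ V) [∀ k, Flat (w k).left] (hw : ∀ v : ↥V.left, ∃ k z, (w k).left z = v)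
    (φ : (yon S).obj V ⟶ X) (h : ∀ k, W4dec.HasUnivBddFibres ((yon S).map (w k) ≫ φ)) :
    W4dec.HasUnivBddFibres φ := by
  choose n hn using h
  refine ⟨∑ k, n k, fun q T c snd sq => ?_⟩
  obtain ⟨v, rfl⟩ := (yon S).map_surjective snd
  show DegLE (K := q.K) c.left _
  let t := fun k => (pullback.fst v (w k)).left
  haveI : ∀ k, Flat (t k) := fun k =>
    MorphismProperty.of_isPullback (P := @Flat) (isPullback_left (IsPullback.of_hasPullback v (w k))).flip
      inferInstance
  let d : (∐ fun k => (pullback v (w k)).left) ⟶ T.left := Limits.Sigma.desc t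
  haveI : Flat d := IsZariskiLocalAtSource.sigmaDesc (P := @Flat) inferInstance
  haveI : Surjective d := ⟨fun z => by
    obtain ⟨k, u, hu⟩ := hw (v.left z)
    obtain ⟨p, hp, -⟩ := Scheme.Pullback.exists_preimage_pullback z u hu.symm
    refine ⟨Limits.Sigma.ι (fun k => (pullback v (w k)).left) k
      ((isPullback_left (IsPullback.of_hasPullback v (w k))).isoPullback.inv p), ?_⟩
    rw [← Scheme.Hom.comp_apply, Limits.Sigma.ι_desc, ← Scheme.Hom.comp_apply]
    show ((isPullback_left (IsPullback.of_hasPullback v (w k))).isoPullback.inv ≫ (pullback.fst v (w k)).left) p = z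
    rw [IsPullback.isoPullback_inv_fst, hp]⟩
  refine degLE_of_flat_surjective d c.left ?_
  refine degLE_of_openCover _ (fun k => (Limits.Sigma.ι (fun k => (pullback v (w k)).left) k).opensRange)
    (fun z => ?_) n fun k => ?_
  · obtain ⟨p, hp⟩ := (sigmaMk fun k => (pullback v (w k)).left).surjective z
    exact ⟨p.1, p.2, by rw [← hp, sigmaMk_mk]⟩
  · rw [← degLE_iso_comp (Limits.Sigma.ι (fun k => (pullback v (w k)).left) k).isoOpensRange.hom,
      Scheme.Hom.isoOpensRange_hom_ι_assoc, Limits.Sigma.ι_desc_assoc]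
    have sq' : IsPullback ((yon S).map (pullback.fst v (w k) ≫ c)) ((yon S).map (pullback.snd v (w k)))
        q.toHom ((yon S).map (w k) ≫ φ) := by
      rw [(yon S).map_comp]
      exact (((isPullback_yon_map (IsPullback.of_hasPullback v (w k))).flip).paste_vert sq.flip).flip
    have := hn k q _ _ _ sq'
    rw [Over.comp_left] at this
    exact this

/-- Quasi-compact etale maps of schemes have universally bounded fibres. -/
theorem hasUnivBddFibres_of_etale {W U : Over S} (g : W ⟶ U) [Etale g.left] [CompactSpace ↥W.left] :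
    W4dec.HasUnivBddFibres ((yon S).map g) := by
  obtain ⟨N, hN⟩ := exists_degLE_of_etale g.left
  refine ⟨N, fun q T c snd sq => ?_⟩
  obtain ⟨v, rfl⟩ := (yon S).map_surjective snd
  obtain ⟨x, hx⟩ := (yon S).map_surjective q.toHom
  rw [← hx] at sq
  exact hN q.K x.left _ v.left c.left
    (isPullback_left (IsPullback.of_map_of_faithful (F := yon S) sq.flip))

/-- One bounded etale cover makes every etale map from a quasi-compact scheme bounded. -/
theorem hasUnivBddFibres_of_etale_cover (hX : IsAlgSpace X) {ι : Type u} (U : ι → Over S)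
    (φ : ∀ i, (yon S).obj (U i) ⟶ X) (hφ : ∀ i, RepWith @Etale (φ i))
    (hsurj : ∀ x : Points X, ∃ (i : ι) (v : ↥(U i).left), Points.ofPt (φ i) v = x)
    (hb : ∀ i, W4dec.HasUnivBddFibres (φ i)) {V : Over S} [CompactSpace ↥V.left]
    (ψ : (yon S).obj V ⟶ X) (hψ : RepWith @Etale ψ) : W4dec.HasUnivBddFibres ψ := by
  have key : ∀ v : ↥V.left, ∃ (W : Over S) (w : W ⟶ V) (r : ↥W.left), Etale w.left ∧ w.left r = v ∧
      W4dec.HasUnivBddFibres ((yon S).map w ≫ ψ) := by
    intro v
    obtain ⟨i, u, hu⟩ := hsurj (Points.ofPt ψ v)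
    obtain ⟨P, t, s, r, ht, hs, hts, hr, -⟩ := exists_common_point hψ (hφ i) hu.symm
    obtain ⟨O, hO, hrO, -⟩ := exists_isAffineOpen_mem_and_subset (x := r) (U := (⊤ : P.left.Opens)) (by simp)
    haveI : IsAffine O.toScheme := hO
    let o : Over.mk (O.ι ≫ P.hom) ⟶ P := Over.homMk O.ι rfl
    haveI : Etale t.left := ht
    haveI : Etale s.left := hs
    haveI : Etale (o ≫ t).left := inferInstanceAs (Etale (O.ι ≫ t.left))
    haveI : Etale (o ≫ s).left := inferInstanceAs (Etale (O.ι ≫ s.left))
    haveI : CompactSpace ↥(Over.mk (O.ι ≫ P.hom)).left := inferInstanceAs (CompactSpace ↥O.toScheme)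
    refine ⟨_, o ≫ t, ⟨r, hrO⟩, inferInstance, hr, ?_⟩
    rw [(yon S).map_comp, Category.assoc, hts, ← Functor.map_comp_assoc]
    exact hasUnivBddFibres_comp hX _ _ (hasUnivBddFibres_of_etale (o ≫ s)) (hb i)
  choose W w r hwe hwr hwb using key
  have hop : ∀ v, IsOpen (Set.range (w v).left) := fun v => by
    haveI := hwe v
    exact (w v).left.isOpenMap.isOpen_range
  obtain ⟨F, hF⟩ := isCompact_univ.elim_finite_subcover (fun v => Set.range (w v).left) hop
    (fun v _ => Set.mem_iUnion.2 ⟨v, r v, hwr v⟩)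
  haveI : ∀ k : F, Flat (w k.1).left := fun k => by haveI := hwe k.1; infer_instance
  exact hasUnivBddFibres_of_cover (κ := F) (fun k => W k.1) (fun k => w k.1)
    (fun v => by
      obtain ⟨k, hk, z, hz⟩ := Set.mem_iUnion₂.1 (hF (Set.mem_univ v))
      exact ⟨⟨k, hk⟩, z, hz⟩) ψ fun k => hwb k.1

end Groth.Agent.ASp
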