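import Groth.Agent.ASp.EtStalkExact
import Groth.Agent.EtPointClass.Fibre
import Groth.Agent.ASp.UnivBdd
/-!
Every point of the small étale site of an algebraic space is given by a geometric point.
-/

set_option autoImplicit false
set_option backward.isDefEq.respectTransparency false
set_option backward.isDefEq.respectTransparency.types false

universe u

open CategoryTheory CategoryTheory.Limits AlgebraicGeometry Opposite GrothendieckTopology

namespace Groth.Agent.ASp

open _root_.AlgSp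

variable {S : Scheme.{u}} {X : Sp S} {U₀ : Over S} {a : (yon S).obj U₀ ⟶ X} (ha : RepWith @Etale a)

/-- An object over a chart, as an étale scheme over the chart. -/
noncomputable def mkA {W : EtOver X} (g : W ⟶ EtOver.mk a ha) : U₀.left.Etale :=
  haveI : Etale g.hom.left.left := EtOver.etale_left g
  Scheme.Etale.mk g.hom.left.left

/-- The structure map of an object of the chart. -/
noncomputable def chartHom (V : U₀.left.Etale) : (EtOver.ofChart a ha).obj V ⟶ EtOver.mk a ha :=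
  EtOver.homMk (EtOver.homOfEtale V) rfl

theorem map_chartHom {V V' : U₀.left.Etale} (f : V ⟶ V') :
    (EtOver.ofChart a ha).map f ≫ chartHom ha V' = chartHom ha V :=
  EtOver.hom_ext _ _ (Over.OverMorphism.ext (MorphismProperty.Over.w f))

/-- An object over a chart is the image of its scheme over the chart. -/
noncomputable def mkAIso {W : EtOver X} (g : W ⟶ EtOver.mk a ha) : (EtOver.ofChart a ha).obj (mkA ha g) ≅ W :=
  (ObjectProperty.fullyFaithfulι _).preimageIso (CostructuredArrow.isoMk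
    (Over.isoMk (Iso.refl W.obj.left.left) (by
      show 𝟙 _ ≫ W.obj.left.hom = g.hom.left.left ≫ U₀.hom
      rw [Category.id_comp]
      exact (Over.w g.hom.left).symm))
    (by
      show (yon S).map _ ≫ W.obj.hom = (yon S).map (EtOver.homOfEtale (mkA ha g)) ≫ a
      rw [← EtOver.w g, ← Category.assoc, ← Functor.map_comp]
      exact congrArg ((yon S).map · ≫ a) (Over.OverMorphism.ext (Category.id_comp g.hom.left.left))))

theorem mkAIso_hom_comp {W : EtOver X} (g : W ⟶ EtOver.mk a ha) :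
    (mkAIso ha g).hom ≫ g = chartHom ha (mkA ha g) :=
  EtOver.hom_ext _ _ (Over.OverMorphism.ext (Category.id_comp g.hom.left.left))

theorem mkAIso_inv_comp {W : EtOver X} (g : W ⟶ EtOver.mk a ha) :
    (mkAIso ha g).inv ≫ chartHom ha (mkA ha g) = g := by
  rw [← mkAIso_hom_comp, Iso.inv_hom_id_assoc]

/-- A map over the chart lifts to the étale schemes over the chart. -/
theorem exists_chart_hom {V V' : U₀.left.Etale} (m : (EtOver.ofChart a ha).obj V ⟶ (EtOver.ofChart a ha).obj V')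
    (h : m ≫ chartHom ha V' = chartHom ha V) : ∃ f : V ⟶ V', (EtOver.ofChart a ha).map f = m :=
  ⟨MorphismProperty.Over.homMk m.hom.left.left (congrArg (fun k => k.hom.left.left) h),
    EtOver.hom_ext _ _ (Over.OverMorphism.ext rfl)⟩

section Point

variable (P : GrothendieckTopology.Point.{u} (etTop X)) (x : P.fiber.obj (EtOver.mk a ha))

theorem fiber_comp {A B C : EtOver X} (f : A ⟶ B) (g : B ⟶ C) (l : P.fiber.obj A) :
    P.fiber.map (f ≫ g) l = P.fiber.map g (P.fiber.map f l) := by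
  rw [Functor.map_comp]; rfl

theorem fiber_exists_common {A B : EtOver X} (l : P.fiber.obj A) (l' : P.fiber.obj B) :
    ∃ (W : EtOver X) (w : P.fiber.obj W) (f : W ⟶ A) (g : W ⟶ B), P.fiber.map f w = l ∧ P.fiber.map g w = l' := by
  haveI := P.isCofiltered
  exact ⟨_, (IsCofiltered.min (P.fiber.elementsMk A l) (P.fiber.elementsMk B l')).2,
    (IsCofiltered.minToLeft (P.fiber.elementsMk A l) (P.fiber.elementsMk B l')).1,
    (IsCofiltered.minToRight (P.fiber.elementsMk A l) (P.fiber.elementsMk B l')).1,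
    (IsCofiltered.minToLeft (P.fiber.elementsMk A l) (P.fiber.elementsMk B l')).2,
    (IsCofiltered.minToRight (P.fiber.elementsMk A l) (P.fiber.elementsMk B l')).2⟩

theorem fiber_exists_eq {A B : EtOver X} (l : P.fiber.obj A) (f g : A ⟶ B) (h : P.fiber.map f l = P.fiber.map g l) :
    ∃ (W : EtOver X) (w : P.fiber.obj W) (e : W ⟶ A), P.fiber.map e w = l ∧ e ≫ f = e ≫ g := by
  haveI := P.isCofiltered
  let k₁ : P.fiber.elementsMk A l ⟶ P.fiber.elementsMk B (P.fiber.map f l) := ⟨f, rfl⟩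
  let k₂ : P.fiber.elementsMk A l ⟶ P.fiber.elementsMk B (P.fiber.map f l) := ⟨g, h.symm⟩
  exact ⟨_, (IsCofiltered.eq k₁ k₂).2, (IsCofiltered.eqHom k₁ k₂).1, (IsCofiltered.eqHom k₁ k₂).2,
    congrArg (fun k => k.1) (IsCofiltered.eq_condition k₁ k₂)⟩

/-- The fibre functor on the étale schemes over the chart. -/
noncomputable def chartFiber : U₀.left.Etale ⥤ Type u where
  obj V := {l : P.fiber.obj ((EtOver.ofChart a ha).obj V) // P.fiber.map (chartHom ha V) l = x}
  map {V V'} f := ↾fun l => ⟨P.fiber.map ((EtOver.ofChart a ha).map f) l.1, by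
    rw [← fiber_comp, map_chartHom]; exact l.2⟩
  map_id V := by
    ext l
    show P.fiber.map ((EtOver.ofChart a ha).map (𝟙 V)) l.1 = l.1
    simp
  map_comp f g := by
    ext l
    show P.fiber.map ((EtOver.ofChart a ha).map (f ≫ g)) l.1 =
      P.fiber.map ((EtOver.ofChart a ha).map g) (P.fiber.map ((EtOver.ofChart a ha).map f) l.1)
    rw [Functor.map_comp, fiber_comp]

/-- An element of `P` over the chosen point of the chart. -/
noncomputable def chartElt {W : EtOver X} (w : P.fiber.obj W) (g : W ⟶ EtOver.mk a ha) (h : P.fiber.map g w = x) :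
    (chartFiber ha P x).obj (mkA ha g) :=
  ⟨P.fiber.map (mkAIso ha g).inv w, by rw [← fiber_comp, mkAIso_inv_comp]; exact h⟩

theorem isCofiltered_chartFiber : IsCofiltered (chartFiber ha P x).Elements := by
  haveI := P.isCofiltered
  haveI : IsCofilteredOrEmpty (chartFiber ha P x).Elements := by
    refine ⟨fun j₁ j₂ => ?_, fun {j j'} k₁ k₂ => ?_⟩
    · obtain ⟨V₁, l₁, h₁⟩ := j₁
      obtain ⟨V₂, l₂, h₂⟩ := j₂
      obtain ⟨W, w, f₁, f₂, hf₁, hf₂⟩ := fiber_exists_common P l₁ l₂
      obtain ⟨W', w', e, he, hee⟩ := fiber_exists_eq P w (f₁ ≫ chartHom ha V₁) (f₂ ≫ chartHom ha V₂)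
        (by rw [fiber_comp, fiber_comp, hf₁, hf₂, h₁, h₂])
      let g := e ≫ f₁ ≫ chartHom ha V₁
      have hg : P.fiber.map g w' = x := by rw [fiber_comp, he, fiber_comp, hf₁, h₁]
      obtain ⟨m₁, hm₁⟩ := exists_chart_hom ha ((mkAIso ha g).hom ≫ e ≫ f₁)
        (by rw [Category.assoc, Category.assoc, mkAIso_hom_comp])
      obtain ⟨m₂, hm₂⟩ := exists_chart_hom ha ((mkAIso ha g).hom ≫ e ≫ f₂)
        (by rw [Category.assoc, Category.assoc, ← hee, mkAIso_hom_comp])
      refine ⟨⟨mkA ha g, chartElt ha P x w' g hg⟩, ⟨m₁, Subtype.ext ?_⟩, ⟨m₂, Subtype.ext ?_⟩, trivial⟩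
      · show P.fiber.map ((EtOver.ofChart a ha).map m₁) (P.fiber.map (mkAIso ha g).inv w') = l₁
        rw [hm₁, ← fiber_comp, Iso.inv_hom_id_assoc, fiber_comp, he, hf₁]
      · show P.fiber.map ((EtOver.ofChart a ha).map m₂) (P.fiber.map (mkAIso ha g).inv w') = l₂
        rw [hm₂, ← fiber_comp, Iso.inv_hom_id_assoc, fiber_comp, he, hf₂]
    · obtain ⟨V, l, hl⟩ := j
      obtain ⟨V', l', hl'⟩ := j'
      obtain ⟨k₁, hk₁⟩ := k₁
      obtain ⟨k₂, hk₂⟩ := k₂
      dsimp at k₁ hk₁ k₂ hk₂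
      have hk₁' : P.fiber.map ((EtOver.ofChart a ha).map k₁) l = l' := congrArg Subtype.val hk₁
      have hk₂' : P.fiber.map ((EtOver.ofChart a ha).map k₂) l = l' := congrArg Subtype.val hk₂
      obtain ⟨W, w, e, he, hee⟩ := fiber_exists_eq P l _ _ (hk₁'.trans hk₂'.symm)
      let g := e ≫ chartHom ha V
      have hg : P.fiber.map g w = x := by rw [fiber_comp, he, hl]
      obtain ⟨m, hm⟩ := exists_chart_hom ha ((mkAIso ha g).hom ≫ e)
        (by rw [Category.assoc, mkAIso_hom_comp])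
      refine ⟨⟨mkA ha g, chartElt ha P x w g hg⟩, ⟨m, Subtype.ext ?_⟩, Subtype.ext ?_⟩
      · show P.fiber.map ((EtOver.ofChart a ha).map m) (P.fiber.map (mkAIso ha g).inv w) = l
        rw [hm, ← fiber_comp, Iso.inv_hom_id_assoc, he]
      · show m ≫ k₁ = m ≫ k₂
        apply (EtOver.ofChart a ha).map_injective
        rw [Functor.map_comp, Functor.map_comp, hm, Category.assoc, Category.assoc, hee]
  obtain ⟨⟨W, l⟩⟩ := (IsCofiltered.nonempty (C := P.fiber.Elements))
  obtain ⟨W', w, f, g, -, hg⟩ := fiber_exists_common P l x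
  haveI : Nonempty (chartFiber ha P x).Elements := ⟨⟨_, chartElt ha P x w g hg⟩⟩
  exact {}

/-- The induced point of the small étale site of the chart. -/
noncomputable def chartPoint : GrothendieckTopology.Point.{u} U₀.left.smallEtaleTopology where
  fiber := chartFiber ha P x
  isCofiltered := isCofiltered_chartFiber ha P x
  initiallySmall := by
    haveI := isCofiltered_chartFiber ha P x
    haveI := P.isCofiltered
    refine (initiallySmall_iff_exists_small_weakly_initial_set _).2 ?_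
    obtain ⟨s, hs, hinit⟩ := (initiallySmall_iff_exists_small_weakly_initial_set _).1 P.initiallySmall
    haveI := hs
    let F : (Σ j : s, {g : j.1.1 ⟶ EtOver.mk a ha // P.fiber.map g j.1.2 = x}) → (chartFiber ha P x).Elements :=
      fun j => ⟨mkA ha j.2.1, chartElt ha P x j.1.1.2 j.2.1 j.2.2⟩
    refine ⟨Set.range F, inferInstance, fun i => ?_⟩
    obtain ⟨V, l, hl⟩ := i
    obtain ⟨j, hj, ⟨f⟩⟩ := hinit (P.fiber.elementsMk ((EtOver.ofChart a ha).obj V) l)
    obtain ⟨f, hf⟩ := f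
    dsimp at f hf
    have hg : P.fiber.map (f ≫ chartHom ha V) j.2 = x := by rw [fiber_comp, hf]; exact hl
    obtain ⟨m, hm⟩ := exists_chart_hom ha ((mkAIso ha (f ≫ chartHom ha V)).hom ≫ f)
      (by rw [Category.assoc, mkAIso_hom_comp])
    refine ⟨F ⟨⟨j, hj⟩, f ≫ chartHom ha V, hg⟩, ⟨_, rfl⟩, ⟨⟨m, Subtype.ext ?_⟩⟩⟩
    show P.fiber.map ((EtOver.ofChart a ha).map m) (P.fiber.map (mkAIso ha (f ≫ chartHom ha V)).inv j.2) = l
    rw [hm, ← fiber_comp, Iso.inv_hom_id_assoc]
    exact hf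
  jointly_surjective {V} R hR := by
    rintro ⟨l, hl⟩
    let ι := Σ W : U₀.left.Etale, {g : W ⟶ V // R g}
    have e : Sieve.ofArrows (fun k : ι => k.1) (fun k => k.2.1) = R := by
      refine le_antisymm (by rw [Sieve.ofArrows, Sieve.generate_le_iff]; rintro _ _ ⟨k⟩; exact k.2.2) ?_
      intro W g hg
      exact Sieve.ofArrows_mk (fun k : ι => k.1) (fun k => k.2.1) ⟨W, g, hg⟩
    rw [← e] at hR
    obtain ⟨Y', f, hf, y, hy⟩ := P.jointly_surjective _ (EtOver.ofChart_sieve_mem a ha _ _ hR) l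
    obtain ⟨_, c, _, ⟨k⟩, rfl⟩ := hf
    rw [fiber_comp] at hy
    refine ⟨k.1, k.2.1, k.2.2, ⟨P.fiber.map c y, ?_⟩, Subtype.ext hy⟩
    rw [← map_chartHom ha k.2.1, fiber_comp, hy]
    exact hl

/-- The product with the chart. -/
noncomputable abbrev overChart (E : EtOver X) : U₀.left.Etale :=
  mkA ha (EtOver.prodSnd E (EtOver.mk a ha))

/-- Elements of the fibre at `E` correspond to elements over the chart. -/
noncomputable def fromChartFiber (E : EtOver X) (l : (chartFiber ha P x).obj (overChart ha E)) : P.fiber.obj E :=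
  P.fiber.map ((mkAIso ha _).hom ≫ EtOver.prodFst E (EtOver.mk a ha)) l.1

theorem bijective_fromChartFiber (E : EtOver X) : Function.Bijective (fromChartFiber ha P x E) := by
  let g := EtOver.prodSnd E (EtOver.mk a ha)
  have key : ∀ l : (chartFiber ha P x).obj (overChart ha E), P.fiber.map g (P.fiber.map (mkAIso ha g).hom l.1) = x :=
    fun l => by rw [← fiber_comp, mkAIso_hom_comp]; exact l.2
  refine ⟨fun l l' h => ?_, fun l => ?_⟩
  · let w := P.fiber.map (mkAIso ha g).hom l.1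
    let w' := P.fiber.map (mkAIso ha g).hom l'.1
    have h₁ : P.fiber.map (EtOver.prodFst E (EtOver.mk a ha)) w = P.fiber.map (EtOver.prodFst E (EtOver.mk a ha)) w' := by
      rw [← fiber_comp, ← fiber_comp]; exact h
    obtain ⟨W, v, f, f', hf, hf'⟩ := fiber_exists_common P w w'
    obtain ⟨W₁, v₁, e₁, he₁, hee₁⟩ := fiber_exists_eq P v (f ≫ EtOver.prodFst E _) (f' ≫ EtOver.prodFst E _)
      (by rw [fiber_comp, fiber_comp, hf, hf']; exact h₁)
    obtain ⟨W₂, v₂, e₂, he₂, hee₂⟩ := fiber_exists_eq P v₁ (e₁ ≫ f ≫ g) (e₁ ≫ f' ≫ g)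
      (by rw [fiber_comp, fiber_comp, fiber_comp, fiber_comp, he₁, hf, hf', key l, key l'])
    have : e₂ ≫ e₁ ≫ f = e₂ ≫ e₁ ≫ f' := BinaryFan.IsLimit.hom_ext (EtOver.prodIsLimit E (EtOver.mk a ha))
      (by
        show (e₂ ≫ e₁ ≫ f) ≫ EtOver.prodFst E _ = (e₂ ≫ e₁ ≫ f') ≫ EtOver.prodFst E _
        simp only [Category.assoc, hee₁])
      (by
        show (e₂ ≫ e₁ ≫ f) ≫ g = (e₂ ≫ e₁ ≫ f') ≫ g
        simp only [Category.assoc, hee₂])
    have hw : w = w' := by
      rw [← hf, ← hf', ← he₁, ← he₂, ← fiber_comp, ← fiber_comp, ← fiber_comp, ← fiber_comp, this]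
    apply Subtype.ext
    have := congrArg (P.fiber.map (mkAIso ha g).inv) hw
    simp only [w, w', ← fiber_comp, Iso.hom_inv_id] at this
    simpa using this
  · obtain ⟨W, w, f, f', hf, hf'⟩ := fiber_exists_common P l x
    obtain ⟨c, hc₁, hc₂⟩ : ∃ c : W ⟶ EtOver.prodObj E (EtOver.mk a ha),
        c ≫ EtOver.prodFst E _ = f ∧ c ≫ EtOver.prodSnd E _ = f' :=
      ⟨_, (EtOver.prodIsLimit E _).fac (BinaryFan.mk f f') ⟨WalkingPair.left⟩,
        (EtOver.prodIsLimit E _).fac (BinaryFan.mk f f') ⟨WalkingPair.right⟩⟩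
    refine ⟨chartElt ha P x (P.fiber.map c w) g (by rw [← fiber_comp, hc₂, hf']), ?_⟩
    show P.fiber.map _ (P.fiber.map (mkAIso ha g).inv (P.fiber.map c w)) = l
    rw [← fiber_comp, ← fiber_comp, Iso.inv_hom_id_assoc, hc₁, hf]

end Point

variable {K : Type u} [Field K] (ξ : Spec (CommRingCat.of K) ⟶ U₀.left)

/-- The geometric point of the space given by one of the chart. -/
noncomputable def chartPtHom : Over.mk (ξ ≫ U₀.hom) ⟶ U₀ := Over.homMk ξ rfl

variable (a) in
/-- The geometric point of the space given by one of the chart, as a field-valued point. -/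
noncomputable def chartFieldPt : FieldPt X := fieldPtOf ((yon S).map (chartPtHom ξ) ≫ a)

theorem toHom_chartFieldPt : (chartFieldPt a ξ).toHom = (yon S).map (chartPtHom ξ) ≫ a :=
  toHom_fieldPtOf _

variable [IsSepClosed K]

/-- Lifts to the product with the chart give lifts to the object. -/
noncomputable def toLiftsTo (E : EtOver X) (m : (Scheme.pointSmallEtale ξ).fiber.obj (overChart ha E)) :
    (FieldPt.liftsTo (chartFieldPt a ξ)).obj E :=
  let mO : (chartFieldPt a ξ).pt ⟶ (EtOver.prodObj E (EtOver.mk a ha)).obj.left :=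
    Over.homMk (EtPtsLib.liftHom ξ m) (by
      show _ = ξ ≫ U₀.hom
      refine Eq.trans ?_ (congrArg (· ≫ U₀.hom) (EtPtsLib.liftHom_comp ξ m))
      show _ = (EtPtsLib.liftHom ξ m ≫ (EtOver.prodSnd E (EtOver.mk a ha)).hom.left.left) ≫ U₀.hom
      rw [Category.assoc]
      exact congrArg (EtPtsLib.liftHom ξ m ≫ ·) (Over.w (EtOver.prodSnd E (EtOver.mk a ha)).hom.left).symm)
  ⟨mO ≫ (EtOver.prodFst E (EtOver.mk a ha)).hom.left, by
    rw [toHom_chartFieldPt, Functor.map_comp, Category.assoc, EtOver.w,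
      ← EtOver.w (EtOver.prodSnd E (EtOver.mk a ha)), ← Category.assoc, ← Functor.map_comp]
    exact congrArg ((yon S).map · ≫ a) (Over.OverMorphism.ext (EtPtsLib.liftHom_comp ξ m))⟩

theorem bijective_toLiftsTo (E : EtOver X) : Function.Bijective (toLiftsTo ha ξ E) := by
  refine ⟨fun m m' h => ?_, fun l => ?_⟩
  · have h' := congrArg (fun z => z.1.left) h
    refine Over.OverMorphism.ext ?_
    let mO : ∀ m : (Scheme.pointSmallEtale ξ).fiber.obj (overChart ha E),
        (chartFieldPt a ξ).pt ⟶ (EtOver.prodObj E (EtOver.mk a ha)).obj.left := fun m =>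
      Over.homMk (EtPtsLib.liftHom ξ m) (by
        show _ = ξ ≫ U₀.hom
        refine Eq.trans ?_ (congrArg (· ≫ U₀.hom) (EtPtsLib.liftHom_comp ξ m))
        show _ = (EtPtsLib.liftHom ξ m ≫ (EtOver.prodSnd E (EtOver.mk a ha)).hom.left.left) ≫ U₀.hom
        rw [Category.assoc]
        exact congrArg (EtPtsLib.liftHom ξ m ≫ ·) (Over.w (EtOver.prodSnd E (EtOver.mk a ha)).hom.left).symm)
    have e : mO m = mO m' := Functor.relativelyRepresentable.hom_ext' _
      (Over.OverMorphism.ext ((EtPtsLib.liftHom_comp ξ m).trans (EtPtsLib.liftHom_comp ξ m').symm))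
      (Over.OverMorphism.ext h')
    have e' := congrArg CommaMorphism.left e
    exact e'
  · have e : (yon S).map (chartPtHom ξ) ≫ a = (yon S).map l.1 ≫ E.obj.hom := by
      rw [l.2, toHom_chartFieldPt]
    let m := (EtOver.mk a ha).property.1.lift' (chartPtHom ξ) l.1 e
    have h₁ : m ≫ (EtOver.prodFst E (EtOver.mk a ha)).hom.left = l.1 :=
      Functor.relativelyRepresentable.lift'_snd _ _ _ _
    have h₂ : m ≫ (EtOver.prodSnd E (EtOver.mk a ha)).hom.left = chartPtHom ξ :=
      Functor.relativelyRepresentable.lift'_fst _ _ _ _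
    exact ⟨Over.homMk m.left (congrArg CommaMorphism.left h₂),
      Subtype.ext (Over.OverMorphism.ext (congrArg CommaMorphism.left h₁ :))⟩

/-- A map over the product with the chart. -/
theorem exists_overChart_map {E E' : EtOver X} (g : E ⟶ E') :
    ∃ k : overChart ha E ⟶ overChart ha E',
      (EtOver.ofChart a ha).map k ≫ (mkAIso ha (EtOver.prodSnd E' (EtOver.mk a ha))).hom ≫
          EtOver.prodFst E' (EtOver.mk a ha) =
        (mkAIso ha (EtOver.prodSnd E (EtOver.mk a ha))).hom ≫ EtOver.prodFst E (EtOver.mk a ha) ≫ g := by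
  let EA := EtOver.mk a ha
  obtain ⟨c, hc₁, hc₂⟩ : ∃ c : EtOver.prodObj E EA ⟶ EtOver.prodObj E' EA,
      c ≫ EtOver.prodFst E' EA = EtOver.prodFst E EA ≫ g ∧ c ≫ EtOver.prodSnd E' EA = EtOver.prodSnd E EA :=
    ⟨_, (EtOver.prodIsLimit E' EA).fac (BinaryFan.mk (EtOver.prodFst E EA ≫ g) (EtOver.prodSnd E EA))
        ⟨WalkingPair.left⟩,
      (EtOver.prodIsLimit E' EA).fac (BinaryFan.mk (EtOver.prodFst E EA ≫ g) (EtOver.prodSnd E EA))
        ⟨WalkingPair.right⟩⟩
  obtain ⟨k, hk⟩ := exists_chart_hom ha ((mkAIso ha (EtOver.prodSnd E EA)).hom ≫ c ≫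
      (mkAIso ha (EtOver.prodSnd E' EA)).inv)
    (by rw [Category.assoc, Category.assoc, mkAIso_inv_comp, hc₂, mkAIso_hom_comp])
  refine ⟨k, ?_⟩
  rw [hk]
  simp only [EA, Category.assoc, Iso.inv_hom_id_assoc]
  simp only [EA] at hc₁
  rw [hc₁]

theorem exists_point (hX : IsAlgSpace X) (P : GrothendieckTopology.Point.{u} (etTop X)) :
    ∃ p : FieldPt X, p.IsGeometric ∧ Nonempty (P.fiber ≅ FieldPt.liftsTo p) := by
  obtain ⟨U₀, a, ha, has⟩ := hX.atlas
  haveI := P.isCofiltered
  obtain ⟨⟨E₀, l₀⟩⟩ := (IsCofiltered.nonempty (C := P.fiber.Elements))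
  let EA := EtOver.mk a ha
  have hcov : Sieve.ofArrows (fun _ : PUnit.{1} => EtOver.prodObj E₀ EA) (fun _ => EtOver.prodFst E₀ EA) ∈
      etTop X E₀ := ofArrows_mem_etTop _ _ fun u => by
    obtain ⟨v, hv⟩ := surjective_ofPt has (Points.ofPt E₀.obj.hom u)
    obtain ⟨r, hr₂, hr₁⟩ := (ofPt_eq_ofPt_iff (EA.property.1.isPullback' E₀.obj.hom) v u).1 hv
    exact ⟨⟨⟩, r, hr₁⟩
  obtain ⟨_, _, ⟨_, c, _, ⟨-⟩, rfl⟩, y, -⟩ := P.jointly_surjective _ hcov l₀
  let x : P.fiber.obj EA := P.fiber.map (EtOver.prodSnd E₀ EA) (P.fiber.map c y)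
  let Q := chartPoint ha P x
  let ξ := EtPointClass.gpt Q
  let e := EtPointClass.fiberIso Q
  refine ⟨chartFieldPt a ξ, (inferInstance : IsAlgClosed (AlgebraicClosure _)), ⟨(?_ : P.fiber ≅ _)⟩⟩
  let φ : ∀ E, P.fiber.obj E ≃ (FieldPt.liftsTo (chartFieldPt a ξ)).obj E := fun E =>
    ((Equiv.ofBijective _ (bijective_fromChartFiber ha P x E)).symm.trans
      ((e.app (overChart ha E)).toEquiv)).trans (Equiv.ofBijective _ (bijective_toLiftsTo ha ξ E))
  refine NatIso.ofComponents (fun E => (φ E).toIso) fun {E E'} g => ?_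
  ext l
  obtain ⟨q, rfl⟩ := (bijective_fromChartFiber ha P x E).2 l
  obtain ⟨k, hk⟩ := exists_overChart_map ha g
  show φ E' (P.fiber.map g (fromChartFiber ha P x E q)) =
    (FieldPt.liftsTo _).map g (φ E (fromChartFiber ha P x E q))
  have h₁ : P.fiber.map g (fromChartFiber ha P x E q) = fromChartFiber ha P x E' ((chartFiber ha P x).map k q) := by
    show _ = P.fiber.map _ (P.fiber.map ((EtOver.ofChart a ha).map k) q.1)
    rw [← fiber_comp, hk, ← Category.assoc, fiber_comp]
    rfl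
  rw [h₁]
  simp only [φ, Equiv.trans_apply, Equiv.ofBijective_apply, Equiv.ofBijective_symm_apply_apply]
  have h₂ := ConcreteCategory.congr_hom (e.hom.naturality k) q
  refine (congrArg (toLiftsTo ha ξ E') h₂).trans (Subtype.ext (Over.OverMorphism.ext ?_))
  have h₃ := congrArg (fun m => m.hom.left.left) hk
  show (EtPtsLib.liftHom ξ (e.hom.app (overChart ha E) q) ≫ k.left) ≫ _ = (_ ≫ _) ≫ g.hom.left.left
  rw [Category.assoc, Category.assoc]
  refine congrArg (EtPtsLib.liftHom ξ (e.hom.app (overChart ha E) q) ≫ ·) ?_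
  have h₄ : k.left ≫ 𝟙 _ ≫ (EtOver.prodFst E' (EtOver.mk a ha)).hom.left.left =
      𝟙 _ ≫ (EtOver.prodFst E (EtOver.mk a ha)).hom.left.left ≫ g.hom.left.left := h₃
  rwa [Category.id_comp, Category.id_comp] at h₄

theorem exists_point_sheafFiber (hX : IsAlgSpace X) (P : GrothendieckTopology.Point.{u} (etTop X)) :
    ∃ p : FieldPt X, p.IsGeometric ∧
      Nonempty (P.sheafFiber (A := Type (u + 1)) ≅ stalkEtFunctor (Type (u + 1)) p) := by
  obtain ⟨p, hp, ⟨e⟩⟩ := exists_point hX P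
  refine ⟨p, hp, ⟨(?_ : P.sheafFiber (A := Type (u + 1)) ≅ (sitePoint hX p hp).sheafFiber)⟩⟩
  let i : P ⟶ sitePoint hX p hp := ⟨e.inv⟩
  let j : sitePoint hX p hp ⟶ P := ⟨e.hom⟩
  exact
    { hom := Point.Hom.sheafFiber j
      inv := Point.Hom.sheafFiber i
      hom_inv_id := by
        rw [← Point.Hom.sheafFiber_comp, show i ≫ j = 𝟙 P from Point.Hom.ext (by exact e.hom_inv_id),
          Point.Hom.sheafFiber_id]
      inv_hom_id := by
        rw [← Point.Hom.sheafFiber_comp, show j ≫ i = 𝟙 _ from Point.Hom.ext (by exact e.inv_hom_id),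
          Point.Hom.sheafFiber_id] }

end Groth.Agent.ASp
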