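import Groth.Agent.ASp.EtSupport
import Groth.Agent.EtPtsLib.IntegralUI
import Groth.Prelude.Def_AlgSpOX2
import Groth.Prelude.Def_AlgSp4
import Mathlib.CategoryTheory.Sites.DenseSubsite.Basic
/-!
Direct images on small étale sites along integral universally injective morphisms of algebraic spaces:
base change is cover dense and locally full.
-/

set_option autoImplicit false
set_option backward.isDefEq.respectTransparency false
set_option backward.isDefEq.respectTransparency.types false

universe u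

open CategoryTheory CategoryTheory.Limits AlgebraicGeometry Opposite Topology

namespace Groth.Agent.ASp

open _root_.AlgSp

variable {S : Scheme.{u}}

section OpenSub

variable {X : Sp S}

/-- An open of an object of the small étale site. -/
noncomputable def openSubEt (E : EtOver X) (O : E.obj.left.left.Opens) : EtOver X :=
  EtOver.mk ((yon S).map (Over.homMk O.ι rfl : Over.mk (O.ι ≫ E.obj.left.hom) ⟶ E.obj.left) ≫ E.obj.hom)
    (repWith_comp (repWith_yon_map (inferInstance : Etale O.ι)) E.property)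

/-- Its inclusion. -/
noncomputable def openInclEt (E : EtOver X) (O : E.obj.left.left.Opens) : openSubEt E O ⟶ E :=
  EtOver.homMk (Over.homMk O.ι rfl) rfl

theorem openInclEt_left (E : EtOver X) (O : E.obj.left.left.Opens) :
    (openInclEt E O).hom.left.left = O.ι := rfl

theorem range_openInclEt (E : EtOver X) (O : E.obj.left.left.Opens) :
    Set.range (openInclEt E O).hom.left.left = (O : Set E.obj.left.left) :=
  O.range_ι

/-- Points of the product over a common point. -/
theorem exists_prod_point (E₁ E₂ : EtOver X) (u : ↥E₁.obj.left.left) (v : ↥E₂.obj.left.left)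
    (h : Points.ofPt E₁.obj.hom u = Points.ofPt E₂.obj.hom v) :
    ∃ r, (EtOver.prodFst E₁ E₂).hom.left.left r = u ∧ (EtOver.prodSnd E₁ E₂).hom.left.left r = v := by
  obtain ⟨r, hr₁, hr₂⟩ := (ofPt_eq_ofPt_iff (E₂.property.1.isPullback' E₁.obj.hom) v u).1 h.symm
  exact ⟨r, hr₂, hr₁⟩

end OpenSub

variable {X Y : Sp S} {f : Y ⟶ X} (hf : Representable f)

/-- All base changes of `f` to schemes étale over the target are integral and injective. -/
def BcIntInj : Prop :=
  ∀ E : EtOver X, IsIntegralHom (EtOver.bcπ hf E).left ∧ Function.Injective (EtOver.bcπ hf E).left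

theorem bcIntInj_of_integral (hi : RepWith @IsIntegralHom f) (hu : IsUnivInjectiveMor f) :
    BcIntInj hi.1 := fun E => by
  refine ⟨hi.2 _ _ _ (hi.1.isPullback E.obj.hom), fun a b hab => ?_⟩
  apply (Points.schemeHomeo _).injective
  apply hu (IsAlgSpace.yon_obj E.obj.left) E.obj.hom _ _ (hi.1.isPullback E.obj.hom)
  exact ((Points.map_yon_map_apply _ a).trans (congrArg _ hab)).trans (Points.map_yon_map_apply _ b).symm

variable {hf}

theorem BcIntInj.isClosedEmbedding (h : BcIntInj hf) (E : EtOver X) :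
    IsClosedEmbedding (EtOver.bcπ hf E).left := by
  haveI := (h E).1
  exact IsClosedEmbedding.of_continuous_injective_isClosedMap (EtOver.bcπ hf E).left.continuous (h E).2
    (EtOver.bcπ hf E).left.isClosedMap

/-- Étale schemes over the source are locally covered by base changes. -/
theorem exists_bc_nhd (hX : IsAlgSpace X) (h : BcIntInj hf) (E' : EtOver Y) (u : ↥E'.obj.left.left) :
    ∃ (E : EtOver X) (g : (EtOver.bc hf).obj E ⟶ E'), u ∈ Set.range g.hom.left.left := by
  obtain ⟨U₀, a, ha, has⟩ := hX.atlas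
  let EA : EtOver X := EtOver.mk a ha
  let B : EtOver Y := (EtOver.bc hf).obj EA
  obtain ⟨t, ht⟩ := surjective_ofPt has (Points.map f (Points.ofPt E'.obj.hom u))
  have ht' : Points.map f (Points.ofPt E'.obj.hom u) = Points.map a (Points.schemeHomeo U₀ t) :=
    ht.symm.trans (congrFun (ofPt_comp_eq_map a) t)
  obtain ⟨zB, hzB, -⟩ := points_exists_of_isPullback (hf.isPullback a) _ _ ht'
  obtain ⟨b, rfl⟩ := (Points.schemeHomeo (hf.pullback a)).surjective zB
  have hb : Points.ofPt B.obj.hom b = Points.ofPt E'.obj.hom u :=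
    (congrFun (ofPt_comp_eq_map (hf.fst a)) b).trans hzB
  obtain ⟨r, hr, -⟩ := exists_prod_point E' B u b hb.symm
  let g₁ := EtOver.prodFst E' B
  let g₂ := EtOver.prodSnd E' B
  let q := (EtOver.bcπ hf EA).left
  haveI : IsIntegralHom q := (h EA).1
  let U : (hf.pullback a).left.Etale :=
    haveI : Etale g₂.hom.left.left := EtOver.etale_left g₂
    Scheme.Etale.mk g₂.hom.left.left
  obtain ⟨V, k, w, hw⟩ := EtPtsLib.liftsLocally_of_propC q (EtPtsLib.propC_of_integral q (h EA).2) U r
  let E : EtOver X := (EtOver.ofChart a ha).obj V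
  let φ : E ⟶ EA := EtOver.homMk (EtOver.homOfEtale V) rfl
  have hsq := EtOver.isPullback_bcMap_left hf φ
  let c : ((EtOver.bc hf).obj E).obj.left.left ≅ pullback V.hom q := hsq.flip.isoPullback
  have hk : k.left ≫ g₂.hom.left.left = pullback.snd V.hom q := MorphismProperty.Over.w k
  have hψ₂ : (c.hom ≫ k.left) ≫ g₂.hom.left.left = (EtOver.bcMap hf φ).hom.left.left :=
    (Category.assoc _ _ _).trans ((congrArg (c.hom ≫ ·) hk).trans hsq.flip.isoPullback_hom_snd)
  let ψ : ((EtOver.bc hf).obj E).obj.left ⟶ (EtOver.prodObj E' B).obj.left :=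
    Over.homMk (c.hom ≫ k.left) (by
      rw [← Over.w g₂.hom.left, ← Category.assoc, hψ₂]
      exact Over.w (EtOver.bcMap hf φ).hom.left)
  have hψ : ψ ≫ g₂.hom.left = (EtOver.bcMap hf φ).hom.left := Over.OverMorphism.ext hψ₂
  let g : (EtOver.bc hf).obj E ⟶ EtOver.prodObj E' B := EtOver.homMk ψ (by
    rw [← EtOver.w g₂, ← Category.assoc, ← Functor.map_comp, hψ]
    exact EtOver.w (EtOver.bcMap hf φ))
  refine ⟨E, g ≫ g₁, c.inv w, ?_⟩
  show ((c.hom ≫ k.left) ≫ g₁.hom.left.left) (c.inv w) = u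
  rw [← Scheme.Hom.comp_apply, ← Category.assoc, Iso.inv_hom_id_assoc, Scheme.Hom.comp_apply]
  exact (congrArg g₁.hom.left.left hw).trans hr

theorem isCoverDense_bc (hX : IsAlgSpace X) (h : BcIntInj hf) :
    (EtOver.bc hf).IsCoverDense (etTop Y) := ⟨fun E' => by
  choose E g hg using exists_bc_nhd hX h E'
  refine (etTop Y).superset_covering ?_
    (ofArrows_mem_etTop (fun u => (EtOver.bc hf).obj (E u)) g fun u => ⟨u, hg u⟩)
  rw [Sieve.ofArrows, Sieve.generate_le_iff]
  rintro _ _ ⟨u⟩
  exact Presieve.in_coverByImage _ _⟩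

theorem mem_range_bc_openIncl (E : EtOver X) (O : E.obj.left.left.Opens)
    (x : ↥((EtOver.bc hf).obj E).obj.left.left) (hx : (EtOver.bcπ hf E).left x ∈ O) :
    x ∈ Set.range ((EtOver.bc hf).map (openInclEt E O)).hom.left.left := by
  have sq := EtOver.isPullback_bcMap_left hf (openInclEt E O)
  obtain ⟨r, hr, -⟩ := Scheme.Pullback.exists_preimage_pullback (f := (EtOver.bcπ hf E).left) (g := (openInclEt E O).hom.left.left) x
    (⟨_, hx⟩ : O.toScheme) rfl
  refine ⟨sq.isoPullback.inv r, ?_⟩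
  exact (Scheme.Hom.comp_apply _ _ _).symm.trans ((congrArg (fun m => m r) sq.isoPullback_inv_fst).trans hr)

theorem isLocallyFull_bc (h : BcIntInj hf) : (EtOver.bc hf).IsLocallyFull (etTop Y) := ⟨fun {V₁ V₂} a => by
  let P := EtOver.prodObj V₁ V₂
  let p₁ : P ⟶ V₁ := EtOver.prodFst V₁ V₂
  let p₂ : P ⟶ V₂ := EtOver.prodSnd V₁ V₂
  let z : ((EtOver.bc hf).obj V₁).obj.left ⟶ P.obj.left :=
    V₂.property.1.lift' (a.hom.left ≫ hf.snd V₂.obj.hom) (hf.snd V₁.obj.hom) (by
      rw [Functor.map_comp, Category.assoc, ← hf.w, ← Category.assoc, ← hf.w]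
      exact congrArg (· ≫ f) (EtOver.w a))
  have hz₁ : z ≫ p₁.hom.left = hf.snd V₁.obj.hom := Functor.relativelyRepresentable.lift'_snd _ _ _ _
  have hz₂ : z ≫ p₂.hom.left = a.hom.left ≫ hf.snd V₂.obj.hom :=
    Functor.relativelyRepresentable.lift'_fst _ _ _ _
  let k : (EtOver.bc hf).obj V₁ ⟶ (EtOver.bc hf).obj P :=
    EtOver.homMk (hf.lift (g := P.obj.hom) ((EtOver.bc hf).obj V₁).obj.hom z (by
      rw [← EtOver.w p₁, ← Category.assoc, ← Functor.map_comp, hz₁]
      exact hf.w _)) (hf.lift_fst _ _ _)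
  have hk : k.hom.left ≫ hf.snd P.obj.hom = z := hf.lift_snd _ _ _
  have hk₁ : k ≫ (EtOver.bc hf).map p₁ = 𝟙 _ := EtOver.hom_ext _ _ (hf.hom_ext
    ((EtOver.w (k ≫ (EtOver.bc hf).map p₁)).trans (EtOver.w (𝟙 ((EtOver.bc hf).obj V₁))).symm)
    (by
      show (k.hom.left ≫ (EtOver.bcMap hf p₁).hom.left) ≫ _ = 𝟙 _ ≫ _
      rw [Category.assoc, EtOver.bcMap_snd, ← Category.assoc, hk, hz₁, Category.id_comp]))
  have hk₂ : k ≫ (EtOver.bc hf).map p₂ = a := EtOver.hom_ext _ _ (hf.hom_ext
    ((EtOver.w (k ≫ (EtOver.bc hf).map p₂)).trans (EtOver.w a).symm)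
    (by
      show (k.hom.left ≫ (EtOver.bcMap hf p₂).hom.left) ≫ _ = a.hom.left ≫ _
      rw [Category.assoc, EtOver.bcMap_snd, ← Category.assoc, hk, hz₂]))
  haveI := EtOver.etale_left k
  have hkm : Mono k.hom.left.left := by
    have e : k.hom.left.left ≫ ((EtOver.bc hf).map p₁).hom.left.left = 𝟙 _ :=
      congrArg (fun m => m.hom.left.left) hk₁
    exact (SplitMono.mk _ e).mono
  haveI : IsOpenImmersion k.hom.left.left := IsOpenImmersion.of_flat_of_mono _
  obtain ⟨O, hO, hOk⟩ := (h.isClosedEmbedding P).isInducing.isOpen_iff.1 k.hom.left.left.opensRange.2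
  let W : P.obj.left.left.Opens := ⟨O, hO⟩
  let i := openInclEt P W
  have hrange : Set.range ((EtOver.bc hf).map i).hom.left.left ⊆ Set.range k.hom.left.left := by
    rintro _ ⟨y, rfl⟩
    have e := EtOver.isPullback_bcMap_left hf i
    refine (Set.ext_iff.1 hOk _).1 (Set.mem_preimage.2 ?_)
    have e' := congrArg (fun m => m y) e.w
    exact Set.mem_of_eq_of_mem ((Scheme.Hom.comp_apply _ _ _).symm.trans e')
      ((hf.snd (openSubEt P W).obj.hom).left y : W.toScheme).2
  let m₀ := IsOpenImmersion.lift k.hom.left.left ((EtOver.bc hf).map i).hom.left.left hrange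
  have hm₀ : m₀ ≫ k.hom.left.left = ((EtOver.bc hf).map i).hom.left.left := IsOpenImmersion.lift_fac _ _ hrange
  have hm : (EtOver.bc hf).map (i ≫ p₁) ≫ a = (EtOver.bc hf).map (i ≫ p₂) := by
    let ψ : ((EtOver.bc hf).obj (openSubEt P W)).obj.left ⟶ ((EtOver.bc hf).obj V₁).obj.left :=
      Over.homMk m₀ (by
        rw [← Over.w k.hom.left, reassoc_of% hm₀]
        exact Over.w ((EtOver.bc hf).map i).hom.left)
    have hψ : ψ ≫ k.hom.left = ((EtOver.bc hf).map i).hom.left := Over.OverMorphism.ext hm₀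
    let m : (EtOver.bc hf).obj (openSubEt P W) ⟶ (EtOver.bc hf).obj V₁ := EtOver.homMk ψ (by
      rw [← EtOver.w k, ← Category.assoc, ← Functor.map_comp, hψ]
      exact EtOver.w _)
    have em : m ≫ k = (EtOver.bc hf).map i := EtOver.hom_ext _ _ hψ
    rw [Functor.map_comp, Functor.map_comp, ← em]
    simp only [Category.assoc, hk₂, reassoc_of% hk₁]
  refine (etTop Y).superset_covering ?_
    (ofArrows_mem_etTop (fun _ : PUnit.{1} => (EtOver.bc hf).obj (openSubEt P W))
      (fun _ => (EtOver.bc hf).map (i ≫ p₁)) fun w => ⟨PUnit.unit, ?_⟩)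
  · rw [Sieve.ofArrows, Sieve.generate_le_iff]
    rintro _ _ ⟨-⟩
    exact ⟨openSubEt P W, i ≫ p₁, 𝟙 _, ⟨i ≫ p₂, hm.symm⟩, (Category.id_comp _).symm⟩
  · obtain ⟨y, hy⟩ := mem_range_bc_openIncl (hf := hf) P W (k.hom.left.left w) (by
      show (EtOver.bcπ hf P).left (k.hom.left.left w) ∈ O
      rw [← Set.mem_preimage, hOk]
      exact ⟨w, rfl⟩)
    refine ⟨y, ?_⟩
    rw [Functor.map_comp]
    show (((EtOver.bc hf).map i).hom.left.left ≫ ((EtOver.bc hf).map p₁).hom.left.left) y = w
    rw [Scheme.Hom.comp_apply, hy, ← Scheme.Hom.comp_apply]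
    exact congrArg (fun m => m.hom.left.left w) hk₁⟩

section Functor

universe v' u'

variable (hX : IsAlgSpace X) (h : BcIntInj hf) (A : Type u') [Category.{v'} A]

include hX h in
theorem full_pushEt : (pushEt hf A).Full :=
  haveI := isCoverDense_bc hX h
  haveI := isLocallyFull_bc h
  inferInstance

include hX h in
theorem faithful_pushEt : (pushEt hf A).Faithful :=
  haveI := isCoverDense_bc hX h
  haveI := isLocallyFull_bc h
  inferInstance

include hX h in
theorem isIso_counit_pushEt [((EtOver.bc hf).sheafPushforwardContinuous A (etTop X) (etTop Y)).IsRightAdjoint] :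
    IsIso (pullPushAdjEt hf A).counit :=
  haveI := full_pushEt hX h A
  haveI := faithful_pushEt hX h A
  inferInstance

end Functor

end Groth.Agent.ASp
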