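import Groth.Agent.ASp.EtPushImage
import Mathlib.CategoryTheory.Abelian.RightDerived
/-!
Direct images along integral morphisms of algebraic spaces are exact.
-/

set_option autoImplicit false
set_option backward.isDefEq.respectTransparency false
set_option backward.isDefEq.respectTransparency.types false

universe u

open CategoryTheory CategoryTheory.Limits AlgebraicGeometry Opposite Topology

namespace Groth.Agent.ASp

open _root_.AlgSp

variable {S : Scheme.{u}}

section Glue

variable {Z : Sp S} (F : EtSh Z (Type (u + 1))) (E : EtOver Z) {ι : Type*} (W : ι → E.obj.left.left.Opens)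
  (hcov : ∀ x, ∃ a, x ∈ W a)

include hcov in
theorem openSubEt_cover_mem :
    Sieve.ofArrows (fun a => openSubEt E (W a)) (fun a => openInclEt E (W a)) ∈ etTop Z E :=
  ofArrows_mem_etTop _ _ fun x => by
    obtain ⟨a, ha⟩ := hcov x
    exact ⟨a, (⟨x, ha⟩ : (W a).toScheme), rfl⟩

include hcov in
theorem sect_eq_of_opens (s t : F.obj.obj (op E))
    (h : ∀ a, F.obj.map (openInclEt E (W a)).op s = F.obj.map (openInclEt E (W a)).op t) : s = t := by
  refine ((isSheaf_iff_isSheaf_of_type _ _).1 F.2 _ (openSubEt_cover_mem E W hcov)).isSeparatedFor.ext ?_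
  rintro V _ ⟨V', l, _, ⟨a⟩, rfl⟩
  rw [op_comp, Functor.map_comp_apply, Functor.map_comp_apply, h a]

include hcov in
theorem exists_glue_opens (hd : ∀ a b, a ≠ b → Disjoint (W a) (W b))
    (s : ∀ a, F.obj.obj (op (openSubEt E (W a)))) :
    ∃ t : F.obj.obj (op E), ∀ a, F.obj.map (openInclEt E (W a)).op t = s a := by
  have hs : Presieve.IsSheafFor F.obj (Presieve.ofArrows (fun a => openSubEt E (W a)) fun a => openInclEt E (W a)) :=
    (Presieve.isSheafFor_iff_generate _).2
      ((isSheaf_iff_isSheaf_of_type _ _).1 F.2 _ (openSubEt_cover_mem E W hcov))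
  obtain ⟨t, ht, -⟩ := (Presieve.isSheafFor_arrows_iff _ _).1 hs s fun a b V ga gb e => by
    by_cases hab : a = b
    · subst hab
      have : ga = gb := EtOver.hom_ext _ _ (Over.OverMorphism.ext
        ((cancel_mono (W a).ι).1 (congrArg (fun m => m.hom.left.left) e)))
      rw [this]
    · have hE : IsEmpty ↥V.obj.left.left := ⟨fun z => by
        have ha : ((openInclEt E (W a)).hom.left.left) (ga.hom.left.left z) ∈ W a :=
          (ga.hom.left.left z : (W a).toScheme).2
        have hb : ((openInclEt E (W b)).hom.left.left) (gb.hom.left.left z) ∈ W b :=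
          (gb.hom.left.left z : (W b).toScheme).2
        have e' : ((openInclEt E (W a)).hom.left.left) (ga.hom.left.left z) =
            ((openInclEt E (W b)).hom.left.left) (gb.hom.left.left z) :=
          congrArg (fun m => m.hom.left.left z) e
        rw [e'] at ha
        exact Set.disjoint_left.1 (TopologicalSpace.Opens.coe_disjoint.2 (hd a b hab)) ha hb⟩
      haveI : Subsingleton (F.obj.obj (op V)) :=
        haveI u := Types.isTerminalEquivUnique _ (Sheaf.isTerminalOfBotCover F _ (bot_mem_etTop hE))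
        @Unique.instSubsingleton _ u
      exact Subsingleton.elim _ _
  exact ⟨t, ht⟩

end Glue

variable {X Y : Sp S} {f : Y ⟶ X} {hf : Representable f}

theorem isLocallySurjective_pushEt (hI : ∀ E : EtOver X, IsIntegralHom (EtOver.bcπ hf E).left)
    {F G : EtSh Y (Type (u + 1))} (a : F ⟶ G) (ha : Sheaf.IsLocallySurjective a) :
    Sheaf.IsLocallySurjective ((pushEt hf (Type (u + 1))).map a) := ⟨fun {E} t => by
  classical
  haveI : IsIntegralHom (EtOver.bcπ hf E).left := hI E
  have ht : Presheaf.imageSieve a.hom t ∈ etTop Y ((EtOver.bc hf).obj E) :=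
    Presheaf.imageSieve_mem (etTop Y) a.hom t
  obtain ⟨R₀, hR₀, hle⟩ := Precoverage.mem_toGrothendieck_iff_of_isStableUnderComposition.1 ht
  obtain ⟨ι, Z', g', rfl⟩ := Presieve.exists_eq_ofArrows R₀
  choose sel hsel using (ofArrows_mem_etPre_iff Z' g').1 hR₀
  choose s hs using fun w => (hle _ _ ⟨sel w⟩ : Presheaf.imageSieve a.hom t (g' (sel w)))
  have key : ∀ y : ↥E.obj.left.left, ∃ (E' : EtOver X) (φ : E' ⟶ E), y ∈ Set.range φ.hom.left.left ∧
      Presheaf.imageSieve ((pushEt hf (Type (u + 1))).map a).hom t φ := fun y => by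
    obtain ⟨T, gT, hT, hy, μ, W, hd, htop, hW⟩ := EtPtsLib.exists_parts (EtOver.bcπ hf E).left
      (fun w => (Z' (sel w)).obj.left.left) (fun w => (g' (sel w)).hom.left.left)
      (fun w => EtOver.etale_left _) y (fun w _ => ⟨w, hsel w⟩)
    haveI := hT
    let i₀ : Over.mk (gT ≫ E.obj.left.hom) ⟶ E.obj.left := Over.homMk gT rfl
    let E' : EtOver X := EtOver.mk ((yon S).map i₀ ≫ E.obj.hom)
      (repWith_comp (repWith_yon_map (g := i₀) hT) E.property)
    let φ : E' ⟶ E := EtOver.homMk i₀ rfl
    have sq := EtOver.isPullback_bcMap_left hf φ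
    let c : ((EtOver.bc hf).obj E').obj.left.left ≅ pullback (EtOver.bcπ hf E).left gT := sq.isoPullback
    let O : μ → ((EtOver.bc hf).obj E').obj.left.left.Opens := fun b => c.hom ⁻¹ᵁ W b
    have hcov : ∀ x, ∃ b, x ∈ O b := fun x => by
      have : c.hom x ∈ ⨆ b, W b := by rw [htop]; trivial
      obtain ⟨b, hb⟩ := TopologicalSpace.Opens.mem_iSup.1 this
      exact ⟨b, hb⟩
    have hd' : ∀ b b', b ≠ b' → Disjoint (O b) (O b') := fun b b' e => by
      rw [← TopologicalSpace.Opens.coe_disjoint]
      exact (TopologicalSpace.Opens.coe_disjoint.2 (hd b b' e)).preimage _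
    have hk : ∀ b, ∃ (w : _) (k : openSubEt ((EtOver.bc hf).obj E') (O b) ⟶ Z' (sel w)),
        k ≫ g' (sel w) = openInclEt _ (O b) ≫ (EtOver.bc hf).map φ := fun b => by
      obtain ⟨w, h, hh⟩ := hW b
      have e₂ : ((c.hom ∣_ W b) ≫ h) ≫ (g' (sel w)).hom.left.left =
          (openInclEt _ (O b)).hom.left.left ≫ ((EtOver.bc hf).map φ).hom.left.left := by
        rw [Category.assoc, hh, ← Category.assoc, morphismRestrict_ι, Category.assoc]
        exact congrArg ((O b).ι ≫ ·) sq.isoPullback_hom_fst
      let k₀ : (openSubEt ((EtOver.bc hf).obj E') (O b)).obj.left ⟶ (Z' (sel w)).obj.left :=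
        Over.homMk ((c.hom ∣_ W b) ≫ h) (by
          rw [← Over.w (g' (sel w)).hom.left, ← Category.assoc, e₂]
          exact Over.w ((openInclEt _ (O b)) ≫ (EtOver.bc hf).map φ).hom.left)
      have e₃ : k₀ ≫ (g' (sel w)).hom.left = ((openInclEt _ (O b)) ≫ (EtOver.bc hf).map φ).hom.left :=
        Over.OverMorphism.ext e₂
      refine ⟨w, EtOver.homMk k₀ ?_, EtOver.hom_ext _ _ e₃⟩
      rw [← EtOver.w (g' (sel w)), ← Category.assoc, ← Functor.map_comp, e₃]
      exact EtOver.w _
    choose w k hk using hk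
    obtain ⟨r, hr⟩ := exists_glue_opens F _ O hcov hd' fun b => F.obj.map (k b).op (s (w b))
    refine ⟨E', φ, hy, r, sect_eq_of_opens G _ O hcov _ _ fun b => ?_⟩
    refine ((NatTrans.naturality_apply a.hom (openInclEt _ (O b)).op r).symm.trans ?_)
    rw [hr b, NatTrans.naturality_apply a.hom (k b).op, hs (w b)]
    show G.obj.map (k b).op (G.obj.map (g' (sel (w b))).op t) =
      G.obj.map (openInclEt _ (O b)).op (G.obj.map ((EtOver.bc hf).map φ).op t)
    rw [← Functor.map_comp_apply, ← Functor.map_comp_apply, ← op_comp, ← op_comp, hk b]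
  choose E' φ hy hφ using key
  refine (etTop X).superset_covering ?_ (ofArrows_mem_etTop E' φ fun y => ⟨y, hy y⟩)
  rw [Sieve.ofArrows, Sieve.generate_le_iff]
  rintro _ _ ⟨y⟩
  exact hφ y⟩

theorem isLocallySurjective_pushEt_ab (hI : ∀ E : EtOver X, IsIntegralHom (EtOver.bcπ hf E).left)
    {F G : AbEt Y} (a : F ⟶ G) [Epi a] : Epi ((pushEt hf AddCommGrpCat.{u + 1}).map a) := by
  have ha : Sheaf.IsLocallySurjective a := (Sheaf.isLocallySurjective_iff_epi' (φ := a)).2 inferInstance
  have h := isLocallySurjective_pushEt hI ((sheafCompose (etTop Y) (forget AddCommGrpCat.{u + 1})).map a)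
    ⟨fun t => ha.imageSieve_mem t⟩
  exact (Sheaf.isLocallySurjective_iff_epi' (φ := (pushEt hf AddCommGrpCat.{u + 1}).map a)).1 ⟨fun t => h.imageSieve_mem t⟩

theorem preservesHomology_pushEt (hI : ∀ E : EtOver X, IsIntegralHom (EtOver.bcπ hf E).left) :
    (pushEt hf AddCommGrpCat.{u + 1}).PreservesHomology := by
  haveI : (pushEt hf AddCommGrpCat.{u + 1}).PreservesEpimorphisms :=
    ⟨fun a _ => isLocallySurjective_pushEt_ab hI a⟩
  haveI : PreservesLimits (pushEt hf AddCommGrpCat.{u + 1}) :=
    (pullPushAdjEt hf AddCommGrpCat.{u + 1}).rightAdjoint_preservesLimits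
  exact Functor.preservesHomology_of_preservesEpis_and_kernels _

theorem isZero_rightDerived_of_exact {C D : Type*} [Category* C] [Category* D] [Abelian C] [Abelian D]
    [HasInjectiveResolutions C] (F : C ⥤ D) [F.Additive] [F.PreservesHomology] (X₀ : C) (p : ℕ) (hp : 0 < p) :
    IsZero ((F.rightDerived p).obj X₀) := by
  obtain ⟨n, rfl⟩ := Nat.exists_eq_succ_of_ne_zero hp.ne'
  refine IsZero.of_iso ?_ ((injectiveResolution X₀).isoRightDerivedObj F (n + 1))
  show IsZero (((F.mapHomologicalComplex _).obj (injectiveResolution X₀).cocomplex).homology (n + 1))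
  rw [← HomologicalComplex.exactAt_iff_isZero_homology]
  exact ((injectiveResolution X₀).cocomplex_exactAt_succ n).map F

end Groth.Agent.ASp
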