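import Groth.Agent.ASp.EtPush
import Mathlib.CategoryTheory.Sites.DenseSubsite.InducedTopology
import Mathlib.CategoryTheory.Sites.DenseSubsite.SheafEquiv
/-!
Essential image of direct images along integral universally injective morphisms of algebraic spaces.
-/

set_option autoImplicit false
set_option backward.isDefEq.respectTransparency false
set_option backward.isDefEq.respectTransparency.types false

universe u

open CategoryTheory CategoryTheory.Limits AlgebraicGeometry Opposite Topology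

namespace Groth.Agent.ASp

open _root_.AlgSp

variable {S : Scheme.{u}} {X Y : Sp S} {f : Y ⟶ X} {hf : Representable f}

theorem range_map_hom {Z : Sp S} (E : EtOver Z) :
    Set.range (Points.map E.obj.hom) = Set.range (Points.ofPt E.obj.hom) := by
  rw [ofPt_comp_eq_map, EquivLike.range_comp]

/-- A point of an étale scheme over the target lying over the image comes from the base change. -/
theorem mem_range_bcπ_iff (E : EtOver X) (y : ↥E.obj.left.left) :
    Points.ofPt E.obj.hom y ∈ Set.range (Points.map f) ↔ y ∈ Set.range (EtOver.bcπ hf E).left := by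
  constructor
  · rintro ⟨x, hx⟩
    obtain ⟨z, -, hz⟩ := points_exists_of_isPullback (hf.isPullback E.obj.hom) x (Points.schemeHomeo _ y)
      (hx.trans (congrFun (ofPt_comp_eq_map E.obj.hom) y))
    obtain ⟨w, rfl⟩ := (Points.schemeHomeo (hf.pullback E.obj.hom)).surjective z
    exact ⟨w, (Points.schemeHomeo _).injective ((Points.map_yon_map_apply _ w).symm.trans hz)⟩
  · rintro ⟨w, rfl⟩
    refine ⟨Points.ofPt (hf.fst E.obj.hom) w, ?_⟩
    rw [Points.map_ofPt, hf.w, ofPt_yon_map_comp]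
    rfl

/-- Objects whose image misses the image of `f`. -/
def OffImage (f : Y ⟶ X) (E : EtOver X) : Prop :=
  Disjoint (Set.range (Points.map E.obj.hom)) (Set.range (Points.map f))

theorem OffImage.of_hom {E E' : EtOver X} (g : E' ⟶ E) (h : OffImage f E) : OffImage f E' := by
  unfold OffImage at *
  rw [range_map_hom] at *
  refine h.mono_left ?_
  rintro _ ⟨y, rfl⟩
  exact ⟨g.hom.left.left y, ofPt_map g y⟩

theorem OffImage.isEmpty_bc {E : EtOver X} (h : OffImage f E) :
    IsEmpty ↥((EtOver.bc hf).obj E).obj.left.left := by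
  rw [OffImage, range_map_hom] at h
  exact ⟨fun w => Set.disjoint_left.1 h ⟨(EtOver.bcπ hf E).left w, rfl⟩
    ((mem_range_bcπ_iff E _).2 ⟨w, rfl⟩)⟩

theorem bot_mem_etTop {Z : Sp S} {E : EtOver Z} (h : IsEmpty ↥E.obj.left.left) : (⊥ : Sieve E) ∈ etTop Z E :=
  (etTop Z).superset_covering (by rw [Sieve.ofArrows, Sieve.generate_le_iff]; rintro _ _ ⟨i⟩; exact i.elim)
    (ofArrows_mem_etTop (fun i : PEmpty.{1} => (i.elim : EtOver Z)) (fun i => i.elim) fun x => h.elim x)

theorem isLocallyFaithful_bc : (EtOver.bc hf).IsLocallyFaithful (etTop Y) := ⟨fun {V₁ V₂} g₁ g₂ e => by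
  let Q := EtOver.prodObj V₂ V₂
  obtain ⟨d, hd₁, hd₂⟩ : ∃ d : V₂ ⟶ Q, d ≫ EtOver.prodFst V₂ V₂ = 𝟙 _ ∧ d ≫ EtOver.prodSnd V₂ V₂ = 𝟙 _ :=
    ⟨_, (EtOver.prodIsLimit V₂ V₂).fac (BinaryFan.mk (𝟙 _) (𝟙 _)) ⟨WalkingPair.left⟩,
      (EtOver.prodIsLimit V₂ V₂).fac (BinaryFan.mk (𝟙 _) (𝟙 _)) ⟨WalkingPair.right⟩⟩
  obtain ⟨c, hc₁, hc₂⟩ : ∃ c : V₁ ⟶ Q, c ≫ EtOver.prodFst V₂ V₂ = g₁ ∧ c ≫ EtOver.prodSnd V₂ V₂ = g₂ :=
    ⟨_, (EtOver.prodIsLimit V₂ V₂).fac (BinaryFan.mk g₁ g₂) ⟨WalkingPair.left⟩,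
      (EtOver.prodIsLimit V₂ V₂).fac (BinaryFan.mk g₁ g₂) ⟨WalkingPair.right⟩⟩
  let M := EtOver.pullbackObj d c
  let s : M ⟶ V₁ := EtOver.pullbackSnd d c
  have hs : s ≫ g₁ = s ≫ g₂ := by
    rw [← hc₁, ← hc₂, ← Category.assoc, ← Category.assoc, ← EtOver.pullback_condition, Category.assoc,
      Category.assoc, hd₁, hd₂]
  let π := hf.snd V₁.obj.hom
  have hπ : π ≫ g₁.hom.left = π ≫ g₂.hom.left := by
    rw [← EtOver.bcMap_snd hf g₁, ← EtOver.bcMap_snd hf g₂]
    exact congrArg (fun m => m.hom.left ≫ hf.snd V₂.obj.hom) e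
  let z : ((EtOver.bc hf).obj V₁).obj.left ⟶ M.obj.left := pullback.lift (π ≫ g₁.hom.left) π (by
    refine Functor.relativelyRepresentable.hom_ext' _ ?_ ?_
    · show ((π ≫ g₁.hom.left) ≫ d.hom.left) ≫ (EtOver.prodSnd V₂ V₂).hom.left =
        (π ≫ c.hom.left) ≫ (EtOver.prodSnd V₂ V₂).hom.left
      rw [Category.assoc _ d.hom.left, Category.assoc _ c.hom.left,
        show d.hom.left ≫ (EtOver.prodSnd V₂ V₂).hom.left = 𝟙 _ from congrArg (fun k => k.hom.left) hd₂,
        show c.hom.left ≫ (EtOver.prodSnd V₂ V₂).hom.left = g₂.hom.left from congrArg (fun k => k.hom.left) hc₂,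
        Category.comp_id, hπ]
    · show ((π ≫ g₁.hom.left) ≫ d.hom.left) ≫ (EtOver.prodFst V₂ V₂).hom.left =
        (π ≫ c.hom.left) ≫ (EtOver.prodFst V₂ V₂).hom.left
      rw [Category.assoc _ d.hom.left, Category.assoc _ c.hom.left,
        show d.hom.left ≫ (EtOver.prodFst V₂ V₂).hom.left = 𝟙 _ from congrArg (fun k => k.hom.left) hd₁,
        show c.hom.left ≫ (EtOver.prodFst V₂ V₂).hom.left = g₁.hom.left from congrArg (fun k => k.hom.left) hc₁,
        Category.comp_id])
  have hz : z ≫ s.hom.left = π := pullback.lift_snd _ _ _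
  refine (etTop Y).superset_covering ?_
    (ofArrows_mem_etTop (fun _ : PUnit.{1} => (EtOver.bc hf).obj M)
      (fun _ => (EtOver.bc hf).map s) fun w => ⟨PUnit.unit, ?_⟩)
  · rw [Sieve.ofArrows, Sieve.generate_le_iff]
    rintro _ _ ⟨-⟩
    exact ⟨M, s, 𝟙 _, hs, (Category.id_comp _).symm⟩
  · have sq := EtOver.isPullback_bcMap_left hf s
    obtain ⟨r, hr, -⟩ := Scheme.Pullback.exists_preimage_pullback (f := π.left) (g := s.hom.left.left) w (z.left w)
      ((congrArg (fun m => m.left w) hz).symm.trans (Scheme.Hom.comp_apply _ _ _))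
    exact ⟨sq.isoPullback.inv r,
      (Scheme.Hom.comp_apply _ _ _).symm.trans ((congrArg (fun m => m r) sq.isoPullback_inv_fst).trans hr)⟩⟩

variable (hX : IsAlgSpace X) (h : BcIntInj hf)

include h in
/-- A sheaf with one value off the image is a sheaf for the topology induced by base change. -/
theorem isSheaf_induced_of_unique (G : EtSh X (Type (u + 1)))
    (hG : ∀ E : EtOver X, OffImage f E → Nonempty (Unique (G.obj.obj (op E))))
    {E : EtOver X} (R : Sieve E) (hR : R.functorPushforward (EtOver.bc hf) ∈ etTop Y ((EtOver.bc hf).obj E)) :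
    Presieve.IsSheafFor G.obj R.arrows := by
  let R' : Sieve E :=
    { arrows := fun Z g => R g ∨ OffImage f Z
      downward_closed := by
        rintro A B g (hg | hg) k
        · exact Or.inl (R.downward_closed hg k)
        · exact Or.inr (hg.of_hom k) }
  have hR' : R' ∈ etTop X E := by
    let ι := {k : Σ Z : EtOver X, (Z ⟶ E) // R' k.2}
    refine (etTop X).superset_covering ?_ (ofArrows_mem_etTop (fun k : ι => k.1.1) (fun k => k.1.2) fun y => ?_)
    · rw [Sieve.ofArrows, Sieve.generate_le_iff]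
      rintro _ _ ⟨k⟩
      exact k.2
    by_cases hy : y ∈ Set.range (EtOver.bcπ hf E).left
    · obtain ⟨w, rfl⟩ := hy
      obtain ⟨R₀, hR₀, hle⟩ := Precoverage.mem_toGrothendieck_iff_of_isStableUnderComposition.1 hR
      obtain ⟨ι', Z', g', rfl⟩ := Presieve.exists_eq_ofArrows R₀
      obtain ⟨i, v, hv⟩ := (ofArrows_mem_etPre_iff Z' g').1 hR₀ w
      obtain ⟨Z, g, l, hg, hl⟩ := hle _ _ ⟨i⟩
      refine ⟨⟨⟨Z, g⟩, Or.inl hg⟩, (EtOver.bcπ hf Z).left (l.hom.left.left v), ?_⟩
      have e1 := congrArg (fun m => m (l.hom.left.left v)) (EtOver.isPullback_bcMap_left hf g).w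
      refine ((Scheme.Hom.comp_apply _ _ _).symm.trans e1.symm).trans ((Scheme.Hom.comp_apply _ _ _).trans ?_)
      refine congrArg (EtOver.bcπ hf E).left ?_
      exact (Scheme.Hom.comp_apply _ _ _).symm.trans ((congrArg (fun m => m.hom.left.left v) hl.symm).trans hv)
    · let O : E.obj.left.left.Opens :=
        ⟨(Set.range (EtOver.bcπ hf E).left)ᶜ, (h.isClosedEmbedding E).isClosed_range.isOpen_compl⟩
      refine ⟨⟨⟨openSubEt E O, openInclEt E O⟩, Or.inr ?_⟩, (⟨y, hy⟩ : O.toScheme), rfl⟩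
      rw [OffImage, range_map_hom, Set.disjoint_left]
      rintro _ ⟨o, rfl⟩ ho
      rw [← ofPt_map (openInclEt E O) o] at ho
      exact (o : O.toScheme).2 ((mem_range_bcπ_iff E _).1 ho)
  have hs : Presieve.IsSheafFor G.obj R'.arrows := (isSheaf_iff_isSheaf_of_type _ _).1 G.2 _ hR'
  have hsub : ∀ Z : EtOver X, OffImage f Z → Subsingleton (G.obj.obj (op Z)) := fun Z hZ => by
    obtain ⟨U⟩ := hG Z hZ
    exact @Unique.instSubsingleton _ U
  intro x hx
  classical
  let x' : Presieve.FamilyOfElements G.obj R'.arrows := fun Z g hg =>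
    if hgR : R g then x g hgR else (hG Z (hg.resolve_left hgR)).some.default
  have hx' : x'.Compatible := by
    intro A B C k₁ k₂ g₁ g₂ hg₁ hg₂ e
    by_cases hC : OffImage f C
    · exact (hsub C hC).elim _ _
    have h₁ : R g₁ := hg₁.resolve_right fun h => hC (h.of_hom k₁)
    have h₂ : R g₂ := hg₂.resolve_right fun h => hC (h.of_hom k₂)
    simp only [x', dif_pos h₁, dif_pos h₂]
    exact hx k₁ k₂ h₁ h₂ e
  refine ⟨hs.amalgamate x' hx', fun Z g hg => ?_, fun t ht => ?_⟩
  · exact (hs.valid_glue hx' g (Or.inl hg)).trans (dif_pos hg)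
  · refine hs.isSeparatedFor.ext fun Z g hg => ?_
    rcases hg with hg | hg
    · exact (ht g hg).trans ((hs.valid_glue hx' g (Or.inl hg)).trans (dif_pos hg)).symm
    · exact (hsub Z hg).elim _ _

section

universe v' u'

variable {A : Type u'} [Category.{v'} A]

include hX h in
theorem mem_essImage_pushEt [∀ E, HasLimitsOfShape (StructuredArrow E (EtOver.bc hf).op) A] (G : EtSh X A)
    (hG : Presheaf.IsSheaf ((EtOver.bc hf).inducedTopology (etTop Y)) G.obj) : (pushEt hf A).essImage G := by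
  haveI := isCoverDense_bc hX h
  haveI := isLocallyFull_bc h
  haveI := isLocallyFaithful_bc (hf := hf)
  let J' := (EtOver.bc hf).inducedTopology (etTop Y)
  let P := (EtOver.bc hf).sheafPushforwardContinuous A J' (etTop Y)
  let G' : Sheaf J' A := ⟨G.obj, hG⟩
  exact ⟨P.objPreimage G', ⟨(sheafToPresheaf (etTop X) A).preimageIso
    ((sheafToPresheaf J' A).mapIso (P.objObjPreimageIso G'))⟩⟩

end

theorem unique_of_essImage {G : EtSh X (Type (u + 1))} (hG : (pushEt hf (Type (u + 1))).essImage G)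
    (E : EtOver X) (hE : OffImage f E) : Nonempty (Unique (G.obj.obj (op E))) := by
  obtain ⟨F, ⟨e⟩⟩ := hG
  exact ⟨Types.isTerminalEquivUnique _ (IsTerminal.ofIso
    (Sheaf.isTerminalOfBotCover F _ (bot_mem_etTop hE.isEmpty_bc))
    (((sheafToPresheaf _ _).mapIso e).app (op E)))⟩

theorem subsingleton_of_essImage {G : AbEt X} (hG : (pushEt hf AddCommGrpCat.{u + 1}).essImage G)
    (E : EtOver X) (hE : OffImage f E) : Subsingleton ↥(G.obj.obj (op E)) := by
  obtain ⟨F, ⟨e⟩⟩ := hG
  exact AddCommGrpCat.subsingleton_of_isZero ((IsTerminal.ofIso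
    (Sheaf.isTerminalOfBotCover F _ (bot_mem_etTop hE.isEmpty_bc))
    (((sheafToPresheaf _ _).mapIso e).app (op E))).isZero)

include hX h in
theorem essImage_pushEt_type (G : EtSh X (Type (u + 1)))
    (hG : ∀ E : EtOver X, OffImage f E → Nonempty (Unique (G.obj.obj (op E)))) :
    (pushEt hf (Type (u + 1))).essImage G := by
  haveI := isCoverDense_bc hX h
  haveI := isLocallyFull_bc h
  haveI := isLocallyFaithful_bc (hf := hf)
  refine mem_essImage_pushEt hX h G ((isSheaf_iff_isSheaf_of_type _ _).2 fun E R hR => ?_)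
  exact isSheaf_induced_of_unique h G hG R ((Functor.mem_inducedTopology_iff_of_isCoverDense _ _ _).1 hR)

include hX h in
theorem essImage_pushEt_ab (G : AbEt X)
    (hG : ∀ E : EtOver X, OffImage f E → Subsingleton ↥(G.obj.obj (op E))) :
    (pushEt hf AddCommGrpCat.{u + 1}).essImage G := by
  haveI := isCoverDense_bc hX h
  haveI := isLocallyFull_bc h
  haveI := isLocallyFaithful_bc (hf := hf)
  refine mem_essImage_pushEt hX h G ?_
  rw [Presheaf.isSheaf_iff_isSheaf_forget _ _ (forget AddCommGrpCat.{u + 1})]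
  refine (isSheaf_iff_isSheaf_of_type _ _).2 fun E R hR => ?_
  exact isSheaf_induced_of_unique h ((sheafCompose (etTop X) (forget AddCommGrpCat.{u + 1})).obj G)
    (fun E hE => ⟨@uniqueOfSubsingleton _ (hG E hE) (0 : ↥(G.obj.obj (op E)))⟩) R
    ((Functor.mem_inducedTopology_iff_of_isCoverDense _ _ _).1 hR)

end Groth.Agent.ASp
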