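import Groth.Agent.ASp.EtPush
import Groth.Prelude.Def_AlgSpOX3
import Mathlib.CategoryTheory.Limits.Types.Filtered
/-!
Stalks of direct images along integral universally injective morphisms of algebraic spaces.
-/

set_option autoImplicit false
set_option backward.isDefEq.respectTransparency false
set_option backward.isDefEq.respectTransparency.types false

universe u

open CategoryTheory CategoryTheory.Limits AlgebraicGeometry Opposite Topology

namespace Groth.Agent.ASp

open _root_.AlgSp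

variable {S : Scheme.{u}} {X Y : Sp S} {f : Y ⟶ X} (hf : Representable f) (z : FieldPt Y)

/-- An étale neighbourhood of the image point gives one of the point. -/
noncomputable def liftNbhd : EtNbhd (z.map f) ⥤ EtNbhd z where
  obj N := ⟨(EtOver.bc hf).obj N.1, ⟨hf.lift z.toHom N.2.1 ((N.2.2.trans (FieldPt.toHom_map f z)).symm),
    hf.lift_fst _ _ _⟩⟩
  map {N N'} g := ⟨(EtOver.bc hf).map g.1, Subtype.ext (hf.hom_ext
    (by
      show (yon S).map (hf.lift _ _ _ ≫ (EtOver.bcMap hf g.1).hom.left) ≫ _ = (yon S).map (hf.lift _ _ _) ≫ _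
      rw [Functor.map_comp, Category.assoc, EtOver.map_bcMap_fst, hf.lift_fst, hf.lift_fst])
    (by
      show (hf.lift _ _ _ ≫ (EtOver.bcMap hf g.1).hom.left) ≫ _ = hf.lift _ _ _ ≫ _
      rw [Category.assoc, EtOver.bcMap_snd, ← Category.assoc, hf.lift_snd, hf.lift_snd]
      exact congrArg Subtype.val g.2))⟩
  map_id N := Subtype.ext ((EtOver.bc hf).map_id _)
  map_comp g g' := Subtype.ext ((EtOver.bc hf).map_comp _ _)

theorem liftNbhd_snd (N : EtNbhd (z.map f)) :
    ((liftNbhd hf z).obj N).2.1 ≫ hf.snd N.1.obj.hom = N.2.1 := hf.lift_snd _ _ _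

variable (F : EtSh Y (Type (u + 1)))

/-- The canonical map from the stalk of the direct image to the stalk. -/
noncomputable def pushStalkHom : stalkEt (z.map f) ((pushEt hf (Type (u + 1))).obj F) ⟶ stalkEt z F :=
  colimit.pre (stalkEtDiagram z F) (liftNbhd hf z).op

theorem pushStalkHom_ι (N : EtNbhd (z.map f)) (s : F.obj.obj (op ((EtOver.bc hf).obj N.1))) :
    pushStalkHom hf z F (stalkEtι (z.map f) ((pushEt hf (Type (u + 1))).obj F) N s) =
      stalkEtι z F ((liftNbhd hf z).obj N) s :=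
  ConcreteCategory.congr_hom (colimit.ι_pre (stalkEtDiagram z F) (liftNbhd hf z).op (op N)) s

variable {hf} {z}

theorem pushStalkHom_surjective (hX : IsAlgSpace X) (h : BcIntInj hf) (hz : z.IsGeometric) :
    Function.Surjective (pushStalkHom hf z F) := fun a => by
  obtain ⟨⟨⟨E', l⟩⟩, s, rfl⟩ := Types.jointly_surjective' a
  obtain ⟨E, g, hg⟩ := exists_bc_nhd hX h E' (l.1.left (IsLocalRing.closedPoint z.K))
  obtain ⟨l', hl'⟩ := exists_liftsTo_of_mem_range hz g l hg
  let N : EtNbhd (z.map f) := ⟨E, ⟨l'.1 ≫ hf.snd E.obj.hom, by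
    refine Eq.trans ?_ (FieldPt.toHom_map f z).symm
    rw [Functor.map_comp, Category.assoc, ← hf.w, ← Category.assoc]
    exact congrArg (· ≫ f) l'.2⟩⟩
  have hN : ((liftNbhd hf z).obj N).2 = l' := Subtype.ext (hf.hom_ext
    ((hf.lift_fst _ _ _).trans l'.2.symm) (hf.lift_snd _ _ _))
  refine ⟨stalkEtι (z.map f) ((pushEt hf (Type (u + 1))).obj F) N (F.obj.map g.op s), ?_⟩
  rw [pushStalkHom_ι]
  let m : @Quiver.Hom (EtNbhd z) _ ((liftNbhd hf z).obj N) ⟨E', l⟩ := ⟨g, by rw [← hl', ← hN]; rfl⟩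
  exact ConcreteCategory.congr_hom (colimit.w (stalkEtDiagram z F) m.op) s

theorem pushStalkHom_injective (hX : IsAlgSpace X) (hY : IsAlgSpace Y) (h : BcIntInj hf) (hz : z.IsGeometric) :
    Function.Injective (pushStalkHom hf z F) := fun a b hab => by
  haveI := isFiltered_etNbhd hX (p := z.map f) hz
  haveI := isFiltered_etNbhd hY hz
  let P := (pushEt hf (Type (u + 1))).obj F
  obtain ⟨⟨N₁⟩, s₁, rfl⟩ := Types.jointly_surjective' a
  obtain ⟨⟨N₂⟩, t₁, rfl⟩ := Types.jointly_surjective' b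
  obtain ⟨N, ⟨a₁⟩, ⟨a₂⟩⟩ := exists_prod N₁ N₂
  have ea := ConcreteCategory.congr_hom (colimit.w (stalkEtDiagram (z.map f) P) a₁.op) s₁
  have eb := ConcreteCategory.congr_hom (colimit.w (stalkEtDiagram (z.map f) P) a₂.op) t₁
  let s : F.obj.obj (op ((EtOver.bc hf).obj N.1)) := P.obj.map a₁.1.op s₁
  let t : F.obj.obj (op ((EtOver.bc hf).obj N.1)) := P.obj.map a₂.1.op t₁
  have ea' : colimit.ι (stalkEtDiagram (z.map f) P) (op N₁) s₁ = stalkEtι (z.map f) P N s := ea.symm
  have eb' : colimit.ι (stalkEtDiagram (z.map f) P) (op N₂) t₁ = stalkEtι (z.map f) P N t := eb.symm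
  rw [ea', eb'] at hab ⊢
  rw [pushStalkHom_ι, pushStalkHom_ι] at hab
  have hl := (ι_eq_ι_iff F s t hz ((liftNbhd hf z).obj N).2).1 hab
  obtain ⟨W, hW, hWe⟩ := (h.isClosedEmbedding N.1).isInducing.isOpen_iff.1 (isOpen_agreeSet F s t)
  let W' : N.1.obj.left.left.Opens := ⟨W, hW⟩
  have hu : N.2.1.left (IsLocalRing.closedPoint z.K) ∈ W := by
    have e := congrArg (fun m => m.left (IsLocalRing.closedPoint z.K)) (liftNbhd_snd hf z N)
    exact Set.mem_of_eq_of_mem (e.symm.trans (Scheme.Hom.comp_apply _ _ _))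
      ((Set.ext_iff.1 hWe _).2 hl)
  obtain ⟨l', hl'⟩ := exists_liftsTo_of_mem_range (p := z.map f) hz (openInclEt N.1 W') N.2
    ((Set.ext_iff.1 (range_openInclEt N.1 W') _).2 hu)
  let m : @Quiver.Hom (EtNbhd (z.map f)) _ ⟨openSubEt N.1 W', l'⟩ N := ⟨openInclEt N.1 W', hl'⟩
  have key : F.obj.map ((EtOver.bc hf).map (openInclEt N.1 W')).op s =
      F.obj.map ((EtOver.bc hf).map (openInclEt N.1 W')).op t := by
    rw [map_eq_map_iff_range_subset]
    rintro _ ⟨y, rfl⟩
    refine (Set.ext_iff.1 hWe _).1 (Set.mem_preimage.2 ?_)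
    have e' := congrArg (fun m => m y) (EtOver.isPullback_bcMap_left hf (openInclEt N.1 W')).w
    exact Set.mem_of_eq_of_mem ((Scheme.Hom.comp_apply _ _ _).symm.trans e')
      ((hf.snd (openSubEt N.1 W').obj.hom).left y : W'.toScheme).2
  refine ((ConcreteCategory.congr_hom (colimit.w (stalkEtDiagram (z.map f) P) m.op) s).symm.trans ?_).trans
    (ConcreteCategory.congr_hom (colimit.w (stalkEtDiagram (z.map f) P) m.op) t)
  exact congrArg (colimit.ι (stalkEtDiagram (z.map f) P) (op ⟨openSubEt N.1 W', l'⟩)) key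

end Groth.Agent.ASp
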