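import Groth.Agent.ASp.EqvQuot
import Groth.Agent.ASp.Sheaf
import Groth.Prelude.Def_AlgSpRep
import Groth.Prelude.Def_BigSite
/-!
Etale sheaves which are algebraic spaces.
-/

set_option autoImplicit false
set_option backward.isDefEq.respectTransparency false
set_option backward.isDefEq.respectTransparency.types false

universe u

open CategoryTheory CategoryTheory.Limits AlgebraicGeometry Opposite

namespace Groth.Agent.ASp

open _root_.AlgSp

variable {S : Scheme.{u}}

theorem jet_le : QuotSh.J Scheme.etalePrecoverage S ≤ J S :=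
  BigSite.J_mono BigSite.etalePrecoverage_le_fppfPrecoverage S

theorem isSheaf_jet (Q : Sp S) : Presheaf.IsSheaf (QuotSh.J Scheme.etalePrecoverage S) Q.obj :=
  fun E => Presieve.isSheaf_of_le _ jet_le (Q.property E)

/-- Local surjectivity for the etale topology from sections over surjective etale maps. -/
theorem isLocallySurjective_jet {F G : PSp S} (f : F ⟶ G)
    (h : ∀ (T : Over S) (x : G.obj (op T)), ∃ (V : Over S) (v : V ⟶ T) (y : F.obj (op V)),
      Etale v.left ∧ Surjective v.left ∧ f.app (op V) y = G.map v.op x) :
    Presheaf.IsLocallySurjective (QuotSh.J Scheme.etalePrecoverage S) f where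
  imageSieve_mem {U} x := by
    obtain ⟨V, v, y, hv, hs, hy⟩ := h U x
    rw [GrothendieckTopology.mem_over_iff]
    refine GrothendieckTopology.superset_covering _ ?_ (Precoverage.generate_mem_toGrothendieck
      (show Presieve.singleton v.left ∈ Scheme.etalePrecoverage U.left from
        (Scheme.singleton_mem_precoverage_iff @Etale v.left).2 ⟨hs.surj, hv⟩))
    rw [Sieve.generate_le_iff]
    rintro _ _ ⟨⟩
    exact ⟨V, v, 𝟙 _, ⟨y, hy⟩, by simp⟩

/-- Sheaves with locally surjective maps from the same presheaf with the same kernel are isomorphic. -/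
theorem nonempty_iso_of_kernel {C : Type (u + 1)} [Category.{u} C] {J : GrothendieckTopology C}
    [J.WEqualsLocallyBijective (Type (u + 1))] {F Q Y : Cᵒᵖ ⥤ Type (u + 1)}
    (hF : Presheaf.IsSheaf J F) (hQ : Presheaf.IsSheaf J Q) (p : Y ⟶ F) (π : Y ⟶ Q)
    [hp : Presheaf.IsLocallySurjective J p] [hπ : Presheaf.IsLocallySurjective J π]
    (hker : ∀ (T : Cᵒᵖ) (a b : Y.obj T), p.app T a = p.app T b ↔ π.app T a = π.app T b) :
    Nonempty (Q ≅ F) := by
  let P := Subfunctor.range p
  let i : P.toFunctor ⟶ F := P.ι
  have hP : ∀ (T : Cᵒᵖ) (x : P.obj T), ∃ a, p.app T a = x.1 := fun T x => x.2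
  choose c hc using hP
  let j : P.toFunctor ⟶ Q :=
    { app := fun T => ↾fun x => π.app T (c T x)
      naturality := fun T T' φ => by
        ext x
        change π.app T' (c T' _) = Q.map φ (π.app T (c T x))
        rw [← NatTrans.naturality_apply, ← hker, hc, NatTrans.naturality_apply, hc]
        rfl }
  have hfac : Subfunctor.toRange p ≫ j = π := by
    ext T a
    exact (hker T _ _).1 (hc T _)
  haveI : Presheaf.IsLocallySurjective J i := by
    have : Presheaf.IsLocallySurjective J (Subfunctor.toRange p ≫ i) := by
      rw [Subfunctor.toRange_ι]; exact hp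
    exact Presheaf.isLocallySurjective_of_isLocallySurjective J (Subfunctor.toRange p) i
  haveI : Presheaf.IsLocallySurjective J j := by
    have : Presheaf.IsLocallySurjective J (Subfunctor.toRange p ≫ j) := by rw [hfac]; exact hπ
    exact Presheaf.isLocallySurjective_of_isLocallySurjective J (Subfunctor.toRange p) j
  haveI : Presheaf.IsLocallyInjective J i :=
    Presheaf.isLocallyInjective_of_injective J i fun X x y h => Subtype.ext h
  haveI : Presheaf.IsLocallyInjective J j := Presheaf.isLocallyInjective_of_injective J j fun X x y h => by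
    refine Subtype.ext ?_
    rw [← hc X x, ← hc X y, hker]
    exact h
  have hi := J.W_of_isLocallyBijective i
  have hj := J.W_of_isLocallyBijective j
  obtain ⟨e, he⟩ := (hi Q hQ).2 j
  obtain ⟨e', he'⟩ := (hj F hF).2 i
  refine ⟨⟨e', e, (hj Q hQ).1 ?_, (hi F hF).1 ?_⟩⟩
  · simp only [Category.comp_id]
    rw [← Category.assoc]
    exact (congrArg (· ≫ e) he').trans he
  · simp only [Category.comp_id]
    rw [← Category.assoc]
    exact (congrArg (· ≫ e') he).trans he'

end Groth.Agent.ASp
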