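import Groth.Agent.ASp.Bootstrap
import Groth.Agent.ASp.FlatQuot
import Groth.Prelude.Def_AlgSpGpd
/-!
Quotients by flat equivalence relations of algebraic spaces.
-/

set_option autoImplicit false
set_option backward.isDefEq.respectTransparency false
set_option backward.isDefEq.respectTransparency.types false

universe u

open CategoryTheory CategoryTheory.Limits AlgebraicGeometry Opposite

namespace Groth.Agent.ASp

open _root_.AlgSp

variable {S : Scheme.{u}}

/-- An equivalence relation of sheaves is, as presheaves, the kernel pair of its coequalizer. -/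
theorem isPullback_presheaf_of_eqvRelSp {R U : Sp S} {s t : R ⟶ U} (h : IsEqvRelSp s t) :
    IsPullback t.hom s.hom (coequalizer.π s.hom t.hom) (coequalizer.π s.hom t.hom) := by
  refine IsPullback.of_forall_isPullback_app fun T => ?_
  rw [Types.isPullback_iff]
  let e := fun (G : Sp S) => ((J S).uliftYonedaEquiv.{u+1} : ((yon S).obj T.unop ⟶ G) ≃ G.obj.obj T)
  have he : ∀ {G H : Sp S} (f : G ⟶ H) (x : G.obj.obj T), (e H).symm (f.hom.app T x) = (e G).symm x ≫ f :=
    fun {G H} f x => (e H).injective (by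
      rw [Equiv.apply_symm_apply]
      change _ = (J S).uliftYonedaEquiv.{u+1} ((J S).uliftYonedaEquiv.{u+1}.symm x ≫ f)
      rw [GrothendieckTopology.uliftYonedaEquiv_comp, Equiv.apply_symm_apply])
  refine ⟨(congrArg (fun φ => φ.app T) (coequalizer.condition s.hom t.hom)).symm, fun x y ⟨h1, h2⟩ => ?_,
    fun a b hab => ?_⟩
  · exact (e R).symm.injective (h.injective T.unop _ _
      (((he t x).symm.trans (congrArg (e U).symm h1)).trans (he t y))
      (((he s x).symm.trans (congrArg (e U).symm h2)).trans (he s y)))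
  · let Setd : Setoid ((yon S).obj T.unop ⟶ U) := ⟨_, h.equivalence T.unop⟩
    let hc := isColimitCoforkMapOfIsColimit ((evaluation _ _).obj T) (coequalizer.condition s.hom t.hom)
      (coequalizerIsCoequalizer s.hom t.hom)
    let q : U.obj.obj T ⟶ ULift.{u + 1} (Quotient Setd) :=
      ↾fun a => (⟨Quotient.mk Setd ((e U).symm a)⟩ : ULift.{u + 1} (Quotient Setd))
    have hq : ((evaluation _ _).obj T).map s.hom ≫ q = ((evaluation _ _).obj T).map t.hom ≫ q := by
      ext r
      exact (Quotient.sound (s := Setd) (a := (e U).symm (s.hom.app T r)) (b := (e U).symm (t.hom.app T r))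
        ((h.equivalence T.unop).symm ⟨(e R).symm r, (he t r).symm, (he s r).symm⟩))
    obtain ⟨d, hd⟩ := Cofork.IsColimit.desc' hc q hq
    have hab' : q a = q b := by
      rw [← hd]
      exact congrArg (fun z => d z) hab
    obtain ⟨r, hr1, hr2⟩ := Quotient.exact (congrArg ULift.down hab')
    refine ⟨e R r, (e U).symm.injective ?_, (e U).symm.injective ?_⟩
    · rw [he, Equiv.symm_apply_apply]; exact hr1
    · rw [he, Equiv.symm_apply_apply]; exact hr2

/-- The kernel pair of the quotient map of an equivalence relation of sheaves is the relation. -/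
theorem isPullback_quotSp {R U : Sp S} {s t : R ⟶ U} (h : IsEqvRelSp s t) :
    IsPullback t s (quotSpπ s t) (quotSpπ s t) := by
  let G := presheafToSheaf (J S) (Type (u + 1))
  have h1 := (isPullback_presheaf_of_eqvRelSp h).map G
  let α : R ≅ G.obj R.obj := sheafificationIso R
  let β : U ≅ G.obj U.obj := sheafificationIso U
  have hn : ∀ {X Y : Sp S} (f : X ⟶ Y), f ≫ (sheafificationIso Y).hom = (sheafificationIso X).hom ≫ G.map f.hom :=
    fun {X Y} f => (sheafificationNatIso (J S) (Type (u + 1))).hom.naturality f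
  let π := β.hom ≫ G.map (coequalizer.π s.hom t.hom)
  have h2 : IsPullback t s π π :=
    h1.of_iso α.symm β.symm β.symm (Iso.refl _) (by simp [α, β]; rw [Iso.eq_inv_comp, ← reassoc_of% hn t, Iso.hom_inv_id, Category.comp_id])
      (by simp [α, β]; rw [Iso.eq_inv_comp, ← reassoc_of% hn s, Iso.hom_inv_id, Category.comp_id]) (by simp [π]) (by simp [π])
  have hπ : s ≫ π = t ≫ π := h2.w.symm
  obtain ⟨c, hc⟩ : ∃ c : quotSp s t ⟶ G.obj (coequalizer s.hom t.hom), quotSpπ s t ≫ c = π :=
    ⟨coequalizer.desc π hπ, coequalizer.π_desc _ _⟩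
  refine IsPullback.of_isLimit' ⟨(quotSp_condition s t).symm⟩ (PullbackCone.IsLimit.mk _
    (fun k => h2.lift k.fst k.snd (by rw [← hc, ← Category.assoc, k.condition, Category.assoc]))
    (fun k => h2.lift_fst _ _ _) (fun k => h2.lift_snd _ _ _)
    (fun k m e1 e2 => h2.hom_ext (by rw [e1, h2.lift_fst]) (by rw [e2, h2.lift_snd])))

/-- The quotient of an algebraic space by a flat equivalence relation of algebraic spaces has an fppf chart by a
scheme. -/
theorem exists_chart_quotSp {R U : Sp S} (hR : IsAlgSpace R) (hU : IsAlgSpace U) {s t : R ⟶ U}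
    (h : IsEqvRelSp s t) (ht : LocP @Flat t ∧ LocP @LocallyOfFinitePresentation t) :
    ∃ (U₀ : Over S) (a : (yon S).obj U₀ ⟶ U), RepWith @Etale a ∧ RepWith @Surjective a ∧
      IsFppfChart (a ≫ quotSpπ s t) := by
  obtain ⟨U₀, a, hae, has⟩ := hU.atlas
  refine ⟨U₀, a, hae, has, ?_⟩
  have hker := isPullback_quotSp h
  let j : R ⟶ U ⨯ U := prod.lift t s
  haveI : Mono j := ⟨fun α β e => hker.hom_ext (by simpa [j] using congrArg (· ≫ prod.fst) e)
    (by simpa [j] using congrArg (· ≫ prod.snd) e)⟩
  have hjl : LocP @LocallyOfFiniteType j := by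
    refine locP_of_comp (Q := ⊤) (g := prod.fst) (fun {_ _ _} a b hab _ => ?_) hU ?_
      (show LocP ⊤ _ from fun _ _ _ _ _ _ _ _ => trivial)
    · have : LocallyOfFiniteType (a ≫ b) := hab
      exact locallyOfFiniteType_of_comp a b
    · rw [prod.lift_fst]
      intro U' V' a' b' h' ha hb e
      haveI : LocallyOfFinitePresentation h'.left := ht.2 a' b' h' ha hb e
      exact (inferInstance : LocallyOfFiniteType h'.left)
  have hjrep : Representable j := representable_of_mono_lft_map hR (isAlgSpace_prod hU hU) j hjl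
  obtain ⟨R₀, t₀, ρ, sqR⟩ := hjrep (prodComparison (yon S) U₀ U₀ ≫ prod.map a a)
  let s' : R₀ ⟶ U₀ := t₀ ≫ prod.snd
  let t' : R₀ ⟶ U₀ := t₀ ≫ prod.fst
  have e1 : ρ ≫ t = (yon S).map t' ≫ a := by
    have := congrArg (· ≫ prod.fst) sqR.w
    simp [j] at this
    simpa [t'] using this
  have e2 : ρ ≫ s = (yon S).map s' ≫ a := by
    have := congrArg (· ≫ prod.snd) sqR.w
    simp [j] at this
    simpa [s'] using this
  have hk : IsPullback ((yon S).map t') ((yon S).map s') (a ≫ quotSpπ s t) (a ≫ quotSpπ s t) := by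
    refine IsPullback.of_isLimit' ⟨by rw [← reassoc_of% e1, ← reassoc_of% e2, quotSp_condition]⟩
      (PullbackCone.IsLimit.mk _ (fun k => sqR.lift (hker.lift (k.fst ≫ a) (k.snd ≫ a)
        (by simp only [Category.assoc]; exact k.condition)) (prod.lift k.fst k.snd ≫ inv (prodComparison (yon S) U₀ U₀))
          (by
            apply prod.hom_ext
            · simp [j]
            · simp [j])) (fun k => ?_) (fun k => ?_) (fun k m e3 e4 => ?_))
    · simp [t', inv_prodComparison_map_fst]
    · simp [s', inv_prodComparison_map_snd]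
    · refine sqR.hom_ext (hker.hom_ext ?_ ?_) ?_
      · simp [e1, reassoc_of% e3]
      · simp [e2, reassoc_of% e4]
      · rw [← cancel_mono (prodComparison (yon S) U₀ U₀)]
        apply prod.hom_ext
        · simpa [t', ← Functor.map_comp] using e3
        · simpa [s', ← Functor.map_comp] using e4
  obtain ⟨Pt, ft, st, sqt⟩ : ∃ (Pt : Sp S) (ft : Pt ⟶ R) (st : Pt ⟶ (yon S).obj U₀), IsPullback ft st t a :=
    ⟨_, _, _, IsPullback.of_hasPullback t a⟩
  obtain ⟨mid, hm1, hm2⟩ : ∃ mid : (yon S).obj R₀ ⟶ Pt, mid ≫ ft = ρ ∧ mid ≫ st = (yon S).map t' :=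
    ⟨sqt.lift _ _ e1, sqt.lift_fst _ _ _, sqt.lift_snd _ _ _⟩
  have hPt : IsAlgSpace Pt := isAlgSpace_of_isPullback hU.diag hR (IsAlgSpace.yon_obj U₀) sqt
  have sqm : IsPullback mid ((yon S).map s') (ft ≫ s) a := by
    refine IsPullback.of_isLimit' ⟨by rw [reassoc_of% hm1, e2]⟩ (PullbackCone.IsLimit.mk _
      (fun k => hk.lift (k.fst ≫ st) k.snd (by
        rw [Category.assoc, ← sqt.w_assoc, ← quotSp_condition, ← k.condition_assoc]
        simp only [Category.assoc])) (fun k => ?_) (fun k => hk.lift_snd _ _ _) (fun k m e3 e4 => ?_))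
    · refine sqt.hom_ext (hker.hom_ext ?_ ?_) ?_
      · simp only [Category.assoc, sqt.w, reassoc_of% hm2, IsPullback.lift_fst_assoc]
      · rw [Category.assoc, Category.assoc, reassoc_of% hm1, e2, hk.lift_snd_assoc, Category.assoc]
        exact k.condition.symm
      · simp only [Category.assoc, hm2, IsPullback.lift_fst]
    · refine hk.hom_ext ?_ ?_
      · rw [hk.lift_fst, ← e3, Category.assoc, hm2]
      · rw [hk.lift_snd, e4]
  have hmid : RepWith @Etale mid := repWith_of_isPullback sqm.flip hae
  have htt : Flat t'.left ∧ LocallyOfFinitePresentation t'.left := by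
    have hf : LocP @Flat (mid ≫ st) := locP_comp hPt
      (locP_of_repWith (repWith_mono (fun _ _ g (hg : Etale g) => (inferInstance : Flat g)) hmid))
      (locP_of_isPullback sqt.flip hR hU (IsAlgSpace.yon_obj U₀) ht.1)
    have hl : LocP @LocallyOfFinitePresentation (mid ≫ st) := locP_comp hPt
      (locP_of_repWith (repWith_mono (fun _ _ g (hg : Etale g) =>
        (inferInstance : LocallyOfFinitePresentation g)) hmid))
      (locP_of_isPullback sqt.flip hR hU (IsAlgSpace.yon_obj U₀) ht.2)
    rw [hm2] at hf hl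
    exact ⟨hf (𝟙 _) (𝟙 _) t' (repWith_id _ _) (repWith_id _ _) (by simp),
      hl (𝟙 _) (𝟙 _) t' (repWith_id _ _) (repWith_id _ _) (by simp)⟩
  haveI := htt.1
  haveI := htt.2
  haveI : Epi (quotSpπ s t) := inferInstanceAs (Epi (coequalizer.π s t))
  haveI : Sheaf.IsLocallySurjective a := isLocallySurjective_of_repWith
    (repWith_mono (fun _ _ g (hg : Etale g) => (inferInstance : Flat g)) hae)
    (repWith_mono (fun _ _ g (hg : Etale g) => (inferInstance : LocallyOfFinitePresentation g)) hae) has
  haveI : Epi a := (Sheaf.isLocallySurjective_iff_epi _).1 ‹_›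
  haveI : Epi (a ≫ quotSpπ s t) := epi_comp _ _
  haveI : Sheaf.IsLocallySurjective (a ≫ quotSpπ s t) := (Sheaf.isLocallySurjective_iff_epi _).2 ‹_›
  obtain ⟨h1, h2, h3⟩ := repWith_flat_surjective_of_kernelPair (a ≫ quotSpπ s t) hk
  exact isFppfChart_of_repWith h1 h2 h3

end Groth.Agent.ASp
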