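import Groth.Agent.SmSrc.Smooth
import Groth.Agent.ASp.Source
import Groth.Agent.ASp.Smooth
/-!
Smooth local properties of morphisms of schemes give smooth local properties of morphisms of spaces.
-/

set_option backward.isDefEq.respectTransparency.types false

universe u

open CategoryTheory CategoryTheory.Limits AlgebraicGeometry Opposite

namespace Groth.Agent.ASp

open _root_.AlgSp

variable {S : Scheme.{u}}

theorem locP_id_of_isAlgSpace {P : MorphismProperty Scheme.{u}} [IsEtLocal P] {X : Sp S} (hX : IsAlgSpace X) :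
    LocP P (𝟙 X) := by
  obtain ⟨U, p, hpe, hps⟩ := hX.atlas
  exact locP_of_chart hpe hps hpe (h := 𝟙 U) (by simp) (IsEtLocal.etale_le _ (inferInstanceAs (Etale (𝟙 U.left))))

theorem locP_of_smooth {P : MorphismProperty Scheme.{u}} [IsSmLocal P] {X Y : Sp S} {f : X ⟶ Y}
    (h : LocP @Smooth f) : LocP P f :=
  fun _ _ a b k ha hb e => IsSmLocal.smooth_le _ (h a b k ha hb e)

theorem isSmoothLocalST_locP {M : MorphismProperty Scheme.{u}} [IsEtLocal M] [IsSmLocal M]
    [IsZariskiLocalAtSource M] : IsSmoothLocalST (LocP M : MorphismProperty (Sp S)) where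
  precomp _ _ _ _ hY _ _ _ hf hg := locP_comp hY (locP_of_smooth hf) hg
  baseChange _ _ _ _ hX hY _ hY' _ _ _ _ sq _ hf := locP_of_isPullback sq.flip hX hY hY' hf
  locality X Y hX hY f := by
    refine ⟨fun h x => ⟨X, Y, 𝟙 X, 𝟙 Y, f, x, hX, hY, locP_id_of_isAlgSpace hX, locP_id_of_isAlgSpace hY,
      by simp, Points.map_id x, h⟩, fun H => ?_⟩
    obtain ⟨X₀, p, hpe, hps⟩ := hX.atlas
    choose U V a b h v hU hV ha hb e hv hh using fun t : ↥X₀.left => H (Points.ofPt p t)
    intro U' V' a' b' k ha' hb' e'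
    obtain ⟨T, t, ht, hts, htk⟩ := exists_source_cover (P := M) (Q := @Smooth) (g := a) hU
      (fun x => by
        obtain ⟨t, rfl⟩ := surjective_ofPt hps x
        exact ⟨t, v t, hv t⟩) ha
      (fun i => by rw [e i]; exact locP_comp (hV i) (hh i) (locP_of_smooth (hb i))) ha' hb' e'
    exact IsSmLocal.of_precomp_smooth t k.left ht hts htk

end Groth.Agent.ASp
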