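import Groth.Agent.ASp.EtSheafAlg
import Groth.Agent.ASp.SpQuot
import Groth.Agent.ASp.Smooth
import Groth.Agent.ASp.Fpqc
import Groth.Agent.ASp.Univ
import Groth.Agent.Boot.Main
/-!
Etale sheaves with smooth charts are algebraic spaces.
-/

set_option autoImplicit false
set_option backward.isDefEq.respectTransparency false
set_option backward.isDefEq.respectTransparency.types false

universe u

open CategoryTheory CategoryTheory.Limits AlgebraicGeometry Opposite

namespace Groth.Agent.ASp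

open _root_.AlgSp

variable {S : Scheme.{u}}

theorem isAlgSpaceP_of_smoothChart {F : PSp S}
    (hF : Presheaf.IsSheaf (QuotSh.J Scheme.etalePrecoverage S) F) {W : Over S} (p : (pyon S).obj W ⟶ F)
    (hp : _root_.AlgSp.RepBySpWith (IsSurjectiveMor ⊓ LocP @Smooth) p) : IsAlgSpaceP F := by
  obtain ⟨R0, t0, s0, sq0⟩ : ∃ (R : PSp S) (t0 : R ⟶ (pyon S).obj W) (s0 : R ⟶ (pyon S).obj W),
      IsPullback t0 s0 p p := ⟨_, _, _, IsPullback.of_hasPullback p p⟩
  obtain ⟨hsh, hR, -, hsl⟩ := hp p t0 s0 sq0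
  obtain ⟨_, -, -, htl⟩ := hp p s0 t0 sq0.flip
  let R : Sp S := ⟨R0, hsh⟩
  let s : R ⟶ (yon S).obj W := ObjectProperty.homMk s0
  let t : R ⟶ (yon S).obj W := ObjectProperty.homMk t0
  have hrel : ∀ (T : Over S) (a b : (yon S).obj T ⟶ (yon S).obj W),
      (∃ r : (yon S).obj T ⟶ R, r ≫ t = a ∧ r ≫ s = b) ↔ a.hom ≫ p = b.hom ≫ p := fun T a b => by
    refine ⟨fun ⟨r, h1, h2⟩ => ?_, fun h => ⟨ObjectProperty.homMk (sq0.lift _ _ h), ?_, ?_⟩⟩
    · rw [← h1, ← h2]
      change (r.hom ≫ t0) ≫ p = (r.hom ≫ s0) ≫ p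
      rw [Category.assoc, Category.assoc, sq0.w]
    · exact InducedCategory.hom_ext (sq0.lift_fst _ _ _)
    · exact InducedCategory.hom_ext (sq0.lift_snd _ _ _)
  have heq : IsEqvRelSp s t := by
    refine ⟨fun T r r' e1 e2 => InducedCategory.hom_ext
      (sq0.hom_ext (congrArg InducedCategory.Hom.hom e1) (congrArg InducedCategory.Hom.hom e2)), fun T => ?_⟩
    exact ⟨fun a => (hrel T a a).2 rfl, fun {a b} h => (hrel T b a).2 ((hrel T a b).1 h).symm,
      fun {a b c} h h' => (hrel T a c).2 (((hrel T a b).1 h).trans ((hrel T b c).1 h'))⟩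
  have ht : LocP @Flat t ∧ LocP @LocallyOfFinitePresentation t :=
    ⟨fun U V a b k ha hb e => by
        haveI : Smooth k.left := htl a b k ha hb e
        exact (inferInstance : Flat k.left),
      fun U V a b k ha hb e => by
        haveI : Smooth k.left := htl a b k ha hb e
        exact (inferInstance : LocallyOfFinitePresentation k.left)⟩
  obtain ⟨U₀, a, hae, has, hch⟩ := exists_chart_quotSp hR (IsAlgSpace.yon_obj W) heq ht
  have hQ : IsAlgSpace (quotSp s t) := isAlgSpace_of_fppfChart (IsAlgSpace.yon_obj U₀) hch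
  have hr : Representable (a ≫ quotSpπ s t) := Functor.relativelyRepresentable.of_diag hQ.diag _
  have hπf : LocP @Flat (quotSpπ s t) := locP_of_comp_chart hQ hae has (locP_of_repWith ⟨hr, fun T V g fst v sq => by
    obtain ⟨-, h1, -, -⟩ := hch g fst ((yon S).map v) sq
    exact h1 (𝟙 _) (𝟙 _) v (repWith_id _ _) (repWith_id _ _) (by simp)⟩)
  have hπl : LocP @LocallyOfFinitePresentation (quotSpπ s t) :=
    locP_of_comp_chart hQ hae has (locP_of_repWith ⟨hr, fun T V g fst v sq => by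
      obtain ⟨-, -, h1, -⟩ := hch g fst ((yon S).map v) sq
      exact h1 (𝟙 _) (𝟙 _) v (repWith_id _ _) (repWith_id _ _) (by simp)⟩)
  have hπs : Function.Surjective (Points.map (quotSpπ s t)) := fun y => by
    obtain ⟨T, g, w, rfl⟩ := exists_ofPt_eq y
    obtain ⟨P, fst, snd, sq⟩ : ∃ (P : Sp S) (fst : P ⟶ (yon S).obj U₀) (snd : P ⟶ (yon S).obj T),
        IsPullback fst snd (a ≫ quotSpπ s t) g := ⟨_, _, _, IsPullback.of_hasPullback _ _⟩
    obtain ⟨z, hz⟩ := (hch g fst snd sq).2.2.2 (Points.schemeHomeo T w)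
    refine ⟨Points.map (fst ≫ a) z, ?_⟩
    rw [← Points.map_comp, Category.assoc, sq.w, Points.map_comp, hz, ofPt_comp_eq_map]
    rfl
  have sqQ := isPullback_quotSp heq
  have hπsm : LocP @Smooth (quotSpπ s t) :=
    locP_of_fpqc (p := fun _ : PUnit.{u+1} => s) (q := fun _ => t) (IsAlgSpace.yon_obj W) hQ (fun _ => hR)
      (fun _ => IsAlgSpace.yon_obj W) (fun _ => sqQ)
      (isFpqcCover_of_fppf hQ (fun _ => IsAlgSpace.yon_obj W) (fun _ => hπf) (fun _ => hπl)
        (fun y => ⟨PUnit.unit, hπs y⟩)) (fun _ => hsl)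
  have hπc : Boot.IsSmoothChart (quotSpπ s t) := fun T g P fst snd sq =>
    ⟨isAlgSpace_of_isPullback hQ.diag (IsAlgSpace.yon_obj W) (IsAlgSpace.yon_obj T) sq,
      locP_of_isPullback sq.flip (IsAlgSpace.yon_obj W) hQ (IsAlgSpace.yon_obj T) hπsm,
      surjective_map_of_isPullback sq hπs⟩
  haveI : Presheaf.IsLocallySurjective (QuotSh.J Scheme.etalePrecoverage S) (quotSpπ s t).hom :=
    isLocallySurjective_jet _ fun T x => by
      obtain ⟨g, rfl⟩ := (J S).uliftYonedaEquiv.{u+1}.surjective x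
      obtain ⟨C, b, a', hb, hbs, e⟩ := Boot.exists_etale_lift hπc g
      refine ⟨C, b, (J S).uliftYonedaEquiv.{u+1} ((yon S).map a'), hb, hbs, ?_⟩
      exact (show (quotSpπ s t).hom.app _ _ = (J S).uliftYonedaEquiv.{u+1} ((yon S).map a' ≫ quotSpπ s t) from rfl).trans
        ((congrArg _ e).trans (GrothendieckTopology.uliftYonedaEquiv_naturality.{u+1} (J S) g _).symm)
  haveI : Presheaf.IsLocallySurjective (QuotSh.J Scheme.etalePrecoverage S) p :=
    isLocallySurjective_jet p fun T x => by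
      obtain ⟨g, rfl⟩ := CategoryTheory.uliftYonedaEquiv.{u + 1}.surjective x
      obtain ⟨P, fst, snd, sq⟩ : ∃ (P : PSp S) (fst : P ⟶ (pyon S).obj W) (snd : P ⟶ (pyon S).obj T),
          IsPullback fst snd p g := ⟨_, _, _, IsPullback.of_hasPullback _ _⟩
      obtain ⟨hP, hPa, hPs, hPl⟩ := hp g fst snd sq
      obtain ⟨C, k, hke, hks⟩ := hPa.atlas
      obtain ⟨c, hc⟩ := (yon S).map_surjective (k ≫ (ObjectProperty.homMk snd : (⟨P, hP⟩ : Sp S) ⟶ (yon S).obj T))
      have hcm : Smooth c.left := hPl k (𝟙 _) c hke (repWith_id _ T) (by rw [hc, Category.comp_id])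
      have hcs : Surjective c.left := surjective_left_of_map c fun y => by
        obtain ⟨z, rfl⟩ := hPs y
        obtain ⟨v, rfl⟩ := surjective_map_of_repWith hks z
        exact ⟨v, by rw [hc, Points.map_comp]⟩
      have hcc : Boot.IsSmoothChart ((yon S).map c) := fun T' g' P' fst' snd' sq' =>
        ⟨isAlgSpace_of_isPullback (IsAlgSpace.yon_obj T).diag (IsAlgSpace.yon_obj C) (IsAlgSpace.yon_obj T') sq',
          locP_of_isPullback sq'.flip (IsAlgSpace.yon_obj C) (IsAlgSpace.yon_obj T) (IsAlgSpace.yon_obj T')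
            (locP_of_repWith (repWith_yon_map (P := @Smooth) hcm)),
          surjective_map_of_isPullback sq'
            (surjective_map_of_repWith (repWith_yon_map (P := @Surjective) hcs))⟩
      obtain ⟨B, b, a', hb, hbs, e⟩ := Boot.exists_etale_lift hcc (𝟙 _)
      refine ⟨B, b, CategoryTheory.uliftYonedaEquiv.{u + 1} (((yon S).map a' ≫ k).hom ≫ fst), hb, hbs, ?_⟩
      have e' : (((yon S).map a' ≫ k).hom ≫ fst) ≫ p = (pyon S).map b ≫ g := by
        rw [Category.comp_id, hc] at e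
        have e2 : ((yon S).map a' ≫ k).hom ≫ snd = (pyon S).map b :=
          (Category.assoc _ _ _).trans (congrArg InducedCategory.Hom.hom e)
        rw [← e2]
        simp only [Category.assoc, sq.w]
      exact (CategoryTheory.uliftYonedaEquiv_comp _ _).symm.trans ((congrArg _ e').trans
        (CategoryTheory.uliftYonedaEquiv_naturality _ _).symm)
  have hker : ∀ (T : (Over S)ᵒᵖ) (x y : ((pyon S).obj W).obj T),
      p.app T x = p.app T y ↔ (quotSpπ s t).hom.app T x = (quotSpπ s t).hom.app T y := fun T x y => by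
    have sqA := (sqQ.map (sheafToPresheaf (J S) (Type (u + 1)))).map ((evaluation _ _).obj T)
    have sqB := sq0.map ((evaluation _ _).obj T)
    refine ⟨fun h => ?_, fun h => ?_⟩
    · obtain ⟨r, h1, h2⟩ := (Types.isPullback_iff _ _ _ _).1 sqB |>.2.2 x y h
      rw [← h1, ← h2]
      exact congrArg (fun φ : R0.obj T ⟶ _ => φ r) sqA.w
    · obtain ⟨r, h1, h2⟩ := (Types.isPullback_iff _ _ _ _).1 sqA |>.2.2 x y h
      rw [← h1, ← h2]
      exact congrArg (fun φ : R0.obj T ⟶ _ => φ r) sqB.w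
  obtain ⟨e⟩ := nonempty_iso_of_kernel hF (isSheaf_jet (quotSp s t)) p (quotSpπ s t).hom hker
  exact ((isAlgSpaceP_obj_iff _).2 hQ).of_iso e

/-- The same with a chart by an algebraic space. -/
theorem isAlgSpaceP_of_smooth_space {F : PSp S}
    (hF : Presheaf.IsSheaf (QuotSh.J Scheme.etalePrecoverage S) F) {U : Sp S} (hU : IsAlgSpace U) (p : U.obj ⟶ F)
    (hp : _root_.AlgSp.RepBySpWith (IsSurjectiveMor ⊓ LocP @Smooth) p) : IsAlgSpaceP F := by
  obtain ⟨W, a, hae, has⟩ := hU.atlas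
  refine isAlgSpaceP_of_smoothChart hF (a.hom ≫ p) fun T ξ P' fst snd sq => ?_
  obtain ⟨P, f1, s1, sq1⟩ : ∃ (P : PSp S) (f1 : P ⟶ U.obj) (s1 : P ⟶ (pyon S).obj T), IsPullback f1 s1 p ξ :=
    ⟨_, _, _, IsPullback.of_hasPullback _ _⟩
  obtain ⟨hP, hPa, hPs, hPl⟩ := hp ξ f1 s1 sq1
  obtain ⟨mid, hm1, hm2⟩ : ∃ mid : P' ⟶ P, mid ≫ f1 = fst ≫ a.hom ∧ mid ≫ s1 = snd :=
    ⟨sq1.lift _ _ (by rw [Category.assoc]; exact sq.w), sq1.lift_fst _ _ _, sq1.lift_snd _ _ _⟩
  have sqm : IsPullback fst mid a.hom f1 :=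
    (IsPullback.of_right (by rw [hm2]; exact sq.flip) hm1 sq1.flip).flip
  have hP' : Presheaf.IsSheaf (J S) P' :=
    isSheaf_of_isPullback (F := (yon S).obj W) (G := U) (H := (⟨P, hP⟩ : Sp S)) sqm
  have sqs : IsPullback (C := Sp S) (P := ⟨P', hP'⟩) (X := (yon S).obj W) (Y := ⟨P, hP⟩) (Z := U)
      (ObjectProperty.homMk fst) (ObjectProperty.homMk mid) a (ObjectProperty.homMk f1) :=
    IsPullback.of_map_of_faithful (sheafToPresheaf (J S) (Type (u + 1))) sqm
  have hP'a : IsAlgSpace (⟨P', hP'⟩ : Sp S) :=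
    isAlgSpace_of_isPullback hU.diag (IsAlgSpace.yon_obj W) hPa sqs
  have hme := repWith_of_isPullback sqs hae
  have hms := repWith_of_isPullback sqs has
  have hsnd : (ObjectProperty.homMk snd : (⟨P', hP'⟩ : Sp S) ⟶ (yon S).obj T) =
      (ObjectProperty.homMk mid : (⟨P', hP'⟩ : Sp S) ⟶ ⟨P, hP⟩) ≫ ObjectProperty.homMk s1 :=
    InducedCategory.hom_ext hm2.symm
  refine ⟨hP', hP'a, ?_, ?_⟩
  · rw [hsnd]
    intro y
    obtain ⟨z, rfl⟩ := hPs y
    obtain ⟨w, rfl⟩ := surjective_map_of_repWith hms z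
    exact ⟨w, Points.map_comp _ _ _⟩
  · rw [hsnd]
    exact locP_comp hPa (locP_of_repWith (repWith_mono
      (fun _ _ g (hg : Etale g) => (inferInstance : Smooth g)) hme)) hPl

end Groth.Agent.ASp
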