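import Groth.Agent.ASp.SmLocalST
/-!
Properties etale-smooth local on source-and-target.
-/

set_option backward.isDefEq.respectTransparency false
set_option backward.isDefEq.respectTransparency.types false

universe u

open CategoryTheory CategoryTheory.Limits AlgebraicGeometry Opposite

namespace Groth.Agent.ASp

open _root_.AlgSp

variable {S : Scheme.{u}} {P : MorphismProperty (Sp S)}

theorem isEtaleMor_id' (X : Sp S) : IsEtaleMor (𝟙 X) := fun U φ hφ => by rwa [Category.comp_id]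

theorem locP_smooth_of_etaleMor {X Y : Sp S} (hY : IsAlgSpace Y) {f : X ⟶ Y} (hf : IsEtaleMor f) :
    LocP @Smooth f := fun U V a b k ha hb e => by
  haveI : Etale k.left := (isEtaleMor_iff_locP hY).1 hf a b k ha hb e
  infer_instance

theorem isEtaleMor_of_section {X W : Sp S} (hX : IsAlgSpace X) (hW : IsAlgSpace W) {e : X ⟶ W}
    {p : W ⟶ X} (hp : LocP @Etale p) (he : e ≫ p = 𝟙 X) : IsEtaleMor e := by
  rw [isEtaleMor_iff_locP hW]
  refine locP_of_comp (P := @Etale) (Q := @Etale) (g := p)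
    (fun f g h h' => MorphismProperty.of_postcomp @Etale f g h' h) hX ?_ hp
  rw [he]
  exact locP_id_of_isAlgSpace hX

theorem etSmLocalST_source (hP : IsEtaleSmoothLocalST P) : IsLocalOnSource IsEtCover P := by
  intro ι X Xi g hX hXi hτ Y f hY
  refine ⟨fun h i => hP.precomp (hXi i) hX hY _ _ (hτ.1 i) h, fun h => (hP.locality hX hY f).2 fun x => ?_⟩
  obtain ⟨i, t, rfl⟩ := hτ.2 x
  exact ⟨Y, X, Xi i, 𝟙 Y, 𝟙 X, f, g i, t, hY, hX, hXi i, locP_id_of_isAlgSpace hY,
    IsPullback.of_horiz_isIso ⟨by simp⟩, hτ.1 i, by simp, h i⟩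

theorem etSmLocalST_base (hP : IsEtaleSmoothLocalST P) : IsLocalOnBase IsSmCover P := by
  intro ι Y Yi g hY hYi hτ X f hX Xi p q hXi sq
  refine ⟨fun h i => hP.baseChange hX hY (hXi i) (hYi i) f (g i) (p i) (q i) (sq i) (hτ.1 i) h,
    fun h => (hP.locality hX hY f).2 fun x => ?_⟩
  obtain ⟨i, t, ht⟩ := hτ.2 (AlgSp.Points.map f x)
  obtain ⟨z, hz, -⟩ := points_exists_of_isPullback (sq i) x t ht.symm
  exact ⟨Yi i, Xi i, Xi i, g i, q i, p i, 𝟙 _, z, hYi i, hXi i, hXi i, hτ.1 i, sq i,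
    isEtaleMor_id' _, by rw [Category.id_comp]; exact hz, by rw [Category.id_comp]; exact h i⟩

theorem etSmLocalST_postcomp (hP : IsEtaleSmoothLocalST P) {X Y Z : Sp S} (hX : IsAlgSpace X)
    (hY : IsAlgSpace Y) (hZ : IsAlgSpace Z) {f : X ⟶ Y} {g : Y ⟶ Z} (hf : P f) (hg : IsEtaleMor g) :
    P (f ≫ g) := by
  have hW : IsAlgSpace (pullback (f ≫ g) g) := isAlgSpace_pullback hZ.diag hX hY _ _
  refine (hP.locality hX hZ _).2 fun x => ⟨Y, pullback (f ≫ g) g, X, g, pullback.fst _ _,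
    pullback.snd _ _, pullback.lift (𝟙 X) f (Category.id_comp _), x, hY, hW, hX,
    locP_smooth_of_etaleMor hZ hg, IsPullback.of_hasPullback _ _, ?_, ?_, ?_⟩
  · exact isEtaleMor_of_section hX hW (p := pullback.fst (f ≫ g) g)
      (locP_of_isPullback (IsPullback.of_hasPullback (f ≫ g) g) hY hZ hX ((isEtaleMor_iff_locP hZ).1 hg))
      (pullback.lift_fst _ _ _)
  · rw [pullback.lift_fst]
    exact AlgSp.Points.map_id x
  · rwa [pullback.lift_snd]

theorem etSmLocalST_of_postcomp (hP : IsEtaleSmoothLocalST P) {X Y Z : Sp S} (hX : IsAlgSpace X)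
    (hY : IsAlgSpace Y) (hZ : IsAlgSpace Z) {f : X ⟶ Y} {g : Y ⟶ Z} (hg : IsEtaleMor g)
    (hfg : P (f ≫ g)) : P f := by
  have hW : IsAlgSpace (pullback (f ≫ g) g) := isAlgSpace_pullback hZ.diag hX hY _ _
  have h1 : P (pullback.snd (f ≫ g) g) := hP.baseChange hX hZ hW hY (f ≫ g) g (pullback.snd _ _)
    (pullback.fst _ _) (IsPullback.of_hasPullback _ _) (locP_smooth_of_etaleMor hZ hg) hfg
  have h2 := hP.precomp hX hW hY (pullback.lift (f := f ≫ g) (g := g) (𝟙 X) f (Category.id_comp _))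
    (pullback.snd _ _)
    (isEtaleMor_of_section hX hW (p := pullback.fst (f ≫ g) g)
      (locP_of_isPullback (IsPullback.of_hasPullback (f ≫ g) g) hY hZ hX ((isEtaleMor_iff_locP hZ).1 hg))
      (pullback.lift_fst _ _ _)) h1
  rwa [pullback.lift_snd] at h2

end Groth.Agent.ASp
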