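import Groth.Agent.ASp.EtSupport
import Mathlib.CategoryTheory.Sites.Point.Skyscraper
/-!
Exactness of stalks on the small étale site, and stalkwise criteria.
-/

set_option autoImplicit false
set_option backward.isDefEq.respectTransparency false
set_option backward.isDefEq.respectTransparency.types false

universe u

open CategoryTheory CategoryTheory.Limits AlgebraicGeometry Opposite

namespace Groth.Agent.ASp

open _root_.AlgSp

variable {S : Scheme.{u}} {X : Sp S}

/-- A geometric point as a point of the site, with fibre functor its lifts. -/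
noncomputable def sitePoint (hX : IsAlgSpace X) (p : FieldPt X) (hp : p.IsGeometric) :
    GrothendieckTopology.Point.{u} (etTop X) where
  fiber := FieldPt.liftsTo p
  isCofiltered := isCofiltered_etNbhd hX hp
  initiallySmall :=
    haveI := isCofiltered_etNbhd hX hp
    (initiallySmall_iff_exists_small_weakly_initial_set _).2 (exists_small_weakly_initial hX hp)
  jointly_surjective := fun {E} R hR u => by
    obtain ⟨R₀, hR₀, hle⟩ := Precoverage.mem_toGrothendieck_iff_of_isStableUnderComposition.1 hR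
    obtain ⟨E', g, hg, u', hu'⟩ := exists_liftsTo_of_mem_etPre hp hR₀ u
    exact ⟨E', g, hle _ _ hg, u', hu'⟩

instance ab5_type : AB5OfSize.{u, u} (Type (u + 1)) :=
  AB5OfSize_of_univLE.{u, u, u + 1, u + 1} _

instance ab5_ab : AB5OfSize.{u, u} AddCommGrpCat.{u + 1} :=
  AB5OfSize_of_univLE.{u, u, u + 1, u + 1} _

theorem preservesFinite_stalkEtPshFunctor {A : Type (u + 2)} [Category.{u + 1} A] [HasColimitsOfSize.{u, u} A]
    [HasFiniteLimits A] [AB5OfSize.{u, u} A] (hX : IsAlgSpace X) {p : FieldPt X} (hp : p.IsGeometric)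
    [HasColimitsOfShape (EtNbhd p)ᵒᵖ A] :
    PreservesFiniteLimits (stalkEtPshFunctor A p) ∧ PreservesFiniteColimits (stalkEtPshFunctor A p) := by
  refine ⟨?_, ?_⟩
  · exact (inferInstance : PreservesFiniteLimits ((sitePoint hX p hp).presheafFiber (A := A)))
  · exact (PreservesColimitsOfSize.preservesFiniteColimits.{u, u} ((sitePoint hX p hp).presheafFiber (A := A)))

theorem preservesFinite_stalkEtFunctor {A : Type (u + 2)} [Category.{u + 1} A] [HasColimitsOfSize.{u, u} A]
    [HasFiniteLimits A] [AB5OfSize.{u, u} A] [HasProducts.{u} A] [HasSheafify (etTop X) A] (hX : IsAlgSpace X)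
    {p : FieldPt X} (hp : p.IsGeometric) [HasColimitsOfShape (EtNbhd p)ᵒᵖ A] :
    PreservesFiniteLimits (stalkEtFunctor A p) ∧ PreservesFiniteColimits (stalkEtFunctor A p) :=
  ⟨(inferInstance : PreservesFiniteLimits ((sitePoint hX p hp).sheafFiber (A := A))),
    (inferInstance : PreservesFiniteColimits ((sitePoint hX p hp).sheafFiber (A := A)))⟩

theorem isIso_stalk_toSheafify (hX : IsAlgSpace X) {p : FieldPt X} (hp : p.IsGeometric)
    (P : (EtOver X)ᵒᵖ ⥤ Type (u + 1)) :
    IsIso ((stalkEtPshFunctor (Type (u + 1)) p).map (toSheafify (etTop X) P)) :=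
  (inferInstance : IsIso ((sitePoint hX p hp).presheafFiber.map (toSheafify (etTop X) P)))

section Criteria

variable {F G : EtSh X (Type (u + 1))} (a : F ⟶ G)

/-- Naturality of germs. -/
theorem stalkEtι_naturality {A : Type (u + 2)} [Category.{u + 1} A] {p : FieldPt X}
    [HasColimitsOfShape (EtNbhd p)ᵒᵖ A] {F G : EtSh X A} (a : F ⟶ G) (N : EtNbhd p) :
    stalkEtι p F N ≫ (stalkEtFunctor A p).map a = a.hom.app (op N.1) ≫ stalkEtι p G N := by
  simp [stalkEtFunctor, stalkEtPshFunctor, stalkEtι]
  rfl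

/-- Sections agree iff all their germs do. -/
theorem eq_of_agreeSet {A : Type (u + 2)} [Category.{u + 1} A] {FA : A → A → Type*} {CA : A → Type (u + 1)}
    [∀ a b, FunLike (FA a b) (CA a) (CA b)] [ConcreteCategory.{u + 1} A FA] [(etTop X).HasSheafCompose (forget A)]
    (F : EtSh X A) {U : EtOver X} (s t : ToType (F.obj.obj (op U)))
    (h : ∀ x, x ∈ agreeSet F s t) : s = t := by
  simpa using (map_eq_map_iff_range_subset F s t (𝟙 U)).2 fun x _ => h x

variable (hX : IsAlgSpace X)

instance preservesColimit_forget_type (F : EtSh X (Type (u + 1))) (p : FieldPt X) :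
    PreservesColimit (stalkEtDiagram p F) (forget (Type (u + 1))) :=
  inferInstanceAs (PreservesColimit _ (𝟭 (Type (u + 1))))

include hX in
theorem mono_iff_stalk :
    Mono a ↔ ∀ p : FieldPt X, p.IsGeometric → Function.Injective ((stalkEtFunctor (Type (u + 1)) p).map a) := by
  constructor
  · intro ha p hp
    haveI := isFiltered_etNbhd hX hp
    haveI : Mono ((stalkEtFunctor (Type (u + 1)) p).map a) := by
      haveI := (preservesFinite_stalkEtFunctor (A := Type (u + 1)) hX hp).1
      infer_instance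
    exact (mono_iff_injective _).1 ‹_›
  · intro h
    haveI : ∀ E, Mono (a.hom.app E) := fun ⟨U⟩ => (mono_iff_injective _).2 fun s t hst => by
      refine eq_of_agreeSet F s t fun x => ?_
      obtain ⟨p, hp, l, hl⟩ := exists_geometric_lift U x
      haveI := isFiltered_etNbhd hX hp
      rw [← hl]
      refine (ι_eq_ι_iff F s t hp l).1 (h p hp ?_)
      have n := fun z => ConcreteCategory.congr_hom (stalkEtι_naturality a ⟨U, l⟩) z
      exact (n s).trans ((congrArg _ hst).trans (n t).symm)
    haveI : Mono a.hom := NatTrans.mono_of_mono_app _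
    exact (sheafToPresheaf _ _).mono_of_mono_map ‹Mono a.hom›

include hX in
theorem epi_iff_stalk :
    Epi a ↔ ∀ p : FieldPt X, p.IsGeometric → Function.Surjective ((stalkEtFunctor (Type (u + 1)) p).map a) := by
  constructor
  · intro ha p hp
    haveI : Epi ((stalkEtFunctor (Type (u + 1)) p).map a) := by
      haveI := (preservesFinite_stalkEtFunctor (A := Type (u + 1)) hX hp).2
      infer_instance
    exact (epi_iff_surjective _).1 ‹_›
  · intro h
    rw [← Sheaf.isLocallySurjective_iff_epi]
    refine ⟨fun {U} t => ?_⟩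
    let ι := {k : Σ V : EtOver X, (V ⟶ U) // Presheaf.imageSieve a.hom t k.2}
    refine (etTop X).superset_covering ?_ (ofArrows_mem_etTop (fun k : ι => k.1.1) (fun k => k.1.2) fun x => ?_)
    · rw [Sieve.ofArrows, Sieve.generate_le_iff]
      rintro _ _ ⟨k⟩
      exact k.2
    · obtain ⟨p, hp, l, hl⟩ := exists_geometric_lift U x
      haveI := isFiltered_etNbhd hX hp
      obtain ⟨z, hz⟩ := h p hp (stalkEtι p G ⟨U, l⟩ t)
      obtain ⟨⟨⟨W, m⟩⟩, s, rfl⟩ := Concrete.colimit_exists_rep (stalkEtDiagram p F) z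
      have h1 := (ConcreteCategory.congr_hom (stalkEtι_naturality a ⟨W, m⟩) s).symm.trans hz
      obtain ⟨k, f, g, hfg⟩ := Concrete.colimit_exists_of_rep_eq.{u + 1} (stalkEtDiagram p G)
        (i := op ⟨W, m⟩) (j := op ⟨U, l⟩) _ _ h1
      have hl' := congrArg (fun z => z.1.left (IsLocalRing.closedPoint p.K)) g.unop.2
      refine ⟨⟨⟨k.unop.1, g.unop.1⟩, F.obj.map f.unop.1.op s, ?_⟩, _,
        ((Scheme.Hom.comp_apply _ _ _).symm.trans hl').trans hl⟩
      exact (NatTrans.naturality_apply a.hom f.unop.1.op s).trans hfg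

include hX in
theorem exact_iff_stalk (C : ShortComplex (AbEt X)) :
    C.Exact ↔ ∀ p : FieldPt X, p.IsGeometric →
      ∀ y : ↥((stalkEtFunctor AddCommGrpCat.{u + 1} p).obj C.X₂),
        ((stalkEtFunctor AddCommGrpCat.{u + 1} p).map C.g) y = 0 →
          ∃ x : ↥((stalkEtFunctor AddCommGrpCat.{u + 1} p).obj C.X₁),
            ((stalkEtFunctor AddCommGrpCat.{u + 1} p).map C.f) x = y := by
  constructor
  · intro hC p hp y hy
    haveI := (preservesFinite_stalkEtFunctor (A := AddCommGrpCat.{u + 1}) hX hp).1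
    haveI := (preservesFinite_stalkEtFunctor (A := AddCommGrpCat.{u + 1}) hX hp).2
    haveI : (stalkEtFunctor AddCommGrpCat.{u + 1} p).Additive := Functor.additive_of_preserves_binary_products _
    exact ((C.map (stalkEtFunctor AddCommGrpCat.{u + 1} p)).ab_exact_iff).1 (hC.map _) y hy
  · intro h
    rw [ShortComplex.exact_iff_epi_toCycles, ← Sheaf.isLocallySurjective_iff_epi']
    refine ⟨fun {U} z => ?_⟩
    let ι := {k : Σ V : EtOver X, (V ⟶ U) // Presheaf.imageSieve C.toCycles.hom z k.2}
    refine (etTop X).superset_covering ?_ (ofArrows_mem_etTop (fun k : ι => k.1.1) (fun k => k.1.2) fun x => ?_)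
    · rw [Sieve.ofArrows, Sieve.generate_le_iff]
      rintro _ _ ⟨k⟩
      exact k.2
    · obtain ⟨p, hp, l, hl⟩ := exists_geometric_lift U x
      haveI := isFiltered_etNbhd hX hp
      let y : ↥(C.X₂.obj.obj (op U)) := (C.iCycles.hom.app (op U)).hom z
      have hy : (C.g.hom.app (op U)).hom y = 0 := by
        have := congrArg (fun q => (q.hom.app (op U)).hom z) C.iCycles_g
        exact this
      obtain ⟨w, hw⟩ := h p hp (stalkEtι p C.X₂ ⟨U, l⟩ y) (by
        refine (ConcreteCategory.congr_hom (stalkEtι_naturality C.g ⟨U, l⟩) y).trans ?_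
        exact (congrArg (stalkEtι p C.X₃ ⟨U, l⟩).hom hy).trans (map_zero _))
      obtain ⟨⟨⟨W, m⟩⟩, s, rfl⟩ := Concrete.colimit_exists_rep (stalkEtDiagram p C.X₁) w
      have h1 := (ConcreteCategory.congr_hom (stalkEtι_naturality C.f ⟨W, m⟩) s).symm.trans hw
      obtain ⟨k, f, g, hfg⟩ := Concrete.colimit_exists_of_rep_eq.{u + 1} (stalkEtDiagram p C.X₂)
        (i := op ⟨W, m⟩) (j := op ⟨U, l⟩) _ _ h1
      have hl' := congrArg (fun z => z.1.left (IsLocalRing.closedPoint p.K)) g.unop.2
      refine ⟨⟨⟨k.unop.1, g.unop.1⟩, C.X₁.obj.map f.unop.1.op s, ?_⟩, _,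
        ((Scheme.Hom.comp_apply _ _ _).symm.trans hl').trans hl⟩
      haveI : Mono C.iCycles.hom := (sheafToPresheaf _ _).map_mono C.iCycles
      apply (AddCommGrpCat.mono_iff_injective (C.iCycles.hom.app (op k.unop.1))).1 inferInstance
      have e := congrArg (fun q => (q.hom.app (op k.unop.1)).hom (C.X₁.obj.map f.unop.1.op s)) C.toCycles_i
      refine Eq.trans e ?_
      refine ((NatTrans.naturality_apply C.f.hom f.unop.1.op s).trans hfg).trans ?_
      exact (NatTrans.naturality_apply C.iCycles.hom g.unop.1.op z).symm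

end Criteria

end Groth.Agent.ASp
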