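import Groth.Agent.ASp.EtSupport
import Groth.Agent.RatDense.Basic
import Groth.Agent.HensBranch.Model
import Mathlib.FieldTheory.SeparableClosure
/-!
The étale local ring of an algebraic space at a geometric point is the strict henselization of the local ring
of a chart.
-/

set_option autoImplicit false
set_option linter.style.haveILetI false
set_option backward.isDefEq.respectTransparency false
set_option backward.isDefEq.respectTransparency.types false

universe u

open CategoryTheory CategoryTheory.Limits AlgebraicGeometry Opposite IsLocalRing TensorProduct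

namespace Groth.Agent.ASp

open _root_.AlgSp
open Groth.Agent.Henselization

/-- Flatness cancels on the left of an étale morphism. -/
theorem flat_of_comp_etale {Z V U : Scheme.{u}} (g : Z ⟶ V) (b : V ⟶ U) [Etale b] (h : Flat (g ≫ b)) : Flat g := by
  let s : Z ⟶ pullback (g ≫ b) b := pullback.lift (𝟙 Z) g (by simp)
  haveI : Etale s := by
    refine MorphismProperty.HasOfPostcompProperty.of_postcomp (W := @Etale) s (pullback.fst (g ≫ b) b)
      (show Etale (pullback.fst (g ≫ b) b) from inferInstance) ?_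
    rw [pullback.lift_fst]
    infer_instance
  haveI := h
  rw [show g = s ≫ pullback.snd (g ≫ b) b from (pullback.lift_snd _ _ _).symm]
  infer_instance

section Field

variable {R : Type u} [CommRing R] [IsLocalRing R] {K : Type u} [Field K] [Algebra R K]
  [Algebra (ResidueField R) K] [IsScalarTower R (ResidueField R) K]

omit [IsLocalRing R] [Algebra R K] [Algebra (ResidueField R) K] [IsScalarTower R (ResidueField R) K] in
/-- The image of an unramified algebra over a field in a field is separable. -/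
theorem isSeparable_of_unramified_point {k : Type u} [Field k] [Algebra k K] {T₀ : Type u} [CommRing T₀] [Algebra k T₀]
    [Algebra.FormallyUnramified k T₀] [Algebra.FiniteType k T₀] (σ₀ : T₀ →ₐ[k] K) (y : T₀) : IsSeparable k (σ₀ y) := by
  haveI : Algebra.FormallyUnramified k σ₀.range :=
    Algebra.FormallyUnramified.of_surjective σ₀.rangeRestrict (AlgHom.rangeRestrict_surjective σ₀)
  haveI : Algebra.FiniteType k σ₀.range :=
    (inferInstance : Algebra.FiniteType k T₀).of_surjective σ₀.rangeRestrict (AlgHom.rangeRestrict_surjective σ₀)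
  haveI : Module.Finite k σ₀.range := Algebra.FormallyUnramified.finite_of_free k σ₀.range
  letI : Field σ₀.range := fieldOfFiniteDimensional k σ₀.range
  haveI : Algebra.IsSeparable k σ₀.range := Algebra.FormallyUnramified.isSeparable k σ₀.range
  have hinj : Function.Injective σ₀.range.val := Subtype.val_injective
  have h : IsSeparable k (σ₀.rangeRestrict y) := Algebra.IsSeparable.isSeparable k _
  have e : σ₀.range.val (σ₀.rangeRestrict y) = σ₀ y := rfl
  show (minpoly k (σ₀ y)).Separable
  rw [← e, minpoly.algHom_eq σ₀.range.val hinj]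
  exact h

/-- Points of étale algebras take separable values. -/
theorem etale_point_mem_separableClosure {T : Type u} [CommRing T] [Algebra R T] [Algebra.Etale R T]
    (σ : T →ₐ[R] K) (y : T) : σ y ∈ separableClosure (ResidueField R) K := by
  rw [mem_separableClosure_iff]
  let σ₀ : ResidueField R ⊗[R] T →ₐ[ResidueField R] K :=
    Algebra.TensorProduct.lift (Algebra.ofId (ResidueField R) K) σ fun _ _ => Commute.all _ _
  have e : σ₀ ((1 : ResidueField R) ⊗ₜ y) = σ y :=
    (Algebra.TensorProduct.lift_tmul _ _ _ _ _).trans (by rw [map_one, one_mul])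
  haveI h1 : Algebra.FormallyUnramified (ResidueField R) (ResidueField R ⊗[R] T) :=
    Algebra.FormallyUnramified.base_change (R := R) (A := T) (ResidueField R)
  haveI h2 : Algebra.FiniteType (ResidueField R) (ResidueField R ⊗[R] T) :=
    Algebra.FiniteType.baseChange (R := R) (ResidueField R)
  rw [← e]
  exact @isSeparable_of_unramified_point K _ (ResidueField R) _ _ (ResidueField R ⊗[R] T) _ _ h1 h2 σ₀ _

end Field

variable {S : Scheme.{u}} {X : Sp S}

section

variable {p : FieldPt X} {E : EtOver X} (l : (FieldPt.liftsTo p).obj E)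

/-- The point of the chart. -/
noncomputable abbrev chartPt : ↥E.obj.left.left := l.1.left (closedPoint p.K)

/-- The local ring of the chart. -/
abbrev chartRing : Type u := ↥(E.obj.left.left.presheaf.stalk (chartPt l))

/-- Its map to the field of the geometric point. -/
noncomputable abbrev chartToK : chartRing l →+* p.K := (Scheme.stalkClosedPointTo l.1.left).hom

noncomputable instance chartAlgebra : Algebra (chartRing l) p.K := (chartToK l).toAlgebra

instance : IsLocalHom (algebraMap (chartRing l) p.K) :=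
  inferInstanceAs (IsLocalHom (Scheme.stalkClosedPointTo l.1.left).hom)

noncomputable instance chartResAlgebra : Algebra (ResidueField (chartRing l)) p.K :=
  (IsLocalRing.ResidueField.lift (algebraMap (chartRing l) p.K)).toAlgebra

instance : IsScalarTower (chartRing l) (ResidueField (chartRing l)) p.K :=
  .of_algebraMap_eq fun _ => rfl

/-- The separable closure of the residue field in the field of the point. -/
noncomputable abbrev sepK : IntermediateField (ResidueField (chartRing l)) p.K :=
  separableClosure (ResidueField (chartRing l)) p.K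

/-- The strict henselization. -/
noncomputable abbrev hzRing : Type u := Hz (chartRing l) ↥(sepK l)

/-- Its map to the field of the point. -/
noncomputable def hzToK : hzRing l →ₐ[chartRing l] p.K :=
  ((sepK l).val.restrictScalars (chartRing l)).comp (εH (chartRing l) ↥(sepK l))

theorem hzToK_eq_zero_iff (z : hzRing l) : hzToK l z = 0 ↔ z ∈ maximalIdeal (hzRing l) := by
  rw [mem_maximalIdeal_iff]
  exact map_eq_zero_iff _ (sepK l).val.injective

/-- The point of the strict henselization. -/
noncomputable def kToHz : Spec (CommRingCat.of p.K) ⟶ Spec (CommRingCat.of (hzRing l)) :=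
  Spec.map (CommRingCat.ofHom (hzToK l).toRingHom)

theorem kToHz_closedPoint : kToHz l (closedPoint p.K) = closedPoint (hzRing l) := by
  refine PrimeSpectrum.ext ?_
  show (maximalIdeal p.K).comap (hzToK l).toRingHom = maximalIdeal (hzRing l)
  ext z
  rw [Ideal.mem_comap, maximalIdeal_eq_bot, Ideal.mem_bot]
  exact hzToK_eq_zero_iff l z

/-- The map of the strict henselization to the chart. -/
noncomputable def hzToChart : Spec (CommRingCat.of (hzRing l)) ⟶ E.obj.left.left :=
  Spec.map (CommRingCat.ofHom (algebraMap (chartRing l) (hzRing l))) ≫ E.obj.left.left.fromSpecStalk (chartPt l)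

theorem kToHz_hzToChart : kToHz l ≫ hzToChart l = l.1.left := by
  rw [kToHz, hzToChart, ← Spec.map_comp_assoc]
  have : CommRingCat.ofHom (algebraMap (chartRing l) (hzRing l)) ≫ CommRingCat.ofHom (hzToK l).toRingHom =
      Scheme.stalkClosedPointTo l.1.left := by
    ext x
    exact (hzToK l).commutes x
  rw [this]
  exact Scheme.Spec_stalkClosedPointTo_fromSpecStalk _

theorem flat_hzToChart : Flat (hzToChart l) := by
  haveI : Flat (Spec.map (CommRingCat.ofHom (algebraMap (chartRing l) (hzRing l)))) := by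
    rw [HasRingHomProperty.Spec_iff (P := @Flat)]
    exact RingHom.flat_algebraMap_iff.2 inferInstance
  haveI : Flat (E.obj.left.left.fromSpecStalk (chartPt l)) := by
    obtain ⟨_, ⟨A : E.obj.left.left.Opens, hA, rfl⟩, hxA, -⟩ :=
      E.obj.left.left.isBasis_affineOpens.exists_subset_of_mem_open (Set.mem_univ (chartPt l)) isOpen_univ
    rw [← hA.fromSpecStalk_eq_fromSpecStalk hxA, IsAffineOpen.fromSpecStalk]
    letI := TopCat.Presheaf.algebra_section_stalk E.obj.left.left.presheaf (⟨chartPt l, hxA⟩ : A)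
    haveI := hA.isLocalization_stalk ⟨chartPt l, hxA⟩
    haveI : Flat (Spec.map (E.obj.left.left.presheaf.germ A (chartPt l) hxA)) := by
      rw [HasRingHomProperty.Spec_iff (P := @Flat)]
      exact RingHom.flat_algebraMap_iff.2 (IsLocalization.flat (chartRing l) (hA.primeIdealOf ⟨chartPt l, hxA⟩).asIdeal.primeCompl)
    infer_instance
  unfold hzToChart
  infer_instance

/-- The lifting of points of étale algebras to the strict henselization. -/
theorem existsUnique_algebraic {C B : Type u} [CommRing C] [CommRing B] [Algebra C B] [Algebra.Etale C B]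
    (c : C →+* chartRing l) (σ : B →+* p.K)
    (hσ : σ.comp (algebraMap C B) = ((hzToK l).toRingHom.comp (algebraMap (chartRing l) (hzRing l))).comp c) :
    ∃! τ : B →+* hzRing l, τ.comp (algebraMap C B) = (algebraMap (chartRing l) (hzRing l)).comp c ∧
      (hzToK l).toRingHom.comp τ = σ := by
  letI : Algebra C (chartRing l) := c.toAlgebra
  letI : Algebra C p.K := ((algebraMap (chartRing l) p.K).comp c).toAlgebra
  haveI : IsScalarTower C (chartRing l) p.K := .of_algebraMap_eq fun _ => rfl
  let σC : B →ₐ[C] p.K :=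
    { toRingHom := σ
      commutes' := fun r => (RingHom.congr_fun hσ r).trans ((hzToK l).commutes (c r)) }
  let σR : chartRing l ⊗[C] B →ₐ[chartRing l] p.K :=
    Algebra.TensorProduct.lift (Algebra.ofId (chartRing l) p.K) σC fun _ _ => Commute.all _ _
  let σ' : chartRing l ⊗[C] B →ₐ[chartRing l] ↥(sepK l) :=
    { toRingHom := σR.toRingHom.codRestrict (sepK l).toSubfield (etale_point_mem_separableClosure σR)
      commutes' := fun r => Subtype.ext (σR.commutes r) }
  obtain ⟨j, e, he⟩ := exists_idx (chartRing l ⊗[C] B) σ'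
  let τ : B →+* hzRing l := ((ι j).comp e).toRingHom.comp Algebra.TensorProduct.includeRight.toRingHom
  refine ⟨τ, ⟨?_, ?_⟩, fun τ' ⟨h1, h2⟩ => ?_⟩
  · ext r
    show (ι j) (e ((1 : chartRing l) ⊗ₜ algebraMap C B r)) = _
    rw [← Algebra.TensorProduct.tmul_one_eq_one_tmul (R := C)]
    exact ((ι j).comp e).commutes (c r)
  · ext y
    show ((εH (chartRing l) ↥(sepK l) (ι j (e ((1 : chartRing l) ⊗ₜ y))) : ↥(sepK l)) : p.K) = σ y
    rw [εH_ι, show j.ε (e ((1 : chartRing l) ⊗ₜ y)) = σ' ((1 : chartRing l) ⊗ₜ y) from AlgHom.congr_fun he _]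
    show σR _ = σ y
    rw [Algebra.TensorProduct.lift_tmul, map_one, one_mul]
    rfl
  · letI : Algebra C (hzRing l) := ((algebraMap (chartRing l) (hzRing l)).comp c).toAlgebra
    have hτc : τ.comp (algebraMap C B) = algebraMap C (hzRing l) := by
      ext r
      show (ι j) (e ((1 : chartRing l) ⊗ₜ algebraMap C B r)) = _
      rw [← Algebra.TensorProduct.tmul_one_eq_one_tmul (R := C)]
      exact ((ι j).comp e).commutes (c r)
    have hτK : ∀ y, hzToK l (τ y) = σ y := fun y => by
      show ((εH (chartRing l) ↥(sepK l) (ι j (e ((1 : chartRing l) ⊗ₜ y))) : ↥(sepK l)) : p.K) = σ y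
      rw [εH_ι, show j.ε (e ((1 : chartRing l) ⊗ₜ y)) = σ' ((1 : chartRing l) ⊗ₜ y) from AlgHom.congr_fun he _]
      show σR _ = σ y
      rw [Algebra.TensorProduct.lift_tmul, map_one, one_mul]
      rfl
    let f : B →ₐ[C] hzRing l := { toRingHom := τ', commutes' := fun r => RingHom.congr_fun h1 r }
    let f' : B →ₐ[C] hzRing l := { toRingHom := τ, commutes' := fun r => RingHom.congr_fun hτc r }
    have : f = f' := Hensel.algHom_unique (A := hzRing l) (I := maximalIdeal (hzRing l)) (f := f) (g := f')
      (le_sInf fun M hM => (eq_maximalIdeal hM.2).ge) fun y => by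
        rw [← hzToK_eq_zero_iff, map_sub, sub_eq_zero]
        exact (RingHom.congr_fun h2 y).trans (hτK y).symm
    exact congrArg AlgHom.toRingHom this

/-- A lift of the strict henselization to a neighbourhood over the chart. -/
def IsGood {V : EtOver X} (lV : (FieldPt.liftsTo p).obj V) (b : V ⟶ E)
    (h : Spec (CommRingCat.of (hzRing l)) ⟶ V.obj.left.left) : Prop :=
  h ≫ b.hom.left.left = hzToChart l ∧ kToHz l ≫ h = lV.1.left

theorem existsUnique_isGood {V : EtOver X} (lV : (FieldPt.liftsTo p).obj V) (b : V ⟶ E)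
    (hb : (FieldPt.liftsTo p).map b lV = l) : ∃! h, IsGood l lV b h := by
  have hbl : lV.1.left ≫ b.hom.left.left = l.1.left := congrArg (fun z => z.1.left) hb
  obtain ⟨_, ⟨A : E.obj.left.left.Opens, hA, rfl⟩, hxA, -⟩ :=
    E.obj.left.left.isBasis_affineOpens.exists_subset_of_mem_open (Set.mem_univ (chartPt l)) isOpen_univ
  have hwA : lV.1.left (closedPoint p.K) ∈ b.hom.left.left ⁻¹ᵁ A := by
    show b.hom.left.left (lV.1.left (closedPoint p.K)) ∈ A
    rw [← Scheme.Hom.comp_apply, hbl]
    exact hxA
  obtain ⟨_, ⟨B : V.obj.left.left.Opens, hB, rfl⟩, hwB, hBA⟩ :=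
    V.obj.left.left.isBasis_affineOpens.exists_subset_of_mem_open hwA (b.hom.left.left ⁻¹ᵁ A).2
  haveI := EtOver.etale_left b
  letI := (b.hom.left.left.appLE A B hBA).hom.toAlgebra
  haveI : Algebra.Etale Γ(E.obj.left.left, A) Γ(V.obj.left.left, B) := b.hom.left.left.etale_appLE hA hB hBA
  let c : Γ(E.obj.left.left, A) →+* chartRing l := (E.obj.left.left.presheaf.germ A (chartPt l) hxA).hom
  have hh₀ : hzToChart l = Spec.map (CommRingCat.ofHom ((algebraMap (chartRing l) (hzRing l)).comp c)) ≫ hA.fromSpec := by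
    rw [hzToChart, ← hA.fromSpecStalk_eq_fromSpecStalk hxA, IsAffineOpen.fromSpecStalk, ← Spec.map_comp_assoc]
    rfl
  have hrB : Set.range lV.1.left ⊆ Set.range hB.fromSpec := by
    rintro _ ⟨z, rfl⟩
    rw [hB.range_fromSpec, Subsingleton.elim (α := ↥(Spec (CommRingCat.of p.K))) z (closedPoint p.K)]
    exact hwB
  let σ' : Γ(V.obj.left.left, B) →+* p.K := (Spec.preimage (IsOpenImmersion.lift hB.fromSpec lV.1.left hrB)).hom
  have hσ' : Spec.map (CommRingCat.ofHom σ') ≫ hB.fromSpec = lV.1.left := by
    show Spec.map (Spec.preimage _) ≫ hB.fromSpec = lV.1.left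
    rw [Spec.map_preimage, IsOpenImmersion.lift_fac]
  have hσc : σ'.comp (algebraMap Γ(E.obj.left.left, A) Γ(V.obj.left.left, B)) =
      ((hzToK l).toRingHom.comp (algebraMap (chartRing l) (hzRing l))).comp c := by
    have : Spec.map (b.hom.left.left.appLE A B hBA ≫ CommRingCat.ofHom σ') ≫ hA.fromSpec =
        Spec.map (CommRingCat.ofHom (((algebraMap (chartRing l) (hzRing l))).comp c) ≫ CommRingCat.ofHom (hzToK l).toRingHom) ≫ hA.fromSpec := by
      rw [Spec.map_comp, Category.assoc, IsAffineOpen.SpecMap_appLE_fromSpec b.hom.left.left hA hB hBA, reassoc_of% hσ', hbl,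
        Spec.map_comp, Category.assoc, ← hh₀]
      exact (kToHz_hzToChart l).symm
    exact congrArg CommRingCat.Hom.hom (Spec.map_injective ((cancel_mono hA.fromSpec).1 this))
  obtain ⟨τ, ⟨hτc, hτσ⟩, hτu⟩ := existsUnique_algebraic l c σ' hσc
  refine ⟨Spec.map (CommRingCat.ofHom τ) ≫ hB.fromSpec, ⟨?_, ?_⟩, fun h ⟨hh₁, hh₂⟩ => ?_⟩
  · rw [Category.assoc, ← IsAffineOpen.SpecMap_appLE_fromSpec b.hom.left.left hA hB hBA, ← Spec.map_comp_assoc, hh₀]
    congr 2
    exact CommRingCat.hom_ext hτc
  · rw [kToHz, ← Spec.map_comp_assoc]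
    refine Eq.trans ?_ hσ'
    congr 2
    exact CommRingCat.hom_ext hτσ
  · have hcl : h (closedPoint (hzRing l)) ∈ B := by
      rw [← kToHz_closedPoint l, ← Scheme.Hom.comp_apply, hh₂]
      exact hwB
    have hr : Set.range h ⊆ Set.range hB.fromSpec := by
      rintro _ ⟨z, rfl⟩
      rw [hB.range_fromSpec]
      have hz : z ∈ h ⁻¹ᵁ B := by rw [Scheme.preimage_eq_top_of_closedPoint_mem h hcl]; trivial
      exact hz
    let τ' : Γ(V.obj.left.left, B) →+* hzRing l := (Spec.preimage (IsOpenImmersion.lift hB.fromSpec h hr)).hom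
    have hτ' : Spec.map (CommRingCat.ofHom τ') ≫ hB.fromSpec = h := by
      show Spec.map (Spec.preimage _) ≫ hB.fromSpec = h
      rw [Spec.map_preimage, IsOpenImmersion.lift_fac]
    rw [← hτ', hτu τ' ⟨?_, ?_⟩]
    · have : Spec.map (b.hom.left.left.appLE A B hBA ≫ CommRingCat.ofHom τ') ≫ hA.fromSpec =
          Spec.map (CommRingCat.ofHom (((algebraMap (chartRing l) (hzRing l))).comp c)) ≫ hA.fromSpec := by
        rw [Spec.map_comp, Category.assoc, IsAffineOpen.SpecMap_appLE_fromSpec b.hom.left.left hA hB hBA, reassoc_of% hτ', hh₁, hh₀]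
      exact congrArg CommRingCat.Hom.hom (Spec.map_injective ((cancel_mono hA.fromSpec).1 this))
    · have : Spec.map (CommRingCat.ofHom τ' ≫ CommRingCat.ofHom (hzToK l).toRingHom) ≫ hB.fromSpec =
          Spec.map (CommRingCat.ofHom σ') ≫ hB.fromSpec := by
        rw [Spec.map_comp, Category.assoc, hτ', hσ']
        exact hh₂
      exact congrArg CommRingCat.Hom.hom (Spec.map_injective ((cancel_mono hB.fromSpec).1 this))

/-- A lift of the strict henselization to any neighbourhood. -/
def IsLift {V : EtOver X} (lV : (FieldPt.liftsTo p).obj V) (h : Spec (CommRingCat.of (hzRing l)) ⟶ V.obj.left.left) : Prop :=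
  ∃ (P : EtOver X) (lP : (FieldPt.liftsTo p).obj P) (a : P ⟶ V) (b : P ⟶ E) (g : Spec (CommRingCat.of (hzRing l)) ⟶ P.obj.left.left),
    (FieldPt.liftsTo p).map a lP = lV ∧ (FieldPt.liftsTo p).map b lP = l ∧ IsGood l lP b g ∧ g ≫ a.hom.left.left = h

theorem isLift_of_isGood {V : EtOver X} {lV : (FieldPt.liftsTo p).obj V} {b : V ⟶ E} (hb : (FieldPt.liftsTo p).map b lV = l)
    {h : Spec (CommRingCat.of (hzRing l)) ⟶ V.obj.left.left} (hh : IsGood l lV b h) : IsLift l lV h :=
  ⟨V, lV, 𝟙 V, b, h, Subtype.ext (Category.comp_id _), hb, hh, Category.comp_id _⟩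

theorem existsUnique_isLift {V : EtOver X} (lV : (FieldPt.liftsTo p).obj V) : ∃! h, IsLift l lV h := by
  obtain ⟨P, ⟨a⟩, ⟨b⟩⟩ := exists_prod (p := p) ⟨V, lV⟩ ⟨E, l⟩
  obtain ⟨g, hg, -⟩ := existsUnique_isGood l P.2 b.1 b.2
  refine ⟨g ≫ a.1.hom.left.left, ⟨P.1, P.2, a.1, b.1, g, a.2, b.2, hg, rfl⟩, ?_⟩
  rintro h ⟨P', lP', a', b', g', ha', hb', hg', rfl⟩
  obtain ⟨Q, ⟨q⟩, ⟨q'⟩⟩ := exists_prod (p := p) P ⟨P', lP'⟩
  let a'' : @Quiver.Hom (EtNbhd p) _ ⟨P', lP'⟩ ⟨V, lV⟩ := ⟨a', ha'⟩
  let b'' : @Quiver.Hom (EtNbhd p) _ ⟨P', lP'⟩ ⟨E, l⟩ := ⟨b', hb'⟩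
  obtain ⟨Q₁, k₁, hk₁⟩ := exists_equalizer (q ≫ a) (q' ≫ a'')
  obtain ⟨Q₂, k₂, hk₂⟩ := exists_equalizer (k₁ ≫ q ≫ b) (k₁ ≫ q' ≫ b'')
  let r : Q₂.1 ⟶ P.1 := (k₂ ≫ k₁ ≫ q).1
  let r' : Q₂.1 ⟶ P' := (k₂ ≫ k₁ ≫ q').1
  have ea : r ≫ a.1 = r' ≫ a' := by
    have := congrArg (fun z => (k₂ ≫ z).1) hk₁
    simpa [r, r', a'', Category.assoc] using this
  have eb : r ≫ b.1 = r' ≫ b' := by
    have := congrArg Subtype.val hk₂
    simpa [r, r', b'', Category.assoc] using this
  have hr : (FieldPt.liftsTo p).map r Q₂.2 = P.2 := (k₂ ≫ k₁ ≫ q).2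
  have hr' : (FieldPt.liftsTo p).map r' Q₂.2 = lP' := (k₂ ≫ k₁ ≫ q').2
  obtain ⟨m, hm, -⟩ := existsUnique_isGood l Q₂.2 (r ≫ b.1) (by rw [Functor.map_comp_apply, hr]; exact b.2)
  have h₁ : m ≫ r.hom.left.left = g := by
    obtain ⟨g₀, -, hu⟩ := existsUnique_isGood l P.2 b.1 b.2
    refine (hu _ ⟨?_, ?_⟩).trans (hu _ hg).symm
    · rw [Category.assoc]; exact hm.1
    · rw [reassoc_of% hm.2]; exact congrArg (fun z => z.1.left) hr
  have h₂ : m ≫ r'.hom.left.left = g' := by
    obtain ⟨g₀, -, hu⟩ := existsUnique_isGood l lP' b' hb'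
    refine (hu _ ⟨?_, ?_⟩).trans (hu _ hg').symm
    · rw [Category.assoc]
      exact (congrArg (fun z => m ≫ z.hom.left.left) eb).symm.trans hm.1
    · rw [reassoc_of% hm.2]; exact congrArg (fun z => z.1.left) hr'
  rw [← h₁, ← h₂, Category.assoc, Category.assoc]
  exact (congrArg (fun z => m ≫ z.hom.left.left) ea).symm

/-- The chosen lift. -/
noncomputable def liftHz (N : EtNbhd p) : Spec (CommRingCat.of (hzRing l)) ⟶ N.1.obj.left.left :=
  (existsUnique_isLift l N.2).choose

theorem isLift_liftHz (N : EtNbhd p) : IsLift l N.2 (liftHz l N) := (existsUnique_isLift l N.2).choose_spec.1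

theorem eq_liftHz {N : EtNbhd p} {h : Spec (CommRingCat.of (hzRing l)) ⟶ N.1.obj.left.left} (hh : IsLift l N.2 h) :
    h = liftHz l N := (existsUnique_isLift l N.2).choose_spec.2 h hh

theorem liftHz_comp {N N' : EtNbhd p} (g : N' ⟶ N) : liftHz l N' ≫ g.1.hom.left.left = liftHz l N := by
  apply eq_liftHz
  obtain ⟨P, lP, a, b, m, ha, hb, hm, e⟩ := isLift_liftHz l N'
  refine ⟨P, lP, a ≫ g.1, b, m, ?_, hb, hm, ?_⟩
  · rw [Functor.map_comp_apply, ha]; exact g.2
  · rw [← e, Category.assoc]; rfl

variable (p) in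
/-- The comparison map on the diagram. -/
noncomputable def stalkCocone : Cocone (stalkEtDiagram p (OEt X)) where
  pt := CommRingCat.of (ULift.{u + 1} (hzRing l))
  ι :=
    { app := fun N => CommRingCat.ofHom (((ULift.ringEquiv (R := hzRing l)).symm : hzRing l →+* ULift.{u + 1} (hzRing l)).comp
        (((Scheme.ΓSpecIso (CommRingCat.of (hzRing l))).hom).hom.comp
          (((liftHz l N.unop).appTop).hom.comp (ULift.ringEquiv : ULift.{u + 1} Γ(N.unop.1.obj.left.left, ⊤) ≃+* _).toRingHom)))
      naturality := fun N N' g => by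
        ext z
        apply ULift.down_injective
        show (Scheme.ΓSpecIso _).hom ((liftHz l N'.unop).appTop (g.unop.1.hom.left.left.appTop z.down)) =
          (Scheme.ΓSpecIso _).hom ((liftHz l N.unop).appTop z.down)
        rw [← CommRingCat.comp_apply g.unop.1.hom.left.left.appTop, ← Scheme.Hom.comp_appTop, liftHz_comp] }

/-- The comparison map to the strict henselization. -/
noncomputable def stalkToHz : OEtStalk p ⟶ CommRingCat.of (ULift.{u + 1} (hzRing l)) :=
  colimit.desc (stalkEtDiagram p (OEt X)) (stalkCocone p l)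

theorem stalkToHz_ι (N : EtNbhd p) (s : (OEt X).obj.obj (op N.1)) :
    (stalkToHz l (stalkEtι p (OEt X) N s)).down =
      (Scheme.ΓSpecIso (CommRingCat.of (hzRing l))).hom ((liftHz l N).appTop s.down) := by
  rw [← CommRingCat.comp_apply, stalkToHz, stalkEtι, colimit.ι_desc]
  rfl

theorem stalkToHz_bijective (hX : IsAlgSpace X) (hp : p.IsGeometric) : Function.Bijective (stalkToHz l) := by
  haveI := isFiltered_etNbhd hX hp
  refine ⟨(injective_iff_map_eq_zero (stalkToHz l).hom).2 fun t ht => ?_, fun z => ?_⟩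
  · obtain ⟨⟨⟨V, lV⟩⟩, s, rfl⟩ := Concrete.colimit_exists_rep (stalkEtDiagram p (OEt X)) t
    obtain ⟨P, lP, a, b, g, ha, hb, hg, e⟩ := isLift_liftHz l (⟨V, lV⟩ : EtNbhd p)
    let s' : (OEt X).obj.obj (op P) := (OEt X).obj.map a.op s
    have hs' : g.appTop s'.down = 0 := by
      apply (ConcreteCategory.bijective_of_isIso (Scheme.ΓSpecIso (CommRingCat.of (hzRing l))).hom).1
      rw [map_zero, show s'.down = a.hom.left.left.appTop s.down from rfl, ← CommRingCat.comp_apply a.hom.left.left.appTop,
        ← Scheme.Hom.comp_appTop, e]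
      exact (stalkToHz_ι l ⟨V, lV⟩ s).symm.trans (congrArg ULift.down ht)
    haveI := EtOver.etale_left b
    haveI hfl : Flat g := flat_of_comp_etale g b.hom.left.left (by rw [hg.1]; exact flat_hzToChart l)
    have hgw : g (closedPoint (hzRing l)) = lP.1.left (closedPoint p.K) := by
      rw [← kToHz_closedPoint l, ← Scheme.Hom.comp_apply, hg.2]
      rfl
    have hgerm : P.obj.left.left.presheaf.germ ⊤ (g (closedPoint (hzRing l))) trivial s'.down = 0 := by
      algebraize [(g.stalkMap (closedPoint (hzRing l))).hom]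
      have : Module.FaithfullyFlat (P.obj.left.left.presheaf.stalk (g (closedPoint (hzRing l))))
          ((Spec (CommRingCat.of (hzRing l))).presheaf.stalk (closedPoint (hzRing l))) :=
        @Module.FaithfullyFlat.of_flat_of_isLocalHom _ _ _ _ _ _ _ (Flat.stalkMap g _) (g.toLRSHom.prop _)
      refine (‹RingHom.FaithfullyFlat _›.injective) ?_
      rw [map_zero]
      show g.stalkMap _ _ = 0
      rw [← CommRingCat.comp_apply, Scheme.Hom.germ_stalkMap, CommRingCat.comp_apply,
        show g.app ⊤ s'.down = 0 from hs', map_zero]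
    obtain ⟨(O : P.obj.left.left.Opens), hO, i₁, i₂, hOe⟩ := P.obj.left.left.presheaf.germ_eq _ (TopologicalSpace.Opens.mem_top _) (TopologicalSpace.Opens.mem_top _) s'.down 0
      (hgerm.trans (map_zero _).symm)
    let j : Over.mk (O.ι ≫ P.obj.left.hom) ⟶ P.obj.left := Over.homMk O.ι rfl
    let PO : EtOver X := EtOver.mk ((yon S).map j ≫ P.obj.hom)
      (repWith_comp (repWith_yon_map (inferInstance : Etale O.ι)) P.property)
    let jj : PO ⟶ P := EtOver.homMk j rfl
    obtain ⟨lO, hlO⟩ := exists_liftsTo_of_mem_range hp jj lP ⟨⟨lP.1.left (closedPoint p.K), (by rw [← hgw]; exact hO)⟩, rfl⟩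
    let m : @Quiver.Hom (EtNbhd p) _ ⟨PO, lO⟩ ⟨V, lV⟩ := ⟨jj ≫ a, by rw [Functor.map_comp_apply, hlO]; exact ha⟩
    refine Eq.trans ?_ (map_zero (stalkEtι p (OEt X) ⟨PO, lO⟩).hom)
    refine Eq.trans ?_ (congrArg _ (show (OEt X).obj.map (jj ≫ a).op s = 0 from ?_))
    · exact (ConcreteCategory.congr_hom (colimit.w (stalkEtDiagram p (OEt X)) m.op) s).symm
    · apply ULift.down_injective
      show O.ι.appTop s'.down = 0
      rw [Scheme.Opens.ι_appTop]
      refine RatDense.res_eq_zero_mono (h := (le_top : O ≤ ⊤)) (by simp) ?_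
      exact hOe.trans (map_zero _)
  · obtain ⟨i, q, hq⟩ := exists_ι z.down
    obtain ⟨_, ⟨A : E.obj.left.left.Opens, hA, rfl⟩, hxA, -⟩ :=
      E.obj.left.left.isBasis_affineOpens.exists_subset_of_mem_open (Set.mem_univ (chartPt l)) isOpen_univ
    let C : Type u := Γ(E.obj.left.left, A)
    letI : Algebra C (chartRing l) := TopCat.Presheaf.algebra_section_stalk E.obj.left.left.presheaf (⟨chartPt l, hxA⟩ : A)
    haveI := hA.isLocalization_stalk ⟨chartPt l, hxA⟩
    obtain ⟨B, _, _, _, Q, _, χ, hχC, hQ, e, he⟩ :=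
      HensBranch.exists_etale_model' (C := C) (R := chartRing l) (hA.primeIdealOf ⟨chartPt l, hxA⟩).asIdeal i
    obtain ⟨⟨num, den⟩, hbs⟩ := IsLocalization.surj Q.primeCompl (e.symm q)
    have hden : IsUnit (χ den) := by
      rw [← he]; exact (IsLocalization.map_units (Localization.AtPrime Q) den).map e
    let χs : (Localization.Away (den : B)) →+* i.L := IsLocalization.Away.lift (den : B) (g := χ) hden
    let elt : (Localization.Away (den : B)) := IsLocalization.Away.invSelf (den : B) * algebraMap B (Localization.Away (den : B)) num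
    have helt : χs elt = q := by
      have h1 : q * χ den = χ num := by
        rw [← he, ← he, ← e.apply_symm_apply q, ← map_mul, hbs]
      have h2 : χs (IsLocalization.Away.invSelf (den : B)) * χ den = 1 := by
        have h4 : χs (algebraMap B (Localization.Away (den : B)) den) = χ den := IsLocalization.Away.lift_eq (den : B) hden den
        rw [← h4, ← map_mul, mul_comm,
          IsLocalization.Away.mul_invSelf, map_one]
      have h3 : χs (algebraMap B (Localization.Away (den : B)) num) = χ num := IsLocalization.Away.lift_eq (den : B) hden num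
      rw [map_mul, h3, ← h1]
      linear_combination q * h2
    haveI : Algebra.Etale C (Localization.Away (den : B)) := Algebra.Etale.comp C B (Localization.Away (den : B))
    let qs : Spec (CommRingCat.of (Localization.Away (den : B))) ⟶ E.obj.left.left :=
      Spec.map (CommRingCat.ofHom (algebraMap C (Localization.Away (den : B)))) ≫ hA.fromSpec
    haveI : Etale qs := by
      haveI : Etale (Spec.map (CommRingCat.ofHom (algebraMap C (Localization.Away (den : B))))) := by
        rw [HasRingHomProperty.Spec_iff (P := @Etale)]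
        exact RingHom.etale_algebraMap.mpr inferInstance
      exact inferInstanceAs (Etale (_ ≫ _))
    let gs : Spec (CommRingCat.of (hzRing l)) ⟶ Spec (CommRingCat.of (Localization.Away (den : B))) :=
      Spec.map (CommRingCat.ofHom ((ι i).toRingHom.comp χs))
    have hgs : gs ≫ qs = hzToChart l := by
      rw [hzToChart, ← hA.fromSpecStalk_eq_fromSpecStalk hxA, IsAffineOpen.fromSpecStalk, ← Spec.map_comp_assoc,
        ← Spec.map_comp_assoc]
      congr 2
      ext x
      show ι i (χs (algebraMap C (Localization.Away (den : B)) x)) = algebraMap (chartRing l) (hzRing l) (algebraMap C (chartRing l) x)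
      rw [IsScalarTower.algebraMap_apply C B (Localization.Away (den : B)), IsLocalization.Away.lift_eq,
        show χ (algebraMap C B x) = algebraMap (chartRing l) i.L (algebraMap C (chartRing l) x) from RingHom.congr_fun hχC x,
        AlgHom.commutes]
    let T : Over S := Over.mk (qs ≫ E.obj.left.hom)
    let tq : T ⟶ E.obj.left := Over.homMk qs rfl
    let M : EtOver X := EtOver.mk ((yon S).map tq ≫ E.obj.hom)
      (repWith_comp (repWith_yon_map (g := tq) ‹Etale qs›) E.property)
    let bM : M ⟶ E := EtOver.homMk tq rfl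
    let kM : p.pt ⟶ M.obj.left := Over.homMk (kToHz l ≫ gs) (by
      show (kToHz l ≫ gs) ≫ qs ≫ E.obj.left.hom = p.str
      rw [← Category.assoc (kToHz l ≫ gs), Category.assoc (kToHz l), hgs, kToHz_hzToChart]
      exact Over.w l.1)
    have hkM : kM ≫ bM.hom.left = l.1 := Over.OverMorphism.ext (by
      show (kToHz l ≫ gs) ≫ qs = l.1.left
      rw [Category.assoc, hgs, kToHz_hzToChart])
    let lM : (FieldPt.liftsTo p).obj M := ⟨kM, by
      rw [← EtOver.w bM, ← Category.assoc, ← Functor.map_comp, hkM]; exact l.2⟩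
    have hgood : IsGood l lM bM gs := ⟨hgs, rfl⟩
    have hl := eq_liftHz (N := (⟨M, lM⟩ : EtNbhd p)) l (isLift_of_isGood l (show (FieldPt.liftsTo p).map bM lM = l from Subtype.ext hkM) hgood)
    refine ⟨stalkEtι p (OEt X) ⟨M, lM⟩ (ULift.up ((Scheme.ΓSpecIso (CommRingCat.of (Localization.Away (den : B)))).inv elt)), ULift.down_injective ?_⟩
    rw [stalkToHz_ι, ← hl, ← hq, ← helt]
    show (Scheme.ΓSpecIso _).hom ((Spec.map _).appTop ((Scheme.ΓSpecIso (CommRingCat.of (Localization.Away (den : B)))).inv elt)) = _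
    rw [← CommRingCat.comp_apply, Scheme.ΓSpecIso_naturality, CommRingCat.comp_apply]
    exact congrArg (fun y => ι i (χs y)) ((Scheme.ΓSpecIso (CommRingCat.of (Localization.Away (den : B)))).inv_hom_id_apply elt)

/-- The étale local ring is the strict henselization of the local ring of any chart. -/
noncomputable def stalkEquivHz (hX : IsAlgSpace X) (hp : p.IsGeometric) : ↥(OEtStalk p) ≃+* hzRing l :=
  (RingEquiv.ofBijective (stalkToHz l).hom (stalkToHz_bijective l hX hp)).trans ULift.ringEquiv

end

end Groth.Agent.ASp
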