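import Groth.Agent.ASp.EtStalkHz
import Groth.Agent.S0540
import Groth.Agent.S0541
import Groth.Agent.S2747
import Groth.Agent.S2743
import Groth.Agent.ASp.NoethFibre
import Groth.Prelude.Def_EtBase
/-!
Properties of étale local rings of algebraic spaces read off from charts.
-/

set_option autoImplicit false
set_option linter.style.haveILetI false
set_option backward.isDefEq.respectTransparency false
set_option backward.isDefEq.respectTransparency.types false

universe u

open CategoryTheory CategoryTheory.Limits AlgebraicGeometry Opposite IsLocalRing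

namespace Groth.Agent.ASp

open _root_.AlgSp
open Groth.Agent.Henselization

section Abstract

variable (R : Type u) [CommRing R] [IsLocalRing R] (K : Type u) [Field K] [Algebra R K]
  [Algebra (ResidueField R) K] [IsScalarTower R (ResidueField R) K]

theorem isLocalHom_hz : IsLocalHom (algebraMap R (Hz R K)) := by
  refine ⟨fun r hr => ?_⟩
  rw [Henselization.isUnit_iff, AlgHom.commutes, IsScalarTower.algebraMap_apply R (ResidueField R) K,
    map_ne_zero_iff _ (algebraMap (ResidueField R) K).injective, ResidueField.algebraMap_eq] at hr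
  exact (residue_ne_zero_iff_isUnit r).1 hr

/-- The construction over any separable closure of the residue field is a strict henselization. -/
theorem isStrictHenselization_hz [IsSepClosure (ResidueField R) K] :
    haveI := isLocalHom_hz R K
    Hensel.IsStrictHenselization R (Hz R K) := by
  haveI := isLocalHom_hz R K
  haveI : Algebra.IsSeparable (ResidueField R) K := IsSepClosure.separable
  haveI : IsSepClosed K := IsSepClosure.sep_closed (ResidueField R)
  let e := resEquiv R K
  refine ⟨inferInstance, ⟨IsSepClosed.of_exists_root _ fun p _ hp hs => ?_, AlgEquiv.Algebra.isSeparable e.symm⟩, ?_⟩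
  · obtain ⟨x, hx⟩ := IsSepClosed.exists_root (p.map e.toRingEquiv.toRingHom)
      (by rw [Polynomial.degree_map]; exact (Polynomial.degree_pos_of_irreducible hp).ne')
      ((Polynomial.separable_map _).2 hs)
    exact ⟨e.symm x, e.injective (by
      rw [map_zero, ← hx]
      show e.toRingEquiv.toRingHom (Polynomial.eval _ p) = _
      rw [Polynomial.eval_map, ← Polynomial.eval₂_at_apply,
        show e.toRingEquiv.toRingHom (e.symm x) = x from e.apply_symm_apply x])⟩
  · intro T _ _ f _ τ hτ
    let τ' : K →+* ResidueField T := τ.comp (e.symm : _ →+* _)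
    have hτ' : τ'.comp (algebraMap R _) = (residue T).comp f := RingHom.ext fun r => by
      show τ (e.symm (algebraMap R _ r)) = _
      rw [IsScalarTower.algebraMap_apply R (ResidueField R), e.symm.commutes]
      exact (RingHom.congr_fun hτ (residue R r)).trans (ResidueField.map_residue f r)
    obtain ⟨g, ⟨hg, hgr⟩, hu⟩ := existsUnique_hom f τ' hτ'
    have hε : ∀ x, τ' (εH R K x) = τ (residue _ x) := fun x => by
      show τ (e.symm (e (residue _ x))) = _
      rw [e.symm_apply_apply]
    exact ⟨g, ⟨hg, fun x => (hgr x).trans (hε x)⟩,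
      fun g' ⟨h1, h2⟩ => hu g' ⟨h1, fun x => (h2 x).trans (hε x).symm⟩⟩

/-- Transport of a henselian local ring with separably closed residue field along an isomorphism. -/
theorem strictlyHenselian_of_ringEquiv {A : Type u} {B : Type (u + 1)} [CommRing A] [CommRing B] [HenselianLocalRing A]
    [IsSepClosed (ResidueField A)] (e : A ≃+* B) :
    IsLocalRing B ∧ EtCoh.IsStrictlyHenselianLocalRing B := by
  haveI := e.isLocalRing
  haveI hB : HenselianLocalRing B := ⟨fun f hf a₀ h₁ h₂ => by
    obtain ⟨a, ha, ha'⟩ := HenselianLocalRing.is_henselian (f.map e.symm.toRingHom) (hf.map _) (e.symm a₀)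
      (by
        have h0 : e.symm.toRingHom (f.eval a₀) ∈ maximalIdeal A := by
          rw [mem_maximalIdeal, mem_nonunits_iff] at h₁ ⊢
          exact fun hu => h₁ (by simpa using hu.map e)
        rwa [← Polynomial.eval₂_at_apply, ← Polynomial.eval_map] at h0)
      (by
        have h0 := h₂.map e.symm.toRingHom
        rwa [← Polynomial.eval₂_at_apply, ← Polynomial.eval_map, ← Polynomial.derivative_map] at h0)
    refine ⟨e a, e.symm.injective ?_, ?_⟩
    · rw [map_zero, ← ha]
      show e.symm.toRingHom (f.eval (e a)) = _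
      rw [← Polynomial.eval₂_at_apply, ← Polynomial.eval_map]
      exact congrArg (fun t => (f.map e.symm.toRingHom).eval t) (e.symm_apply_apply a)
    · rw [mem_maximalIdeal, mem_nonunits_iff] at ha' ⊢
      refine fun hu => ha' ?_
      simpa using hu.map e.symm⟩
  refine ⟨e.isLocalRing, hB, IsSepClosed.of_exists_root _ fun p _ hp hs => ?_⟩
  let r := ResidueField.mapEquiv e
  obtain ⟨x, hx⟩ := IsSepClosed.exists_root (p.map r.symm.toRingHom)
    (by rw [Polynomial.degree_map]; exact (Polynomial.degree_pos_of_irreducible hp).ne')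
    ((Polynomial.separable_map _).2 hs)
  exact ⟨r x, r.symm.injective (by
    rw [map_zero, ← hx]
    show r.symm.toRingHom (Polynomial.eval _ p) = _
    rw [Polynomial.eval_map, ← Polynomial.eval₂_at_apply,
      show r.symm.toRingHom (r x) = x from r.symm_apply_apply x])⟩

end Abstract

variable {S : Scheme.{u}} {X : Sp S}

theorem exists_isStrictHenselization_of_lift (hX : IsAlgSpace X) {p : FieldPt X} (hp : p.IsGeometric) {E : EtOver X}
    (l : (FieldPt.liftsTo p).obj E) :
    ∃ (T : Type u) (_ : CommRing T) (_ : IsLocalRing T) (_ : Algebra (chartRing l) T)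
      (_ : IsLocalHom (algebraMap (chartRing l) T)),
      Hensel.IsStrictHenselization (chartRing l) T ∧ Nonempty (↥(OEtStalk p) ≃+* T) := by
  haveI : IsAlgClosed p.K := hp
  haveI : IsSepClosure (ResidueField (chartRing l)) ↥(sepK l) := separableClosure.isSepClosure _ _
  exact ⟨hzRing l, inferInstance, inferInstance, inferInstance, isLocalHom_hz _ _,
    isStrictHenselization_hz _ _, ⟨stalkEquivHz l hX hp⟩⟩

/-- The étale local ring is a strict henselization of the local ring of a chart. -/
theorem exists_isStrictHenselization_stalk (hX : IsAlgSpace X) {p : FieldPt X} (hp : p.IsGeometric) {U : Over S}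
    (a : (yon S).obj U ⟶ X) (ha : RepWith @Etale a) (v : ↥U.left) (hv : Points.ofPt a v = Points.mk p) :
    ∃ (T : Type u) (_ : CommRing T) (_ : IsLocalRing T) (_ : Algebra (U.left.presheaf.stalk v) T)
      (_ : IsLocalHom (algebraMap (U.left.presheaf.stalk v) T)),
      Hensel.IsStrictHenselization (U.left.presheaf.stalk v) T ∧ Nonempty (↥(OEtStalk p) ≃+* T) := by
  obtain ⟨l, rfl⟩ := exists_lift_to_point hp (EtOver.mk a ha) v hv
  exact exists_isStrictHenselization_of_lift hX hp l

/-- Some chart passes through the point. -/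
theorem exists_chart_through (hX : IsAlgSpace X) (x : Points X) :
    ∃ (U : Over S) (a : (yon S).obj U ⟶ X) (v : ↥U.left), RepWith @Etale a ∧ Points.ofPt a v = x := by
  obtain ⟨U, a, ha, has⟩ := hX.atlas
  obtain ⟨v, hv⟩ := surjective_ofPt has x
  exact ⟨U, a, v, ha, hv⟩

theorem isStrictlyHenselian_stalk (hX : IsAlgSpace X) {p : FieldPt X} (hp : p.IsGeometric) :
    IsLocalRing ↥(OEtStalk p) ∧ EtCoh.IsStrictlyHenselianLocalRing ↥(OEtStalk p) := by
  obtain ⟨U, a, v, ha, hv⟩ := exists_chart_through hX (Points.mk p)
  obtain ⟨T, _, _, _, _, hT, ⟨e⟩⟩ := exists_isStrictHenselization_stalk hX hp a ha v hv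
  haveI := hT.henselian
  haveI := hT.isSepClosure
  haveI : IsSepClosed (ResidueField T) := IsSepClosure.sep_closed (ResidueField (U.left.presheaf.stalk v))
  exact strictlyHenselian_of_ringEquiv e.symm

/-- A property of local rings passing to strict henselizations holds at a point iff it holds of the étale local ring. -/
theorem hasAt_iff_stalk (hX : IsAlgSpace X) {p : FieldPt X} (hp : p.IsGeometric) (Q : ∀ U : Scheme.{u}, ↥U → Prop)
    (P : Prop) (h : ∀ (U : Over S) (a : (yon S).obj U ⟶ X) (v : ↥U.left), RepWith @Etale a → Points.ofPt a v = Points.mk p →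
      (Q U.left v ↔ P)) : HasAt Q X (Points.mk p) ↔ P := by
  refine ⟨fun ⟨U, a, v, ha, hv, hQ⟩ => (h U a v ha hv).1 hQ, fun hP => ?_⟩
  obtain ⟨U, a, v, ha, hv⟩ := exists_chart_through hX (Points.mk p)
  exact ⟨U, a, v, ha, hv, (h U a v ha hv).2 hP⟩

theorem stalk_ringKrullDim_iff (hX : IsAlgSpace X) {p : FieldPt X} (hp : p.IsGeometric) {U : Over S}
    {a : (yon S).obj U ⟶ X} (ha : RepWith @Etale a) {v : ↥U.left} (hv : Points.ofPt a v = Points.mk p) :
    ringKrullDim ↥(OEtStalk p) = ringKrullDim (U.left.presheaf.stalk v) := by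
  obtain ⟨T, _, _, _, _, hT, ⟨e⟩⟩ := exists_isStrictHenselization_stalk hX hp a ha v hv
  rw [ringKrullDim_eq_of_ringEquiv e]
  exact Groth.Agent.S0541.result (U.left.presheaf.stalk v) T

theorem stalk_isReduced_iff (hX : IsAlgSpace X) {p : FieldPt X} (hp : p.IsGeometric) {U : Over S}
    {a : (yon S).obj U ⟶ X} (ha : RepWith @Etale a) {v : ↥U.left} (hv : Points.ofPt a v = Points.mk p) :
    _root_.IsReduced ↥(OEtStalk p) ↔ _root_.IsReduced (U.left.presheaf.stalk v) := by
  obtain ⟨T, _, _, _, _, hT, ⟨e⟩⟩ := exists_isStrictHenselization_stalk hX hp a ha v hv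
  rw [← Groth.Agent.S2747.result (U.left.presheaf.stalk v) T]
  exact ⟨fun _ => isReduced_of_injective e.symm e.symm.injective, fun _ => isReduced_of_injective e e.injective⟩

theorem stalk_isNoetherianRing_iff (hX : IsAlgSpace X) {p : FieldPt X} (hp : p.IsGeometric) {U : Over S}
    {a : (yon S).obj U ⟶ X} (ha : RepWith @Etale a) {v : ↥U.left} (hv : Points.ofPt a v = Points.mk p) :
    IsNoetherianRing ↥(OEtStalk p) ↔ IsNoetherianRing (U.left.presheaf.stalk v) := by
  obtain ⟨T, _, _, _, _, hT, ⟨e⟩⟩ := exists_isStrictHenselization_stalk hX hp a ha v hv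
  rw [Groth.Agent.S0540.result (U.left.presheaf.stalk v) T]
  exact ⟨fun _ => isNoetherianRing_of_ringEquiv _ e, fun _ => isNoetherianRing_of_ringEquiv _ e.symm⟩

theorem stalk_isRegular_iff (hX : IsAlgSpace X) {p : FieldPt X} (hp : p.IsGeometric) {U : Over S}
    {a : (yon S).obj U ⟶ X} (ha : RepWith @Etale a) {v : ↥U.left} (hv : Points.ofPt a v = Points.mk p) :
    IsRegularLocalRing ↥(OEtStalk p) ↔ IsRegularLocalRing (U.left.presheaf.stalk v) := by
  obtain ⟨T, _, _, _, _, hT, ⟨e⟩⟩ := exists_isStrictHenselization_stalk hX hp a ha v hv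
  haveI := e.symm.isLocalRing
  constructor
  · intro h
    haveI : IsRegularLocalRing T := IsRegularLocalRing.of_ringEquiv e
    haveI : IsNoetherianRing (U.left.presheaf.stalk v) := (Groth.Agent.S0540.result _ T).2 inferInstance
    exact (Groth.Agent.S2743.result (U.left.presheaf.stalk v) T).1 inferInstance
  · intro h
    haveI : IsRegularLocalRing T := (Groth.Agent.S2743.result (U.left.presheaf.stalk v) T).2 h
    exact IsRegularLocalRing.of_ringEquiv e.symm

end Groth.Agent.ASp
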