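import Groth.Agent.ASp.EtNbhd
import Groth.Agent.ASp.Points
import Mathlib.CategoryTheory.Sites.EpiMono
/-!
Supports of sheaves on the small étale site, and vanishing of germs.
-/

set_option autoImplicit false
set_option backward.isDefEq.respectTransparency false
set_option backward.isDefEq.respectTransparency.types false

universe u

open CategoryTheory CategoryTheory.Limits AlgebraicGeometry Opposite

namespace Groth.Agent.ASp

open _root_.AlgSp

variable {S : Scheme.{u}} {X : Sp S}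

/-- A lift determines the point below. -/
theorem mk_eq_ofPt {p : FieldPt X} {E : EtOver X} (l : (FieldPt.liftsTo p).obj E) :
    Points.mk p = Points.ofPt E.obj.hom (l.1.left (IsLocalRing.closedPoint p.K)) := by
  rw [← ofPt_yon_map_comp l.1 E.obj.hom, l.2]
  exact (Points.ofPt_toHom p _).symm

/-- Every point of an étale chart carries a geometric point. -/
theorem exists_geometric_lift (E : EtOver X) (x : ↥E.obj.left.left) :
    ∃ (p : FieldPt X) (_ : p.IsGeometric) (l : (FieldPt.liftsTo p).obj E),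
      l.1.left (IsLocalRing.closedPoint p.K) = x := by
  let K := AlgebraicClosure ↥(E.obj.left.left.residueField x)
  let ι₀ : Spec (CommRingCat.of K) ⟶ E.obj.left.left :=
    Spec.map (CommRingCat.ofHom (algebraMap ↥(E.obj.left.left.residueField x) K)) ≫ E.obj.left.left.fromSpecResidueField x
  let str : Spec (CommRingCat.of K) ⟶ S := ι₀ ≫ E.obj.left.hom
  let l : Over.mk str ⟶ E.obj.left := Over.homMk ι₀ rfl
  let p : FieldPt X := { K := K, str := str, val := (J S).uliftYonedaEquiv ((yon S).map l ≫ E.obj.hom) }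
  refine ⟨p, (inferInstance : IsAlgClosed K), ⟨l, (Equiv.symm_apply_apply (J S).uliftYonedaEquiv _).symm⟩, ?_⟩
  show ι₀ (IsLocalRing.closedPoint K) = x
  show E.obj.left.left.fromSpecResidueField x _ = x
  exact Scheme.fromSpecResidueField_apply _ _

/-- Geometric points lift to every point above them. -/
theorem exists_lift_to_point {p : FieldPt X} (hp : p.IsGeometric) (E : EtOver X) (x : ↥E.obj.left.left)
    (h : Points.ofPt E.obj.hom x = Points.mk p) :
    ∃ l : (FieldPt.liftsTo p).obj E, l.1.left (IsLocalRing.closedPoint p.K) = x := by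
  haveI : IsAlgClosed p.K := hp
  obtain ⟨W, v, w, hW⟩ := exists_isPullback_yon E.property.1 p.toHom
  haveI : Etale w.left := E.property.2 p.toHom _ _ hW
  obtain ⟨r, hr₁, hr₂⟩ := (ofPt_eq_ofPt_iff hW x (IsLocalRing.closedPoint p.K)).1 (h.trans (Points.ofPt_toHom p _).symm)
  obtain ⟨ψ, hψ, hψr⟩ := SepEtale.exists_lift_point w.left (𝟙 _) r hr₂
  let s : p.pt ⟶ W := Over.homMk ψ (by
    show ψ ≫ W.hom = p.str
    rw [← Over.w w, reassoc_of% hψ]
    rfl)
  have hs : s ≫ w = 𝟙 _ := Over.OverMorphism.ext hψ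
  refine ⟨⟨s ≫ v, ?_⟩, ?_⟩
  · rw [Functor.map_comp, Category.assoc, hW.w, ← Functor.map_comp_assoc, hs, (yon S).map_id, Category.id_comp]
  · show (ψ ≫ v.left) (IsLocalRing.closedPoint p.K) = x
    rw [Scheme.Hom.comp_apply, hψr, hr₁]

/-- A morphism of charts carries points over the same point. -/
theorem ofPt_map {E E' : EtOver X} (g : E' ⟶ E) (x : ↥E'.obj.left.left) :
    Points.ofPt E.obj.hom (g.hom.left.left x) = Points.ofPt E'.obj.hom x := by
  rw [← ofPt_yon_map_comp, EtOver.w g]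

/-- Open images of charts. -/
theorem isOpen_range_ofPt (E : EtOver X) (W : TopologicalSpace.Opens ↥E.obj.left.left) :
    IsOpen (Points.ofPt E.obj.hom '' (W : Set ↥E.obj.left.left)) :=
  isOpenMap_ofPt_of_etale E.property _ W.2

section Locus

variable {A : Type*} [Category A] {FA : A → A → Type*} {CA : A → Type (u + 1)} [∀ a b, FunLike (FA a b) (CA a) (CA b)]
  [ConcreteCategory.{u + 1} A FA] [(etTop X).HasSheafCompose (forget A)]
  (F : EtSh X A) {U : EtOver X} (s t : ToType (F.obj.obj (op U)))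

/-- The set where two sections agree locally. -/
def agreeSet : Set ↥U.obj.left.left :=
  {x | ∃ (V : EtOver X) (φ : V ⟶ U), F.obj.map φ.op s = F.obj.map φ.op t ∧ x ∈ Set.range φ.hom.left.left}

theorem isOpen_agreeSet : IsOpen (agreeSet F s t) := by
  refine isOpen_iff_forall_mem_open.2 fun x ⟨V, φ, h, hx⟩ => ⟨Set.range φ.hom.left.left, fun y hy => ⟨V, φ, h, hy⟩, ?_, hx⟩
  haveI := EtOver.etale_left φ
  exact φ.hom.left.left.isOpenMap.isOpen_range

/-- The open where two sections agree locally. -/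
def agreeOpen : TopologicalSpace.Opens ↥U.obj.left.left := ⟨agreeSet F s t, isOpen_agreeSet F s t⟩

theorem map_eq_map_iff_range_subset {V : EtOver X} (φ : V ⟶ U) :
    F.obj.map φ.op s = F.obj.map φ.op t ↔ Set.range φ.hom.left.left ⊆ agreeSet F s t := by
  refine ⟨fun h x hx => ⟨V, φ, h, hx⟩, fun h => ?_⟩
  have hsh := (isSheaf_iff_isSheaf_of_type _ _).1 ((sheafCompose (etTop X) (forget A)).obj F).2
  let ι := {k : Σ W : EtOver X, (W ⟶ U) // F.obj.map k.2.op s = F.obj.map k.2.op t}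
  let Y : ι → EtOver X := fun k => EtOver.pullbackObj φ k.1.2
  let g : ∀ k, Y k ⟶ V := fun k => EtOver.pullbackFst φ k.1.2
  have hcov : Sieve.ofArrows Y g ∈ etTop X V := ofArrows_mem_etTop Y g fun v => by
    obtain ⟨W, ψ, hψ, y, hy⟩ := h ⟨v, rfl⟩
    obtain ⟨z, hz, -⟩ := Scheme.Pullback.exists_preimage_pullback (f := φ.hom.left.left) (g := ψ.hom.left.left) v y hy.symm
    have sq := (IsPullback.of_hasPullback φ.hom.left ψ.hom.left).map (Over.forget S)
    refine ⟨⟨⟨W, ψ⟩, hψ⟩, sq.isoPullback.inv z, ?_⟩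
    show (pullback.fst φ.hom.left ψ.hom.left).left _ = v
    refine (Scheme.Hom.comp_apply _ _ _).symm.trans (Eq.trans ?_ hz)
    exact congrArg (fun k : pullback φ.hom.left.left ψ.hom.left.left ⟶ V.obj.left.left => k z) sq.isoPullback_inv_fst
  apply (hsh _ hcov).isSeparatedFor.ext
  rintro W g' ⟨W', l, _, ⟨k⟩, rfl⟩
  show F.obj.map (l ≫ g k).op (F.obj.map φ.op s) = F.obj.map (l ≫ g k).op (F.obj.map φ.op t)
  rw [← ConcreteCategory.comp_apply, ← ConcreteCategory.comp_apply, ← Functor.map_comp, ← op_comp,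
    Category.assoc, EtOver.pullback_condition, ← Category.assoc, op_comp, Functor.map_comp,
    ConcreteCategory.comp_apply, ConcreteCategory.comp_apply, k.2]

theorem ι_eq_ι_iff {p : FieldPt X} (hp : p.IsGeometric) [IsFiltered (EtNbhd p)ᵒᵖ]
    [HasColimitsOfShape (EtNbhd p)ᵒᵖ A] [PreservesColimit (stalkEtDiagram p F) (forget A)]
    (l : (FieldPt.liftsTo p).obj U) :
    stalkEtι p F ⟨U, l⟩ s = stalkEtι p F ⟨U, l⟩ t ↔ l.1.left (IsLocalRing.closedPoint p.K) ∈ agreeSet F s t := by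
  constructor
  · intro h
    obtain ⟨k, f, g, hfg⟩ := Concrete.colimit_exists_of_rep_eq.{u + 1} (stalkEtDiagram p F)
      (i := op ⟨U, l⟩) (j := op ⟨U, l⟩) s t h
    let c := IsFiltered.coeqHom f g
    have hc : f ≫ c = g ≫ c := IsFiltered.coeq_condition f g
    let e : @Quiver.Hom (EtNbhd p) _ (IsFiltered.coeq f g).unop ⟨U, l⟩ := (f ≫ c).unop
    have hl := congrArg (fun z => z.1.left (IsLocalRing.closedPoint p.K)) e.2
    refine ⟨(IsFiltered.coeq f g).unop.1, e.1, ?_, ⟨_, (Scheme.Hom.comp_apply _ _ _).symm.trans hl⟩⟩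
    have h' := congrArg (fun z => (stalkEtDiagram p F).map c z) hfg
    simp only [← ConcreteCategory.comp_apply, ← Functor.map_comp] at h'
    show (stalkEtDiagram p F).map (f ≫ c) s = (stalkEtDiagram p F).map (f ≫ c) t
    conv_rhs => rw [hc]
    exact h'
  · rintro ⟨V, φ, h, v, hv⟩
    obtain ⟨l', hl'⟩ := exists_liftsTo_of_mem_range hp φ l ⟨v, hv⟩
    let m : @Quiver.Hom (EtNbhd p) _ ⟨V, l'⟩ ⟨U, l⟩ := ⟨φ, hl'⟩
    exact Concrete.colimit_rep_eq_of_exists (stalkEtDiagram p F) (i := op ⟨U, l⟩) (j := op ⟨U, l⟩) s t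
      ⟨op ⟨V, l'⟩, m.op, m.op, h⟩

end Locus

theorem isFiltered_etNbhd (hX : IsAlgSpace X) {p : FieldPt X} (hp : p.IsGeometric) :
    IsFiltered (EtNbhd p)ᵒᵖ :=
  haveI := isCofiltered_etNbhd hX hp
  inferInstance

instance (F : AbEt X) (p : FieldPt X) [IsFiltered (EtNbhd p)ᵒᵖ] :
    PreservesColimit (stalkEtDiagram p F) (forget AddCommGrpCat.{u + 1}) :=
  haveI : PreservesFilteredColimitsOfSize.{u, u + 1} (forget AddCommGrpCat.{u + 1}) :=
    preservesFilteredColimitsOfSize_of_univLE.{u + 1, u + 1} _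
  haveI : PreservesColimitsOfShape (EtNbhd p)ᵒᵖ (forget AddCommGrpCat.{u + 1}) :=
    PreservesFilteredColimitsOfSize.preserves_filtered_colimits _
  inferInstance

instance (F : EtSh X CommRingCat.{u + 1}) (p : FieldPt X) [IsFiltered (EtNbhd p)ᵒᵖ] :
    PreservesColimit (stalkEtDiagram p F) (forget CommRingCat.{u + 1}) :=
  haveI : PreservesFilteredColimitsOfSize.{u, u + 1} (forget CommRingCat.{u + 1}) :=
    preservesFilteredColimitsOfSize_of_univLE.{u + 1, u + 1} _
  haveI : PreservesColimitsOfShape (EtNbhd p)ᵒᵖ (forget CommRingCat.{u + 1}) :=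
    PreservesFilteredColimitsOfSize.preserves_filtered_colimits _
  inferInstance

variable (hX : IsAlgSpace X)

include hX in
/-- The open where a section of an abelian sheaf vanishes. -/
theorem exists_zero_open (F : AbEt X) {U : EtOver X} (σ : ↥(F.obj.obj (op U))) :
    ∃ W : TopologicalSpace.Opens ↥U.obj.left.left,
      (∀ (V : EtOver X) (φ : V ⟶ U),
          (F.obj.map φ.op).hom σ = 0 ↔ Set.range (fun v => φ.hom.left.left v) ⊆ (W : Set ↥U.obj.left.left)) ∧
      (∀ p : FieldPt X, p.IsGeometric → ∀ l : (FieldPt.liftsTo p).obj U,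
          (stalkEtι p F ⟨U, l⟩).hom σ = 0 ↔ l.1.left (IsLocalRing.closedPoint p.K) ∈ W) := by
  refine ⟨agreeOpen F σ (0 : ↥(F.obj.obj (op U))), fun V φ => ?_, fun p hp l => ?_⟩
  · refine Iff.trans ⟨fun h => ?_, fun h => ?_⟩ (map_eq_map_iff_range_subset F σ (0 : ↥(F.obj.obj (op U))) φ)
    · exact h.trans (map_zero (F.obj.map φ.op).hom).symm
    · exact h.trans (map_zero (F.obj.map φ.op).hom)
  · haveI := isFiltered_etNbhd hX hp
    refine Iff.trans ⟨fun h => ?_, fun h => ?_⟩ (ι_eq_ι_iff F σ (0 : ↥(F.obj.obj (op U))) hp l)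
    · exact h.trans (map_zero (stalkEtι p F ⟨U, l⟩).hom).symm
    · exact h.trans (map_zero (stalkEtι p F ⟨U, l⟩).hom)

include hX in
/-- A stalk is nonzero iff some germ is. -/
theorem not_isZero_stalkEt_iff (F : AbEt X) {p : FieldPt X} (hp : p.IsGeometric) :
    ¬ IsZero (stalkEt p F) ↔ ∃ (U : EtOver X) (σ : ↥(F.obj.obj (op U))) (l : (FieldPt.liftsTo p).obj U),
      l.1.left (IsLocalRing.closedPoint p.K) ∉ agreeSet F σ (0 : ↥(F.obj.obj (op U))) := by
  haveI := isFiltered_etNbhd hX hp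
  constructor
  · intro h
    by_contra hne
    push_neg at hne
    refine h (@AddCommGrpCat.isZero_of_subsingleton _ ⟨fun a b => ?_⟩)
    have hz : ∀ a : ↥(stalkEt p F), a = 0 := fun a => by
      obtain ⟨⟨⟨U, l⟩⟩, σ, rfl⟩ := Concrete.colimit_exists_rep (stalkEtDiagram p F) a
      refine ((ι_eq_ι_iff F σ (0 : ↥(F.obj.obj (op U))) hp l).2 (hne U σ l)).trans (map_zero _)
    rw [hz a, hz b]
  · rintro ⟨U, σ, l, hl⟩ h
    haveI := AddCommGrpCat.subsingleton_of_isZero h
    exact hl ((ι_eq_ι_iff F σ (0 : ↥(F.obj.obj (op U))) hp l).1 (Subsingleton.elim (α := ↥(stalkEt p F)) _ _))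

include hX in
/-- The stalk ring is trivial iff `1 = 0` near the point. -/
theorem not_nontrivial_stalkEt_iff (F : EtSh X CommRingCat.{u + 1}) {p : FieldPt X} (hp : p.IsGeometric) :
    ¬ Nontrivial ↥(stalkEt p F) ↔ ∃ (U : EtOver X) (l : (FieldPt.liftsTo p).obj U),
      l.1.left (IsLocalRing.closedPoint p.K) ∈ agreeSet F (U := U) (1 : ↥(F.obj.obj (op U))) (0 : ↥(F.obj.obj (op U))) := by
  haveI := isFiltered_etNbhd hX hp
  constructor
  · intro h
    obtain ⟨⟨U, l⟩⟩ := nonempty_etNbhd hX hp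
    haveI : Subsingleton ↥(stalkEt p F) := not_nontrivial_iff_subsingleton.1 h
    exact ⟨U, l, (ι_eq_ι_iff F _ _ hp l).1 (Subsingleton.elim (α := ↥(stalkEt p F)) _ _)⟩
  · rintro ⟨U, l, hl⟩
    have h := (ι_eq_ι_iff F (1 : ↥(F.obj.obj (op U))) (0 : ↥(F.obj.obj (op U))) hp l).2 hl
    have h' : (1 : ↥(stalkEt p F)) = 0 :=
      ((map_one (stalkEtι p F ⟨U, l⟩).hom).symm.trans h).trans (map_zero (stalkEtι p F ⟨U, l⟩).hom)
    exact fun hn => hn.exists_pair_ne.elim fun a ⟨b, hab⟩ => hab (eq_of_zero_eq_one h'.symm a b)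

end Groth.Agent.ASp
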