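import Groth.Agent.ASp.DecentPt
import Groth.Agent.ASp.DecentTop
import Groth.Agent.ASp.Affine
import Groth.Agent.ASp.Univ
import Groth.Agent.WLocalLib.WeakEtaleScheme

/-!
Maps from reduced spaces landing in a point with a quasi-compact monomorphic representative.
-/

set_option backward.isDefEq.respectTransparency false
set_option backward.isDefEq.respectTransparency.types false

universe u

open CategoryTheory CategoryTheory.Limits AlgebraicGeometry Opposite TopologicalSpace

namespace Groth.Agent.ASp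

open _root_.AlgSp

variable {S : Scheme.{u}}

/-- A map from a reduced affine scheme to a single point factors through a field. -/
theorem exists_factor_field {W A : Scheme.{u}} [IsAffine W] [IsReduced W] (m : W ⟶ A) (t : ↥A)
    (h : ∀ z, m z = t) :
    ∃ (K : Type u) (_ : Field K) (g : Spec (CommRingCat.of K) ⟶ A) (l : W ⟶ Spec (CommRingCat.of K)),
      l ≫ g = m ∧ g (IsLocalRing.closedPoint K) = t := by
  obtain ⟨E, hE, htE, -⟩ := exists_isAffineOpen_mem_and_subset (x := t) (U := (⊤ : A.Opens)) (by simp)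
  let m' : W ⟶ Spec Γ(A, E) := IsOpenImmersion.lift hE.fromSpec m (by
    rw [hE.range_fromSpec]
    rintro _ ⟨z, rfl⟩
    rw [h z]
    exact htE)
  have hm' : m' ≫ hE.fromSpec = m := IsOpenImmersion.lift_fac _ _ _
  obtain ⟨φ, hφ⟩ := Spec.map_surjective (W.isoSpec.inv ≫ m')
  obtain ⟨P, hP⟩ : t ∈ Set.range hE.fromSpec := by rw [hE.range_fromSpec]; exact htE
  have hpre : ∀ Q : PrimeSpectrum ↥Γ(W, ⊤), Q.asIdeal.comap φ.hom = P.asIdeal := fun Q => by
    have e : (Spec.map φ) Q = P := hE.fromSpec.isOpenEmbedding.injective (by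
      rw [hP, hφ, ← Scheme.Hom.comp_apply, Category.assoc, hm', Scheme.Hom.comp_apply, h])
    exact congrArg PrimeSpectrum.asIdeal e
  have h1 : P.asIdeal ≤ RingHom.ker φ.hom := fun x hx => by
    have : IsNilpotent (φ.hom x) := nilpotent_iff_mem_prime.2 fun Q hQ => by
      have := (hpre ⟨Q, hQ⟩).ge hx
      exact this
    exact IsReduced.eq_zero _ this
  have h2 : P.asIdeal.primeCompl ≤ (IsUnit.submonoid ↥Γ(W, ⊤)).comap φ.hom := fun x hx => by
    change IsUnit (φ.hom x)
    by_contra hu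
    obtain ⟨M, hM, hxM⟩ := exists_max_ideal_of_mem_nonunits hu
    exact hx ((hpre ⟨M, hM.isPrime⟩).le hxM)
  let ψ : CommRingCat.of P.asIdeal.ResidueField ⟶ Γ(W, ⊤) :=
    CommRingCat.ofHom (Ideal.ResidueField.lift P.asIdeal φ.hom h1 h2)
  let ι : Γ(A, E) ⟶ CommRingCat.of P.asIdeal.ResidueField :=
    CommRingCat.ofHom (algebraMap ↥Γ(A, E) P.asIdeal.ResidueField)
  refine ⟨P.asIdeal.ResidueField, inferInstance, Spec.map ι ≫ hE.fromSpec, W.isoSpec.hom ≫ Spec.map ψ, ?_, ?_⟩
  · have : ι ≫ ψ = φ := by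
      ext x
      exact Ideal.ResidueField.lift_algebraMap P.asIdeal φ.hom h1 h2 x
    rw [Category.assoc, ← Spec.map_comp_assoc, this, hφ, Category.assoc, Iso.hom_inv_id_assoc, hm']
  · rw [Scheme.Hom.comp_apply]
    refine Eq.trans (congrArg hE.fromSpec (PrimeSpectrum.ext ?_)) hP
    change (IsLocalRing.maximalIdeal P.asIdeal.ResidueField).comap ι.hom = P.asIdeal
    rw [IsLocalRing.maximalIdeal_eq_bot]
    exact (Ideal.ker_algebraMap_residueField P.asIdeal)

/-- An etale chart has finite fibres on quasi-compact opens over a point with quasi-compact monomorphic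
representative. -/
theorem finite_fibre_inter_of_pt {X : Sp S} {U : Over S} {a : (yon S).obj U ⟶ X}
    (ha : RepWith @Etale a) (p : FieldPt X) (hq : RepWith @QuasiCompact p.toHom) {W : U.left.Opens}
    (hW : IsCompact (W : Set ↥U.left)) : (Points.ofPt a ⁻¹' {Points.mk p} ∩ W).Finite := by
  have sq := ha.1.isPullback p.toHom
  let E := ha.1.pullback p.toHom
  obtain ⟨c, hc⟩ := (yon S).map_surjective (ha.1.fst p.toHom)
  rw [← hc] at sq
  haveI : Etale (ha.1.snd p.toHom).left := ha.2 _ _ _ sq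
  haveI := Groth.Agent.Unibranch.locallyQuasiFinite_of_etale (ha.1.snd p.toHom).left
  haveI : Subsingleton ↥p.pt.left := inferInstanceAs (Subsingleton ↥(Spec (CommRingCat.of p.K)))
  haveI : DiscreteTopology ↥E.left := isDiscrete_univ_iff.1
    (((ha.1.snd p.toHom).left.isDiscrete_preimage_singleton (IsLocalRing.closedPoint p.K)).mono
      fun x _ => Subsingleton.elim (α := ↥p.pt.left) _ _)
  haveI : QuasiCompact c.left := hq.2 _ _ _ sq.flip
  refine (((c.left.isCompact_preimage hW).finite_of_discrete).image c.left).subset ?_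
  rintro u ⟨hu, huW⟩
  obtain ⟨z, hz, -⟩ := points_exists_of_isPullback sq (Points.ofScheme U u)
    (Points.ofScheme p.pt (IsLocalRing.closedPoint p.K)) (by
      rw [← Points.ofPt_eq_map_ofScheme, ← Points.ofPt_eq_map_ofScheme, Points.ofPt_toHom]; exact hu)
  obtain ⟨e, rfl⟩ := (Points.schemeHomeo E).surjective z
  rw [Points.map_yon_map_apply] at hz
  have he : c.left e = u := (Points.schemeHomeo U).injective hz
  exact ⟨e, by change c.left e ∈ W; rwa [he], he⟩

/-- A point of a fibre with quasi-compact monomorphic representative is isolated in the fibre. -/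
theorem exists_open_inter_fibre {X : Sp S} {U : Over S} {a : (yon S).obj U ⟶ X}
    (ha : RepWith @Etale a) (p : FieldPt X) (hq : RepWith @QuasiCompact p.toHom) (t : ↥U.left)
    (ht : Points.ofPt a t = Points.mk p) :
    ∃ O : U.left.Opens, t ∈ O ∧ ∀ w ∈ O, Points.ofPt a w = Points.mk p → w = t := by
  obtain ⟨E, hE, htE, -⟩ := exists_isAffineOpen_mem_and_subset (x := t) (U := (⊤ : U.left.Opens)) (by simp)
  let T : Set ↥U.left := Points.ofPt a ⁻¹' {Points.mk p} ∩ E
  haveI : Finite ↥T := (finite_fibre_inter_of_pt ha p hq hE.isCompact).to_subtype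
  haveI : T1Space ↥T := t1Space_iff_specializes_imp_eq.2 fun v w hs => Subtype.ext
    (eq_of_specializes_of_finite ha (fun W hW => by
        rw [show Points.ofPt a w.1 = Points.mk p from w.2.1]
        exact finite_fibre_inter_of_pt ha p hq hW.isCompact)
      (w.2.1.trans v.2.1.symm) (hs.map continuous_subtype_val)).symm
  obtain ⟨O, hO, hOe⟩ := isOpen_induced_iff.1 (isOpen_discrete ({⟨t, ht, htE⟩} : Set ↥T))
  refine ⟨⟨O ∩ E, hO.inter E.isOpen⟩, ⟨(Set.ext_iff.1 hOe ⟨t, ht, htE⟩).2 rfl, htE⟩, fun w hw hwp => ?_⟩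
  exact congrArg Subtype.val ((Set.ext_iff.1 hOe ⟨w, hwp, hw.2⟩).1 hw.1)

/-- A map from a reduced space to a point with quasi-compact monomorphic representative factors through it. -/
theorem exists_factor_of_reduced {Y X : Sp S} (hY : IsAlgSpace Y) (hX : IsAlgSpace X) (f : Y ⟶ X) (p : FieldPt X)
    [Mono p.toHom] (hq : RepWith @QuasiCompact p.toHom) (hr : EtaleLocally (fun U => IsReduced U) Y)
    (hf : ∀ y : Points Y, Points.map f y = Points.mk p) : ∃ g : Y ⟶ (yon S).obj p.pt, g ≫ p.toHom = f := by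
  obtain ⟨B, b, hb, hbs, hB⟩ := hr
  haveI : IsReduced B.left := hB
  obtain ⟨A, a, ha, has⟩ := hX.atlas
  obtain ⟨R, r₁, r₂, sqR⟩ : ∃ (R : Over S) (r₁ : R ⟶ B) (r₂ : R ⟶ A),
      IsPullback ((yon S).map r₁) ((yon S).map r₂) (b ≫ f) a := by
    obtain ⟨t, ht⟩ := (yon S).map_surjective (ha.1.fst (b ≫ f))
    exact ⟨_, ha.1.snd (b ≫ f), t, ht ▸ (ha.1.isPullback (b ≫ f)).flip⟩
  haveI : Etale r₁.left := ha.2 _ _ _ sqR.flip
  haveI : IsReduced R.left := Groth.Agent.WLocalLib.isReduced_of_weaklyEtale_scheme r₁.left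
  let e : (yon S).obj R ⟶ Y := (yon S).map r₁ ≫ b
  have hee : RepWith @Etale e := repWith_comp (repWith_yon_map ‹Etale r₁.left›) hb
  have hmA : ∀ w, Points.ofPt a (r₂.left w) = Points.mk p := fun w => by
    rw [← ofPt_yon_map_comp, ← sqR.w, show (yon S).map r₁ ≫ b ≫ f = e ≫ f from (Category.assoc _ _ _).symm,
      ← Points.map_ofPt]
    exact hf _
  have hloc : ∀ u : ↥R.left, ∃ W : R.left.Opens, IsAffineOpen W ∧ u ∈ W ∧
      ∀ z ∈ W, r₂.left z = r₂.left u := by
    intro u
    obtain ⟨O, htO, hO⟩ := exists_open_inter_fibre ha p hq (r₂.left u) (hmA u)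
    obtain ⟨W, hW, huW, hWO⟩ := exists_isAffineOpen_mem_and_subset (x := u) (U := r₂.left ⁻¹ᵁ O) htO
    exact ⟨W, hW, huW, fun z hz => hO _ (hWO hz) (hmA z)⟩
  choose W hW huW hWc using hloc
  let V : ↥R.left → Over S := fun u => Over.mk ((W u).ι ≫ R.hom)
  let ι : ∀ u, V u ⟶ R := fun u => Over.homMk (W u).ι rfl
  have hlift : ∀ u, ∃ r : V u ⟶ p.pt, (yon S).map r ≫ p.toHom = ((yon S).map (ι u) ≫ e) ≫ f := by
    intro u
    haveI : IsAffine (W u).toScheme := hW u
    obtain ⟨K, _, g, l, hlg, hg⟩ := exists_factor_field ((W u).ι ≫ r₂.left) (r₂.left u) fun z => by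
      rw [Scheme.Hom.comp_apply]; exact hWc u _ z.2
    let q' : (yon S).obj (Over.mk (g ≫ A.hom)) ⟶ X :=
      (yon S).map (Over.homMk g rfl : Over.mk (g ≫ A.hom) ⟶ A) ≫ a
    let q : FieldPt X := ⟨K, g ≫ A.hom, (J S).uliftYonedaEquiv.{u+1} q'⟩
    have hqq : q.toHom = q' := by rw [FieldPt.toHom]; exact Equiv.symm_apply_apply _ _
    have hpq : Points.mk p = Points.mk q := by
      rw [← Points.ofPt_toHom q, hqq, ofPt_yon_map_comp]
      change Points.mk p = Points.ofPt a (g (IsLocalRing.closedPoint K))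
      rw [hg, hmA]
    obtain ⟨c, hc⟩ := factor_of_mono hX p q hpq
    let l' : V u ⟶ q.pt := Over.homMk l (by
      change l ≫ g ≫ A.hom = (W u).ι ≫ R.hom
      rw [← Category.assoc, hlg, Category.assoc, Over.w])
    refine ⟨l' ≫ c, ?_⟩
    rw [Functor.map_comp, Category.assoc, hc, hqq]
    change (yon S).map l' ≫ (yon S).map _ ≫ a = ((yon S).map (ι u) ≫ (yon S).map r₁ ≫ b) ≫ f
    rw [← Functor.map_comp_assoc, show l' ≫ (Over.homMk g rfl : Over.mk (g ≫ A.hom) ⟶ A) = ι u ≫ r₂ from
      Over.OverMorphism.ext hlg, Functor.map_comp, Category.assoc, ← sqR.w]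
    simp
  choose r hr using hlift
  have sq := IsPullback.of_hasPullback f p.toHom
  haveI : Mono (pullback.fst f p.toHom) := inferInstance
  have hcov : IsFpqcCover (fun u => (yon S).obj (V u)) (fun u => (yon S).map (ι u) ≫ e) := by
    have het : ∀ u, RepWith @Etale ((yon S).map (ι u) ≫ e) := fun u =>
      repWith_comp (repWith_yon_map (inferInstanceAs (Etale (W u).ι))) hee
    refine isFpqcCover_of_fppf hY (fun u => IsAlgSpace.yon_obj _)
      (fun u => locP_of_repWith (repWith_mono (fun _ _ g (hg : Etale g) => inferInstanceAs (Flat g)) (het u)))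
      (fun u => locP_of_repWith (repWith_mono
        (fun _ _ g (hg : Etale g) => inferInstanceAs (LocallyOfFinitePresentation g)) (het u))) fun y => ?_
    obtain ⟨z, rfl⟩ := surjective_ofPt hbs y
    obtain ⟨t, ht⟩ := surjective_ofPt has (Points.map f (Points.ofPt b z))
    obtain ⟨w, hw, -⟩ := points_exists_of_isPullback sqR (Points.ofScheme B z) (Points.ofScheme A t) (by
      rw [← Points.ofPt_eq_map_ofScheme, ← Points.ofPt_eq_map_ofScheme, ← Points.map_ofPt, ht])
    obtain ⟨u, rfl⟩ := (Points.schemeHomeo R).surjective w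
    refine ⟨u, Points.ofScheme (V u) (⟨u, huW u⟩ : (W u).toScheme), ?_⟩
    rw [← Points.ofPt_eq_map_ofScheme, ofPt_yon_map_comp]
    change Points.ofPt e u = _
    rw [ofPt_yon_map_comp]
    rw [Points.map_yon_map_apply] at hw
    exact congrArg (Points.ofPt b) ((Points.schemeHomeo B).injective hw)
  haveI : IsIso (pullback.fst f p.toHom) := by
    refine isIso_of_fpqc (isAlgSpace_pullback hX.diag hY (IsAlgSpace.yon_obj _) f p.toHom) hY
      (fun u => IsAlgSpace.yon_obj (V u)) (fun u => IsAlgSpace.yon_obj (V u))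
      (q := fun u => pullback.lift ((yon S).map (ι u) ≫ e) ((yon S).map (r u)) (hr u).symm)
      (p := fun u => 𝟙 _) (fun u => ?_) hcov fun _ => inferInstance
    exact ⟨⟨by rw [pullback.lift_fst, Category.id_comp]⟩, ⟨PullbackCone.IsLimit.mk _ (fun s => s.snd)
      (fun s => (cancel_mono (pullback.fst f p.toHom)).1 (by
        rw [Category.assoc, pullback.lift_fst]; exact s.condition.symm))
      (fun s => Category.comp_id _)
      (fun s m _ h2 => by rw [← h2, Category.comp_id])⟩⟩
  exact ⟨inv (pullback.fst f p.toHom) ≫ pullback.snd f p.toHom, by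
    rw [Category.assoc, ← pullback.condition, IsIso.inv_hom_id_assoc]⟩

end Groth.Agent.ASp
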