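import Mathlib.AlgebraicGeometry.Morphisms.FlatRank
import Mathlib.RingTheory.Artinian.Module
import Mathlib.RingTheory.Spectrum.Prime.FreeLocus
/-!
The number of points of a finite scheme over a field is at most its rank.
-/

set_option backward.isDefEq.respectTransparency false
set_option backward.isDefEq.respectTransparency.types false

universe u

open CategoryTheory AlgebraicGeometry

namespace Groth.Agent.ASp

theorem natCard_primeSpectrum_le_finrank (k A : Type u) [Field k] [CommRing A] [Algebra k A] [Module.Finite k A] :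
    Finite (PrimeSpectrum A) ∧ Nat.card (PrimeSpectrum A) ≤ Module.finrank k A := by
  haveI : IsArtinianRing A := IsArtinianRing.of_finite k A
  haveI := Fintype.ofFinite (MaximalSpectrum A)
  refine ⟨inferInstance, ?_⟩
  let π : A →ₗ[k] ∀ m : MaximalSpectrum A, A ⧸ m.asIdeal :=
    LinearMap.pi fun m => (Ideal.Quotient.mkₐ k m.asIdeal).toLinearMap
  have hπ : Function.Surjective π := fun y => by
    obtain ⟨a, ha⟩ := (IsArtinianRing.quotNilradicalEquivPi A).surjective y
    obtain ⟨a, rfl⟩ := Ideal.Quotient.mk_surjective a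
    refine ⟨a, ?_⟩
    rw [← ha]
    rfl
  have h1 : Module.finrank k (∀ m : MaximalSpectrum A, A ⧸ m.asIdeal) ≤ Module.finrank k A :=
    LinearMap.finrank_le_finrank_of_surjective hπ
  rw [Module.finrank_pi_fintype] at h1
  refine le_trans ?_ h1
  have h2 : ∀ m : MaximalSpectrum A, 1 ≤ Module.finrank k (A ⧸ m.asIdeal) := fun m => by
    haveI := m.isMaximal
    exact Module.finrank_pos
  calc Nat.card (PrimeSpectrum A) = Fintype.card (MaximalSpectrum A) := by
        rw [Nat.card_congr IsArtinianRing.primeSpectrumEquivMaximalSpectrum, Nat.card_eq_fintype_card]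
    _ ≤ _ := by
        rw [Fintype.card, Finset.card_eq_sum_ones]
        exact Finset.sum_le_sum fun m _ => h2 m

theorem encard_univ_le_finrank {K : Type u} [Field K] {T : Scheme.{u}} (c : T ⟶ Spec (CommRingCat.of K)) [IsFinite c]
    (n : ℕ) (hn : ∀ s, c.finrank s ≤ n) : (Set.univ : Set ↥T).encard ≤ n := by
  haveI : IsAffine T := isAffine_of_isAffineHom c
  obtain ⟨φ, hφ⟩ := Spec.map_surjective (T.isoSpec.inv ≫ c)
  have hfin : φ.hom.Finite := (IsFinite.SpecMap_iff φ).1 (hφ ▸ inferInstance)
  letI := φ.hom.toAlgebra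
  haveI : Module.Finite K Γ(T, ⊤) := hfin
  obtain ⟨hf, hle⟩ := natCard_primeSpectrum_le_finrank K Γ(T, ⊤)
  haveI : Flat c := inferInstance
  have hflat : φ.hom.Flat := RingHom.flat_algebraMap_iff.2 (inferInstance : Module.Flat K Γ(T, ⊤))
  have hr : Module.finrank K Γ(T, ⊤) ≤ n := by
    refine le_trans (le_of_eq ?_) (hn (IsLocalRing.closedPoint K))
    rw [← Scheme.Hom.finrank_comp_left_of_isIso T.isoSpec.inv c, ← hφ, Scheme.Hom.finrank_SpecMap_eq_finrank hfin hflat]
    change _ = Module.rankAtStalk (R := K) Γ(T, ⊤) (IsLocalRing.closedPoint K)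
    rw [Module.rankAtStalk_eq_finrank_of_free]
    rfl
  rw [Set.encard_univ, ENat.card_congr (Scheme.homeoOfIso T.isoSpec).toEquiv]
  haveI : Finite ↥(Spec Γ(T, ⊤)) := hf
  rw [ENat.card_eq_coe_natCard]
  exact_mod_cast hle.trans hr

end Groth.Agent.ASp
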