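import Mathlib
import Groth.Agent.ASp.CellScheme2
import Groth.Agent.ASp.Points

/-! Every field-valued point of an algebraic space lifts to an etale affine chart over the same field. -/

set_option autoImplicit false
set_option backward.isDefEq.respectTransparency false
set_option backward.isDefEq.respectTransparency.types false

universe u

open CategoryTheory CategoryTheory.Limits AlgebraicGeometry Opposite

namespace Groth.Agent.ASp.FieldChart

open _root_.AlgSp

/-- A finite monomorphic family of an affine scheme over a field is spanned by the global functions. -/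
theorem exists_hasBasis {k : Type u} [Field k] {W Z : Scheme.{u}} [IsAffine W] [Nonempty Z]
    (zt : Z ⟶ Spec (CommRingCat.of k)) [IsFinite zt] (w : Z ⟶ W)
    (hmono : ∀ {V : Scheme.{u}} (h₁ h₂ : V ⟶ Z), h₁ ≫ zt = h₂ ≫ zt → h₁ ≫ w = h₂ ≫ w → h₁ = h₂) :
    ∃ (d : ℕ) (a : Fin d → Γ(W, ⊤)), 0 < d ∧ Cell.HasBasis a zt w := by
  classical
  haveI : IsAffine Z := isAffine_of_isAffineHom zt
  let A : Scheme.{u} := pullback (terminal.from W) (terminal.from (Spec (CommRingCat.of k)))
  haveI : IsAffine A := inferInstanceAs (IsAffine (pullback _ _))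
  let v : Z ⟶ A := pullback.lift w zt (terminal.hom_ext _ _)
  haveI : Mono v := ⟨fun h₁ h₂ e => hmono h₁ h₂
    (by have := congrArg (· ≫ pullback.snd _ _) e; simpa [v] using this)
    (by have := congrArg (· ≫ pullback.fst _ _) e; simpa [v] using this)⟩
  haveI : IsFinite v := by
    haveI : IsFinite (v ≫ pullback.snd _ _) := by rw [pullback.lift_snd]; infer_instance
    exact IsFinite.of_comp v (pullback.snd _ _)
  haveI : IsClosedImmersion v := (IsClosedImmersion.iff_isFinite_and_mono v).2 ⟨inferInstance, inferInstance⟩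
  have hv : Function.Surjective v.appTop := (IsClosedImmersion.isAffine_surjective_of_isAffine v).2
  letI : Algebra k Γ(Z, ⊤) := ((Scheme.ΓSpecIso (CommRingCat.of k)).inv ≫ zt.appTop).hom.toAlgebra
  haveI : Module.Finite k Γ(Z, ⊤) := by
    have h1 : zt.appTop.hom.Finite := zt.finite_appTop
    have h2 : ((Scheme.ΓSpecIso (CommRingCat.of k)).inv ≫ zt.appTop).hom.Finite :=
      h1.comp (RingHom.Finite.of_surjective _
        (ConcreteCategory.bijective_of_isIso (Scheme.ΓSpecIso (CommRingCat.of k)).inv).2)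
    exact h2
  -- the span of the functions from `W` is everything
  let M : Subalgebra k Γ(Z, ⊤) := Algebra.adjoin k (Set.range w.appTop)
  have hM : M = ⊤ := by
    have sq := isPushout_appTop_of_isPullback
      (IsPullback.of_hasPullback (terminal.from W) (terminal.from (Spec (CommRingCat.of k))))
    refine eq_top_iff.2 fun z _ => ?_
    obtain ⟨y, rfl⟩ := hv z
    let m₁ : Γ(W, ⊤) ⟶ CommRingCat.of M :=
      CommRingCat.ofHom (w.appTop.hom.codRestrict M fun r => Algebra.subset_adjoin ⟨r, rfl⟩)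
    let m₂ : Γ(Spec (CommRingCat.of k), ⊤) ⟶ CommRingCat.of M :=
      CommRingCat.ofHom (zt.appTop.hom.codRestrict M fun r => by
        obtain ⟨c, rfl⟩ := (ConcreteCategory.bijective_of_isIso (Scheme.ΓSpecIso (CommRingCat.of k)).inv).2 r
        exact M.algebraMap_mem c)
    let inc : CommRingCat.of M ⟶ Γ(Z, ⊤) := CommRingCat.ofHom M.val.toRingHom
    have hw : (terminal.from W).appTop ≫ m₁ = (terminal.from (Spec (CommRingCat.of k))).appTop ≫ m₂ := by
      haveI : Mono inc := ConcreteCategory.mono_of_injective _ Subtype.val_injective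
      rw [← cancel_mono inc, Category.assoc, Category.assoc,
        show m₁ ≫ inc = w.appTop from rfl, show m₂ ≫ inc = zt.appTop from rfl, ← Scheme.Hom.comp_appTop,
        ← Scheme.Hom.comp_appTop]
      congr 1
      exact terminal.hom_ext _ _
    have hd : sq.desc m₁ m₂ hw ≫ inc = v.appTop := by
      apply sq.hom_ext
      · rw [sq.inl_desc_assoc, ← Scheme.Hom.comp_appTop, pullback.lift_fst]; rfl
      · rw [sq.inr_desc_assoc, ← Scheme.Hom.comp_appTop, pullback.lift_snd]; rfl
    rw [← hd]
    exact (sq.desc m₁ m₂ hw y).2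
  have hspan : Submodule.span k (Set.range w.appTop) = ⊤ := by
    refine eq_top_iff.2 fun z _ => ?_
    have h1 : z ∈ Subalgebra.toSubmodule M := by rw [hM]; trivial
    rw [Algebra.adjoin_eq_span] at h1
    refine Submodule.span_mono ?_ h1
    intro y hy
    exact (Submonoid.closure_le (S := MonoidHom.mrange w.appTop.hom.toMonoidHom)).2 (fun _ h => h) hy
  obtain ⟨s, hs, hspans, hli⟩ := exists_linearIndependent k (Set.range w.appTop)
  haveI : Finite s := hli.finite
  let b : Module.Basis s k Γ(Z, ⊤) := Module.Basis.mk hli (by rw [Subtype.range_coe, hspans, hspan])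
  let e := Finite.equivFin s
  choose r hr using fun x : s => hs x.2
  haveI : Nontrivial Γ(Z, ⊤) := by
    haveI : Nonempty (Spec Γ(Z, ⊤)) := ⟨Z.isoSpec.hom (Classical.arbitrary _)⟩
    exact PrimeSpectrum.nontrivial (Classical.arbitrary (Spec Γ(Z, ⊤)))
  refine ⟨Nat.card s, fun i => r (e.symm i), ?_, ?_⟩
  · haveI : Nonempty s := b.index_nonempty
    exact Nat.card_pos
  · let b' := b.reindex e
    have hb' : ∀ i, b' i = w.appTop (r (e.symm i)) := fun i => by
      rw [Module.Basis.reindex_apply, Module.Basis.mk_apply, hr]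
    have hbij := b'.equivFun.symm.bijective
    let eK : Γ(Spec (CommRingCat.of k), ⊤) ≃ k := (Scheme.ΓSpecIso (CommRingCat.of k)).commRingCatIsoToRingEquiv.toEquiv
    unfold Cell.HasBasis
    have : (fun v : Fin (Nat.card s) → Γ(Spec (CommRingCat.of k), ⊤) => ∑ i, zt.appTop (v i) * w.appTop (r (e.symm i))) =
        b'.equivFun.symm ∘ fun v i => eK (v i) := by
      funext v
      simp only [Function.comp_apply, Module.Basis.equivFun_symm_apply, hb', Algebra.smul_def]
      refine Finset.sum_congr rfl fun i _ => ?_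
      congr 1
      show _ = zt.appTop ((Scheme.ΓSpecIso (CommRingCat.of k)).inv ((Scheme.ΓSpecIso (CommRingCat.of k)).hom (v i)))
      rw [Iso.hom_inv_id_apply]
    rw [this]
    exact hbij.comp (Equiv.piCongrRight fun _ => eK).bijective

variable {S : Scheme.{u}}

/-- Every field-valued point of an algebraic space lifts to an etale affine chart. -/
theorem exists_affine_chart {X : Sp S} (hX : IsAlgSpace X) {k : Type u} [Field k]
    {str : Spec (CommRingCat.of k) ⟶ S} (g : (yon S).obj (Over.mk str) ⟶ X) :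
    ∃ (Z : Over S) (q : (yon S).obj Z ⟶ X) (l : Over.mk str ⟶ Z),
      IsAffine Z.left ∧ RepWith @Etale q ∧ (yon S).map l ≫ q = g := by
  obtain ⟨U, p₀, hp₀, hs₀⟩ := hX.atlas
  let x : Points X := Points.ofPt g (IsLocalRing.closedPoint k)
  obtain ⟨u, hu⟩ := surjective_ofPt hs₀ x
  obtain ⟨_, ⟨(O : U.left.Opens), hO, rfl⟩, huO, -⟩ :=
    U.left.isBasis_affineOpens.exists_subset_of_mem_open (Set.mem_univ u) isOpen_univ
  let W : Over S := Over.mk (O.ι ≫ U.hom)
  haveI : IsAffine W.left := hO
  let jW : W ⟶ U := Over.homMk O.ι rfl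
  let p : (yon S).obj W ⟶ X := (yon S).map jW ≫ p₀
  have hp : RepWith @Etale p :=
    repWith_comp (repWith_yon_map (P := @Etale) (inferInstance : Etale O.ι)) hp₀
  obtain ⟨Wg, fst, snd, sqW⟩ := exists_isPullback_yon hp.1 g
  haveI : Etale snd.left := hp.2 g _ _ sqW
  haveI := Cell.isSeparated_snd p sqW
  haveI : Subsingleton ↥(Spec (CommRingCat.of k)) := inferInstanceAs (Subsingleton (PrimeSpectrum k))
  haveI : LocallyQuasiFinite snd.left := Groth.Agent.Unibranch.locallyQuasiFinite_of_etale snd.left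
  -- a point of the fibre
  obtain ⟨c, hc1, -⟩ := points_exists_of_isPullback sqW (Points.ofScheme W ⟨u, huO⟩)
    (Points.ofScheme (Over.mk str) (IsLocalRing.closedPoint k)) (by
      rw [← Points.ofPt_eq_map_ofScheme, ← Points.ofPt_eq_map_ofScheme]
      rw [ofPt_yon_map_comp]
      exact hu)
  obtain ⟨w, rfl⟩ := (Points.schemeHomeo Wg).surjective c
  haveI : IsLocallyArtinian Wg.left := IsLocallyArtinian.of_locallyQuasiFinite (Y := Spec (CommRingCat.of k)) snd.left
  let O' : Wg.left.Opens := ⟨{w}, isOpen_discrete _⟩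
  haveI : Nonempty O'.toScheme := ⟨⟨w, rfl⟩⟩
  haveI : Finite O'.toScheme := inferInstanceAs (Finite ↥({w} : Set ↥Wg.left))
  let Z : Over S := Over.mk (O'.ι ≫ Wg.hom)
  let kk : Z ⟶ Wg := Over.homMk O'.ι rfl
  let zt : Z ⟶ Over.mk str := kk ≫ snd
  haveI : IsFinite zt.left := by
    haveI : LocallyQuasiFinite zt.left := inferInstanceAs (LocallyQuasiFinite (O'.ι ≫ snd.left))
    haveI : LocallyOfFiniteType zt.left := inferInstanceAs (LocallyOfFiniteType (O'.ι ≫ snd.left))
    haveI : CompactSpace Z.left := inferInstanceAs (CompactSpace O'.toScheme)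
    haveI : QuasiCompact (Y := Spec (CommRingCat.of k)) zt.left :=
      (quasiCompact_iff_compactSpace (Y := Spec (CommRingCat.of k)) zt.left).2 inferInstance
    exact IsFinite.of_locallyQuasiFinite (Y := Spec (CommRingCat.of k)) zt.left
  haveI : Nonempty Z.left := ⟨⟨w, rfl⟩⟩
  obtain ⟨d, a, hd, hb⟩ := exists_hasBasis zt.left (kk ≫ fst).left fun h₁ h₂ e1 e2 => by
    rw [← cancel_mono O'.ι]
    exact Cell.mono_pair p sqW _ _ (by simpa [zt, kk] using e1) (by simpa [kk] using e2)
  haveI : IsAffine Z.left := isAffine_of_isAffineHom (Y := Spec (CommRingCat.of k)) zt.left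
  haveI : IsAffine (Over.mk str).left := inferInstanceAs (IsAffine (Spec (CommRingCat.of k)))
  obtain ⟨m₀, n, sqn, hn⟩ := Cell.exists_classify a hb
  have hcell : Cell.IsCell p a (Over.mk str) (Cell.ofM a m₀) g :=
    ⟨Wg, fst, snd, sqW, Z, zt, n, by rw [Cell.toM_ofM]; exact sqn, kk, rfl, hn.symm, inferInstanceAs (Flat O'.ι)⟩
  have hpl : RepWith @LocallyOfFinitePresentation p := repWith_mono (fun _ _ f (_ : Etale f) => (inferInstance : LocallyOfFinitePresentation f)) hp
  have hpq : RepWith @LocallyQuasiFinite p := repWith_mono (fun _ _ f (_ : Etale f) =>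
    Groth.Agent.Unibranch.locallyQuasiFinite_of_etale f) hp
  have hpf : RepWith @Flat p := repWith_mono (fun _ _ f (_ : Etale f) => (inferInstance : Flat f)) hp
  obtain ⟨P, b, hb'⟩ := Cell.exists_scheme_cell p a hd hpl hpq hpf
  haveI := hb'
  obtain ⟨b₀, -, hbG⟩ := Cell.exists_point_of_isCell p a hpl.1 hcell
  obtain ⟨l₀, hl₀⟩ := (yon S).map_surjective (b₀ ≫ inv b)
  let q₀ := b ≫ Cell.cellG p a hpl.1
  have hq₀ : RepWith @Etale q₀ := repWith_comp (repWith_of_isIso _) (Cell.repWith_etale_cellG p a hd hpl hpq hpf)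
  obtain ⟨_, ⟨(V : P.left.Opens), hV, rfl⟩, hlV, -⟩ :=
    P.left.isBasis_affineOpens.exists_subset_of_mem_open (Set.mem_univ (l₀.left (IsLocalRing.closedPoint k))) isOpen_univ
  let lV : Spec (CommRingCat.of k) ⟶ V.toScheme := IsOpenImmersion.lift V.ι l₀.left (by
    rintro _ ⟨t, rfl⟩
    rw [Scheme.Opens.range_ι, Subsingleton.elim t (IsLocalRing.closedPoint k)]
    exact hlV)
  refine ⟨Over.mk (V.ι ≫ P.hom), (yon S).map (Over.homMk V.ι rfl) ≫ q₀, Over.homMk lV ?_, hV,
    repWith_comp (repWith_yon_map (P := @Etale) (inferInstance : Etale V.ι)) hq₀, ?_⟩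
  · show lV ≫ V.ι ≫ P.hom = str
    rw [IsOpenImmersion.lift_fac_assoc]
    exact Over.w l₀
  · rw [← Functor.map_comp_assoc]
    refine (?_ : _ = (yon S).map l₀ ≫ q₀).trans ?_
    · congr 2
      exact Over.OverMorphism.ext (IsOpenImmersion.lift_fac _ _ _)
    · rw [hl₀]
      simp [q₀, hbG]

end Groth.Agent.ASp.FieldChart
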