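import Groth.Agent.ASp.FieldMono
import Groth.Agent.ASp.QAffine
import Groth.Agent.ASp.QSBase
import Groth.Agent.ASp.Glue
import Groth.Agent.ASp.Sub
import Groth.Agent.ASp.LqfRep
import Groth.Agent.GeomIrred.ClopenDescend
import Groth.Agent.QAffLib.Basic
/-!
Schematic opens of an algebraic space over a field seen after an extension of the field.
-/

set_option autoImplicit false
set_option linter.style.haveILetI false
set_option backward.isDefEq.respectTransparency false
set_option backward.isDefEq.respectTransparency.types false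

universe u

open CategoryTheory CategoryTheory.Limits AlgebraicGeometry Opposite

namespace Groth.Agent.ASp.FieldDesc

open _root_.AlgSp Groth.Agent.ASp

variable (k K : Type u) [Field k] [Field K] [Algebra k K]

/-- The base field as an object over itself. -/
noncomputable abbrev base : Over (Spec (CommRingCat.of k)) := Over.mk (𝟙 (Spec (CommRingCat.of k)))

/-- The extension field as an object over the base field. -/
noncomputable abbrev ext : Over (Spec (CommRingCat.of k)) :=
  Over.mk (Spec.map (CommRingCat.ofHom (algebraMap k K)))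

/-- The structure map of the extension. -/
noncomputable abbrev incl : ext k K ⟶ base k :=
  Over.homMk (Spec.map (CommRingCat.ofHom (algebraMap k K))) (Category.comp_id _)

variable {k K} {X : Sp (Spec (CommRingCat.of k))} {T : Over (Spec (CommRingCat.of k))}
  (e : (yon (Spec (CommRingCat.of k))).obj T ≅ X ⨯ (yon (Spec (CommRingCat.of k))).obj (ext k K))

local notation "S" => Spec (CommRingCat.of k)

/-- The projection from a scheme model of the base change to the space. -/
noncomputable abbrev proj : (yon S).obj T ⟶ X := e.hom ≫ prod.fst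

/-- The base change square of a space along the extension. -/
theorem exists_sq (x : X ⟶ (yon S).obj (base k)) :
    ∃ v : T ⟶ ext k K, IsPullback (proj e) ((yon S).map v) x ((yon S).map (incl k K)) ∧
      (yon S).map v = e.hom ≫ prod.snd := by
  obtain ⟨v, hv⟩ := (yon S).map_surjective (e.hom ≫ prod.snd)
  refine ⟨v, ?_, hv⟩
  rw [hv]
  have h : IsPullback (prod.fst : X ⨯ (yon S).obj (ext k K) ⟶ X) prod.snd x ((yon S).map (incl k K)) := by
    rw [isTerminalYonBase.hom_ext x (isTerminalYonBase.from X),
      isTerminalYonBase.hom_ext ((yon S).map (incl k K)) (isTerminalYonBase.from _)]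
    exact IsPullback.of_is_product' (prodIsProd _ _) isTerminalYonBase
  exact IsPullback.of_iso h e.symm (Iso.refl _) (Iso.refl _) (Iso.refl _) (by simp) (by simp) (by simp) (by simp)

/-- An open set of an algebraic space whose preimage after the extension is quasi-affine is a
quasi-affine scheme. -/
theorem exists_qa_piece (hX : IsAlgSpace X) {V : Set (Points X)} (hV : IsOpen V)
    (O : T.left.Opens) (hO : (O : Set ↥T.left) = Points.ofPt (proj e) ⁻¹' V) [O.toScheme.IsQuasiAffine] :
    ∃ P : Over S, Nonempty ((yon S).obj P ≅ subSp X V) := by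
  obtain ⟨x⟩ : Nonempty (X ⟶ (yon S).obj (base k)) := ⟨isTerminalYonBase.from X⟩
  obtain ⟨v, sq, -⟩ := exists_sq e x
  have hj := repWith_subι X V hV
  have sq1 := hj.1.isPullback (proj e)
  set Q := hj.1.pullback (proj e)
  set s := hj.1.snd (proj e)
  haveI : IsOpenImmersion s.left := hj.2 _ _ _ sq1
  have hr : s.left.opensRange = O := by
    apply TopologicalSpace.Opens.ext
    have h := preimage_ofPt_image sq1 Set.univ
    rw [Set.image_univ, Set.preimage_univ, Set.image_univ, range_map_subι] at h
    exact (hO.trans h).symm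
  subst hr
  haveI : Q.left.IsQuasiAffine := QAffLib.of_iso s.left.isoOpensRange.hom
  have sq2 : IsPullback (hj.1.fst (proj e)) ((yon S).map (s ≫ v)) (subι X V ≫ x) ((yon S).map (incl k K)) := by
    rw [Functor.map_comp]
    exact sq1.paste_vert sq
  haveI : IsAffine (base k).left := inferInstanceAs (IsAffine (Spec (CommRingCat.of k)))
  have hτ := isFpqcCover_yon (T := base k) (fun _ : Fin 1 => Over.mk (Spec.map (CommRingCat.ofHom (algebraMap k K)) ≫ 𝟙 _))
    (fun _ => Over.homMk (Spec.map (CommRingCat.ofHom (algebraMap k K))) rfl)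
    (fun _ => inferInstanceAs (IsAffine (Spec (CommRingCat.of K))))
    (fun _ => flat_to_field (K := k) (Ω := K) (Spec.map (CommRingCat.ofHom (algebraMap k K))))
    (fun z => ⟨0, IsLocalRing.closedPoint K, Subsingleton.elim (α := PrimeSpectrum k) _ _⟩)
  let w : ext k K ≅ Over.mk (Spec.map (CommRingCat.ofHom (algebraMap k K)) ≫ 𝟙 _) :=
    Over.isoMk (Iso.refl _) (by simp)
  obtain ⟨P, -, hP⟩ := exists_quasiAffine_of_fpqc (CommRingCat.of k) (𝟙 _) (isAlgSpace_subSp hX hV)
    (subι X V ≫ x) (fun _ : ULift.{u} (Fin 1) => CommRingCat.of K)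
    (fun _ => CommRingCat.ofHom (algebraMap k K))
    (fun _ => Over.homMk (Spec.map (CommRingCat.ofHom (algebraMap k K))) rfl) (fun _ => rfl) hτ
    (fun _ => Q) (fun _ => ‹_›) (fun _ => hj.1.fst (proj e)) (fun _ => (s ≫ v) ≫ w.hom) (fun _ => by
      refine IsPullback.of_iso sq2 (Iso.refl _) (Iso.refl _) ((yon S).mapIso w) (Iso.refl _) (by simp) ?_ (by simp) ?_
      · simp
      · simp only [Iso.refl_hom, Category.comp_id, Functor.mapIso_hom, ← Functor.map_comp]
        exact congrArg _ (Over.OverMorphism.ext (Category.id_comp _).symm))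
  exact ⟨P, hP⟩

/-- A space covered by opens with quasi-affine preimages is a scheme. -/
theorem isRepresentable_of_opens (hX : IsAlgSpace X)
    (h : ∀ x : Points X, ∃ (V : Set (Points X)) (O : T.left.Opens), IsOpen V ∧ x ∈ V ∧
      (O : Set ↥T.left) = Points.ofPt (proj e) ⁻¹' V ∧ O.toScheme.IsQuasiAffine) :
    X.obj.IsRepresentable := by
  choose V O hV hxV hO hqa using h
  have key : ∀ x, ∃ (P : Over S) (f : (yon S).obj P ⟶ X),
      RepWith @IsOpenImmersion f ∧ x ∈ Set.range (Points.map f) := by
    intro x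
    haveI := hqa x
    obtain ⟨P, ⟨i⟩⟩ := exists_qa_piece e hX (hV x) (O x) (hO x) 
    refine ⟨P, i.hom ≫ subι X (V x), repWith_comp (repWith_of_isIso i.hom) (repWith_subι X _ (hV x)), ?_⟩
    obtain ⟨z, hz⟩ := (range_map_subι X (V x)).ge (hxV x)
    exact ⟨Points.map i.inv z, by rw [← Points.map_comp, Iso.inv_hom_id_assoc]; exact hz⟩
  choose P f hf hxf using key
  obtain ⟨U, p, -, hps⟩ := hX.atlas
  obtain ⟨Y, ⟨j⟩⟩ := exists_scheme_of_openCover hX (fun u : ↥U.left => P (Points.ofPt p u))
    (fun u => f (Points.ofPt p u)) (fun u => hf _)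
    (fun y => by
      obtain ⟨u, rfl⟩ := surjective_ofPt hps y
      exact ⟨u, hxf _⟩)
  exact isRepresentable_of_iso_yon j

/-- The base change of a chart. -/
theorem exists_chart_sq (x : X ⟶ (yon S).obj (base k)) {U : Over S} (p : (yon S).obj U ⟶ X) :
    ∃ (UK : Over S) (q : (yon S).obj UK ⟶ (yon S).obj T) (π : UK ⟶ U) (w : UK ⟶ ext k K) (b : U ⟶ base k),
      IsPullback q ((yon S).map π) (proj e) p ∧ IsPullback π.left w.left b.left (incl k K).left ∧
        q ≫ e.hom ≫ prod.snd = (yon S).map w ∧ p ≫ x = (yon S).map b := by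
  obtain ⟨v, sq, hv⟩ := exists_sq e x
  obtain ⟨b, hb⟩ := (yon S).map_surjective (p ≫ x)
  have hW := IsPullback.of_hasPullback b (incl k K)
  have hWy := isPullback_yon_map hW
  let q : (yon S).obj (pullback b (incl k K)) ⟶ (yon S).obj T :=
    sq.lift ((yon S).map (pullback.fst b (incl k K)) ≫ p) ((yon S).map (pullback.snd b (incl k K))) (by
      rw [Category.assoc, ← hb]; exact hWy.w)
  refine ⟨_, q, pullback.fst _ _, pullback.snd _ _, b, ?_, isPullback_left hW, ?_, hb.symm⟩
  swap
  · have h1 : (yon S).map v = e.hom ≫ prod.snd := hv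
    rw [← h1]
    exact sq.lift_snd _ _ _
  refine (IsPullback.of_bot ?_ (sq.lift_fst _ _ _).symm sq).flip
  rw [sq.lift_snd, ← hb]
  exact hWy

/-- For an algebraic extension the projection is closed. -/
theorem isClosed_image [Algebra.IsAlgebraic k K] (hX : IsAlgSpace X) {C : Set ↥T.left} (hC : IsClosed C) :
    IsClosed (Points.ofPt (proj e) '' C) := by
  obtain ⟨x⟩ : Nonempty (X ⟶ (yon S).obj (base k)) := ⟨isTerminalYonBase.from X⟩
  obtain ⟨U, p, hp, hps⟩ := hX.atlas
  obtain ⟨UK, q, π, w, b, hq, hl, -, -⟩ := exists_chart_sq e x p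
  obtain ⟨q', hq'⟩ := (yon S).map_surjective q
  haveI : IsIntegralHom (incl k K).left := by
    show IsIntegralHom (Spec.map (CommRingCat.ofHom (algebraMap k K)))
    rw [IsIntegralHom.SpecMap_iff]
    exact algebraMap_isIntegral_iff.2 Algebra.IsAlgebraic.isIntegral
  haveI : IsIntegralHom π.left := MorphismProperty.of_isPullback hl.flip inferInstance
  have hcl : IsClosed (π.left '' (q'.left ⁻¹' C)) := π.left.isClosedMap _ (hC.preimage q'.left.continuous)
  rw [← (isQuotientMap_ofPt hp hps).isClosed_preimage]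
  have key : Points.ofPt p ⁻¹' (Points.ofPt (proj e) '' C) = π.left '' (q'.left ⁻¹' C) := by
    ext u
    constructor
    · rintro ⟨t, ht, htu⟩
      obtain ⟨z, hz1, hz2⟩ := points_exists_of_isPullback hq (Points.schemeHomeo T t) (Points.schemeHomeo U u)
        (by rw [← Function.comp_apply (f := Points.map (proj e)), ← ofPt_comp_eq_map,
          ← Function.comp_apply (f := Points.map p), ← ofPt_comp_eq_map]; exact htu)
      obtain ⟨w, rfl⟩ := (Points.schemeHomeo UK).surjective z
      rw [← hq', Points.map_yon_map_apply] at hz1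
      rw [Points.map_yon_map_apply] at hz2
      refine ⟨w, ?_, (Points.schemeHomeo U).injective hz2⟩
      show q'.left w ∈ C
      rwa [(Points.schemeHomeo T).injective hz1]
    · rintro ⟨w, hw, rfl⟩
      refine ⟨q'.left w, hw, ?_⟩
      rw [← ofPt_yon_map_comp, ← ofPt_yon_map_comp, hq', hq.w]
  rw [key]
  exact hcl

/-- A compact open set around a point inside a given open one, with compact preimage. -/
theorem exists_qc_open (hX : IsAlgSpace X) {V₀ : Set (Points X)} (hV₀ : IsOpen V₀) {y : Points X} (hy : y ∈ V₀) :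
    ∃ V, IsOpen V ∧ y ∈ V ∧ V ⊆ V₀ ∧ IsCompact (Points.ofPt (proj e) ⁻¹' V) := by
  obtain ⟨x⟩ : Nonempty (X ⟶ (yon S).obj (base k)) := ⟨isTerminalYonBase.from X⟩
  obtain ⟨U, p, hp, hps⟩ := hX.atlas
  obtain ⟨u, rfl⟩ := surjective_ofPt hps y
  obtain ⟨E, hE, huE, hEV⟩ := exists_isAffineOpen_mem_and_subset (X := U.left) (x := u)
    (U := ⟨Points.ofPt p ⁻¹' V₀, Points.isOpen_iff.1 hV₀ U p⟩) hy
  let E' : Over S := Over.mk (E.ι ≫ U.hom)
  let z : E' ⟶ U := Over.homMk E.ι rfl
  obtain ⟨EK, q, π, w, b, hq, hl, -, -⟩ := exists_chart_sq e x ((yon S).map z ≫ p)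
  obtain ⟨q', hq'⟩ := (yon S).map_surjective q
  haveI : IsAffine E'.left := hE
  haveI : IsAffine (base k).left := inferInstanceAs (IsAffine (Spec (CommRingCat.of k)))
  haveI : IsAffine (ext k K).left := inferInstanceAs (IsAffine (Spec (CommRingCat.of K)))
  haveI : IsAffineHom π.left := MorphismProperty.of_isPullback hl.flip (inferInstance : IsAffineHom (incl k K).left)
  haveI : IsAffine EK.left := isAffine_of_isAffineHom π.left
  refine ⟨Points.ofPt p '' E, isOpenMap_ofPt_of_etale hp _ E.isOpen, ⟨u, huE, rfl⟩, Set.image_subset_iff.2 hEV, ?_⟩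
  have key : Points.ofPt (proj e) ⁻¹' (Points.ofPt p '' E) = Set.range q'.left := by
    ext t
    constructor
    · rintro ⟨a, ha, hat⟩
      obtain ⟨ζ, hz1, -⟩ := points_exists_of_isPullback hq (Points.schemeHomeo T t)
        (Points.schemeHomeo E' ⟨a, ha⟩) (by
          rw [← Function.comp_apply (f := Points.map (proj e)), ← ofPt_comp_eq_map,
            ← Function.comp_apply (f := Points.map ((yon S).map z ≫ p)), ← ofPt_comp_eq_map, ofPt_yon_map_comp]
          exact hat.symm)
      obtain ⟨m, rfl⟩ := (Points.schemeHomeo EK).surjective ζ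
      rw [← hq', Points.map_yon_map_apply] at hz1
      exact ⟨m, (Points.schemeHomeo T).injective hz1⟩
    · rintro ⟨m, rfl⟩
      refine ⟨z.left (π.left m), (π.left m).2, ?_⟩
      rw [← ofPt_yon_map_comp, ← ofPt_yon_map_comp, ← ofPt_yon_map_comp, hq', hq.w]
  rw [key]
  exact isCompact_range q'.left.continuous

/-- An algebraic space over a field is a scheme as soon as, after an algebraic extension, every fibre
over a point lies in an affine open. -/
theorem isRepresentable_of_fibres_affine [Algebra.IsAlgebraic k K] (hX : IsAlgSpace X)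
    (h : ∀ y : Points X, ∃ W : T.left.Opens, IsAffineOpen W ∧ Points.ofPt (proj e) ⁻¹' {y} ⊆ W) :
    X.obj.IsRepresentable := by
  refine isRepresentable_of_opens e hX fun y => ?_
  obtain ⟨W, hW, hWy⟩ := h y
  have hcl := isClosed_image e hX W.isOpen.isClosed_compl
  obtain ⟨V, hV, hyV, hVV₀, hc⟩ := exists_qc_open e hX hcl.isOpen_compl (y := y)
    (fun ⟨t, ht, hty⟩ => ht (hWy hty))
  let O : T.left.Opens := ⟨Points.ofPt (proj e) ⁻¹' V, Points.isOpen_iff.1 hV T (proj e)⟩
  have hOW : O ≤ W := fun t ht => by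
    by_contra hn
    exact hVV₀ ht ⟨t, hn, rfl⟩
  refine ⟨V, O, hV, hyV, rfl, ?_⟩
  haveI : IsAffine W.toScheme := hW
  haveI : CompactSpace O.toScheme := isCompact_iff_compactSpace.mp hc
  exact Scheme.IsQuasiAffine.of_isImmersion (T.left.homOfLE hOW)

/-- For a purely inseparable extension the projection is injective on points. -/
theorem injective_proj [IsPurelyInseparable k K] (hX : IsAlgSpace X) :
    Function.Injective (Points.ofPt (proj e)) := by
  obtain ⟨x⟩ : Nonempty (X ⟶ (yon S).obj (base k)) := ⟨isTerminalYonBase.from X⟩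
  obtain ⟨U, p, hp, hps⟩ := hX.atlas
  obtain ⟨UK, q, π, w, b, hq, hl, -, -⟩ := exists_chart_sq e x p
  obtain ⟨q', hq'⟩ := (yon S).map_surjective q
  haveI : UniversallyInjective (incl k K).left := GeomIrred.universallyInjective_specMap k K
  haveI : UniversallyInjective π.left := MorphismProperty.of_isPullback hl.flip inferInstance
  intro t₁ t₂ h
  obtain ⟨u, hu⟩ := surjective_ofPt hps (Points.ofPt (proj e) t₁)
  have lift : ∀ t, Points.ofPt p u = Points.ofPt (proj e) t → ∃ m, q'.left m = t ∧ π.left m = u := by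
    intro t ht
    obtain ⟨ζ, hz1, hz2⟩ := points_exists_of_isPullback hq (Points.schemeHomeo T t) (Points.schemeHomeo U u)
      (by rw [← Function.comp_apply (f := Points.map (proj e)), ← ofPt_comp_eq_map,
        ← Function.comp_apply (f := Points.map p), ← ofPt_comp_eq_map]; exact ht.symm)
    obtain ⟨m, rfl⟩ := (Points.schemeHomeo UK).surjective ζ
    rw [← hq', Points.map_yon_map_apply] at hz1
    rw [Points.map_yon_map_apply] at hz2
    exact ⟨m, (Points.schemeHomeo T).injective hz1, (Points.schemeHomeo U).injective hz2⟩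
  obtain ⟨m₁, rfl, hm₁⟩ := lift t₁ hu
  obtain ⟨m₂, rfl, hm₂⟩ := lift t₂ (hu.trans h)
  rw [π.left.injective (hm₁.trans hm₂.symm)]

end Groth.Agent.ASp.FieldDesc
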