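import Groth.Agent.ASp.FieldDesc
import Groth.Agent.ASp.LocP
import Groth.Agent.Boot.Helpers
import Groth.Agent.NormalSch.Birational
import Mathlib.AlgebraicGeometry.AlgClosed.Basic
/-!
Descent from the algebraic closure when finite sets of rational points lie in affines.
-/

set_option autoImplicit false
set_option linter.style.haveILetI false
set_option backward.isDefEq.respectTransparency false
set_option backward.isDefEq.respectTransparency.types false

universe u

open CategoryTheory CategoryTheory.Limits AlgebraicGeometry Opposite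

namespace Groth.Agent.ASp.FieldDesc

open _root_.AlgSp Groth.Agent.ASp

variable {k K : Type u} [Field k] [Field K] [Algebra k K]



/-- A closed subset without specializations of a locally Noetherian scheme is finite if quasi-compact. -/
theorem finite_of_isCompact_of_isClosed {U : Scheme.{u}} [IsLocallyNoetherian U] {Z : Set ↥U}
    (hZ : IsCompact Z) (hcl : ∀ z ∈ Z, IsClosed ({z} : Set ↥U)) (hZc : IsClosed Z) : Z.Finite := by
  haveI : CompactSpace ↥Z := isCompact_iff_compactSpace.mp hZ
  have hN : TopologicalSpace.NoetherianSpace ↥Z := by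
    rw [TopologicalSpace.noetherianSpace_set_iff]
    intro A hA
    obtain ⟨s, hs⟩ := hZ.elim_finite_subcover (fun V : U.affineOpens => (V.1 : Set ↥U)) (fun V => V.1.2)
      (fun z _ => by
        obtain ⟨W, hW, hzW, -⟩ := exists_isAffineOpen_mem_and_subset (x := z) (U := (⊤ : U.Opens)) trivial
        exact Set.mem_iUnion.2 ⟨⟨W, hW⟩, hzW⟩)
    have hAu : A = ⋃ V ∈ s, A ∩ (V.1 : Set ↥U) := by
      ext a
      simp only [Set.mem_iUnion, Set.mem_inter_iff]
      exact ⟨fun ha => by
        obtain ⟨V, hV, haV⟩ := Set.mem_iUnion₂.1 (hs (hA ha))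
        exact ⟨V, hV, ha, haV⟩, fun ⟨_, _, ha, _⟩ => ha⟩
    rw [hAu]
    refine s.isCompact_biUnion fun V _ => ?_
    haveI : IsNoetherianRing Γ(U, V.1) := IsLocallyNoetherian.component_noetherian V
    exact (TopologicalSpace.noetherianSpace_set_iff _).1 (noetherianSpace_of_isAffineOpen V.1 V.2) _
      Set.inter_subset_right
  haveI := hN
  haveI : T1Space ↥Z := ⟨fun z => by
    have : ({z} : Set ↥Z) = Subtype.val ⁻¹' {(z : ↥U)} := by ext w; simp [Subtype.ext_iff]
    rw [this]
    exact (hcl z z.2).preimage continuous_subtype_val⟩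
  haveI : QuasiSober ↥Z := hZc.isClosedEmbedding_subtypeVal.quasiSober
  have hfinC := TopologicalSpace.NoetherianSpace.finite_irreducibleComponents (α := ↥Z)
  have hsub : ∀ C ∈ irreducibleComponents ↥Z, C.Subsingleton := by
    intro C hC
    obtain ⟨g, hg⟩ := QuasiSober.sober hC.1 (isClosed_of_mem_irreducibleComponents C hC)
    rw [← hg.def, closure_singleton]
    exact Set.subsingleton_singleton
  have hun : (Set.univ : Set ↥Z).Finite := by
    refine (hfinC.biUnion (fun C hC => (hsub C hC).finite)).subset fun z _ => ?_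
    exact Set.mem_iUnion₂.2 ⟨irreducibleComponent z, irreducibleComponent_mem_irreducibleComponents z, mem_irreducibleComponent⟩
  exact Set.finite_coe_iff.1 (Set.finite_univ_iff.1 hun)

variable {X : Sp (Spec (CommRingCat.of k))} {T : Over (Spec (CommRingCat.of k))}
  (e : (yon (Spec (CommRingCat.of k))).obj T ≅ X ⨯ (yon (Spec (CommRingCat.of k))).obj (ext k K))

theorem isRepresentable_of_lft [IsAlgClosure k K] (hX : IsAlgSpace X) (x : X ⟶ (yon (Spec (CommRingCat.of k))).obj (base k))
    (hx : LocP @LocallyOfFiniteType x) (v : T ⟶ ext k K) (hv : (yon (Spec (CommRingCat.of k))).map v = e.hom ≫ prod.snd)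
    (h3 : ∀ s : Finset ↥T.left,
      (∀ t ∈ s, ∃ σ : Spec (CommRingCat.of K) ⟶ T.left, σ ≫ v.left = 𝟙 _ ∧ σ (IsLocalRing.closedPoint K) = t) →
        ∃ W : T.left.Opens, IsAffineOpen W ∧ ∀ t ∈ s, t ∈ W) :
    X.obj.IsRepresentable := by
  classical
  haveI : Algebra.IsAlgebraic k K := IsAlgClosure.isAlgebraic
  haveI : IsAlgClosed K := IsAlgClosure.isAlgClosed k
  obtain ⟨U, p, hp, hps⟩ := hX.atlas
  obtain ⟨UK, q, π, w, b, hq, hl, hqw, hpb⟩ := exists_chart_sq e x p
  obtain ⟨q', hq'⟩ := (yon (Spec (CommRingCat.of k))).map_surjective q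
  have hq'e : Etale q'.left := by
    have : RepWith @Etale q := repWith_of_isPullback hq.flip hp
    rw [← hq', repWith_yon_map_iff] at this
    exact this
  haveI : LocallyOfFiniteType b.left :=
    hx p (𝟙 _) b hp (repWith_of_isIso _) (by rw [hpb, Category.comp_id])
  haveI : LocallyOfFiniteType w.left := MorphismProperty.of_isPullback hl inferInstance
  haveI : IsIntegralHom (incl k K).left := by
    show IsIntegralHom (Spec.map (CommRingCat.ofHom (algebraMap k K)))
    rw [IsIntegralHom.SpecMap_iff]
    exact algebraMap_isIntegral_iff.2 Algebra.IsAlgebraic.isIntegral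
  haveI : IsIntegralHom π.left := MorphismProperty.of_isPullback hl.flip inferInstance
  haveI : Surjective π.left := MorphismProperty.of_isPullback (P := @Surjective) hl.flip
    ⟨fun _ => ⟨IsLocalRing.closedPoint K, Subsingleton.elim (α := PrimeSpectrum k) _ _⟩⟩
  haveI : JacobsonSpace ↥U.left :=
    haveI : JacobsonSpace ↥(base k).left := inferInstanceAs (JacobsonSpace (PrimeSpectrum k))
    LocallyOfFiniteType.jacobsonSpace b.left
  haveI : IsLocallyNoetherian (ext k K).left := inferInstanceAs (IsLocallyNoetherian (Spec (CommRingCat.of K)))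
  haveI : IsLocallyNoetherian UK.left := LocallyOfFiniteType.isLocallyNoetherian w.left
  -- points lying over closed points of the chart are rational
  have hclU : ∀ u : ↥U.left, IsClosed ({u} : Set ↥U.left) → ∀ m : ↥UK.left, π.left m = u →
      IsClosed ({m} : Set ↥UK.left) := by
    intro u hu m hm
    rw [← closure_subset_iff_isClosed]
    intro m' hm'
    have hsp : m ⤳ m' := specializes_iff_mem_closure.2 hm'
    have hu' : π.left m' = u := by
      have h1 : π.left m ⤳ π.left m' := hsp.map π.left.continuous
      rw [hm, specializes_iff_mem_closure, hu.closure_eq] at h1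
      exact h1
    exact Set.mem_singleton_iff.2 (NormalSch.eq_of_specializes_of_eq π.left hsp (hm.trans hu'.symm)).symm
  have hgood : ∀ u : ↥U.left, IsClosed ({u} : Set ↥U.left) → ∃ (V : Set (Points X)) (O : T.left.Opens),
      IsOpen V ∧ Points.ofPt p u ∈ V ∧ (O : Set ↥T.left) = Points.ofPt (proj e) ⁻¹' V ∧ O.toScheme.IsQuasiAffine := by
    intro u hu
    have hfin : (π.left ⁻¹' {u}).Finite := finite_of_isCompact_of_isClosed
      (by
        obtain ⟨E, hE, huE, -⟩ := exists_isAffineOpen_mem_and_subset (x := u) (U := (⊤ : U.left.Opens)) trivial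
        exact (QAffLib.qc_preimage π.left hE).of_isClosed_subset (hu.preimage π.left.continuous)
          (Set.preimage_mono (Set.singleton_subset_iff.2 huE))) (fun m hm => hclU u hu m hm)
      (hu.preimage π.left.continuous)
    let s : Finset ↥T.left := hfin.toFinset.image q'.left
    obtain ⟨W, hW, hWs⟩ := h3 s (fun t ht => by
      obtain ⟨m, hm, rfl⟩ := Finset.mem_image.1 ht
      have hm' := hclU u hu m (hfin.mem_toFinset.1 hm)
      refine ⟨pointOfClosedPoint w.left m hm' ≫ q'.left, ?_, ?_⟩
      · have hwv : q' ≫ v = w := (yon (Spec (CommRingCat.of k))).map_injective (by rw [Functor.map_comp, hq', hv, hqw])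
        rw [Category.assoc, ← Over.comp_left, hwv]
        exact pointOfClosedPoint_comp w.left m hm'
      · rw [Scheme.Hom.comp_apply, pointOfClosedPoint_apply])
    have hWy : Points.ofPt (proj e) ⁻¹' {Points.ofPt p u} ⊆ W := by
      intro t ht
      obtain ⟨ζ, hz1, hz2⟩ := points_exists_of_isPullback hq (Points.schemeHomeo T t) (Points.schemeHomeo U u)
        (by rw [← Function.comp_apply (f := Points.map (proj e)), ← ofPt_comp_eq_map,
          ← Function.comp_apply (f := Points.map p), ← ofPt_comp_eq_map]; exact ht)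
      obtain ⟨m, rfl⟩ := (Points.schemeHomeo UK).surjective ζ
      rw [← hq', Points.map_yon_map_apply] at hz1
      rw [Points.map_yon_map_apply] at hz2
      rw [← (Points.schemeHomeo T).injective hz1]
      exact hWs _ (Finset.mem_image.2 ⟨m, hfin.mem_toFinset.2 ((Points.schemeHomeo U).injective hz2), rfl⟩)
    have hcl := isClosed_image e hX W.isOpen.isClosed_compl
    obtain ⟨V, hV, hyV, hVV₀, hc⟩ := exists_qc_open e hX hcl.isOpen_compl (y := Points.ofPt p u)
      (fun ⟨t, ht, hty⟩ => ht (hWy hty))
    let O : T.left.Opens := ⟨Points.ofPt (proj e) ⁻¹' V, Points.isOpen_iff.1 hV T (proj e)⟩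
    have hOW : O ≤ W := fun t ht => by
      by_contra hn
      exact hVV₀ ht ⟨t, hn, rfl⟩
    refine ⟨V, O, hV, hyV, rfl, ?_⟩
    haveI : IsAffine W.toScheme := hW
    haveI : CompactSpace O.toScheme := isCompact_iff_compactSpace.mp hc
    exact Scheme.IsQuasiAffine.of_isImmersion (T.left.homOfLE hOW)
  refine isRepresentable_of_opens e hX fun y => ?_
  obtain ⟨u, rfl⟩ := surjective_ofPt hps y
  obtain ⟨u', hu'c, hu'⟩ := nonempty_inter_closedPoints (X := ↥U.left) (Z := closure {u})
    ⟨u, subset_closure rfl⟩ isClosed_closure.isLocallyClosed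
  obtain ⟨V, O, hV, hyV, hO, hqa⟩ := hgood u' hu'
  refine ⟨V, O, hV, ?_, hO, hqa⟩
  exact ((specializes_iff_mem_closure.2 hu'c).map (Points.continuous_ofPt p)).mem_open hV hyV

end Groth.Agent.ASp.FieldDesc
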