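import Groth.Agent.ASp.FieldStage
import Groth.Agent.GeomIrred.ClopenDescend
import Mathlib.FieldTheory.PurelyInseparable.Basic
/-!
A space which is a scheme after a purely inseparable extension of the field of definition is a scheme before it.
-/

set_option autoImplicit false
set_option linter.style.haveILetI false
set_option backward.isDefEq.respectTransparency false
set_option backward.isDefEq.respectTransparency.types false
set_option maxHeartbeats 800000

universe u

open CategoryTheory CategoryTheory.Limits AlgebraicGeometry Opposite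

namespace Groth.Agent.ASp.FieldDesc

open _root_.AlgSp Groth.Agent.ASp

variable {k : Type u} [Field k] (k' K : Type u) [Field k'] [Algebra k k'] [Field K] [Algebra k K] [Algebra k' K]
  [IsScalarTower k k' K] {X : Sp (Spec (CommRingCat.of k))}

/-- A space over a field which is a scheme over `K` is one over `k'` if `K` is purely inseparable over `k'`. -/
theorem exists_scheme_of_purelyInseparable [IsPurelyInseparable k' K] (hX : IsAlgSpace X)
    {T : Over (Spec (CommRingCat.of k))} (e : (yon _).obj T ≅ X ⨯ (yon _).obj (ext k K)) :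
    (X ⨯ (yon _).obj (ext k k')).obj.IsRepresentable := by
  classical
  let c : ext k K ⟶ ext k k' := extMap (IsScalarTower.toAlgHom k k' K)
  let X' : Sp (Spec (CommRingCat.of k)) := X ⨯ (yon _).obj (ext k k')
  have hX' : IsAlgSpace X' := isAlgSpace_prod hX _
  obtain ⟨v, hv⟩ := (yon _).map_surjective (e.hom ≫ prod.snd)
  let π₀ : (yon _).obj T ⟶ X' := e.hom ≫ prod.map (𝟙 X) ((yon _).map c)
  have sq : IsPullback π₀ ((yon _).map v) (prod.snd : X' ⟶ _) ((yon _).map c) := by
    rw [hv]
    exact IsPullback.of_iso (isPullback_prod_map X c) e.symm (Iso.refl _) (Iso.refl _) (Iso.refl _)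
      (by simp [π₀, X']) (by simp) (by simp [X']) (by simp)
  -- charts and their base changes
  obtain ⟨U, p, hp, hps⟩ := hX'.atlas
  obtain ⟨b, hb⟩ := (yon _).map_surjective (p ≫ (prod.snd : X' ⟶ _))
  let UK := pullback b c
  let q : (yon _).obj UK ⟶ (yon _).obj T :=
    sq.lift ((yon _).map (pullback.fst b c) ≫ p) ((yon _).map (pullback.snd b c)) (by
      rw [Category.assoc, ← hb]; exact (isPullback_yon_map (IsPullback.of_hasPullback b c)).w)
  have hq : IsPullback q ((yon _).map (pullback.fst b c)) π₀ p := by
    refine (IsPullback.of_bot ?_ (sq.lift_fst _ _ _).symm sq).flip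
    rw [sq.lift_snd, ← hb]
    exact isPullback_yon_map (IsPullback.of_hasPullback b c)
  obtain ⟨q', hq'⟩ := (yon _).map_surjective q
  have hl := isPullback_left (IsPullback.of_hasPullback b c)
  haveI : IsIntegralHom c.left := by
    show IsIntegralHom (Spec.map (CommRingCat.ofHom (algebraMap k' K)))
    rw [IsIntegralHom.SpecMap_iff]
    exact algebraMap_isIntegral_iff.2 IsPurelyInseparable.isIntegral
  haveI : UniversallyInjective c.left := GeomIrred.universallyInjective_specMap k' K
  haveI : Surjective c.left := ⟨fun z => ⟨IsLocalRing.closedPoint K, Subsingleton.elim (α := PrimeSpectrum k') _ _⟩⟩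
  haveI : IsIntegralHom (pullback.fst b c).left := MorphismProperty.of_isPullback hl.flip inferInstance
  haveI : UniversallyInjective (pullback.fst b c).left := MorphismProperty.of_isPullback hl.flip inferInstance
  haveI : Surjective (pullback.fst b c).left := MorphismProperty.of_isPullback hl.flip inferInstance
  have hfst : ∀ m, Points.ofPt π₀ (q'.left m) = Points.ofPt p ((pullback.fst b c).left m) := fun m => by
    rw [← ofPt_yon_map_comp, ← ofPt_yon_map_comp, hq', hq.w]
  have lift : ∀ t u, Points.ofPt π₀ t = Points.ofPt p u → ∃ m, q'.left m = t ∧ (pullback.fst b c).left m = u := by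
    intro t u htu
    obtain ⟨ζ, hz1, hz2⟩ := points_exists_of_isPullback hq (Points.schemeHomeo T t) (Points.schemeHomeo U u)
      (by rw [← Function.comp_apply (f := Points.map π₀), ← ofPt_comp_eq_map,
        ← Function.comp_apply (f := Points.map p), ← ofPt_comp_eq_map]; exact htu)
    obtain ⟨m, rfl⟩ := (Points.schemeHomeo UK).surjective ζ
    rw [← hq', Points.map_yon_map_apply] at hz1
    rw [Points.map_yon_map_apply] at hz2
    exact ⟨m, (Points.schemeHomeo T).injective hz1, (Points.schemeHomeo U).injective hz2⟩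
  have hclosed : ∀ C : Set ↥T.left, IsClosed C → IsClosed (Points.ofPt π₀ '' C) := fun C hC => by
    rw [← (isQuotientMap_ofPt hp hps).isClosed_preimage]
    convert (pullback.fst b c).left.isClosedMap _ (hC.preimage q'.left.continuous) using 1
    ext u
    constructor
    · rintro ⟨t, ht, htu⟩
      obtain ⟨m, rfl, rfl⟩ := lift t u htu
      exact ⟨m, ht, rfl⟩
    · rintro ⟨m, hm, rfl⟩
      exact ⟨_, hm, hfst m⟩
  have key : ∀ y : Points X', ∃ (P : Over (Spec (CommRingCat.of k))) (f : (yon _).obj P ⟶ X'),
      RepWith @IsOpenImmersion f ∧ y ∈ Set.range (Points.map f) := by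
    intro y
    obtain ⟨u, rfl⟩ := surjective_ofPt hps y
    obtain ⟨m, rfl⟩ := (pullback.fst b c).left.surjective u
    obtain ⟨W, hW, hmW, -⟩ := exists_isAffineOpen_mem_and_subset (x := q'.left m) (U := (⊤ : T.left.Opens)) trivial
    have hV₀ := (hclosed _ W.isOpen.isClosed_compl).isOpen_compl
    obtain ⟨E, hE, huE, hEV⟩ := exists_isAffineOpen_mem_and_subset (X := U.left) (x := (pullback.fst b c).left m)
      (U := ⟨Points.ofPt p ⁻¹' (Points.ofPt π₀ '' (W : Set ↥T.left)ᶜ)ᶜ, hV₀.preimage (Points.continuous_ofPt p)⟩)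
      (fun ⟨t, ht, htu⟩ => ht (by
        obtain ⟨m', rfl, hm'⟩ := lift t _ htu
        rwa [(pullback.fst b c).left.injective hm']))
    let V : Set (Points X') := Points.ofPt p '' E
    have hV : IsOpen V := isOpenMap_ofPt_of_etale hp _ E.isOpen
    let O : T.left.Opens := ⟨Points.ofPt π₀ ⁻¹' V, hV.preimage (Points.continuous_ofPt π₀)⟩
    have hOeq : (O : Set ↥T.left) = q'.left '' ((pullback.fst b c).left ⁻¹' E) := by
      ext t
      constructor
      · rintro ⟨a, ha, hat⟩
        obtain ⟨m', rfl, rfl⟩ := lift t a hat.symm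
        exact ⟨m', ha, rfl⟩
      · rintro ⟨m', hm', rfl⟩
        exact ⟨_, hm', (hfst m').symm⟩
    have hOc : IsCompact (O : Set ↥T.left) := by
      rw [hOeq]
      exact ((hE.preimage (pullback.fst b c).left).isCompact.image q'.left.continuous)
    have hOW : O ≤ W := fun t ⟨a, ha, hat⟩ => by
      by_contra hn
      exact hEV ha ⟨t, hn, hat.symm⟩
    haveI : IsAffine W.toScheme := hW
    haveI : CompactSpace O.toScheme := isCompact_iff_compactSpace.mp hOc
    haveI : O.toScheme.IsQuasiAffine := Scheme.IsQuasiAffine.of_isImmersion (T.left.homOfLE hOW)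
    -- descent
    have hj := repWith_subι X' V hV
    have sq1 := hj.1.isPullback π₀
    set Q := hj.1.pullback π₀
    set s := hj.1.snd π₀
    haveI : IsOpenImmersion s.left := hj.2 _ _ _ sq1
    have hr : s.left.opensRange = O := by
      apply TopologicalSpace.Opens.ext
      have h := preimage_ofPt_image sq1 Set.univ
      rw [Set.image_univ, Set.preimage_univ, Set.image_univ, range_map_subι] at h
      exact h.symm
    haveI : s.left.opensRange.toScheme.IsQuasiAffine := hr ▸ ‹_›
    haveI : Q.left.IsQuasiAffine := QAffLib.of_iso s.left.isoOpensRange.hom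
    have sq2 : IsPullback (hj.1.fst π₀) ((yon _).map (s ≫ v)) (subι X' V ≫ prod.snd) ((yon _).map c) := by
      rw [Functor.map_comp]
      exact sq1.paste_vert sq
    haveI : IsAffine (ext k k').left := inferInstanceAs (IsAffine (Spec (CommRingCat.of k')))
    let c' : Over.mk (Spec.map (CommRingCat.ofHom (algebraMap k' K)) ≫
        Spec.map (CommRingCat.ofHom (algebraMap k k'))) ⟶ ext k k' :=
      Over.homMk (Spec.map (CommRingCat.ofHom (algebraMap k' K))) rfl
    have hτ := isFpqcCover_yon (T := ext k k') (fun _ : Fin 1 => Over.mk (Spec.map (CommRingCat.ofHom (algebraMap k' K)) ≫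
        Spec.map (CommRingCat.ofHom (algebraMap k k')))) (fun _ => c')
      (fun _ => inferInstanceAs (IsAffine (Spec (CommRingCat.of K))))
      (fun _ => flat_to_field (K := k') (Ω := K) (Spec.map (CommRingCat.ofHom (algebraMap k' K))))
      (fun z => ⟨0, IsLocalRing.closedPoint K, Subsingleton.elim (α := PrimeSpectrum k') _ _⟩)
    let w : ext k K ≅ Over.mk (Spec.map (CommRingCat.ofHom (algebraMap k' K)) ≫
        Spec.map (CommRingCat.ofHom (algebraMap k k'))) := Over.isoMk (Iso.refl _) (by
      change 𝟙 _ ≫ Spec.map _ ≫ Spec.map _ = _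
      rw [Category.id_comp, ← Spec.map_comp]
      exact congrArg Spec.map (CommRingCat.hom_ext (IsScalarTower.algebraMap_eq k k' K).symm))
    obtain ⟨P, -, ⟨iP⟩⟩ := exists_quasiAffine_of_fpqc (CommRingCat.of k') (Spec.map (CommRingCat.ofHom (algebraMap k k')))
      (isAlgSpace_subSp hX' hV) (subι X' V ≫ prod.snd) (fun _ : ULift.{u} (Fin 1) => CommRingCat.of K)
      (fun _ => CommRingCat.ofHom (algebraMap k' K)) (fun _ => c') (fun _ => rfl) hτ
      (fun _ => Q) (fun _ => ‹_›) (fun _ => hj.1.fst π₀) (fun _ => (s ≫ v) ≫ w.hom) (fun _ => by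
        refine IsPullback.of_iso sq2 (Iso.refl _) (Iso.refl _) ((yon _).mapIso w) (Iso.refl _) (by simp) ?_ (by simp) ?_
        · simp
        · simp only [Iso.refl_hom, Category.comp_id, Functor.mapIso_hom, ← Functor.map_comp]
          exact congrArg _ (Over.OverMorphism.ext (Category.id_comp _).symm))
    obtain ⟨z, hz⟩ := (range_map_subι X' V).ge ⟨_, huE, rfl⟩
    exact ⟨P, iP.hom ≫ subι X' V, repWith_comp (repWith_of_isIso _) hj, Points.map iP.inv z, by
      rw [← Points.map_comp, Iso.inv_hom_id_assoc]; exact hz⟩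
  choose P f hf hyf using key
  obtain ⟨Y, ⟨j⟩⟩ := exists_scheme_of_openCover hX' (fun u : ↥U.left => P (Points.ofPt p u)) (fun u => f _)
    (fun u => hf _) (fun y => by
      obtain ⟨u, rfl⟩ := surjective_ofPt hps y
      exact ⟨u, hyf _⟩)
  exact isRepresentable_of_iso_yon j

end Groth.Agent.ASp.FieldDesc
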