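import Mathlib.FieldTheory.IsAlgClosed.AlgebraicClosure
import Mathlib.Algebra.MvPolynomial.Funext
import Mathlib.RingTheory.UniqueFactorizationDomain.NormalizedFactors
import Mathlib.RingTheory.Polynomial.UniqueFactorization
import Mathlib.RingTheory.Algebraic.Basic
/-!
Points with algebraic coordinates avoiding all zeros of a polynomial over a larger field.
-/

set_option autoImplicit false
set_option linter.style.haveILetI false

universe u

open Polynomial

namespace Groth.Agent.ASp.FieldSubst

variable {k κ : Type u} [Field k] [Field κ] [Algebra k κ]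
  (kb : Type u) [Field kb] [Algebra k kb]

/-- A nonzero polynomial over an extension misses some algebraic element and all its conjugates. -/
theorem exists_good [IsAlgClosed kb] [Algebra.IsAlgebraic k kb] (G : κ[X]) (hG : G ≠ 0) :
    ∃ r : kb, ∀ (Ω : Type u) [Field Ω] (i : κ →+* Ω) (σ : kb →+* Ω),
      σ.comp (algebraMap k kb) = i.comp (algebraMap k κ) → G.eval₂ i (σ r) ≠ 0 := by
  classical
  let M : Set k[X] := {m | m.Monic ∧ Irreducible m ∧ ¬ IsCoprime (m.map (algebraMap k κ)) G}
  have hM : M.Finite := by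
    have key : ∀ m ∈ M, ∃ q ∈ UniqueFactorizationMonoid.normalizedFactors G, q ∣ m.map (algebraMap k κ) := by
      rintro m ⟨hm, -, hnc⟩
      obtain ⟨q, hq, hqm, hqG⟩ : ∃ q : κ[X], Irreducible q ∧ q ∣ m.map (algebraMap k κ) ∧ q ∣ G := by
        by_contra hne
        push_neg at hne
        exact hnc (isRelPrime_iff_isCoprime.1
          (WfDvdMonoid.isRelPrime_of_no_irreducible_factors (fun h => hG h.2) fun z hz h1 h2 => hne z hz h1 h2))
      obtain ⟨q', hq', hqq'⟩ := UniqueFactorizationMonoid.exists_mem_normalizedFactors_of_dvd hG hq hqG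
      exact ⟨q', hq', hqq'.symm.dvd.trans hqm⟩
    choose f hf hfd using key
    refine Set.Finite.of_finite_image (f := fun m => if h : m ∈ M then f m h else 0)
      (((UniqueFactorizationMonoid.normalizedFactors G).toFinset.finite_toSet).subset ?_) ?_
    · rintro _ ⟨m, hm, rfl⟩
      simp only [dif_pos hm, Finset.mem_coe, Multiset.mem_toFinset]
      exact hf m hm
    · intro m hm m' hm' e
      simp only [dif_pos hm, dif_pos hm'] at e
      by_contra hne
      have hcop : IsCoprime m m' := (Irreducible.coprime_iff_not_dvd hm.2.1).2 fun hd =>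
        hne (Polynomial.eq_of_monic_of_associated hm.1 hm'.1 (hm.2.1.associated_of_dvd hm'.2.1 hd))
      have hu := (hcop.map (mapRingHom (algebraMap k κ))).isUnit_of_dvd' (hfd m hm) (e ▸ hfd m' hm')
      exact (UniqueFactorizationMonoid.irreducible_of_normalized_factor _ (hf m hm)).not_isUnit hu
  have hbad : (⋃ m ∈ M, {r : kb | (m.map (algebraMap k kb)).IsRoot r}).Finite :=
    hM.biUnion fun m hm => Polynomial.finite_setOf_isRoot ((Polynomial.map_ne_zero_iff (algebraMap k kb).injective).2 hm.1.ne_zero)
  obtain ⟨r, hr⟩ := hbad.exists_notMem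
  refine ⟨r, fun Ω _ i σ hσ h0 => ?_⟩
  have hint : IsIntegral k r := (Algebra.IsAlgebraic.isAlgebraic r).isIntegral
  have hroot : ((minpoly k r).map (algebraMap k kb)).IsRoot r := by
    rw [IsRoot, eval_map, ← aeval_def, minpoly.aeval]
  have hnot : minpoly k r ∉ M := fun h => hr (Set.mem_iUnion₂.2 ⟨_, h, hroot⟩)
  have hcop : IsCoprime ((minpoly k r).map (algebraMap k κ)) G := by
    by_contra h
    exact hnot ⟨minpoly.monic hint, minpoly.irreducible hint, h⟩
  obtain ⟨a, b, hab⟩ := hcop
  have h1 : ((minpoly k r).map (algebraMap k κ)).eval₂ i (σ r) = 0 := by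
    rw [eval₂_map, ← hσ, ← hom_eval₂, ← aeval_def, minpoly.aeval, map_zero]
  have := congrArg (Polynomial.eval₂ i (σ r)) hab
  rw [eval₂_add, eval₂_mul, eval₂_mul, h1, h0, mul_zero, mul_zero, add_zero, eval₂_one] at this
  exact zero_ne_one this

/-- A nonzero polynomial in any variables over an extension misses some algebraic point and all its conjugates. -/
theorem exists_good_mv [IsAlgClosed kb] [Algebra.IsAlgebraic k kb] {ι : Type u} (h : MvPolynomial ι κ) (hh : h ≠ 0) :
    ∃ a : ι → kb, ∀ (Ω : Type u) [Field Ω] (i : κ →+* Ω) (σ : kb →+* Ω),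
      σ.comp (algebraMap k kb) = i.comp (algebraMap k κ) → MvPolynomial.eval₂ i (fun j => σ (a j)) h ≠ 0 := by
  let φ : k[X] →+* κ[X] := mapRingHom (algebraMap k κ)
  obtain ⟨b, hb⟩ : ∃ b : ι → k[X], MvPolynomial.eval₂ (C : κ →+* κ[X]) (fun j => φ (b j)) h ≠ 0 := by
    by_contra hne
    push_neg at hne
    refine hh (MvPolynomial.map_injective (C : κ →+* κ[X]) C_injective ?_)
    rw [map_zero]
    refine MvPolynomial.funext_set (fun _ => Set.range φ)
      (fun _ => Set.infinite_range_of_injective (Polynomial.map_injective _ (algebraMap k κ).injective))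
      fun x hx => ?_
    choose c hc using fun j => hx j (Set.mem_univ j)
    rw [map_zero, MvPolynomial.eval_map, ← funext hc]
    exact hne c
  obtain ⟨r, hr⟩ := exists_good (k := k) kb _ hb
  refine ⟨fun j => (b j).eval₂ (algebraMap k kb) r, fun Ω _ i σ hσ h0 => hr Ω i σ hσ ?_⟩
  rw [← coe_eval₂RingHom, MvPolynomial.eval₂_comp_left]
  refine Eq.trans ?_ h0
  congr 1
  · ext x; simp
  · funext j
    simp only [Function.comp_apply, coe_eval₂RingHom, φ, coe_mapRingHom, eval₂_map]
    rw [hom_eval₂, hσ]

end Groth.Agent.ASp.FieldSubst
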