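import Groth.Agent.ASp.FieldStage
import Groth.Agent.ASp.FieldSubst
/-!
An algebraic space which is a scheme after a purely transcendental extension is a scheme.
-/

set_option autoImplicit false
set_option linter.style.haveILetI false
set_option backward.isDefEq.respectTransparency false
set_option backward.isDefEq.respectTransparency.types false
set_option maxHeartbeats 800000

universe u

open CategoryTheory CategoryTheory.Limits AlgebraicGeometry Opposite

namespace Groth.Agent.ASp.FieldDesc

open _root_.AlgSp Groth.Agent.ASp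

variable {k : Type u} [Field k]

/-- A finite set of rational functions has a common denominator. -/
theorem exists_common_den {R K : Type u} [CommRing R] [IsDomain R] [Field K] [Algebra R K] [IsFractionRing R K]
    (s : Finset K) : ∃ f : R, f ≠ 0 ∧ ∀ x ∈ s, ∃ n : R, x * algebraMap R K f = algebraMap R K n := by
  obtain ⟨b, hb⟩ := IsLocalization.exist_integer_multiples_of_finset (nonZeroDivisors R) s
  refine ⟨b, nonZeroDivisors.ne_zero b.2, fun x hx => ?_⟩
  obtain ⟨n, hn⟩ := hb x hx
  exact ⟨n, by rw [hn, Algebra.smul_def, mul_comm]⟩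

theorem exists_denominator (ι : Type u) (A : Subalgebra k (FractionRing (MvPolynomial ι k))) (hA : A.FG) :
    ∃ f : MvPolynomial ι k, f ≠ 0 ∧ Nonempty (A →ₐ[k] Localization.Away f) := by
  classical
  let K := FractionRing (MvPolynomial ι k)
  obtain ⟨s, hs⟩ := id hA
  obtain ⟨f, hf, hfs⟩ := exists_common_den (R := MvPolynomial ι k) s
  let L := Localization.Away f
  have hfu : IsUnit (algebraMap (MvPolynomial ι k) K f) :=
    isUnit_iff_ne_zero.2 fun h => hf ((IsFractionRing.injective (MvPolynomial ι k) K) (h.trans (map_zero _).symm))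
  let j₀ : L →+* K := IsLocalization.Away.lift f hfu
  have hj₀ : ∀ r, j₀ (algebraMap (MvPolynomial ι k) L r) = algebraMap _ K r := fun r => IsLocalization.Away.lift_eq f hfu r
  have j_c : ∀ c : k, j₀ (algebraMap k _ c) = algebraMap k _ c := fun c => by
    rw [IsScalarTower.algebraMap_apply k (MvPolynomial ι k) L, hj₀,
      ← IsScalarTower.algebraMap_apply k (MvPolynomial ι k) K]
  let j : L →ₐ[k] K := { j₀ with commutes' := j_c }
  have hj : Function.Injective j := by
    rw [injective_iff_map_eq_zero]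
    intro z hz
    obtain ⟨⟨n, d⟩, hnd⟩ := IsLocalization.surj (Submonoid.powers f) z
    have h1 : j₀ (algebraMap _ L n) = 0 := by
      rw [← hnd, map_mul]
      rw [show j₀ z = 0 from hz, zero_mul]
    rw [hj₀] at h1
    have h2 : n = 0 := IsFractionRing.injective (MvPolynomial ι k) K (h1.trans (map_zero _).symm)
    exact (IsLocalization.map_units L d).mul_left_eq_zero.1 (by rw [hnd, h2, map_zero])
  have hAj : A ≤ j.range := by
    rw [← hs, Algebra.adjoin_le_iff]
    intro x hx
    obtain ⟨n, hn⟩ := hfs x hx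
    refine ⟨IsLocalization.mk' L n (⟨f, Submonoid.mem_powers f⟩ : Submonoid.powers f), ?_⟩
    apply hfu.mul_right_cancel
    rw [hn, ← hj₀ f, ← hj₀ n]
    change j₀ _ * _ = _
    rw [← map_mul]
    exact congrArg j₀ (IsLocalization.mk'_spec L n _)
  let toL : A →ₐ[k] L := ((AlgEquiv.ofInjective j hj).symm.toAlgHom).comp (Subalgebra.inclusion hAj)
  exact ⟨f, hf, ⟨toL⟩⟩

theorem isAffineHom_extMap {A B : Type u} [CommRing A] [Algebra k A] [CommRing B] [Algebra k B] (a : A →ₐ[k] B) :
    IsAffineHom (extMap a).left :=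
  inferInstanceAs (IsAffineHom (Spec.map _))

/-- The pieces: a scheme at the stage of a localized polynomial ring gives fibres in affines. -/
theorem isRepresentable_of_localized_stage {X : Sp (Spec (CommRingCat.of k))} (hX : IsAlgSpace X)
    (ι : Type u) (f : MvPolynomial ι k) (hf : f ≠ 0) (A : Type u) [CommRing A] [Algebra k A]
    (toL : A →ₐ[k] Localization.Away f) {P : Over (Spec (CommRingCat.of k))}
    (eP : (yon _).obj P ≅ X ⨯ (yon _).obj (extR k A)) {T' : Over (Spec (CommRingCat.of k))}
    (e' : (yon _).obj T' ≅ X ⨯ (yon _).obj (ext k (AlgebraicClosure k))) :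
    X.obj.IsRepresentable := by
  classical
  let kb := AlgebraicClosure k
  let L := Localization.Away f
  obtain ⟨x⟩ : Nonempty (X ⟶ (yon (Spec (CommRingCat.of k))).obj (base k)) := ⟨isTerminalYonBase.from X⟩
  refine isRepresentable_of_fibres_affine e' hX fun y => ?_
  obtain ⟨U, p, hp, hps⟩ := hX.atlas
  obtain ⟨UK, q, π, w, b, hq, -, hqw, -⟩ := exists_chart_sq e' x p
  obtain ⟨q', hq'⟩ := (yon _).map_surjective q
  obtain ⟨u, rfl⟩ := surjective_ofPt hps y
  let κ := U.left.residueField u
  let α : CommRingCat.of k ⟶ κ := Spec.preimage (U.left.fromSpecResidueField u ≫ U.hom)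
  letI : Algebra k κ := α.hom.toAlgebra
  have hα : Spec.map α = U.left.fromSpecResidueField u ≫ U.hom := Spec.map_preimage _
  let fκ : MvPolynomial ι κ := MvPolynomial.map (algebraMap k κ) f
  have hfκ : fκ ≠ 0 := fun h => hf (MvPolynomial.map_injective _ (algebraMap k κ).injective (h.trans (map_zero _).symm))
  let R := Localization.Away fκ
  haveI : IsDomain R := IsLocalization.isDomain_localization (powers_le_nonZeroDivisors_of_noZeroDivisors hfκ)
  have hRu : IsUnit ((algebraMap (MvPolynomial ι κ) R).comp (MvPolynomial.map (algebraMap k κ)) f) :=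
    IsLocalization.Away.algebraMap_isUnit fκ
  let β₀ : L →+* R := IsLocalization.Away.lift f hRu
  have hβ₀ : ∀ g, β₀ (algebraMap (MvPolynomial ι k) L g) = algebraMap _ R (MvPolynomial.map (algebraMap k κ) g) :=
    fun g => IsLocalization.Away.lift_eq f hRu g
  have β_c : ∀ c : k, β₀ (algebraMap k _ c) = algebraMap k _ c := fun c => by
    rw [IsScalarTower.algebraMap_apply k (MvPolynomial ι k) L, hβ₀, MvPolynomial.algebraMap_eq,
      MvPolynomial.map_C, IsScalarTower.algebraMap_apply k (MvPolynomial ι κ) R]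
    rfl
  let β : L →ₐ[k] R := { β₀ with commutes' := β_c }
  let Z := extR k R
  let z₁ : Z ⟶ U := Over.homMk (Spec.map (CommRingCat.ofHom (algebraMap κ R)) ≫ U.left.fromSpecResidueField u) (by
    rw [Category.assoc, ← hα, ← Spec.map_comp]
    exact congrArg Spec.map (CommRingCat.hom_ext (IsScalarTower.algebraMap_eq k κ R).symm))
  let z₂ : Z ⟶ extR k A := extMap (β.comp toL)
  obtain ⟨Φ, hΦ⟩ := (yon _).map_surjective (prod.lift ((yon _).map z₁ ≫ p) ((yon _).map z₂) ≫ eP.inv)
  let η : ↥Z.left := (⟨⊥, Ideal.isPrime_bot⟩ : PrimeSpectrum R)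
  obtain ⟨W, hW, hηW, -⟩ := exists_isAffineOpen_mem_and_subset (x := Φ.left η) (U := (⊤ : P.left.Opens)) trivial
  obtain ⟨_, ⟨g, rfl⟩, hηg, hgW⟩ := PrimeSpectrum.isTopologicalBasis_basic_opens.exists_subset_of_mem_open
    (show η ∈ (Φ.left ⁻¹' (W : Set ↥P.left) : Set (PrimeSpectrum R)) from hηW)
    (W.isOpen.preimage Φ.left.continuous)
  have hg : g ≠ 0 := fun h => hηg (by rw [h]; exact Submodule.zero_mem _)
  obtain ⟨⟨h', d⟩, hgd⟩ := IsLocalization.surj (Submonoid.powers fκ) g
  have hh' : h' ≠ 0 := by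
    rintro rfl
    exact hg ((IsLocalization.map_units R d).mul_left_eq_zero.1 (by rw [hgd, map_zero]))
  obtain ⟨a, ha⟩ := FieldSubst.exists_good_mv (k := k) kb (h' * fκ) (mul_ne_zero hh' hfκ)
  have hfa : MvPolynomial.aeval a f ≠ 0 := by
    intro h0
    let Ω := AlgebraicClosure κ
    let σ : kb →ₐ[k] Ω := IsAlgClosed.lift
    refine ha Ω (algebraMap κ Ω) σ.toRingHom (by
      rw [← IsScalarTower.algebraMap_eq]; exact σ.comp_algebraMap) ?_
    rw [MvPolynomial.eval₂_mul, MvPolynomial.eval₂_map, ← IsScalarTower.algebraMap_eq]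
    have : MvPolynomial.eval₂ (algebraMap k Ω) (fun i => σ (a i)) f = 0 := by
      rw [← MvPolynomial.aeval_def, ← MvPolynomial.comp_aeval_apply, h0, map_zero]
    exact mul_eq_zero_of_right _ this
  let a₀ : L →+* kb := IsLocalization.Away.lift (S := L) f (g := (MvPolynomial.aeval a).toRingHom) (isUnit_iff_ne_zero.2 hfa)
  have ha₀ : ∀ g, a₀ (algebraMap (MvPolynomial ι k) L g) = MvPolynomial.aeval a g :=
    fun g => IsLocalization.Away.lift_eq f _ g
  have aL_c : ∀ c : k, a₀ (algebraMap k _ c) = algebraMap k _ c := fun c => by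
    rw [IsScalarTower.algebraMap_apply k (MvPolynomial ι k) L, ha₀, MvPolynomial.algebraMap_eq,
      MvPolynomial.aeval_C]
  let aL : L →ₐ[k] kb := { a₀ with commutes' := aL_c }
  let ca : ext k kb ⟶ extR k A := extMap (aL.comp toL)
  haveI : IsAffineHom ca.left := isAffineHom_extMap _
  obtain ⟨m, hm, hma⟩ := exists_affine_map ca eP e'
  haveI := hma
  refine ⟨m.left ⁻¹ᵁ W, hW.preimage m.left, fun t ht => ?_⟩
  obtain ⟨ζ, hz1, hz2⟩ := points_exists_of_isPullback hq (Points.schemeHomeo T' t) (Points.schemeHomeo U u)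
    (by rw [← Function.comp_apply (f := Points.map (proj e')), ← ofPt_comp_eq_map,
      ← Function.comp_apply (f := Points.map p), ← ofPt_comp_eq_map]; exact ht)
  obtain ⟨mm, rfl⟩ := (Points.schemeHomeo UK).surjective ζ
  rw [← hq', Points.map_yon_map_apply] at hz1
  rw [Points.map_yon_map_apply] at hz2
  obtain rfl := (Points.schemeHomeo T').injective hz1
  obtain rfl := (Points.schemeHomeo U).injective hz2
  let Ω := UK.left.residueField mm
  let iκ : κ ⟶ Ω := π.left.residueFieldMap mm
  have hiκ : Spec.map iκ ≫ U.left.fromSpecResidueField _ = UK.left.fromSpecResidueField mm ≫ π.left :=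
    π.left.SpecMap_residueFieldMap_fromSpecResidueField mm
  let σ : CommRingCat.of kb ⟶ Ω := Spec.preimage (UK.left.fromSpecResidueField mm ≫ w.left)
  have hσ : Spec.map σ = UK.left.fromSpecResidueField mm ≫ w.left := Spec.map_preimage _
  have hk : σ.hom.comp (algebraMap k kb) = iκ.hom.comp (algebraMap k κ) := by
    have h1 : CommRingCat.ofHom (algebraMap k kb) ≫ σ = α ≫ iκ := Spec.map_injective (by
      rw [Spec.map_comp, Spec.map_comp, hσ, hα, reassoc_of% hiκ, Over.w π, Category.assoc]
      exact congrArg (_ ≫ ·) (Over.w w))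
    exact congrArg CommRingCat.Hom.hom h1
  have hne := ha Ω iκ.hom σ.hom hk
  rw [MvPolynomial.eval₂_mul] at hne
  let ev : MvPolynomial ι κ →+* Ω := MvPolynomial.eval₂Hom iκ.hom (fun i => σ.hom (a i))
  let φ : R →+* Ω := IsLocalization.Away.lift (S := R) fκ (g := ev) (isUnit_iff_ne_zero.2 (right_ne_zero_of_mul hne))
  have hφ : ∀ g, φ (algebraMap (MvPolynomial ι κ) R g) = ev g := fun g => IsLocalization.Away.lift_eq fκ _ g
  have hφκ : φ.comp (algebraMap κ R) = iκ.hom := by
    ext c
    rw [RingHom.comp_apply, IsScalarTower.algebraMap_apply κ (MvPolynomial ι κ) R, hφ]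
    simp [ev]
  have hφL : φ.comp β.toRingHom = σ.hom.comp aL.toRingHom := by
    refine IsLocalization.ringHom_ext (Submonoid.powers f) (MvPolynomial.ringHom_ext (fun c => ?_) (fun i => ?_))
    · change φ (β₀ (algebraMap _ L (MvPolynomial.C c))) = σ.hom (a₀ (algebraMap _ L (MvPolynomial.C c)))
      rw [hβ₀, hφ, ha₀, MvPolynomial.map_C, MvPolynomial.aeval_C]
      simp only [ev, MvPolynomial.eval₂Hom_C]
      exact (RingHom.congr_fun hk c).symm
    · change φ (β₀ (algebraMap _ L (MvPolynomial.X i))) = σ.hom (a₀ (algebraMap _ L (MvPolynomial.X i)))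
      rw [hβ₀, hφ, ha₀, MvPolynomial.map_X, MvPolynomial.aeval_X]
      simp [ev]
  let O : Over (Spec (CommRingCat.of k)) := Over.mk (UK.left.fromSpecResidueField mm ≫ UK.hom)
  let o : O ⟶ UK := Over.homMk (UK.left.fromSpecResidueField mm) rfl
  let ψ : O ⟶ Z := Over.homMk (Spec.map (CommRingCat.ofHom φ)) (by
    change Spec.map (CommRingCat.ofHom φ) ≫ Spec.map (CommRingCat.ofHom (algebraMap k R)) =
      UK.left.fromSpecResidueField mm ≫ UK.hom
    rw [← Over.w π, ← reassoc_of% hiκ, ← hα, ← Spec.map_comp, ← Spec.map_comp]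
    refine congrArg Spec.map (CommRingCat.hom_ext ?_)
    change φ.comp (algebraMap k R) = iκ.hom.comp (algebraMap k κ)
    rw [← hφκ, IsScalarTower.algebraMap_eq k κ R, RingHom.comp_assoc])
  have e1 : o ≫ π = ψ ≫ z₁ := Over.OverMorphism.ext (by
    change UK.left.fromSpecResidueField mm ≫ π.left = Spec.map _ ≫ Spec.map _ ≫ _
    rw [← hiκ, ← Category.assoc, ← Spec.map_comp]
    congr 2
    exact CommRingCat.hom_ext hφκ.symm)
  have e2 : o ≫ w ≫ ca = ψ ≫ z₂ := Over.OverMorphism.ext (by
    change UK.left.fromSpecResidueField mm ≫ w.left ≫ Spec.map _ = Spec.map _ ≫ Spec.map _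
    rw [← Category.assoc, ← hσ, ← Spec.map_comp, ← Spec.map_comp]
    refine congrArg Spec.map (CommRingCat.hom_ext ?_)
    change σ.hom.comp (aL.toRingHom.comp toL.toRingHom) = φ.comp (β.toRingHom.comp toL.toRingHom)
    rw [← RingHom.comp_assoc, ← hφL, RingHom.comp_assoc])
  have key : o ≫ q' ≫ m = ψ ≫ Φ := (yon _).map_injective (by
    rw [← cancel_mono eP.hom]
    simp only [Functor.map_comp, Category.assoc, hm, hΦ, Iso.inv_hom_id, Category.comp_id, hq']
    apply prod.hom_ext
    · have h3 : q ≫ e'.hom ≫ prod.fst = (yon _).map π ≫ p := hq.w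
      simp only [Category.assoc, prod.map_fst, prod.lift_fst, Category.comp_id]
      rw [h3, ← Functor.map_comp_assoc, e1, Functor.map_comp, Category.assoc]
    · simp only [Category.assoc, prod.map_snd, prod.lift_snd]
      rw [reassoc_of% hqw, ← Functor.map_comp, ← Functor.map_comp, e2, Functor.map_comp])
  show m.left (q'.left mm) ∈ W
  have hpt : m.left (q'.left mm) = Φ.left ((Spec.map (CommRingCat.ofHom φ)) (IsLocalRing.closedPoint Ω)) := by
    have h4 := congrArg (fun v : O ⟶ P => v.left (IsLocalRing.closedPoint Ω)) key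
    change m.left (q'.left (UK.left.fromSpecResidueField mm _)) = _ at h4
    rw [Scheme.fromSpecResidueField_apply] at h4
    exact h4
  rw [hpt]
  apply hgW
  change g ∉ Ideal.comap φ (IsLocalRing.maximalIdeal Ω)
  rw [Ideal.mem_comap, IsLocalRing.mem_maximalIdeal, mem_nonunits_iff, not_not, isUnit_iff_ne_zero]
  intro h0
  refine left_ne_zero_of_mul hne ?_
  change ev h' = 0
  rw [← hφ, ← hgd, map_mul, h0, zero_mul]

theorem isRepresentable_of_purelyTranscendental_qc {X : Sp (Spec (CommRingCat.of k))} (hX : IsAlgSpace X)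
    (hqc : IsQuasiCompactSp X) (hqs : IsQuasiSeparatedSp X) (ι : Type u) {T : Over (Spec (CommRingCat.of k))}
    (e : (yon _).obj T ≅ X ⨯ (yon _).obj (ext k (FractionRing (MvPolynomial ι k)))) :
    X.obj.IsRepresentable := by
  classical
  let K := FractionRing (MvPolynomial ι k)
  let kb := AlgebraicClosure k
  obtain ⟨A, hA, P, ⟨eP⟩⟩ := exists_scheme_stage hX hqc hqs K e
  obtain ⟨f, hf, ⟨toL⟩⟩ := exists_denominator ι A hA
  obtain ⟨T', ⟨r⟩⟩ := representable_algClosed hX hqs K e kb
  exact isRepresentable_of_localized_stage hX ι f hf A toL eP (AlgSp.isoOfRepresentableBy r)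

theorem isRepresentable_of_purelyTranscendental {X : Sp (Spec (CommRingCat.of k))} (hX : IsAlgSpace X)
    (hqs : IsQuasiSeparatedSp X) (ι : Type u) {T : Over (Spec (CommRingCat.of k))}
    (e : (yon _).obj T ≅ X ⨯ (yon _).obj (ext k (FractionRing (MvPolynomial ι k)))) :
    X.obj.IsRepresentable :=
  exists_scheme_of_qc_opens hX fun V hV hVqc => by
    obtain ⟨Q, ⟨eQ⟩⟩ := exists_iso_open e hV
    obtain ⟨P, ⟨r⟩⟩ := isRepresentable_of_purelyTranscendental_qc (isAlgSpace_subSp hX hV) hVqc
      (qcqs_of_openImmersion (repWith_subι X _ hV) hqs) ι eQ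
    exact ⟨P, ⟨AlgSp.isoOfRepresentableBy r⟩⟩

end Groth.Agent.ASp.FieldDesc
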