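import Mathlib
/-!
A field with a finite equivalence relation `s, t : L → A` is a finite extension of the field of invariants `k`,
and `L ⊗[k] L → A` is injective.
-/

set_option autoImplicit false

universe u

open TensorProduct

namespace Groth.Agent.ASp.FieldQuot

variable {L A : Type u} [Field L] [CommRing A]

/-- The field of invariants of a pair of maps out of a field. -/
def invariants (s t : L →+* A) : Subfield L where
  __ := s.eqLocus t
  inv_mem' x (hx : s x = t x) := by
    show s x⁻¹ = t x⁻¹
    rcases eq_or_ne x 0 with rfl | h
    · simp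
    · refine left_inv_eq_right_inv (a := s x) ?_ ?_
      · rw [← map_mul, inv_mul_cancel₀ h, map_one]
      · rw [hx, ← map_mul, mul_inv_cancel₀ h, map_one]

theorem mem_invariants {s t : L →+* A} {x : L} : x ∈ invariants s t ↔ s x = t x := Iff.rfl

/-- `A` as an algebra over `L` through a given map. -/
def Side (_f : L →+* A) : Type u := A

instance (f : L →+* A) : CommRing (Side f) := inferInstanceAs (CommRing A)

instance (f : L →+* A) : Algebra L (Side f) := RingHom.toAlgebra (show L →+* Side f from f)

/-- The identity map into `Side f`. -/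
def toSide (f : L →+* A) : A ≃+* Side f := RingEquiv.refl A

theorem algebraMap_side (f : L →+* A) (x : L) : algebraMap L (Side f) x = toSide f (f x) := rfl

theorem eq_zero_of_sum_tmul {M N ι : Type u} [AddCommGroup M] [Module L M] [AddCommGroup N] [Module L N]
    [Fintype ι] [DecidableEq ι] {y : ι → N} (hy : LinearIndependent L y) (a : ι → M)
    (h : ∑ i, a i ⊗ₜ[L] y i = 0) (i : ι) : a i = 0 := by
  obtain ⟨g, hg⟩ := (Fintype.linearCombination L y).exists_leftInverse_of_injective
    (LinearMap.ker_eq_bot.2 (linearIndependent_iff_injective_fintypeLinearCombination.1 hy))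
  have hgy : ∀ j, g (y j) = Pi.single j 1 := fun j => by
    have := LinearMap.congr_fun hg (Pi.single j 1)
    simpa [Fintype.linearCombination_apply_single] using this
  have := congrArg (fun z => TensorProduct.rid L M (LinearMap.lTensor M ((LinearMap.proj i).comp g) z)) h
  simpa [hgy, Pi.single_apply] using this

variable (s t : L →+* A) (c : A →+* Side t ⊗[L] Side s)
  (hcs : ∀ x, c (s x) = toSide t (s x) ⊗ₜ[L] 1) (hct : ∀ x, c (t x) = 1 ⊗ₜ[L] toSide s (t x))

include hcs hct in
/-- Elements of `L` independent over the invariants have images under `t` independent over `s`. -/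
theorem linearIndependent_image [Nontrivial A] {ι : Type u} [Fintype ι] (l : ι → L)
    (hl : LinearIndependent (invariants s t) l) : LinearIndependent L (fun i => toSide s (t (l i))) := by
  classical
  suffices ∀ (F : Finset ι) (a : ι → L), ∑ i ∈ F, s (a i) * t (l i) = 0 → ∀ i ∈ F, a i = 0 by
    rw [Fintype.linearIndependent_iff]
    intro a ha i
    refine this Finset.univ a ?_ i (Finset.mem_univ i)
    simp only [Algebra.smul_def, algebraMap_side] at ha
    exact ha
  intro F
  induction F using Finset.induction_on with
  | empty => simp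
  | @insert j F hj ih =>
    intro a ha
    rw [Finset.sum_insert hj] at ha
    by_cases haj : a j = 0
    · simp only [haj, map_zero, zero_mul, zero_add] at ha
      intro i hi
      rcases Finset.mem_insert.1 hi with rfl | hi
      · exact haj
      · exact ih a ha i hi
    exfalso
    let b : ι → L := fun i => (a j)⁻¹ * a i
    have hb : t (l j) + ∑ i ∈ F, s (b i) * t (l i) = 0 := by
      have e := congrArg (s (a j)⁻¹ * ·) ha
      simp only [mul_add, Finset.mul_sum, mul_zero, ← mul_assoc, ← map_mul, inv_mul_cancel₀ haj, map_one, one_mul] at e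
      exact e
    -- the tail is independent
    have hF : LinearIndependent L (fun i : F => toSide s (t (l i))) := by
      rw [Fintype.linearIndependent_iff]
      intro d hd i
      have := ih (fun x => if hx : x ∈ F then d ⟨x, hx⟩ else 0) (by
        rw [← Finset.sum_coe_sort]
        simp only [Algebra.smul_def, algebraMap_side] at hd
        simp only [Finset.coe_mem, dite_true]
        exact hd) i.1 i.2
      simpa using this
    have h1 : (1 : Side t) ⊗ₜ[L] toSide s (t (l j)) +
        ∑ i ∈ F, toSide t (s (b i)) ⊗ₜ[L] toSide s (t (l i)) = 0 := by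
      have e := congrArg c hb
      simp only [map_add, map_sum, map_mul, map_zero, hcs, hct, Algebra.TensorProduct.tmul_mul_tmul, mul_one,
        one_mul] at e
      exact e
    have h2 : (1 : Side t) ⊗ₜ[L] toSide s (t (l j)) +
        ∑ i ∈ F, toSide t (t (b i)) ⊗ₜ[L] toSide s (t (l i)) = 0 := by
      have e := congrArg (fun z => (1 : Side t) ⊗ₜ[L] toSide s z) hb
      simp only [map_add, map_sum, map_mul, map_zero, TensorProduct.tmul_add, TensorProduct.tmul_sum,
        TensorProduct.tmul_zero] at e
      refine Eq.trans ?_ e
      refine congrArg _ (Finset.sum_congr rfl fun i _ => ?_)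
      rw [show toSide s (s (b i)) * toSide s (t (l i)) = b i • toSide s (t (l i)) from (Algebra.smul_def _ _).symm,
        ← TensorProduct.smul_tmul, show b i • (1 : Side t) = toSide t (t (b i)) from
          (Algebra.smul_def _ _).trans (mul_one _)]
    have h3 : ∑ i : F, (toSide t (s (b i)) - toSide t (t (b i))) ⊗ₜ[L] toSide s (t (l i)) = 0 := by
      rw [Finset.sum_coe_sort F fun i => (toSide t (s (b i)) - toSide t (t (b i))) ⊗ₜ[L] toSide s (t (l i))]
      simp only [TensorProduct.sub_tmul, Finset.sum_sub_distrib]
      exact sub_eq_zero.2 (add_left_cancel (h1.trans h2.symm))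
    have hk : ∀ i ∈ F, b i ∈ invariants s t := fun i hi =>
      (toSide t).injective (sub_eq_zero.1 (eq_zero_of_sum_tmul hF _ h3 ⟨i, hi⟩))
    have h4 : l j + ∑ i ∈ F, b i * l i = 0 := by
      refine t.injective ?_
      rw [map_add, map_sum, map_zero, ← hb]
      refine congrArg _ (Finset.sum_congr rfl fun i hi => ?_)
      rw [map_mul, mem_invariants.1 (hk i hi)]
    have h5 := linearIndependent_iff'.1 hl (insert j F)
      (fun i => if hi : i ∈ F then ⟨b i, hk i hi⟩ else 1) (by
        rw [Finset.sum_insert hj, dif_neg hj, one_smul]
        refine Eq.trans ?_ h4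
        refine congrArg _ (Finset.sum_congr rfl fun i hi => ?_)
        rw [dif_pos hi]
        rfl) j (Finset.mem_insert_self _ _)
    rw [dif_neg hj] at h5
    exact one_ne_zero h5

include hcs hct in
theorem finite_invariants [Nontrivial A] [Module.Finite L (Side s)] : Module.Finite (invariants s t) L := by
  refine Module.rank_lt_aleph0_iff.1 ?_
  refine lt_of_le_of_lt (rank_le (n := Module.finrank L (Side s)) fun F hF => ?_) (Cardinal.nat_lt_aleph0 _)
  have := (linearIndependent_image s t c hcs hct (fun i : F => (i : L)) hF).fintype_card_le_finrank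
  simpa using this

include hcs hct in
theorem injective_comparison [Nontrivial A]
    (φ : L ⊗[invariants s t] L →+* A) (h₁ : ∀ x, φ (x ⊗ₜ 1) = s x) (h₂ : ∀ x, φ (1 ⊗ₜ x) = t x) :
    Function.Injective φ := by
  classical
  rw [injective_iff_map_eq_zero]
  intro z hz
  let b := Module.Basis.ofVectorSpace (invariants s t) L
  let B := Algebra.TensorProduct.basis L b
  have hlin := linearIndependent_image s t c hcs hct (fun i : (B.repr z).support => b i.1)
    (b.linearIndependent.comp _ Subtype.val_injective)
  rw [Fintype.linearIndependent_iff] at hlin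
  have key := hlin (fun i => B.repr z i.1) (by
    simp only [Algebra.smul_def, algebraMap_side]
    refine Eq.trans ?_ hz
    conv_rhs => rw [← B.linearCombination_repr z, Finsupp.linearCombination_apply, Finsupp.sum, map_sum]
    rw [← Finset.sum_coe_sort (B.repr z).support]
    refine Finset.sum_congr rfl fun i _ => ?_
    rw [Algebra.TensorProduct.basis_apply, TensorProduct.smul_tmul', smul_eq_mul, mul_one,
      show (B.repr z i.1 : L) ⊗ₜ[invariants s t] b i.1 = B.repr z i.1 ⊗ₜ 1 * (1 : L) ⊗ₜ b i.1 by simp,
      map_mul, h₁, h₂]
    rfl)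
  refine B.repr.injective (Finsupp.ext fun i => ?_)
  rw [map_zero, Finsupp.zero_apply]
  by_contra h
  exact h (key ⟨i, Finsupp.mem_support_iff.2 h⟩)

end Groth.Agent.ASp.FieldQuot
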