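import Groth.Agent.ASp.LimEventually2
import Groth.Agent.AffLim.Constructible
import Groth.Agent.S10194
import Groth.Agent.S10195
/-!
# Quasi-compact opens and closed subspaces of limits of algebraic spaces
-/

set_option autoImplicit false
set_option backward.isDefEq.respectTransparency false
set_option backward.isDefEq.respectTransparency.types false

universe u

open CategoryTheory CategoryTheory.Limits AlgebraicGeometry Opposite

noncomputable section

namespace Groth.Agent.ASp

open _root_.AlgSp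

variable {S : Scheme.{u}}

theorem map_frame_point {X : Sp S} {E E' : Over S} (q : (yon S).obj E' ⟶ X) (p : E ⟶ E') (e : ↥E.left) :
    Points.map q (Points.schemeHomeo E' (p.left e)) = Points.map ((yon S).map p ≫ q) (Points.schemeHomeo E e) := by
  rw [Points.map_comp, Points.map_yon_map_apply]

/-- The induced map of limits of a system of closed immersions is a closed immersion. -/
theorem repWith_isClosedImmersion_limMap {I : Type u} [SmallCategory I] [IsCofiltered I]
    (DX DY : I ⥤ Sp S) (hDX : ∀ i, IsAlgSpace (DX.obj i)) (hDY : ∀ i, IsAlgSpace (DY.obj i))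
    (hXa : ∀ (i j : I) (φ : i ⟶ j), IsAffineMor (DX.map φ)) (hYa : ∀ (i j : I) (φ : i ⟶ j), IsAffineMor (DY.map φ))
    (τ : DX ⟶ DY) (hτ : ∀ i, RepWith @IsClosedImmersion (τ.app i))
    (cX : Cone DX) (hcX : IsLimit cX) (cY : Cone DY) (hcY : IsLimit cY)
    (g : cX.pt ⟶ cY.pt) (hg : ∀ i, g ≫ cY.π.app i = cX.π.app i ≫ τ.app i) :
    RepWith @IsClosedImmersion g := by
  obtain ⟨i₀⟩ := IsCofiltered.nonempty (C := I)
  obtain ⟨U, p, hp, hps⟩ := (hDY i₀).atlas
  let V : U.left.affineOpens → Over S := fun W => Over.mk (W.1.ι ≫ U.hom)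
  let vi : ∀ W, V W ⟶ U := fun W => Over.homMk W.1.ι rfl
  let v : ∀ W, (yon S).obj (V W) ⟶ DY.obj i₀ := fun W => (yon S).map (vi W) ≫ p
  have hv : ∀ W, RepWith @Etale (v W) := fun W =>
    repWith_comp (repWith_yon_map (inferInstanceAs (Etale W.1.ι))) hp
  have F := fun W => exists_frame DY hDY hYa cY hcY i₀ (v W)
  let a₀ := fun W => (hτ i₀).1.fst (v W)
  let z₀ := fun W => (hτ i₀).1.snd (v W)
  have h₀ : ∀ W, IsPullback (a₀ W) ((yon S).map (z₀ W)) (τ.app i₀) (v W) := fun W => (hτ i₀).1.isPullback _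
  have G := fun W => exists_frame DX hDX hXa cX hcX i₀ (a₀ W)
  obtain ⟨hXpt, -⟩ := isAlgSpace_limit_and_isAffineMor DX hDX hXa cX hcX
  obtain ⟨hYpt, -⟩ := isAlgSpace_limit_and_isAffineMor DY hDY hYa cY hcY
  haveI := FpqcDesc.isClosedImmersion_descends.{u}
  -- one chart
  have key : ∀ W, ∃ h : (G W).some.cone.pt ⟶ (F W).some.cone.pt,
      IsPullback (G W).some.qLim ((yon S).map h) g (F W).some.qLim ∧ IsClosedImmersion h.left := by
    intro W
    let F' := (F W).some
    let G' := (G W).some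
    haveI : IsAffine (V W).left := W.2
    haveI : IsClosedImmersion (z₀ W).left := (hτ i₀).2 _ _ _ (h₀ W)
    haveI : IsAffine ((hτ i₀).1.pullback (v W)).left := isAffine_of_isAffineHom (z₀ W).left
    have eh : ∀ k : CategoryTheory.Over i₀, (G'.q k ≫ τ.app k.left) ≫ DY.map k.hom =
        ((yon S).map (G'.w k) ≫ (yon S).map (z₀ W)) ≫ v W := fun k => by
      rw [Category.assoc, ← τ.naturality, ← Category.assoc, (G'.sq k).w, Category.assoc, Category.assoc, (h₀ W).w]
    have hh : ∀ k : CategoryTheory.Over i₀, ∃ h : G'.E.obj k ⟶ F'.E.obj k,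
        (yon S).map h ≫ F'.q k = G'.q k ≫ τ.app k.left ∧ h ≫ F'.w k = G'.w k ≫ z₀ W := fun k => by
      obtain ⟨h, hh⟩ := (yon S).map_surjective ((F'.sq k).lift _ _ (eh k))
      refine ⟨h, by rw [hh, (F'.sq k).lift_fst], (yon S).map_injective ?_⟩
      rw [Functor.map_comp, hh, (F'.sq k).lift_snd, Functor.map_comp]
    choose h hh1 hh2 using hh
    have eL : (G'.qLim ≫ g) ≫ cY.π.app i₀ = ((yon S).map G'.wLim ≫ (yon S).map (z₀ W)) ≫ v W := by
      rw [Category.assoc, hg, ← Category.assoc, G'.sqLim.w, Category.assoc, Category.assoc, (h₀ W).w]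
    obtain ⟨hinf, hinf'⟩ := (yon S).map_surjective (F'.sqLim.lift _ _ eL)
    have hi1 : (yon S).map hinf ≫ F'.qLim = G'.qLim ≫ g := by rw [hinf', F'.sqLim.lift_fst]
    have hi2 : hinf ≫ F'.wLim = G'.wLim ≫ z₀ W := (yon S).map_injective (by
      rw [Functor.map_comp, hinf', F'.sqLim.lift_snd, Functor.map_comp])
    refine ⟨hinf, isPullback_frames (hg i₀).symm (h₀ W) G'.sqLim F'.sqLim hi1
      (by rw [← Functor.map_comp, hi2, Functor.map_comp]), ?_⟩
    haveI : ∀ {k l : CategoryTheory.Over i₀} (φ : k ⟶ l), IsAffineHom ((F'.E ⋙ Over.forget S).map φ) :=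
      fun φ => F'.affine φ
    haveI : ∀ k, IsAffine ((F'.E ⋙ Over.forget S).obj k) := fun k =>
      haveI := F'.affine_w k
      isAffine_of_isAffineHom (F'.w k).left
    haveI : ∀ k, IsAffine ((G'.E ⋙ Over.forget S).obj k) := fun k =>
      haveI := G'.affine_w k
      isAffine_of_isAffineHom (G'.w k).left
    haveI : IsAffine F'.cone.pt.left := Scheme.isAffine_of_isLimit _ F'.isLimit
    haveI : IsAffine G'.cone.pt.left := Scheme.isAffine_of_isLimit _ G'.isLimit
    have hw : ∀ k, hinf ≫ F'.cone.π.app k = G'.cone.π.app k ≫ h k := fun k =>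
      (yon S).map_injective ((F'.sq k).hom_ext
        (by
          rw [Functor.map_comp, Category.assoc, ← F'.qLim_π, ← Category.assoc, hi1, Category.assoc, hg,
            Functor.map_comp, Category.assoc, hh1, ← Category.assoc ((yon S).map _), ← G'.qLim_π, Category.assoc])
        (by rw [← Functor.map_comp, ← Functor.map_comp, Category.assoc, F'.π_w, hi2, Category.assoc, hh2,
          ← Category.assoc, G'.π_w]))
    refine (HasAffineProperty.iff_of_isAffine (P := @IsClosedImmersion)).mpr ⟨inferInstance, fun x => ?_⟩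
    obtain ⟨k, t, ht⟩ := exists_appTop_π_eq_of_isAffine_of_isLimit (G'.E ⋙ Over.forget S) _ G'.isLimit x
    haveI : IsClosedImmersion (h k).left := (hτ k.left).2 _ _ _ (isPullback_frames (τ.naturality k.hom)
      (h₀ W) (G'.sq k) (F'.sq k) (hh1 k) (by rw [← Functor.map_comp, hh2, Functor.map_comp]))
    haveI : IsAffine (F'.E.obj k).left := inferInstanceAs (IsAffine ((F'.E ⋙ Over.forget S).obj k))
    obtain ⟨s, rfl⟩ := ((HasAffineProperty.iff_of_isAffine (P := @IsClosedImmersion)).mp ‹IsClosedImmersion (h k).left›).2 t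
    refine ⟨(F'.cone.π.app k).left.appTop s, ?_⟩
    rw [← ht]
    have e := congrArg (fun m : G'.cone.pt.left ⟶ (F'.E.obj k).left => m.appTop s)
      (congrArg CommaMorphism.left (hw k))
    simp only [Over.comp_left, Scheme.Hom.comp_appTop, CommRingCat.comp_apply] at e
    exact e
  choose h hsq hcl using key
  refine repWith_of_fpqc_affine (fun k (hk : IsClosedImmersion k) => inferInstance) hXpt hYpt hsq
    (isFpqcCover_of_fppf hYpt (fun _ => IsAlgSpace.yon_obj _) (fun W => ?_) (fun W => ?_) (fun y => ?_))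
    (fun W => repWith_yon_map (hcl W))
  · obtain ⟨e1, e2⟩ := isEtLocal_of_list.{u} @Flat (.inr <| .inr <| .inl rfl)
    exact locP_of_repWith (repWith_mono (fun _ _ g (hg : Etale g) => inferInstanceAs (Flat g))
      (repWith_of_isPullback (F W).some.sqLim.flip (hv W)))
  · obtain ⟨e1, e2⟩ := isEtLocal_of_list.{u} @LocallyOfFinitePresentation (.inr <| .inl rfl)
    exact locP_of_repWith (repWith_mono (fun _ _ g (hg : Etale g) => inferInstanceAs (LocallyOfFinitePresentation g))
      (repWith_of_isPullback (F W).some.sqLim.flip (hv W)))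
  · obtain ⟨z, hz⟩ := surjective_map_of_repWith hps (Points.map (cY.π.app i₀) y)
    obtain ⟨x, rfl⟩ := (Points.schemeHomeo U).surjective z
    obtain ⟨W, hW, hxW, -⟩ := exists_isAffineOpen_mem_and_subset (x := x) (U := (⊤ : U.left.Opens)) (by simp)
    obtain ⟨q, hq1, -⟩ := points_exists_of_isPullback (F ⟨W, hW⟩).some.sqLim y
      (Points.schemeHomeo (V ⟨W, hW⟩) ⟨x, hxW⟩) (by
        rw [← hz]
        exact map_frame_point p (vi ⟨W, hW⟩) ⟨x, hxW⟩)
    exact ⟨⟨W, hW⟩, q, hq1⟩

variable [QuasiSeparatedSpace ↥S] {I : Type u} [SmallCategory I] [IsCofiltered I]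
  (D : I ⥤ Sp S) (hD : ∀ i, IsAlgSpace (D.obj i)) (hDa : ∀ (i j : I) (φ : i ⟶ j), IsAffineMor (D.map φ))
  (hqc : ∀ i, IsQuasiCompactSp (D.obj i)) (hqs : ∀ i, IsQuasiSeparatedSp (D.obj i))
  (c : Cone D) (hc : IsLimit c)

include hD hDa hqc hqs hc

/-- A quasi-compact open of the limit comes from a stage. -/
theorem exists_open_stage (U : Sp S) (j : U ⟶ c.pt) (hj : RepWith @IsOpenImmersion j) (hU : IsQuasiCompactSp U) :
    ∃ (i : I) (Ui : Sp S) (ji : Ui ⟶ D.obj i) (q : U ⟶ Ui),
      RepWith @IsOpenImmersion ji ∧ IsQuasiCompactSp Ui ∧ IsPullback j q (c.π.app i) ji := by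
  obtain ⟨i₀⟩ := IsCofiltered.nonempty (C := I)
  obtain ⟨hXpt, hπ⟩ := isAlgSpace_limit_and_isAffineMor D hD hDa c hc
  obtain ⟨-, hXqs⟩ := qcqs_of_isAffineMor hXpt (hD i₀) (hπ i₀) (hqc i₀) (hqs i₀)
  haveI := compactSpace_of_isQuasiCompactSp (hqc i₀)
  obtain ⟨V, v, hV, hv, hvs⟩ := exists_affine_chart (hD i₀)
  haveI := hV
  obtain ⟨F⟩ := exists_frame D hD hDa c hc i₀ v
  haveI : ∀ {k l : CategoryTheory.Over i₀} (φ : k ⟶ l), IsAffineHom ((F.E ⋙ Over.forget S).map φ) :=
    fun φ => F.affine φ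
  haveI : ∀ k, IsAffine ((F.E ⋙ Over.forget S).obj k) := fun k =>
    haveI := F.affine_w k
    isAffine_of_isAffineHom (F.w k).left
  haveI : IsAffine F.cone.pt.left := Scheme.isAffine_of_isLimit _ F.isLimit
  haveI : IsAffineHom (F.wLim).left := inferInstance
  -- the trace of `U` on the chart of the limit
  have sO := hj.1.isPullback F.qLim
  haveI : IsOpenImmersion (hj.1.snd F.qLim).left := hj.2 _ _ _ sO
  have hOqc := isQuasiCompactSp_of_isPullback sO hU hXqs (qcqs_yon_of_affine F.cone.pt)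
  haveI := compactSpace_of_isQuasiCompactSp hOqc
  haveI : CompactSpace ↥(hj.1.pullback F.qLim).left := (Points.schemeHomeo _).symm.compactSpace
  let O : F.cone.pt.left.Opens := (hj.1.snd F.qLim).left.opensRange
  have hO : IsCompact (O : Set ↥F.cone.pt.left) := isCompact_range (hj.1.snd F.qLim).left.continuous
  have hOmem : ∀ e, e ∈ O ↔ Points.map F.qLim (Points.schemeHomeo _ e) ∈ Set.range (Points.map j) := fun e => by
    constructor
    · rintro ⟨z, rfl⟩
      refine ⟨Points.map (hj.1.fst F.qLim) (Points.schemeHomeo _ z), ?_⟩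
      erw [map_frame_point F.qLim (hj.1.snd F.qLim) z]
      rw [← Points.map_comp, sO.w]
    · rintro ⟨y, hy⟩
      obtain ⟨z, -, hz⟩ := points_exists_of_isPullback sO y _ hy
      obtain ⟨z, rfl⟩ := (Points.schemeHomeo _).surjective z
      rw [Points.map_yon_map_apply] at hz
      exact ⟨z, (Points.schemeHomeo _).injective hz⟩
  obtain ⟨k₀, O₀, hO₀, hOeq⟩ := exists_preimage_eq (F.E ⋙ Over.forget S) _ F.isLimit O hO
  -- the relation
  haveI hRep : Representable v := hv.1
  let r1 := hRep.snd v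
  obtain ⟨r0, hr0⟩ := (yon S).map_surjective (hRep.fst v)
  have sR₀ : IsPullback ((yon S).map r0) ((yon S).map r1) v v := by rw [hr0]; exact hRep.isPullback v
  haveI : CompactSpace ↥(hRep.pullback v).left := by
    haveI := compactSpace_of_isQuasiCompactSp (isQuasiCompactSp_of_isPullback sR₀ (qcqs_yon_of_affine V) (hqs i₀)
      (qcqs_yon_of_affine V))
    exact (Points.schemeHomeo _).symm.compactSpace
  obtain ⟨R⟩ := exists_frame D hD hDa c hc i₀ ((yon S).map r0 ≫ v)
  have hP : ∀ (r : hRep.pullback v ⟶ V) (_ : (yon S).map r ≫ v = (yon S).map r0 ≫ v),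
      ∃ (pk : ∀ k, R.E.obj k ⟶ F.E.obj k) (pL : R.cone.pt ⟶ F.cone.pt),
        (∀ k, (yon S).map (pk k) ≫ F.q k = R.q k) ∧ (∀ k, pk k ≫ F.w k = R.w k ≫ r) ∧
        (yon S).map pL ≫ F.qLim = R.qLim ∧ (∀ k, pL ≫ F.cone.π.app k = R.cone.π.app k ≫ pk k) ∧
        (∀ ⦃k l⦄ (φ : k ⟶ l), R.E.map φ ≫ pk l = pk k ≫ F.E.map φ) := by
    intro r er
    have e : ∀ k : CategoryTheory.Over i₀, R.q k ≫ D.map k.hom = ((yon S).map (R.w k) ≫ (yon S).map r) ≫ v := fun k => by
      rw [(R.sq k).w, Category.assoc, er]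
    have hh : ∀ k, ∃ p : R.E.obj k ⟶ F.E.obj k, (yon S).map p ≫ F.q k = R.q k ∧ p ≫ F.w k = R.w k ≫ r := fun k => by
      obtain ⟨p, hp⟩ := (yon S).map_surjective ((F.sq k).lift _ _ (e k))
      refine ⟨p, by rw [hp, (F.sq k).lift_fst], (yon S).map_injective ?_⟩
      rw [Functor.map_comp, hp, (F.sq k).lift_snd, Functor.map_comp]
    choose pk h1 h2 using hh
    have eL : R.qLim ≫ c.π.app i₀ = ((yon S).map R.wLim ≫ (yon S).map r) ≫ v := by
      rw [R.sqLim.w, Category.assoc, er]
    obtain ⟨pL, hpL⟩ := (yon S).map_surjective (F.sqLim.lift _ _ eL)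
    have h3 : (yon S).map pL ≫ F.qLim = R.qLim := by rw [hpL, F.sqLim.lift_fst]
    have h4 : pL ≫ F.wLim = R.wLim ≫ r := (yon S).map_injective (by
      rw [Functor.map_comp, hpL, F.sqLim.lift_snd, Functor.map_comp])
    refine ⟨pk, pL, h1, h2, h3, fun k => (yon S).map_injective ((F.sq k).hom_ext ?_ ?_), fun k l φ =>
      (yon S).map_injective ((F.sq l).hom_ext ?_ ?_)⟩
    · rw [Functor.map_comp, Category.assoc, ← F.qLim_π, ← Category.assoc, h3, R.qLim_π, Functor.map_comp,
        Category.assoc, h1]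
    · rw [← Functor.map_comp, ← Functor.map_comp, Category.assoc, F.π_w, h4, Category.assoc, h2, ← Category.assoc,
        R.π_w]
    · rw [Functor.map_comp, Category.assoc, h1, R.map_q, Functor.map_comp, Category.assoc, F.map_q,
        ← Category.assoc, h1]
    · rw [← Functor.map_comp, ← Functor.map_comp, Category.assoc, h2, Category.assoc, F.map_w, h2,
        ← Category.assoc, R.map_w]
  obtain ⟨p, pL, hp1, hp2, hpL, hpπ, hpn⟩ := hP r0 rfl
  obtain ⟨p', pL', hp1', hp2', hpL', hpπ', hpn'⟩ := hP r1 sR₀.w.symm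
  haveI : ∀ {k l : CategoryTheory.Over i₀} (φ : k ⟶ l), IsAffineHom ((R.E ⋙ Over.forget S).map φ) :=
    fun φ => R.affine φ
  haveI : ∀ k, CompactSpace ((R.E ⋙ Over.forget S).obj k) := fun k =>
    haveI := R.affine_w k
    QuasiCompact.compactSpace_of_compactSpace (R.w k).left
  haveI : QuasiSeparatedSpace ↥(hRep.pullback v).left := by
    let m : (hRep.pullback v).left ⟶ pullback (terminal.from V.left) (terminal.from V.left) :=
      pullback.lift r0.left r1.left (terminal.hom_ext _ _)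
    haveI : Mono m := ⟨fun {T} a b e => by
      have e0 : a ≫ r0.left = b ≫ r0.left := by simpa [m] using congrArg (· ≫ pullback.fst _ _) e
      have e1 : a ≫ r1.left = b ≫ r1.left := by simpa [m] using congrArg (· ≫ pullback.snd _ _) e
      let a' : Over.mk (a ≫ (hRep.pullback v).hom) ⟶ hRep.pullback v := Over.homMk a rfl
      let b' : Over.mk (a ≫ (hRep.pullback v).hom) ⟶ hRep.pullback v := Over.homMk b (by
        change b ≫ _ = a ≫ _
        rw [← Over.w r0, ← Category.assoc, ← Category.assoc, e0])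
      have h : (yon S).map a' = (yon S).map b' := sR₀.hom_ext
        (by rw [← Functor.map_comp, ← Functor.map_comp]; exact congrArg _ (Over.OverMorphism.ext e0))
        (by rw [← Functor.map_comp, ← Functor.map_comp]; exact congrArg _ (Over.OverMorphism.ext e1))
      exact congrArg CommaMorphism.left ((yon S).map_injective h)⟩
    haveI : IsSeparated m := inferInstance
    exact quasiSeparatedSpace_of_quasiSeparated m
  haveI : ∀ k, QuasiSeparatedSpace ((R.E ⋙ Over.forget S).obj k) := fun k =>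
    haveI := R.affine_w k
    quasiSeparatedSpace_of_quasiSeparated (R.w k).left
  let A : ((R.E ⋙ Over.forget S).obj k₀).Opens := (p k₀).left ⁻¹ᵁ O₀
  let A' : ((R.E ⋙ Over.forget S).obj k₀).Opens := (p' k₀).left ⁻¹ᵁ O₀
  haveI hRc : CompactSpace ↥(R.E.obj k₀).left := inferInstanceAs (CompactSpace ↥((R.E ⋙ Over.forget S).obj k₀))
  haveI hFa : IsAffine (F.E.obj k₀).left := inferInstanceAs (IsAffine ((F.E ⋙ Over.forget S).obj k₀))
  haveI : QuasiCompact (p k₀).left := quasiCompact_of_compactSpace _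
  haveI : QuasiCompact (p' k₀).left := quasiCompact_of_compactSpace _
  have hA : IsCompact (A : Set ↥((R.E ⋙ Over.forget S).obj k₀)) := (p k₀).left.isCompact_preimage hO₀
  have hA' : IsCompact (A' : Set ↥((R.E ⋙ Over.forget S).obj k₀)) := (p' k₀).left.isCompact_preimage hO₀
  have hAA : ((Over.forget S).mapCone R.cone).π.app k₀ ⁻¹' (A : Set ↥((R.E ⋙ Over.forget S).obj k₀)) =
      ((Over.forget S).mapCone R.cone).π.app k₀ ⁻¹' (A' : Set ↥((R.E ⋙ Over.forget S).obj k₀)) := by
    ext e
    change (p k₀).left ((R.cone.π.app k₀).left e) ∈ O₀ ↔ (p' k₀).left ((R.cone.π.app k₀).left e) ∈ O₀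
    rw [← Scheme.Hom.comp_apply, ← Scheme.Hom.comp_apply, ← Over.comp_left, ← Over.comp_left, ← hpπ, ← hpπ',
      Over.comp_left, Over.comp_left, Scheme.Hom.comp_apply, Scheme.Hom.comp_apply]
    change pL.left e ∈ ((Over.forget S).mapCone F.cone).π.app k₀ ⁻¹ᵁ O₀ ↔
      pL'.left e ∈ ((Over.forget S).mapCone F.cone).π.app k₀ ⁻¹ᵁ O₀
    rw [hOeq, hOmem, hOmem, map_frame_point, map_frame_point, hpL, hpL']
  obtain ⟨k₁, φ₁, h₁⟩ := AffLim.exists_preimage_subset_open (R.E ⋙ Over.forget S) _ R.isLimit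
    (hA.isConstructible A.2) A' hAA.subset
  obtain ⟨k₂, φ₂, h₂⟩ := AffLim.exists_preimage_subset_open (R.E ⋙ Over.forget S) _ R.isLimit
    (hA'.isConstructible A'.2) A hAA.superset
  obtain ⟨l, a1, a2, ea⟩ := IsCofiltered.cospan φ₁ φ₂
  let ψ := a1 ≫ φ₁
  let Ol : ((F.E ⋙ Over.forget S).obj l).Opens := (F.E ⋙ Over.forget S).map ψ ⁻¹ᵁ O₀
  haveI : QuasiCompact ((F.E ⋙ Over.forget S).map ψ) := inferInstance
  have hOl : IsCompact (Ol : Set ↥((F.E ⋙ Over.forget S).obj l)) := ((F.E ⋙ Over.forget S).map ψ).isCompact_preimage hO₀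
  have hsat : ∀ r : ↥(R.E.obj l).left, (p l).left r ∈ Ol ↔ (p' l).left r ∈ Ol := fun r => by
    have e : ∀ (q : ∀ k, R.E.obj k ⟶ F.E.obj k) (_ : ∀ ⦃k l⦄ (φ : k ⟶ l), R.E.map φ ≫ q l = q k ≫ F.E.map φ)
        (φ : l ⟶ k₀), (F.E.map φ).left ((q l).left r) = (q k₀).left ((R.E.map φ).left r) := fun q hq φ => by
      rw [← Scheme.Hom.comp_apply, ← Over.comp_left, ← hq]
      rfl
    change (F.E.map ψ).left ((p l).left r) ∈ O₀ ↔ (F.E.map ψ).left ((p' l).left r) ∈ O₀
    rw [e p hpn, e p' hpn']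
    constructor
    · intro hr
      have := h₁ (a := (R.E.map a1).left r) (by
        change (p k₀).left ((R.E.map φ₁).left ((R.E.map a1).left r)) ∈ O₀
        rw [← Scheme.Hom.comp_apply (R.E.map a1).left, ← Over.comp_left, ← R.E.map_comp]
        exact hr)
      change (p' k₀).left ((R.E.map φ₁).left ((R.E.map a1).left r)) ∈ O₀ at this
      rwa [← Scheme.Hom.comp_apply (R.E.map a1).left, ← Over.comp_left, ← R.E.map_comp] at this
    · intro hr
      rw [show ψ = a2 ≫ φ₂ from ea] at hr ⊢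
      have := h₂ (a := (R.E.map a2).left r) (by
        change (p' k₀).left ((R.E.map φ₂).left ((R.E.map a2).left r)) ∈ O₀
        rw [← Scheme.Hom.comp_apply (R.E.map a2).left, ← Over.comp_left, ← R.E.map_comp]
        exact hr)
      change (p k₀).left ((R.E.map φ₂).left ((R.E.map a2).left r)) ∈ O₀ at this
      rwa [← Scheme.Hom.comp_apply (R.E.map a2).left, ← Over.comp_left, ← R.E.map_comp] at this
  -- the open of the stage
  let f : ↥(F.E.obj l).left → Points (D.obj l.left) := fun e => Points.map (F.q l) (Points.schemeHomeo _ e)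
  have hfo : IsOpenMap f := (isOpenMap_map_of_etale (repWith_of_isPullback (F.sq l).flip hv)).comp
    (Points.schemeHomeo _).isOpenMap
  have hfc : Continuous f := (Points.continuous_map _).comp (Points.schemeHomeo _).continuous
  let W : Set (Points (D.obj l.left)) := f '' (Ol : Set ↥((F.E ⋙ Over.forget S).obj l))
  have hWo : IsOpen W := hfo _ Ol.2
  obtain ⟨Ul, jl, hjl, hrange⟩ := S10195.result ⟨D.obj l.left, hD _⟩ W hWo
  have hUlc : IsQuasiCompactSp Ul.obj := by
    haveI : CompactSpace (Points Ul.obj) := by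
      have he := (isEmbedding_of_immersion (hD l.left) (repWith_mono
        (fun _ _ g (hg : IsOpenImmersion g) => inferInstanceAs (IsImmersion g)) hjl)).1
      exact ⟨he.isCompact_iff.2 (by rw [Set.image_univ, hrange]; exact hOl.image hfc)⟩
    exact isQuasiCompactSp_of_compactSpace Ul.property
  -- the preimage of `W` is the given open
  have hWW : Points.map (c.π.app l.left) ⁻¹' W = Set.range (Points.map j) := by
    ext x
    obtain ⟨e, rfl⟩ := surjective_map_of_repWith (repWith_of_isPullback F.sqLim.flip hvs) x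
    obtain ⟨e, rfl⟩ := (Points.schemeHomeo _).surjective e
    rw [← hOmem, Set.mem_preimage]
    have e1 : Points.map (c.π.app l.left) (Points.map F.qLim (Points.schemeHomeo _ e)) =
        f ((F.cone.π.app l).left e) := by
      change _ = Points.map (F.q l) (Points.schemeHomeo _ ((F.cone.π.app l).left e))
      rw [← Points.map_comp, F.qLim_π, map_frame_point]
      rfl
    have e2 : e ∈ O ↔ (F.cone.π.app l).left e ∈ Ol := by
      rw [← hOeq]
      change (F.cone.π.app k₀).left e ∈ O₀ ↔ (F.E.map ψ).left ((F.cone.π.app l).left e) ∈ O₀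
      rw [← Scheme.Hom.comp_apply, ← Over.comp_left, F.cone.w]
      rfl
    rw [e1, e2]
    refine ⟨?_, fun h => ⟨_, h, rfl⟩⟩
    rintro ⟨e', he', hee⟩
    have sA : IsPullback ((yon S).map (p l)) ((yon S).map (R.w l)) ((yon S).map (F.w l)) ((yon S).map r0) := by
      refine IsPullback.of_right ?_ ?_ (F.sq l)
      · rw [hp1]; exact R.sq l
      · rw [← Functor.map_comp, ← Functor.map_comp, hp2]
    have sR : IsPullback ((yon S).map (p l)) ((yon S).map (p' l)) (F.q l) (F.q l) :=
      isPullback_frames (F.sq l).w.symm sR₀ sA (F.sq l) ((hp1' l).trans (hp1 l).symm)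
        (by rw [← Functor.map_comp, hp2', Functor.map_comp])
    obtain ⟨r, hr1, hr2⟩ := points_exists_of_isPullback sR _ _ hee
    obtain ⟨r, rfl⟩ := (Points.schemeHomeo _).surjective r
    rw [Points.map_yon_map_apply] at hr1 hr2
    rw [← (Points.schemeHomeo _).injective hr2]
    exact (hsat r).1 (by rw [(Points.schemeHomeo _).injective hr1]; exact he')
  -- conclusion
  have sU := IsPullback.of_hasPullback (c.π.app l.left) jl.hom
  have hU' : IsAlgSpace U := by
    obtain ⟨A, a, ha, has, -⟩ := hU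
    exact ⟨(haveI : Mono j := mono_of_repWith (fun g (hg : IsOpenImmersion g) => inferInstance) hj
      representable_diag_of_mono j hXpt.diag),
      A, a, ha, has⟩
  have hP' := isAlgSpace_pullback (hD l.left).diag hXpt Ul.property (c.π.app l.left) jl.hom
  have hPo : RepWith @IsOpenImmersion (pullback.fst (c.π.app l.left) jl.hom) :=
    repWith_of_isPullback sU.flip hjl
  have hPr : Set.range (Points.map (pullback.fst (c.π.app l.left) jl.hom)) = Set.range (Points.map j) := by
    rw [← hWW, ← hrange]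
    ext x
    constructor
    · rintro ⟨z, rfl⟩
      exact ⟨Points.map (pullback.snd _ _) z, by rw [← Points.map_comp, ← Points.map_comp, pullback.condition]⟩
    · rintro ⟨y, hy⟩
      obtain ⟨z, hz, -⟩ := points_exists_of_isPullback sU x y hy.symm
      exact ⟨z, hz⟩
  obtain ⟨α, hα⟩ := (S10194.result (X := ⟨c.pt, hXpt⟩) (X' := ⟨_, hP'⟩) (Y := ⟨U, hU'⟩)
    (ObjectProperty.homMk (pullback.fst (c.π.app l.left) jl.hom)) hPo (ObjectProperty.homMk j)).2 hPr.superset
  obtain ⟨β, hβ⟩ := (S10194.result (X := ⟨c.pt, hXpt⟩) (Y := ⟨_, hP'⟩) (X' := ⟨U, hU'⟩)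
    (ObjectProperty.homMk j) hj (ObjectProperty.homMk (pullback.fst (c.π.app l.left) jl.hom))).2 hPr.subset
  have hα' : α.hom ≫ pullback.fst (c.π.app l.left) jl.hom = j := congrArg InducedCategory.Hom.hom hα
  have hβ' : β.hom ≫ j = pullback.fst (c.π.app l.left) jl.hom := congrArg InducedCategory.Hom.hom hβ
  haveI : Mono j := mono_of_repWith (fun g (hg : IsOpenImmersion g) => inferInstance) hj
  haveI : Mono (pullback.fst (c.π.app l.left) jl.hom) :=
    mono_of_repWith (fun g (hg : IsOpenImmersion g) => inferInstance) hPo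
  haveI : IsIso α.hom := ⟨β.hom, by rw [← cancel_mono j, Category.assoc, hβ', hα', Category.id_comp],
    by rw [← cancel_mono (pullback.fst (c.π.app l.left) jl.hom), Category.assoc, hα', hβ', Category.id_comp]⟩
  refine ⟨l.left, Ul.obj, jl.hom, α.hom ≫ pullback.snd _ _, hjl, hUlc, ?_⟩
  exact IsPullback.of_iso sU (asIso α.hom).symm (Iso.refl _) (Iso.refl _) (Iso.refl _)
    (by simp [← hα']) (by simp) (by simp) (by simp)

end Groth.Agent.ASp
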