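import Groth.Agent.ASp.AffineLimRel
import Groth.Agent.ASp.LimOpen
import Groth.Agent.ASp.LqfRep
/-!
# If a limit of quasi-compact quasi-separated algebraic spaces is a scheme, so is a member
-/

set_option autoImplicit false
set_option backward.isDefEq.respectTransparency false
set_option backward.isDefEq.respectTransparency.types false

universe u

open CategoryTheory CategoryTheory.Limits AlgebraicGeometry Opposite

noncomputable section

namespace Groth.Agent.ASp

open _root_.AlgSp

attribute [local instance] CategoryTheory.isConnected_of_hasTerminal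

variable {S : Scheme.{u}} {I : Type u} [SmallCategory I] [IsCofiltered I] {D : I ⥤ Sp S}

/-- An open set of a member containing the image of the limit contains the image of a later member. -/
theorem exists_stage_range_subset (hD : ∀ i, IsAlgSpace (D.obj i))
    (hDa : ∀ (i j : I) (φ : i ⟶ j), IsAffineMor (D.map φ)) (c : Cone D) (hc : IsLimit c) (i : I)
    (hqc : IsQuasiCompactSp (D.obj i)) (W : Set (Points (D.obj i))) (hW : IsOpen W)
    (h : Set.range (Points.map (c.π.app i)) ⊆ W) :
    ∃ (j : I) (φ : j ⟶ i), Set.range (Points.map (D.map φ)) ⊆ W := by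
  haveI := compactSpace_of_isQuasiCompactSp hqc
  obtain ⟨U, p, hU, hp, hps⟩ := exists_affine_chart (hD i)
  haveI := hU
  obtain ⟨F⟩ := exists_frame D hD hDa c hc i p
  let E := F.E ⋙ Over.forget S
  haveI : ∀ k, IsAffine (E.obj k) := F.isAffine_stage
  haveI : ∀ {k l : CategoryTheory.Over i} (φ : k ⟶ l), IsAffineHom (E.map φ) := fun φ => F.affine φ
  haveI : ∀ k, CompactSpace (E.obj k) := fun k => inferInstance
  let o : CategoryTheory.Over i := Over.mk (𝟙 i)
  have hW' : IsOpen ((fun z => Points.map (F.q o) (Points.schemeHomeo (F.E.obj o) z)) ⁻¹' W) :=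
    hW.preimage ((Points.continuous_map (F.q o)).comp (Points.schemeHomeo (F.E.obj o)).continuous)
  obtain ⟨k, a, hk⟩ := exists_map_eq_top E ((Over.forget S).mapCone F.cone) F.isLimit (i := o)
    (⟨_, hW'⟩ : (E.obj o).Opens) (by
      rw [← top_le_iff]
      intro z _
      refine h ⟨Points.map F.qLim (Points.schemeHomeo F.cone.pt z), ?_⟩
      change _ = Points.map (F.q o) (Points.schemeHomeo (F.E.obj o) ((F.cone.π.app o).left z))
      rw [map_frame_point, ← Points.map_comp]
      exact congrArg (fun m => Points.map m (Points.schemeHomeo F.cone.pt z)) (F.qLim_π o))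
  refine ⟨k.left, k.hom, ?_⟩
  rintro _ ⟨y, rfl⟩
  obtain ⟨z, rfl⟩ := surjective_map_of_repWith (repWith_of_isPullback (F.sq k).flip hps) y
  obtain ⟨z, rfl⟩ := (Points.schemeHomeo (F.E.obj k)).surjective z
  have hz : Points.map (F.q o) (Points.schemeHomeo (F.E.obj o) ((F.E.map a).left z)) ∈ W :=
    hk.ge (trivial : z ∈ (⊤ : TopologicalSpace.Opens _))
  rw [map_frame_point, F.map_q] at hz
  have ha : a.left = k.hom := (Category.comp_id _).symm.trans (Over.w a)
  rw [ha] at hz
  rw [← Points.map_comp]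
  exact hz

variable [QuasiSeparatedSpace ↥S]

omit [IsCofiltered I] in
theorem qcqs_of_openImmersion {X U : Sp S} {j : U ⟶ X} (hj : RepWith @IsOpenImmersion j)
    (hXs : IsQuasiSeparatedSp X) : IsQuasiSeparatedSp U := by
  haveI : Mono j := mono_of_repWith (P := @IsOpenImmersion)
    (fun g hg => haveI : IsOpenImmersion g := hg; inferInstance) hj
  exact isQuasiSeparatedSp_of_mor (f := j) hXs (repWith_of_isIso (P := @QuasiCompact) (pullback.diagonal j))

theorem exists_scheme_member (hD : ∀ i, IsAlgSpace (D.obj i))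
    (hDa : ∀ (i j : I) (φ : i ⟶ j), IsAffineMor (D.map φ)) (hqc : ∀ i, IsQuasiCompactSp (D.obj i))
    (hqs : ∀ i, IsQuasiSeparatedSp (D.obj i)) (c : Cone D) (hc : IsLimit c) (T : Over S)
    (e : (yon S).obj T ≅ c.pt) :
    ∃ (i : I) (P : Over S), Nonempty ((yon S).obj P ≅ D.obj i) := by
  classical
  obtain ⟨hca, hπa⟩ := isAlgSpace_limit_and_isAffineMor D hD hDa c hc
  obtain ⟨i₀⟩ := IsCofiltered.nonempty (C := I)
  haveI : CompactSpace ↥T.left := by
    haveI := compactSpace_of_isQuasiCompactSp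
      (qcqs_of_isAffineMor hca (hD i₀) (hπa i₀) (hqc i₀) (hqs i₀)).1
    haveI : CompactSpace (Points ((yon S).obj T)) :=
      (Function.RightInverse.surjective (g := Points.map e.hom) (fun x => by
        rw [← Points.map_comp, Iso.hom_inv_id, Points.map_id])).compactSpace (Points.continuous_map e.inv)
    exact (Points.schemeHomeo T).symm.compactSpace
  obtain ⟨s, hs⟩ := isCompact_univ.elim_finite_subcover (fun z => Set.range (T.left.affineCover.f z))
    (fun z => (T.left.affineCover.f z).isOpenEmbedding.isOpen_range)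
    (fun x _ => Set.mem_iUnion.2 ⟨_, T.left.affineCover.covers x⟩)
  -- opens of the limit
  let Tm : s → Over S := fun z => Over.mk (T.left.affineCover.f z ≫ T.hom)
  let jm : ∀ z, (yon S).obj (Tm z) ⟶ c.pt := fun z =>
    (yon S).map (Over.homMk (T.left.affineCover.f z) rfl : Tm z ⟶ T) ≫ e.hom
  have hjm : ∀ z, RepWith @IsOpenImmersion (jm z) := fun z =>
    repWith_comp (repWith_yon_map (T.left.affineCover.map_prop _)) (repWith_of_isIso _)
  have hTa : ∀ z : s, IsAffine (Tm z).left := fun z => inferInstanceAs (IsAffine (T.left.affineCover.X z))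
  have hstage : ∀ z : s, ∃ (i : I) (Ui : Sp S) (ji : Ui ⟶ D.obj i) (q : (yon S).obj (Tm z) ⟶ Ui),
      RepWith @IsOpenImmersion ji ∧ IsQuasiCompactSp Ui ∧ IsPullback (jm z) q (c.π.app i) ji := fun z =>
    exists_open_stage D hD hDa hqc hqs c hc _ (jm z) (hjm z) (haveI := hTa z; isQuasiCompactSp_yon)
  choose i U ji q hji hUqc hsq using hstage
  -- affine stages of each open
  have haff : ∀ z : s, ∃ k : CategoryTheory.Over (i z), ∀ (m : CategoryTheory.Over (i z)) (_ : m ⟶ k),
      ∃ (Q : Over S) (f : (yon S).obj Q ⟶ D.obj m.left) (g : (yon S).obj Q ⟶ U z),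
        IsPullback f g (D.map m.hom) (ji z) := by
    intro z
    haveI := IsCofiltered.isConnected (CategoryTheory.Over (i z))
    let D' := CategoryTheory.Over.forget (i z) ⋙ D
    let t : D' ⟶ (Functor.const _).obj (D.obj (i z)) :=
      { app := fun k => D.map k.hom
        naturality := fun k l ψ => by
          change D.map ψ.left ≫ D.map l.hom = D.map k.hom ≫ 𝟙 _
          rw [Category.comp_id, ← D.map_comp, Over.w ψ] }
    obtain ⟨P, pr, sn, π, hP, ⟨hl⟩, hmap, hπ, hsn, -⟩ := exists_pullback_system D' t (ji z)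
      (c.whisker (CategoryTheory.Over.forget (i z))) ((Functor.Initial.isLimitWhiskerEquiv _ c).symm hc)
      (c.π.app (i z)) (fun k => c.w k.hom) (jm z) (q z) (hsq z)
    have hUa : IsAlgSpace (U z) := by
      obtain ⟨A, a, ha, has, -⟩ := hUqc z
      exact ⟨(haveI : Mono (ji z) := mono_of_repWith (fun g (hg : IsOpenImmersion g) => inferInstance) (hji z)
        representable_diag_of_mono (ji z) (hD _).diag), A, a, ha, has⟩
    have hPa : ∀ k, IsAlgSpace (P.obj k) := fun k =>
      isAlgSpace_of_isPullback (hD _).diag (hD k.left) hUa (hP k)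
    have hPq := fun k => qcqs_of_isAffineMor (hPa k) hUa (isAffineMor_baseChange (hP k) (hDa _ _ k.hom))
      (hUqc z) (qcqs_of_openImmersion (hji z) (hqs _))
    have hPda : ∀ k l (ψ : k ⟶ l), IsAffineMor (P.map ψ) := fun k l ψ =>
      isAffineMor_baseChange (hmap ψ).flip (hDa _ _ _)
    haveI := hTa z
    obtain ⟨k, hk⟩ := exists_affine_member hPa hPda (fun k => (hPq k).1) (fun k => (hPq k).2) ⟨_, π⟩ hl (Tm z)
      (Iso.refl _)
    refine ⟨k, fun m ψ => ?_⟩
    obtain ⟨Q, -, ⟨eQ⟩⟩ := affine_member_of_le hPda ψ hk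
    exact ⟨Q, eQ.hom ≫ pr.app m, eQ.hom ≫ sn m,
      (hP m).of_iso eQ.symm (Iso.refl _) (Iso.refl _) (Iso.refl _) (by simp) (by simp)
        (by simp [t]) (by simp)⟩
  choose k hk using haff
  -- a common stage
  obtain ⟨n₀, hn₀⟩ := IsCofiltered.inf_objs_exists (Finset.univ.image fun z => (k z).left)
  let ψ : ∀ z, n₀ ⟶ (k z).left := fun z =>
    (hn₀ (Finset.mem_image_of_mem (fun z => (k z).left) (Finset.mem_univ z))).some
  choose Q f g hQ using fun z => hk z (Over.mk (ψ z ≫ (k z).hom)) (Over.homMk (ψ z) rfl)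
  have hf : ∀ z, RepWith @IsOpenImmersion (f z) := fun z => repWith_of_isPullback (hQ z).flip (hji z)
  let W : Set (Points (D.obj n₀)) := ⋃ z, Set.range (Points.map (f z))
  have hW : IsOpen W := isOpen_iUnion fun z => by
    have he : RepWith @Etale (f z) :=
      repWith_mono (fun _ _ m (hm : IsOpenImmersion m) => inferInstanceAs (Etale m)) (hf z)
    exact (isOpenMap_map_of_etale he).isOpen_range
  obtain ⟨n, φ, hn⟩ := exists_stage_range_subset hD hDa c hc n₀ (hqc n₀) W hW (by
    rintro _ ⟨y, rfl⟩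
    obtain ⟨x, rfl⟩ := surjective_map_of_repWith (repWith_of_isIso (P := @Surjective) e.hom) y
    obtain ⟨x, rfl⟩ := (Points.schemeHomeo T).surjective x
    obtain ⟨z, hzs, v, rfl⟩ := Set.mem_iUnion₂.1 (hs (Set.mem_univ x))
    refine Set.mem_iUnion.2 ⟨⟨z, hzs⟩, ?_⟩
    rw [range_map_snd (hQ ⟨z, hzs⟩).flip]
    refine ⟨Points.map (q ⟨z, hzs⟩) (Points.schemeHomeo _ v), ?_⟩
    rw [← Points.map_comp, ← (hsq ⟨z, hzs⟩).w, ← Points.map_comp, ← Points.map_comp]
    have hcw : c.π.app n₀ ≫ D.map (ψ ⟨z, hzs⟩ ≫ (k ⟨z, hzs⟩).hom) = c.π.app (i ⟨z, hzs⟩) := c.w _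
    rw [show (Over.mk (ψ ⟨z, hzs⟩ ≫ (k ⟨z, hzs⟩).hom)).hom = ψ ⟨z, hzs⟩ ≫ (k ⟨z, hzs⟩).hom from rfl, hcw]
    rw [Points.map_comp (jm ⟨z, hzs⟩)]
    refine (congrArg (Points.map (c.π.app (i ⟨z, hzs⟩))) ?_).trans (Points.map_comp _ _ _).symm
    simp only [jm, Points.map_comp, Points.map_yon_map_apply]
    rfl)
  -- the opens at the final stage
  have hfin : ∀ z, ∃ (R : Over S) (f' : (yon S).obj R ⟶ D.obj n), RepWith @IsOpenImmersion f' ∧
      Set.range (Points.map f') = Points.map (D.map φ) ⁻¹' Set.range (Points.map (f z)) := fun z => by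
    obtain ⟨R, a, b, sqR⟩ : ∃ (R : Over S) (a : R ⟶ Q z) (b : (yon S).obj R ⟶ D.obj n),
        IsPullback b ((yon S).map a) (D.map φ) (f z) :=
      ⟨_, _, _, (repWith_isAffineHom_of_isAffineMor (hD _) (hD _) (hDa _ _ φ)).1.isPullback (f z)⟩
    exact ⟨R, b, repWith_of_isPullback sqR.flip (hf z), range_map_snd sqR.flip⟩
  choose R f' hf' hr using hfin
  obtain ⟨P, hP⟩ := exists_scheme_of_openCover (hD n) (fun z : s => R z) f' hf' (fun y => by
    obtain ⟨z, hz⟩ := Set.mem_iUnion.1 (hn ⟨y, rfl⟩)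
    exact ⟨z, (hr z).ge hz⟩)
  exact ⟨n, P, hP⟩

end Groth.Agent.ASp
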