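import Groth.Agent.ASp.FieldDesc
import Groth.Agent.ASp.SchemeLim
import Groth.Agent.ASp.LimDerived
import Groth.Agent.PropPi1.LimBC
import Mathlib.CategoryTheory.Limits.Connected
/-!
A finitely generated stage at which an algebraic space over a field is already a scheme.
-/

set_option autoImplicit false
set_option linter.style.haveILetI false
set_option backward.isDefEq.respectTransparency false
set_option backward.isDefEq.respectTransparency.types false

universe u

open CategoryTheory CategoryTheory.Limits AlgebraicGeometry Opposite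

namespace Groth.Agent.ASp.FieldDesc

open _root_.AlgSp Groth.Agent.ASp

attribute [local instance] CategoryTheory.isConnected_of_hasTerminal

variable (k : Type u) [Field k]

/-- An algebra as an object over the base field. -/
noncomputable abbrev extR (A : Type u) [CommRing A] [Algebra k A] : Over (Spec (CommRingCat.of k)) :=
  Over.mk (Spec.map (CommRingCat.ofHom (algebraMap k A)))

variable {k}

/-- The map of bases given by an algebra map. -/
noncomputable abbrev extMap {A B : Type u} [CommRing A] [Algebra k A] [CommRing B] [Algebra k B] (a : A →ₐ[k] B) :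
    extR k B ⟶ extR k A :=
  Over.homMk (Spec.map (CommRingCat.ofHom a.toRingHom)) ((Spec.map_comp _ _).symm.trans
    (congrArg Spec.map (CommRingCat.hom_ext a.comp_algebraMap)))

variable {S : Scheme.{u}}

theorem isPullback_prod_map (X : Sp S) {C C' : Over S} (c : C' ⟶ C) :
    IsPullback (prod.map (𝟙 X) ((yon S).map c)) (prod.snd : X ⨯ (yon S).obj C' ⟶ _) prod.snd ((yon S).map c) := by
  refine IsPullback.of_isLimit' ⟨by simp⟩ (PullbackCone.IsLimit.mk _ (fun s => prod.lift (s.fst ≫ prod.fst) s.snd)
    (fun s => ?_) (fun s => by simp) (fun s m h1 h2 => ?_))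
  · ext
    · simp
    · simp [s.condition]
  · ext
    · simp [← h1]
    · simp [← h2]

/-- Base change of a scheme model along a map of bases. -/
theorem exists_iso_baseChange {X : Sp S} {C C' P : Over S} (c : C' ⟶ C)
    (eP : (yon S).obj P ≅ X ⨯ (yon S).obj C) :
    ∃ T : Over S, Nonempty ((yon S).obj T ≅ X ⨯ (yon S).obj C') := by
  obtain ⟨d, hd⟩ := (yon S).map_surjective (eP.hom ≫ prod.snd)
  have sq : IsPullback (prod.map (𝟙 X) ((yon S).map c) ≫ eP.inv) (prod.snd : X ⨯ (yon S).obj C' ⟶ _)
      ((yon S).map d) ((yon S).map c) :=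
    IsPullback.of_iso (isPullback_prod_map X c) (Iso.refl _) eP.symm (Iso.refl _) (Iso.refl _)
      (by simp) (by simp) (by simp [hd]) (by simp)
  have sq' := isPullback_yon_map (IsPullback.of_hasPullback d c)
  exact ⟨_, ⟨sq'.isoPullback ≪≫ sq.isoPullback.symm⟩⟩

/-- The induced map between scheme models is affine for an affine map of bases. -/
theorem exists_affine_map {X : Sp S} {C C' P T : Over S} (c : C' ⟶ C) [IsAffineHom c.left]
    (eP : (yon S).obj P ≅ X ⨯ (yon S).obj C) (e : (yon S).obj T ≅ X ⨯ (yon S).obj C') :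
    ∃ m : T ⟶ P, (yon S).map m ≫ eP.hom = e.hom ≫ prod.map (𝟙 X) ((yon S).map c) ∧ IsAffineHom m.left := by
  obtain ⟨m, hm⟩ := (yon S).map_surjective (e.hom ≫ prod.map (𝟙 X) ((yon S).map c) ≫ eP.inv)
  obtain ⟨d, hd⟩ := (yon S).map_surjective (eP.hom ≫ prod.snd)
  obtain ⟨d', hd'⟩ := (yon S).map_surjective (e.hom ≫ prod.snd)
  refine ⟨m, by simp [hm], ?_⟩
  have sq : IsPullback ((yon S).map m) ((yon S).map d') ((yon S).map d) ((yon S).map c) :=
    IsPullback.of_iso (isPullback_prod_map X c) e.symm eP.symm (Iso.refl _) (Iso.refl _)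
      (by simp [hm]) (by simp [hd']) (by simp [hd]) (by simp)
  exact MorphismProperty.of_isPullback (P := @IsAffineHom) (isPullback_left (isPullback_of_yon_map sq)).flip ‹_›

theorem repWith_prod_map_affine (X : Sp S) {C C' : Over S} (c : C' ⟶ C) [IsAffineHom c.left] :
    RepWith @IsAffineHom (prod.map (𝟙 X) ((yon S).map c)) :=
  repWith_of_isPullback (isPullback_prod_map X c).flip (repWith_yon_map ‹_›)

theorem isAlgSpace_prod {X : Sp (Spec (CommRingCat.of k))} (hX : IsAlgSpace X) (C : Over (Spec (CommRingCat.of k))) :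
    IsAlgSpace (X ⨯ (yon _).obj C) :=
  isAlgSpace_of_isPullback (IsAlgSpace.yon_obj (base k)).diag hX (IsAlgSpace.yon_obj C)
    (IsPullback.of_is_product' (prodIsProd _ _) isTerminalYonBase)

theorem isAffineMor_fst {X : Sp (Spec (CommRingCat.of k))} (A : Type u) [CommRing A] [Algebra k A] :
    IsAffineMor (prod.fst : X ⨯ (yon _).obj (extR k A) ⟶ X) := by
  let c : extR k A ⟶ base k := Over.homMk (Spec.map (CommRingCat.ofHom (algebraMap k A))) (Category.comp_id _)
  haveI : IsAffineHom c.left := inferInstanceAs (IsAffineHom (Spec.map _))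
  have h : RepWith @IsAffineHom ((yon (Spec (CommRingCat.of k))).map c) := repWith_yon_map ‹_›
  rw [isTerminalYonBase.hom_ext ((yon _).map c) (isTerminalYonBase.from _)] at h
  exact isAffineMor_of_repWith (fun _ hk => hk)
    (repWith_of_isPullback (IsPullback.of_is_product' (prodIsProd _ _) isTerminalYonBase).flip h)

/-- Multiplication with a fixed object keeps a connected limit a limit. -/
theorem nonempty_isLimit_prodCone {J : Type u} [SmallCategory J] [IsConnected J] (X : Sp S) {F : J ⥤ Sp S}
    {c : Cone F} (hc : IsLimit c) : Nonempty (IsLimit ((prod.functor.obj X).mapCone c)) := by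
  obtain ⟨j₀⟩ := (inferInstance : Nonempty J)
  let sc : ∀ s : Cone (F ⋙ prod.functor.obj X), Cone F := fun s =>
    { pt := s.pt
      π :=
        { app := fun j => s.π.app j ≫ prod.snd
          naturality := fun i j f => by
            simpa using ((s.w f) =≫ (prod.snd : X ⨯ F.obj j ⟶ _)).symm } }
  have hconst : ∀ (s : Cone (F ⋙ prod.functor.obj X)) (j : J),
      s.π.app j ≫ (prod.fst : X ⨯ F.obj j ⟶ X) = s.π.app j₀ ≫ prod.fst := fun s j =>
    constant_of_preserves_morphisms (fun j => s.π.app j ≫ (prod.fst : X ⨯ F.obj j ⟶ X))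
      (fun i j f => by simpa using ((s.w f) =≫ (prod.fst : X ⨯ F.obj j ⟶ _))) j j₀
  refine ⟨{ lift := fun s => prod.lift (s.π.app j₀ ≫ prod.fst) (hc.lift (sc s)), fac := fun s j => ?_, uniq := fun s m hm => ?_ }⟩
  · apply prod.hom_ext
    · simp [hconst s j]
    · simp [sc]
  · apply prod.hom_ext
    · simp [← hm j₀]
    · refine hc.hom_ext fun j => ?_
      simp [sc, ← hm j]

/-- A finitely generated algebra has a point in an algebraically closed field. -/
theorem nonempty_algHom (A : Type u) [CommRing A] [Algebra k A] [Algebra.FiniteType k A] [Nontrivial A]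
    (kb : Type u) [Field kb] [Algebra k kb] [IsAlgClosed kb] : Nonempty (A →ₐ[k] kb) := by
  obtain ⟨m, hm⟩ := Ideal.exists_maximal A
  haveI := hm
  letI : Field (A ⧸ m) := Ideal.Quotient.field m
  haveI : Module.Finite k (A ⧸ m) := finite_of_finite_type_of_isJacobsonRing k _
  haveI : Algebra.IsAlgebraic k (A ⧸ m) := Algebra.IsAlgebraic.of_finite k _
  exact ⟨(IsAlgClosed.lift : (A ⧸ m) →ₐ[k] kb).comp (Ideal.Quotient.mkₐ k m)⟩

/-- If a quasi-compact quasi-separated space becomes a scheme over a field extension, it does so over a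
finitely generated subalgebra. -/
theorem exists_scheme_stage {X : Sp (Spec (CommRingCat.of k))} (hX : IsAlgSpace X) (hqc : IsQuasiCompactSp X)
    (hqs : IsQuasiSeparatedSp X) (K : Type u) [Field K] [Algebra k K] {T : Over (Spec (CommRingCat.of k))}
    (e : (yon _).obj T ≅ X ⨯ (yon _).obj (ext k K)) :
    ∃ (A : Subalgebra k K), A.FG ∧ ∃ P : Over (Spec (CommRingCat.of k)),
      Nonempty ((yon _).obj P ≅ X ⨯ (yon _).obj (extR k A)) := by
  let I := (PropPi1.FgIdx k K)ᵒᵖ
  let E : I ⥤ Over (Spec (CommRingCat.of k)) :=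
    { obj := fun i => Over.mk ((PropPi1.fgToBase k K).app i)
      map := fun φ => Over.homMk ((PropPi1.fgSys k K).map φ) (by
        simpa using (PropPi1.fgToBase k K).naturality φ)
      map_id := fun i => Over.OverMorphism.ext ((PropPi1.fgSys k K).map_id i)
      map_comp := fun φ ψ => Over.OverMorphism.ext ((PropPi1.fgSys k K).map_comp φ ψ) }
  let c : Cone E :=
    { pt := ext k K
      π :=
        { app := fun i => Over.homMk ((PropPi1.fgCone k K).π.app i) (PropPi1.fgCone_toBase k K i)
          naturality := fun i j φ => Over.OverMorphism.ext ((PropPi1.fgCone k K).π.naturality φ) } }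
  haveI : IsConnected I := IsCofiltered.isConnected I
  haveI : ReflectsLimit E (Over.forget (Spec (CommRingCat.of k))) := inferInstance
  have hc : IsLimit c := isLimitOfReflects (Over.forget _) (PropPi1.isLimitFgCone k K)
  haveI := yon_preservesLimit E
  let Φ : Sp (Spec (CommRingCat.of k)) ⥤ Sp (Spec (CommRingCat.of k)) := prod.functor.obj X
  let D : I ⥤ Sp (Spec (CommRingCat.of k)) := (E ⋙ yon _) ⋙ Φ
  let cD : Cone D := Φ.mapCone ((yon _).mapCone c)
  have hcD : IsLimit cD := (nonempty_isLimit_prodCone X (isLimitOfPreserves (yon _) hc)).some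
  have hD : ∀ i, IsAlgSpace (D.obj i) := fun i => isAlgSpace_prod hX _
  have hDa : ∀ (i j : I) (φ : i ⟶ j), IsAffineMor (D.map φ) := fun i j φ => by
    haveI : IsAffineHom (E.map φ).left := inferInstanceAs (IsAffineHom ((PropPi1.fgSys k K).map φ))
    exact isAffineMor_of_repWith (fun _ hk => hk) (repWith_prod_map_affine X (E.map φ))
  have hq : ∀ i, IsQuasiCompactSp (D.obj i) ∧ IsQuasiSeparatedSp (D.obj i) := fun i =>
    qcqs_of_isAffineMor (hD i) hX (isAffineMor_fst (X := X) ↥i.unop.1) hqc hqs
  obtain ⟨i, P, ⟨eP⟩⟩ := exists_scheme_member hD hDa (fun i => (hq i).1) (fun i => (hq i).2) cD hcD T e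
  exact ⟨i.unop.1, i.unop.2, P, ⟨eP⟩⟩

/-- The restriction of a scheme model to an open subspace. -/
theorem exists_iso_open {X : Sp S} {C T : Over S} (e : (yon S).obj T ≅ X ⨯ (yon S).obj C)
    {V : Set (Points X)} (hV : IsOpen V) :
    ∃ Q : Over S, Nonempty ((yon S).obj Q ≅ subSp X V ⨯ (yon S).obj C) := by
  have hj := repWith_subι X V hV
  have sq : IsPullback (prod.fst : subSp X V ⨯ (yon S).obj C ⟶ _) (prod.map (subι X V) (𝟙 _) ≫ e.inv)
      (subι X V) (e.hom ≫ prod.fst) :=
    IsPullback.of_iso (IsPullback.of_prod_fst_with_id (subι X V) ((yon S).obj C))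
      (Iso.refl _) (Iso.refl _) e.symm (Iso.refl _) (by simp) (by simp) (by simp) (by simp)
  exact ⟨_, ⟨(hj.1.isPullback (e.hom ≫ prod.fst)).isoPullback ≪≫ sq.isoPullback.symm⟩⟩

/-- A quasi-compact open set around every point. -/
theorem exists_qc_nbhd {X : Sp S} (hX : IsAlgSpace X) (y : Points X) :
    ∃ V : Set (Points X), IsOpen V ∧ y ∈ V ∧ IsQuasiCompactSp (subSp X V) := by
  obtain ⟨U, p, hp, hps⟩ := hX.atlas
  obtain ⟨u, rfl⟩ := surjective_ofPt hps y
  obtain ⟨E, hE, huE, -⟩ := exists_isAffineOpen_mem_and_subset (x := u) (U := (⊤ : U.left.Opens)) trivial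
  have hΩ : IsOpen (Points.ofPt p '' E) := isOpenMap_ofPt_of_etale hp _ E.isOpen
  refine ⟨_, hΩ, ⟨u, huE, rfl⟩, ?_⟩
  have hj := repWith_subι X _ hΩ
  haveI : CompactSpace (Points (subSp X (Points.ofPt p '' E))) := by
    rw [← isCompact_univ_iff, (isEmbedding_of_immersion hX
      (repWith_mono (fun _ _ g (hg : IsOpenImmersion g) => (inferInstance : IsImmersion g)) hj)).1.isCompact_iff,
      Set.image_univ, range_map_subι]
    exact hE.isCompact.image (Points.continuous_ofPt p)
  exact isQuasiCompactSp_of_compactSpace (isAlgSpace_subSp hX hΩ)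

/-- A space whose quasi-compact opens are schemes is a scheme. -/
theorem exists_scheme_of_qc_opens {X : Sp S} (hX : IsAlgSpace X)
    (h : ∀ V : Set (Points X), IsOpen V → IsQuasiCompactSp (subSp X V) →
      ∃ P : Over S, Nonempty ((yon S).obj P ≅ subSp X V)) :
    X.obj.IsRepresentable := by
  obtain ⟨U, p, hp, hps⟩ := hX.atlas
  choose V hV hyV hqc using exists_qc_nbhd hX
  choose P i using fun y => h (V y) (hV y) (hqc y)
  obtain ⟨Y, ⟨j⟩⟩ := exists_scheme_of_openCover hX (fun u : ↥U.left => P (Points.ofPt p u))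
    (fun u => (i (Points.ofPt p u)).some.hom ≫ subι X (V (Points.ofPt p u)))
    (fun u => repWith_comp (repWith_of_isIso (i (Points.ofPt p u)).some.hom) (repWith_subι X _ (hV _))) (fun y => by
      obtain ⟨u, rfl⟩ := surjective_ofPt hps y
      obtain ⟨z, hz⟩ := (range_map_subι X (V (Points.ofPt p u))).ge (hyV _)
      exact ⟨u, Points.map (i (Points.ofPt p u)).some.inv z, by
        rw [← Points.map_comp, Iso.inv_hom_id_assoc]; exact hz⟩)
  exact isRepresentable_of_iso_yon j

/-- A space over a field which becomes a scheme over some extension becomes one over an algebraically closed one. -/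
theorem representable_algClosed {X : Sp (Spec (CommRingCat.of k))} (hX : IsAlgSpace X) (hqs : IsQuasiSeparatedSp X)
    (K : Type u) [Field K] [Algebra k K] {T : Over (Spec (CommRingCat.of k))}
    (e : (yon _).obj T ≅ X ⨯ (yon _).obj (ext k K)) (kb : Type u) [Field kb] [Algebra k kb] [IsAlgClosed kb] :
    (X ⨯ (yon _).obj (ext k kb)).obj.IsRepresentable := by
  obtain ⟨U, p, hp, hps⟩ := hX.atlas
  choose V hV hyV hqc using exists_qc_nbhd hX
  have key : ∀ y, ∃ T' : Over (Spec (CommRingCat.of k)),
      Nonempty ((yon _).obj T' ≅ subSp X (V y) ⨯ (yon _).obj (ext k kb)) := fun y => by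
    obtain ⟨Q, ⟨eQ⟩⟩ := exists_iso_open e (hV y)
    obtain ⟨A, hA, P, ⟨eP⟩⟩ := exists_scheme_stage (isAlgSpace_subSp hX (hV y)) (hqc y)
      (qcqs_of_openImmersion (repWith_subι X _ (hV y)) hqs) K eQ
    haveI : Algebra.FiniteType k A := A.fg_iff_finiteType.1 hA
    obtain ⟨a⟩ := nonempty_algHom (k := k) ↥A kb
    exact exists_iso_baseChange (extMap a) eP
  choose T' hT' using key
  have sq : ∀ y, IsPullback (prod.map (subι X (V y)) (𝟙 _)) prod.fst
      (prod.fst : X ⨯ (yon _).obj (ext k kb) ⟶ X) (subι X (V y)) := fun y =>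
    (IsPullback.of_prod_fst_with_id (subι X (V y)) ((yon _).obj (ext k kb))).flip
  have hX' := isAlgSpace_prod hX (ext k kb)
  obtain ⟨Y, ⟨j⟩⟩ := exists_scheme_of_openCover hX' (fun u : ↥U.left => T' (Points.ofPt p u))
    (fun u => (hT' (Points.ofPt p u)).some.hom ≫ prod.map (subι X (V (Points.ofPt p u))) (𝟙 _))
    (fun u => repWith_comp (repWith_of_isIso (hT' (Points.ofPt p u)).some.hom)
      (repWith_of_isPullback (sq (Points.ofPt p u)).flip (repWith_subι X _ (hV _)))) (fun y => by
      obtain ⟨u, hu⟩ := surjective_ofPt hps (Points.map prod.fst y)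
      obtain ⟨z, hz⟩ := (range_map_subι X (V (Points.ofPt p u))).ge (hyV _)
      obtain ⟨w, hw, -⟩ := points_exists_of_isPullback (sq (Points.ofPt p u)).flip z y (hz.trans hu)
      obtain ⟨w', hw'⟩ : ∃ w', Points.map (prod.map (subι X (V (Points.ofPt p u))) (𝟙 _)) w' = y := by
        obtain ⟨w, -, hw⟩ := points_exists_of_isPullback (sq (Points.ofPt p u)).flip z y (hz.trans hu)
        exact ⟨w, hw⟩
      exact ⟨u, Points.map (hT' (Points.ofPt p u)).some.inv w', by
        rw [← Points.map_comp, Iso.inv_hom_id_assoc]; exact hw'⟩)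
  exact isRepresentable_of_iso_yon j

end Groth.Agent.ASp.FieldDesc
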