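import Groth.Agent.ASp.LqfRep
import Groth.Agent.ASp.AffMor
import Groth.Agent.ASp.Univ
import Groth.Agent.ASp.MorCancel
import Groth.Agent.S9926
import Groth.Agent.S10268
import Groth.Agent.S10279
set_option backward.isDefEq.respectTransparency.types false
/-!
Finiteness of a space over a scheme read on an etale chart with finite kernel pair.
-/

set_option autoImplicit false
universe u
open CategoryTheory CategoryTheory.Limits AlgebraicGeometry Opposite

namespace Groth.Agent.ASp

open _root_.AlgSp

variable {S : Scheme.{u}}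

/-- If an etale chart and its kernel pair are finite over the base scheme, so is the space. -/
theorem isFiniteMor_of_finite_chart (F : Space S) {T : Over S} (φ : F.obj ⟶ (yon S).obj T) {A : Over S}
    (α : (yon S).obj A ⟶ F.obj) (hα : RepWith @Etale α) (hαs : RepWith @Surjective α) {π : A ⟶ T}
    (hπ : α ≫ φ = (yon S).map π) [IsFinite π.left] {R : Over S} {t s : R ⟶ A}
    (hR : IsPullback ((yon S).map t) ((yon S).map s) α α) (hRfin : IsFinite (s ≫ π).left) : IsFiniteMor φ := by
  let SA : Space S := ⟨(yon S).obj A, IsAlgSpace.yon_obj A⟩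
  let ST : Space S := ⟨(yon S).obj T, IsAlgSpace.yon_obj T⟩
  let αs : SA ⟶ F := ObjectProperty.homMk α
  let φs : F ⟶ ST := ObjectProperty.homMk φ
  let πs : SA ⟶ ST := ObjectProperty.homMk ((yon S).map π)
  have comm : αs ≫ φs = πs := ObjectProperty.hom_ext _ hπ
  haveI : IsFinite s.left := by
    haveI : IsFinite (s.left ≫ π.left) := hRfin
    exact IsFinite.of_comp s.left π.left
  have hαfin : IsFiniteMor α :=
    (Groth.Agent.S10268.result αs A α hα hαs _ _ hR).2
      ((isFiniteMor_iff (IsAlgSpace.yon_obj R) (IsAlgSpace.yon_obj A)).2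
        (repWith_yon_map (P := @IsFinite) ‹IsFinite s.left›))
  have hαf := (isFiniteMor_iff (IsAlgSpace.yon_obj A) F.2).1 hαfin
  have hαsm : IsSurjectiveMor α := surjective_map_of_repWith hαs
  have hαu : IsUnivClosedMor α := (repWith_universallyClosed_iff hαf.1).1
    (repWith_mono (fun _ _ k hk => by have : IsFinite k := hk; exact (inferInstance : UniversallyClosed k)) hαf)
  have hπr : Representable ((yon S).map π) := (repWith_yon_map (P := @IsFinite) ‹IsFinite π.left›).1
  have hsep : IsSeparatedMor φ := (Groth.Agent.S9926.result αs πs φs comm hαsm hαu).2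
    ((isSeparatedMor_iff hπr).2 (repWith_yon_map (P := @IsSeparated) (inferInstance : IsSeparated π.left)))
  have huc : IsUnivClosedMor φ := Groth.Agent.S10279.result αs πs φs comm
    ((repWith_universallyClosed_iff hπr).1 (repWith_yon_map (P := @UniversallyClosed) (inferInstance : UniversallyClosed π.left)))
    hαsm
  have hlqf : LocP (@LocallyQuasiFinite ⊓ @LocallyOfFiniteType) φ :=
    locP_of_comp_chart (IsAlgSpace.yon_obj T) hα hαs (hπ ▸ locP_of_repWith
      (repWith_yon_map (P := @LocallyQuasiFinite ⊓ @LocallyOfFiniteType)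
        ⟨(inferInstance : LocallyQuasiFinite π.left), (inferInstance : LocallyOfFiniteType π.left)⟩))
  have hrep := representable_of_sep_lqf F.2 (IsAlgSpace.yon_obj T) φ hlqf hsep
  refine (isFiniteMor_iff F.2 (IsAlgSpace.yon_obj T)).2 ⟨hrep, fun Z Q g fst snd sq => ?_⟩
  haveI : LocallyQuasiFinite snd.left := ((repWith_of_locP (IsAlgSpace.yon_obj T) hrep hlqf).2 _ _ _ sq).1
  haveI : LocallyOfFiniteType snd.left := ((repWith_of_locP (IsAlgSpace.yon_obj T) hrep hlqf).2 _ _ _ sq).2
  haveI : IsSeparated snd.left := ((isSeparatedMor_iff hrep).1 hsep).2 _ _ _ sq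
  haveI : UniversallyClosed snd.left := ((repWith_universallyClosed_iff hrep).2 huc).2 _ _ _ sq
  haveI : IsProper snd.left := ⟨⟩
  exact IsFinite.of_isProper_of_locallyQuasiFinite snd.left

end Groth.Agent.ASp
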