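import Mathlib

/-!
The invariants of a finite locally free equivalence relation on a local ring.
-/

universe u

open TensorProduct

namespace Groth.Agent.ASp

/-- A ring with a finite flat equivalence relation over a local ring is finite free over the invariants, and the
relation is the self tensor product over the invariants. The composition of the relation is encoded by `ψ`, with
`C₁` the relation seen as an algebra by the first projection. -/
theorem finiteFree_invariants {A B C C₁ : Type u} [CommRing A] [CommRing B] [IsLocalRing B] [CommRing C]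
    [CommRing C₁] [Algebra A B] [Algebra B C] [Module.Finite B C] [Module.Flat B C] [Algebra B C₁]
    (e₁ : B →+* C) (f₂ : B →+* C₁) (φ : C ≃+* C₁) (hφ₁ : ∀ x, φ (e₁ x) = algebraMap B C₁ x)
    (hφ₂ : ∀ x, φ (algebraMap B C x) = f₂ x)
    (hA : Function.Injective (algebraMap A B))
    (hinv : ∀ x, e₁ x = algebraMap B C x ↔ x ∈ Set.range (algebraMap A B))
    (he₁ : Function.Injective e₁) (hspan : Submodule.span B (Set.range e₁) = ⊤)
    (ψ : C →+* C₁ ⊗[B] C) (hψ₁ : ∀ x, ψ (e₁ x) = 1 ⊗ₜ e₁ x)
    (hψ₂ : ∀ x, ψ (algebraMap B C x) = f₂ x ⊗ₜ 1) :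
    Module.Free A B ∧ Module.Finite A B ∧
      ∃ Φ : B ⊗[A] B →+* C, Function.Bijective Φ ∧ ∀ x y, Φ (x ⊗ₜ y) = e₁ x * algebraMap B C y := by
  classical
  haveI : Module.Free B C := Module.free_of_flat_of_isLocalRing
  haveI : Module.FinitePresentation B C := Module.finitePresentation_of_projective B C
  obtain ⟨κ, a, b, hb⟩ := Module.exists_basis_of_span_of_flat (R := B) (M := C)
    (fun x : ULift.{u} B => e₁ x.down) (by rwa [Set.range_comp' e₁ ULift.down,
      Set.range_eq_univ.2 ULift.down_surjective, Set.image_univ])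
  let v : κ → B := fun i => (a i).down
  haveI : Finite κ := Module.Finite.finite_basis b
  letI := Fintype.ofFinite κ
  have hb' : ∀ i, e₁ (v i) = b i := fun i => (hb i).symm
  have key : ∀ x : B, ∀ i, b.repr (e₁ x) i ∈ Set.range (algebraMap A B) := by
    intro x i
    rw [← hinv]
    set l := fun i => b.repr (e₁ x) i with hl
    have hx : e₁ x = ∑ i, l i • b i := (b.sum_repr _).symm
    have h1 : (1 : C₁) ⊗ₜ[B] e₁ x = ∑ i, φ (e₁ (l i)) ⊗ₜ[B] b i := by
      rw [hx, TensorProduct.tmul_sum]
      refine Finset.sum_congr rfl fun i _ => ?_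
      rw [hφ₁, TensorProduct.tmul_smul, Algebra.algebraMap_eq_smul_one, TensorProduct.smul_tmul']
    have h2 : (1 : C₁) ⊗ₜ[B] e₁ x = ∑ i, f₂ (l i) ⊗ₜ[B] b i := by
      rw [← hψ₁, hx, map_sum]
      refine Finset.sum_congr rfl fun i _ => ?_
      rw [Algebra.smul_def, map_mul, hψ₂, ← hb', hψ₁, Algebra.TensorProduct.tmul_mul_tmul, mul_one, one_mul]
    have h3 := h1.symm.trans h2
    let bD := Algebra.TensorProduct.basis C₁ b
    have h4 : ∀ (c : κ → C₁) (j : κ), bD.repr (∑ i, c i ⊗ₜ[B] b i) j = c j := by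
      intro c j
      have : ∑ i, c i ⊗ₜ[B] b i = ∑ i, c i • bD i := by
        refine Finset.sum_congr rfl fun i _ => ?_
        rw [Algebra.TensorProduct.basis_apply, TensorProduct.smul_tmul', smul_eq_mul, mul_one]
      rw [this, bD.repr_sum_self]
    have h5 := congrArg (fun d => bD.repr d i) h3
    simp only [h4] at h5
    exact φ.injective (h5.trans (hφ₂ _).symm)
  have hA' : ∀ y : A, e₁ (algebraMap A B y) = algebraMap B C (algebraMap A B y) :=
    fun y => (hinv _).2 ⟨y, rfl⟩
  have hsum : ∀ c : κ → A, e₁ (∑ i, c i • v i) = ∑ i, algebraMap A B (c i) • b i := by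
    intro c
    rw [map_sum]
    refine Finset.sum_congr rfl fun i _ => ?_
    rw [Algebra.smul_def, map_mul, hA', hb', ← Algebra.smul_def]
  have hli : LinearIndependent A v := by
    rw [Fintype.linearIndependent_iff]
    intro c hc i
    have h := hsum c
    rw [hc, map_zero] at h
    exact hA ((Fintype.linearIndependent_iff.1 b.linearIndependent _ h.symm i).trans (map_zero _).symm)
  have hsp : ⊤ ≤ Submodule.span A (Set.range v) := by
    rintro x -
    choose c hc using key x
    have : x = ∑ i, c i • v i := he₁ (by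
      rw [hsum]
      simp only [hc]
      exact (b.sum_repr _).symm)
    rw [this]
    exact Submodule.sum_mem _ fun i _ => Submodule.smul_mem _ _ (Submodule.subset_span ⟨i, rfl⟩)
  let bB : Module.Basis κ A B := Module.Basis.mk hli hsp
  letI algC : Algebra A C := ((algebraMap B C).comp (algebraMap A B)).toAlgebra
  let E₁ : B →ₐ[A] C := { e₁ with commutes' := hA' }
  let E₂ : B →ₐ[A] C := { algebraMap B C with commutes' := fun _ => rfl }
  let Φ : B ⊗[A] B →ₐ[A] C := Algebra.TensorProduct.lift E₁ E₂ fun _ _ => Commute.all _ _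
  have hΦ : ∀ x y, Φ (x ⊗ₜ y) = e₁ x * algebraMap B C y := fun x y => Algebra.TensorProduct.lift_tmul _ _ _ _ _
  refine ⟨Module.Free.of_basis bB, Module.Finite.of_basis bB, Φ.toRingHom, ?_, hΦ⟩
  have hform : ∀ z : B ⊗[A] B, ∃ c : κ → B, z = ∑ i, v i ⊗ₜ[A] c i := by
    intro z
    induction z with
    | zero => exact ⟨0, by simp⟩
    | add p q hp hq =>
      obtain ⟨c, rfl⟩ := hp
      obtain ⟨d, rfl⟩ := hq
      exact ⟨c + d, by simp [TensorProduct.tmul_add, Finset.sum_add_distrib]⟩
    | tmul x y =>
      refine ⟨fun i => bB.repr x i • y, ?_⟩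
      conv_lhs => rw [← bB.sum_repr x]
      rw [TensorProduct.sum_tmul]
      exact Finset.sum_congr rfl fun i _ => by rw [TensorProduct.smul_tmul, Module.Basis.mk_apply]
  have hev : ∀ c : κ → B, Φ (∑ i, v i ⊗ₜ[A] c i) = ∑ i, c i • b i := fun c => by
    rw [map_sum]
    exact Finset.sum_congr rfl fun i _ => by rw [hΦ, hb', Algebra.smul_def, mul_comm]
  constructor
  · rw [injective_iff_map_eq_zero]
    intro z hz
    obtain ⟨c, rfl⟩ := hform z
    have h := (hev c).symm.trans hz
    have := Fintype.linearIndependent_iff.1 b.linearIndependent c h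
    simp [this]
  · intro y
    exact ⟨∑ i, v i ⊗ₜ[A] b.repr y i, (hev _).trans (b.sum_repr y)⟩

end Groth.Agent.ASp
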