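import Groth.Agent.ASp.Residual
import Groth.Agent.ASp.FinEqvRing

/-!
A sheaf with a finite locally free chart by a local affine scheme with one point is an affine scheme.
-/

set_option backward.isDefEq.respectTransparency false
set_option backward.isDefEq.respectTransparency.types false

universe u

open CategoryTheory CategoryTheory.Limits AlgebraicGeometry Opposite TensorProduct

namespace Groth.Agent.ASp

/-- A ring as an algebra through a given map. -/
def EqvSide {B C : Type u} [CommRing B] [CommRing C] (_f : B →+* C) : Type u := C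

instance {B C : Type u} [CommRing B] [CommRing C] (f : B →+* C) : CommRing (EqvSide f) :=
  inferInstanceAs (CommRing C)

instance {B C : Type u} [CommRing B] [CommRing C] (f : B →+* C) : Algebra B (EqvSide f) :=
  RingHom.toAlgebra (show B →+* EqvSide f from f)

/-- A finite type algebra with discrete spectrum over a local ring with one prime is finite. -/
theorem finite_of_discrete {B C : Type u} [CommRing B] [IsLocalRing B] [Subsingleton (PrimeSpectrum B)]
    [CommRing C] [Algebra B C] [Algebra.FiniteType B C] [DiscreteTopology (PrimeSpectrum C)] :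
    Module.Finite B C := by
  classical
  haveI : Algebra.IsIntegral B C := by
    let m := IsLocalRing.maximalIdeal B
    let J := m.map (algebraMap B C)
    letI : Field (B ⧸ m) := Ideal.Quotient.field m
    letI algk : Algebra (B ⧸ m) (C ⧸ J) := RingHom.toAlgebra (Ideal.quotientMap J (algebraMap B C) Ideal.le_comap_map)
    haveI : IsScalarTower B (B ⧸ m) (C ⧸ J) := IsScalarTower.of_algebraMap_eq fun x => rfl
    haveI : Algebra.FiniteType B (C ⧸ J) := inferInstance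
    haveI : Algebra.FiniteType (B ⧸ m) (C ⧸ J) := Algebra.FiniteType.of_restrictScalars_finiteType B _ _
    haveI : IsNoetherianRing (C ⧸ J) := Algebra.FiniteType.isNoetherianRing (B ⧸ m) _
    haveI : DiscreteTopology (PrimeSpectrum (C ⧸ J)) :=
      (PrimeSpectrum.isClosedEmbedding_comap_of_surjective _ (Ideal.Quotient.mk J)
        Ideal.Quotient.mk_surjective).isEmbedding.discreteTopology
    haveI : Ring.KrullDimLE 0 (C ⧸ J) :=
      (PrimeSpectrum.discreteTopology_iff_finite_and_krullDimLE_zero.1 inferInstance).2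
    haveI : IsArtinianRing (C ⧸ J) := isArtinianRing_iff_isNoetherianRing_krullDimLE_zero.2 ⟨‹_›, ‹_›⟩
    haveI : Module.Finite (B ⧸ m) (C ⧸ J) := (Module.finite_iff_isArtinianRing (B ⧸ m) (C ⧸ J)).2 ‹_›
    haveI : Module.Finite B (C ⧸ J) := Module.Finite.trans (B ⧸ m) _
    have hJ : J ≤ nilradical C := by
      rw [Ideal.map_le_iff_le_comap]
      intro x hx
      rw [Ideal.mem_comap, mem_nilradical]
      refine IsNilpotent.map (nilpotent_iff_mem_prime.2 fun P hP => ?_) _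
      have : (⟨P, hP⟩ : PrimeSpectrum B) = IsLocalRing.closedPoint B := Subsingleton.elim _ _
      rw [show P = m from congrArg PrimeSpectrum.asIdeal this]
      exact hx
    refine ⟨fun c => ?_⟩
    obtain ⟨p, hp, hpc⟩ := IsIntegral.of_finite B (Ideal.Quotient.mk J c)
    rw [← Polynomial.aeval_def, show Ideal.Quotient.mk J c = Ideal.Quotient.mkₐ B J c from rfl,
      Polynomial.aeval_algHom_apply, Ideal.Quotient.mkₐ_eq_mk, Ideal.Quotient.eq_zero_iff_mem] at hpc
    obtain ⟨n, hn⟩ := mem_nilradical.1 (hJ hpc)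
    exact ⟨p ^ n, hp.pow n, by rw [← Polynomial.aeval_def, map_pow, hn]⟩
  exact Algebra.IsIntegral.finite

/-- A finite type scheme with finite discrete space over a one point affine scheme is finite. -/
theorem isFinite_of_discrete {R U : Scheme.{u}} (f : R ⟶ U) [IsAffine U] [Subsingleton ↥U] [Nonempty ↥U]
    [Finite ↥R] [DiscreteTopology ↥R] [LocallyOfFiniteType f] : IsFinite f := by
  let g : Spec Γ(R, ⊤) ⟶ Spec Γ(U, ⊤) := R.isoSpec.inv ≫ f ≫ U.isoSpec.hom
  suffices IsFinite g by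
    rw [show f = R.isoSpec.hom ≫ g ≫ U.isoSpec.inv by simp [g]]
    infer_instance
  obtain ⟨φ, hφ⟩ := Spec.map_surjective g
  have hft : LocallyOfFiniteType (Spec.map φ) := by rw [hφ]; infer_instance
  rw [HasRingHomProperty.Spec_iff (P := @LocallyOfFiniteType)] at hft
  rw [← hφ, IsFinite.SpecMap_iff]
  algebraize [φ.hom]
  haveI : Algebra.FiniteType ↥Γ(U, ⊤) ↥Γ(R, ⊤) := hft
  haveI : Subsingleton (PrimeSpectrum ↥Γ(U, ⊤)) := U.isoSpec.hom.homeomorph.symm.injective.subsingleton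
  haveI : Nonempty (PrimeSpectrum ↥Γ(U, ⊤)) := ‹Nonempty ↥U›.map U.isoSpec.hom
  haveI : Nontrivial ↥Γ(U, ⊤) := PrimeSpectrum.nonempty_iff_nontrivial.1 inferInstance
  haveI : IsLocalRing ↥Γ(U, ⊤) := IsLocalRing.of_unique_max_ideal (by
    obtain ⟨M, hM⟩ := Ideal.exists_maximal ↥Γ(U, ⊤)
    exact ⟨M, hM, fun N hN => congrArg PrimeSpectrum.asIdeal
      (Subsingleton.elim (⟨N, hN.isPrime⟩ : PrimeSpectrum ↥Γ(U, ⊤)) ⟨M, hM.isPrime⟩)⟩)
  haveI : DiscreteTopology (PrimeSpectrum ↥Γ(R, ⊤)) := R.isoSpec.hom.homeomorph.discreteTopology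
  exact finite_of_discrete

open _root_.AlgSp

variable {S : Scheme.{u}}

set_option maxHeartbeats 1600000 in
theorem exists_affine_of_finite_chart {X : Sp S} {U : Over S} [IsAffine U.left] [Subsingleton ↥U.left]
    [Nonempty ↥U.left] (p : (yon S).obj U ⟶ X) [Epi p] {R : Over S} {s t : R ⟶ U}
    (sq : IsPullback ((yon S).map s) ((yon S).map t) p p) [IsFinite t.left] [Flat t.left]
    [LocallyOfFinitePresentation t.left] : ∃ P : Over S, IsAffine P.left ∧ Nonempty ((yon S).obj P ≅ X) := by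
  classical
  haveI : IsAffine R.left := isAffine_of_isAffineHom t.left
  obtain ⟨u₀⟩ := ‹Nonempty ↥U.left›
  obtain ⟨W, hW, hW0, -⟩ := exists_isAffineOpen_mem_and_subset (x := U.hom u₀) (U := (⊤ : S.Opens)) (by simp)
  let O : CommRingCat.{u} := Γ(S, W)
  let a : U.left ⟶ Spec O := IsOpenImmersion.lift hW.fromSpec U.hom (by
    rw [hW.range_fromSpec]
    rintro _ ⟨z, rfl⟩
    rw [Subsingleton.elim z u₀]
    exact hW0)
  have ha : a ≫ hW.fromSpec = U.hom := IsOpenImmersion.lift_fac _ _ _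
  let B : CommRingCat.{u} := Γ(U.left, ⊤)
  let C : CommRingCat.{u} := Γ(R.left, ⊤)
  let eU : U.left ≅ Spec B := U.left.isoSpec
  let eR : R.left ≅ Spec C := R.left.isoSpec
  obtain ⟨ε₁, hε₁⟩ : ∃ ε : B ⟶ C, Spec.map ε = eR.inv ≫ s.left ≫ eU.hom := ⟨Spec.preimage _, Spec.map_preimage _⟩
  obtain ⟨ε₂, hε₂⟩ : ∃ ε : B ⟶ C, Spec.map ε = eR.inv ≫ t.left ≫ eU.hom := ⟨Spec.preimage _, Spec.map_preimage _⟩
  obtain ⟨αr, hαr⟩ : ∃ αr : O ⟶ B, Spec.map αr = eU.inv ≫ a := ⟨Spec.preimage _, Spec.map_preimage _⟩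
  have hst : s.left ≫ a = t.left ≫ a := by
    rw [← cancel_mono hW.fromSpec, Category.assoc, Category.assoc, ha, Over.w, Over.w]
  have hε : αr ≫ ε₁ = αr ≫ ε₂ := Spec.map_injective (by simp [hε₁, hε₂, hαr, hst])
  -- finiteness of the second projection
  have hfin : ε₂.hom.Finite := by
    rw [← IsFinite.SpecMap_iff, hε₂]; infer_instance
  have hflat : ε₂.hom.Flat := by
    rw [← HasRingHomProperty.Spec_iff (P := @Flat), hε₂]; infer_instance
  haveI : Subsingleton (PrimeSpectrum ↥B) := eU.hom.homeomorph.symm.injective.subsingleton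
  haveI : Nonempty (PrimeSpectrum ↥B) := ⟨eU.hom u₀⟩
  haveI : Nontrivial ↥B := PrimeSpectrum.nonempty_iff_nontrivial.1 inferInstance
  haveI : IsLocalRing ↥B := IsLocalRing.of_unique_max_ideal (by
    obtain ⟨M, hM⟩ := Ideal.exists_maximal ↥B
    exact ⟨M, hM, fun N hN => congrArg PrimeSpectrum.asIdeal
      (Subsingleton.elim (⟨N, hN.isPrime⟩ : PrimeSpectrum ↥B) ⟨M, hM.isPrime⟩)⟩)
  let C₁ := EqvSide ε₁.hom
  let C₂ := EqvSide ε₂.hom
  haveI : Module.Finite ↥B C₂ := hfin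
  haveI : Module.Flat ↥B C₂ := hflat
  -- the diagonal
  obtain ⟨δ, hδ⟩ := (yon S).map_surjective (sq.lift (𝟙 _) (𝟙 _) rfl)
  have hδ1 : δ ≫ s = 𝟙 U := (yon S).map_injective (by
    rw [Functor.map_comp, hδ, sq.lift_fst, CategoryTheory.Functor.map_id])
  have he₁ : Function.Injective ε₁.hom := by
    obtain ⟨d, hd⟩ : ∃ d : C ⟶ B, Spec.map d = eU.inv ≫ δ.left ≫ eR.hom := ⟨Spec.preimage _, Spec.map_preimage _⟩
    have : ε₁ ≫ d = 𝟙 B := Spec.map_injective (by
      have h := congrArg CommaMorphism.left hδ1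
      change δ.left ≫ s.left = 𝟙 U.left at h
      simp [hd, hε₁, reassoc_of% h])
    intro x y e
    simpa using ((congrArg (fun f : B ⟶ B => f.hom x) this).symm.trans (congrArg d.hom e)).trans
      (congrArg (fun f : B ⟶ B => f.hom y) this)
  -- composition
  let D : CommRingCat.{u} := CommRingCat.of (C₁ ⊗[↥B] C₂)
  let i₁ : C ⟶ D := CommRingCat.ofHom
    (Algebra.TensorProduct.includeLeftRingHom : C₁ →+* C₁ ⊗[↥B] C₂)
  let i₂ : C ⟶ D := CommRingCat.ofHom
    (Algebra.TensorProduct.includeRight : C₂ →ₐ[↥B] C₁ ⊗[↥B] C₂).toRingHom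
  have hmid : ε₁ ≫ i₁ = ε₂ ≫ i₂ := by
    ext x
    change algebraMap (↥B) C₁ x ⊗ₜ[↥B] (1 : C₂) = (1 : C₁) ⊗ₜ[↥B] algebraMap (↥B) C₂ x
    rw [Algebra.algebraMap_eq_smul_one, Algebra.algebraMap_eq_smul_one, TensorProduct.smul_tmul]
  have hg : (Spec.map i₂ ≫ eR.inv) ≫ t.left = (Spec.map i₁ ≫ eR.inv) ≫ s.left := by
    rw [← cancel_mono eU.hom]
    simp only [Category.assoc, ← hε₁, ← hε₂, ← Spec.map_comp, hmid]
  let D' : Over S := Over.mk ((Spec.map i₂ ≫ eR.inv) ≫ R.hom)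
  let g₂ : D' ⟶ R := Over.homMk (Spec.map i₂ ≫ eR.inv) rfl
  let g₁ : D' ⟶ R := Over.homMk (Spec.map i₁ ≫ eR.inv) (by
    change _ ≫ R.hom = (Spec.map i₂ ≫ eR.inv) ≫ R.hom
    calc (Spec.map i₁ ≫ eR.inv) ≫ R.hom = ((Spec.map i₁ ≫ eR.inv) ≫ s.left) ≫ U.hom := by
          rw [Category.assoc _ s.left, Over.w]
      _ = (Spec.map i₂ ≫ eR.inv) ≫ R.hom := by rw [← hg, Category.assoc _ t.left, Over.w])
  have hg' : g₂ ≫ t = g₁ ≫ s := Over.OverMorphism.ext hg
  obtain ⟨m, hm⟩ := (yon S).map_surjective (sq.lift ((yon S).map (g₂ ≫ s)) ((yon S).map (g₁ ≫ t)) (by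
    calc (yon S).map (g₂ ≫ s) ≫ p = (yon S).map (g₂ ≫ t) ≫ p := by
          rw [Functor.map_comp, Category.assoc, sq.w, Functor.map_comp, Category.assoc]
      _ = (yon S).map (g₁ ≫ t) ≫ p := by
          rw [hg', Functor.map_comp, Category.assoc, sq.w, Functor.map_comp, Category.assoc]))
  have hm1 : m ≫ s = g₂ ≫ s := (yon S).map_injective (by rw [Functor.map_comp, hm, sq.lift_fst])
  have hm2 : m ≫ t = g₁ ≫ t := (yon S).map_injective (by rw [Functor.map_comp, hm, sq.lift_snd])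
  obtain ⟨ψ, hψ⟩ : ∃ ψ : C ⟶ D, Spec.map ψ = (m.left : Spec D ⟶ R.left) ≫ eR.hom :=
    ⟨Spec.preimage _, Spec.map_preimage _⟩
  have hψ₁ : ε₁ ≫ ψ = ε₁ ≫ i₂ := Spec.map_injective (by
    have h : (m.left : Spec D ⟶ R.left) ≫ s.left = (Spec.map i₂ ≫ eR.inv) ≫ s.left :=
      congrArg CommaMorphism.left hm1
    simp [hψ, hε₁, reassoc_of% h])
  have hψ₂ : ε₂ ≫ ψ = ε₂ ≫ i₁ := Spec.map_injective (by
    have h : (m.left : Spec D ⟶ R.left) ≫ t.left = (Spec.map i₁ ≫ eR.inv) ≫ t.left :=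
      congrArg CommaMorphism.left hm2
    simp [hψ, hε₂, reassoc_of% h])
  -- the relation is closed in the product
  algebraize [αr.hom]
  let E₁ : ↥B →+* ↥C := ε₁.hom
  letI : Algebra ↥O ↥C := (αr ≫ ε₁).hom.toAlgebra
  let sA : ↥B →ₐ[↥O] ↥C := { ε₁.hom with commutes' := fun _ => rfl }
  let tA : ↥B →ₐ[↥O] ↥C := { ε₂.hom with commutes' := fun r =>
    (congrArg (fun φ : O ⟶ C => φ.hom r) hε).symm }
  let T : CommRingCat.{u} := CommRingCat.of (↥B ⊗[↥O] ↥B)
  let φ : ↥B ⊗[↥O] ↥B →ₐ[↥O] ↥C := Algebra.TensorProduct.lift sA tA (fun _ _ => Commute.all _ _)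
  let φ' : T ⟶ C := CommRingCat.ofHom φ.toRingHom
  let j₁ : B ⟶ T := CommRingCat.ofHom Algebra.TensorProduct.includeLeftRingHom
  let j₂ : B ⟶ T := CommRingCat.ofHom (Algebra.TensorProduct.includeRight (R := ↥O) (A := ↥B)).toRingHom
  have hj₁ : j₁ ≫ φ' = ε₁ := by ext x; change φ (x ⊗ₜ 1) = _; simp [φ, sA]
  have hj₂ : j₂ ≫ φ' = ε₂ := by ext x; change φ (1 ⊗ₜ x) = _; simp [φ, tA]
  haveI : Epi φ' := ⟨fun {W'} c d hcd => by
    have e₁ : ε₁ ≫ c = ε₁ ≫ d := by rw [← hj₁, Category.assoc, Category.assoc, hcd]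
    have e₂ : ε₂ ≫ c = ε₂ ≫ d := by rw [← hj₂, Category.assoc, Category.assoc, hcd]
    have k₁ : (Spec.map d ≫ eR.inv) ≫ s.left = (Spec.map c ≫ eR.inv) ≫ s.left := by
      rw [← cancel_mono eU.hom]
      simp only [Category.assoc, ← hε₁, ← Spec.map_comp, e₁]
    have k₂ : (Spec.map d ≫ eR.inv) ≫ t.left = (Spec.map c ≫ eR.inv) ≫ t.left := by
      rw [← cancel_mono eU.hom]
      simp only [Category.assoc, ← hε₂, ← Spec.map_comp, e₂]
    let Z : Over S := Over.mk ((Spec.map c ≫ eR.inv) ≫ R.hom)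
    let za : Z ⟶ R := Over.homMk (Spec.map c ≫ eR.inv) rfl
    let zb : Z ⟶ R := Over.homMk (Spec.map d ≫ eR.inv) (by
      calc (Spec.map d ≫ eR.inv) ≫ R.hom = ((Spec.map d ≫ eR.inv) ≫ s.left) ≫ U.hom := by
            rw [Category.assoc _ s.left, Over.w]
        _ = (Spec.map c ≫ eR.inv) ≫ R.hom := by rw [k₁, Category.assoc _ s.left, Over.w])
    have hz : za = zb := (yon S).map_injective (sq.hom_ext
      (by rw [← (yon S).map_comp, ← (yon S).map_comp]; exact congrArg _ (Over.OverMorphism.ext k₁.symm))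
      (by rw [← (yon S).map_comp, ← (yon S).map_comp]; exact congrArg _ (Over.OverMorphism.ext k₂.symm)))
    exact Spec.map_injective ((cancel_mono eR.inv).1 (congrArg CommaMorphism.left hz))⟩
  have hsurj : Function.Surjective φ'.hom :=
    RingHom.surjective_of_epi_of_finite φ' (RingHom.Finite.of_comp_finite (f := j₂.hom) (by
      rw [← CommRingCat.hom_comp, hj₂]; exact hfin))
  let g₀ : ↥B →+* C₂ := ε₁.hom
  have hspan : Submodule.span ↥B (Set.range g₀) = ⊤ := by
    refine eq_top_iff.2 fun y _ => ?_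
    obtain ⟨z, rfl⟩ := hsurj y
    change ↥B ⊗[↥O] ↥B at z
    induction z using TensorProduct.induction_on with
    | zero => rw [map_zero]; exact Submodule.zero_mem _
    | add a b ha hb => exact (map_add φ'.hom a b).symm ▸ Submodule.add_mem _ (ha trivial) (hb trivial)
    | tmul x y =>
      have e : (show C₂ from φ'.hom (x ⊗ₜ y)) = y • g₀ x := by
        rw [Algebra.smul_def]
        change φ (x ⊗ₜ y) = ε₂.hom y * ε₁.hom x
        rw [Algebra.TensorProduct.lift_tmul]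
        exact mul_comm (G := ↥C) _ _
      refine Eq.mpr (congrArg (fun w : C₂ => w ∈ Submodule.span (↥B) (Set.range g₀)) e) ?_
      exact Submodule.smul_mem _ _ (Submodule.subset_span ⟨x, rfl⟩)
  -- the invariants
  let A : Subalgebra ↥O ↥B := AlgHom.equalizer sA tA
  obtain ⟨hfree, hfinA, Φ, hΦb, hΦ⟩ := finiteFree_invariants (A := ↥A) (B := ↥B) (C := C₂) (C₁ := C₁)
    g₀ (ε₂.hom : ↥B →+* C₁) (RingEquiv.refl ↥C : C₂ ≃+* C₁) (fun _ => rfl) (fun _ => rfl)
    Subtype.val_injective (fun x => ⟨fun h => ⟨⟨x, h⟩, rfl⟩, by rintro ⟨y, rfl⟩; exact y.2⟩) he₁ hspan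
    (ψ.hom : C₂ →+* C₁ ⊗[↥B] C₂) (fun x => congrArg (fun f : B ⟶ D => f.hom x) hψ₁)
    (fun x => congrArg (fun f : B ⟶ D => f.hom x) hψ₂)
  -- the quotient
  let ιA : CommRingCat.of ↥A ⟶ B := CommRingCat.ofHom (algebraMap ↥A ↥B)
  let oA : O ⟶ CommRingCat.of ↥A := CommRingCat.ofHom (algebraMap ↥O ↥A)
  let M : Over S := Over.mk (Spec.map oA ≫ hW.fromSpec)
  let r : U ⟶ M := Over.homMk (eU.hom ≫ Spec.map ιA) (by
    change (eU.hom ≫ Spec.map ιA) ≫ Spec.map oA ≫ hW.fromSpec = U.hom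
    rw [Category.assoc, ← Spec.map_comp_assoc, show oA ≫ ιA = αr from rfl, hαr, Category.assoc,
      Iso.hom_inv_id_assoc, ha])
  let TA : CommRingCat.{u} := CommRingCat.of (↥B ⊗[↥A] ↥B)
  let Φ' : TA ⟶ C := CommRingCat.ofHom (Φ : ↥B ⊗[↥A] ↥B →+* ↥C)
  haveI : IsIso Φ' := (ConcreteCategory.isIso_iff_bijective Φ').2 hΦb
  let k₁ : B ⟶ TA := CommRingCat.ofHom Algebra.TensorProduct.includeLeftRingHom
  let k₂ : B ⟶ TA := CommRingCat.ofHom (Algebra.TensorProduct.includeRight (R := ↥A) (A := ↥B)).toRingHom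
  have hk₁ : k₁ ≫ Φ' = ε₁ := by
    ext x
    refine (hΦ x 1).trans ?_
    rw [map_one, mul_one]
    rfl
  have hk₂ : k₂ ≫ Φ' = ε₂ := by
    ext x
    refine (hΦ 1 x).trans ?_
    rw [map_one, one_mul]
    rfl
  have sqS : IsPullback s.left t.left r.left r.left := by
    refine (isPullback_SpecMap_of_isPushout ιA ιA k₁ k₂ (CommRingCat.isPushout_tensorProduct ↥A ↥B ↥B)).of_iso
      ((asIso (Spec.map Φ')).symm ≪≫ eR.symm) eU.symm eU.symm (Iso.refl _) ?_ ?_ ?_ ?_
    · rw [← cancel_mono eU.hom]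
      simp [← hε₁, ← hk₁]
    · rw [← cancel_mono eU.hom]
      simp [← hε₂, ← hk₂]
    · simp [r]
    · simp [r]
  have hw : s ≫ r = t ≫ r := Over.OverMorphism.ext sqS.w
  have sqr : IsPullback ((yon S).map s) ((yon S).map t) ((yon S).map r) ((yon S).map r) :=
    isPullback_yon_map (IsPullback.of_map (Over.forget S) hw sqS)
  haveI : Nontrivial ↥A := ⟨⟨0, 1, fun h => zero_ne_one (α := ↥B) (congrArg Subtype.val h)⟩⟩
  haveI : Flat (Spec.map ιA) := by
    rw [HasRingHomProperty.Spec_iff (P := @Flat)]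
    exact RingHom.flat_algebraMap_iff.2 inferInstance
  haveI : Flat r.left := inferInstanceAs (Flat (_ ≫ _))
  haveI : LocallyOfFinitePresentation (Spec.map ιA) := by
    rw [HasRingHomProperty.Spec_iff (P := @LocallyOfFinitePresentation)]
    haveI : Module.FinitePresentation ↥A ↥B := Module.finitePresentation_of_projective _ _
    exact RingHom.finitePresentation_algebraMap.2 inferInstance
  haveI : LocallyOfFinitePresentation r.left := inferInstanceAs (LocallyOfFinitePresentation (_ ≫ _))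
  haveI : Surjective (Spec.map ιA) := ⟨by
    intro P
    haveI : Algebra.IsIntegral ↥A ↥B := Algebra.IsIntegral.of_finite _ _
    obtain ⟨Q, -, hQ, hQe⟩ := Ideal.exists_ideal_over_prime_of_isIntegral P.asIdeal (⊥ : Ideal ↥B) (by
      rw [← RingHom.ker_eq_comap_bot, (RingHom.injective_iff_ker_eq_bot _).1
        (Subtype.val_injective : Function.Injective (algebraMap ↥A ↥B))]
      exact bot_le)
    exact ⟨⟨Q, hQ⟩, PrimeSpectrum.ext hQe⟩⟩
  haveI : Surjective r.left := inferInstanceAs (Surjective (_ ≫ _))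
  haveI := epi_yon_map r
  obtain ⟨g, hgp⟩ := exists_desc_of_epi p sq ((yon S).map r) sqr.w
  obtain ⟨h, hh⟩ := exists_desc_of_epi ((yon S).map r) sqr p sq.w
  refine ⟨M, inferInstanceAs (IsAffine (Spec _)), ⟨⟨h, g, ?_, ?_⟩⟩⟩
  · rw [← cancel_epi ((yon S).map r), reassoc_of% hh, hgp, Category.comp_id]
  · rw [← cancel_epi p, reassoc_of% hgp, hh, Category.comp_id]

end Groth.Agent.ASp
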