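import Groth.Agent.ASp.BddDecent
import Groth.Agent.ASp.QfChartLem
import Groth.Agent.ASp.Glue
/-!
Finite fibres of etale charts and monomorphic quasi-compact field-valued points.
-/

set_option autoImplicit false
set_option backward.isDefEq.respectTransparency false
set_option backward.isDefEq.respectTransparency.types false

universe u

open CategoryTheory CategoryTheory.Limits AlgebraicGeometry Opposite

namespace Groth.Agent.ASp

open _root_.AlgSp

variable {S : Scheme.{u}} {X : Sp S}

/-- A quasi-compact etale map of schemes has finite fibres. -/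
theorem finite_preimage_of_etale {W U : Scheme.{u}} (g : W ⟶ U) [Etale g] [CompactSpace W] (u : U) :
    (g ⁻¹' {u}).Finite := by
  obtain ⟨N, hN⟩ := exists_degLE_of_etale g
  have h := hN (U.residueField u) (U.fromSpecResidueField u) _ (g.fiberι u) (g.fiberToSpecResidueField u)
    (IsPullback.of_hasPullback g (U.fromSpecResidueField u))
  haveI : Finite ↥(g.fiber u) := h.finite_discrete.1
  exact Set.finite_coe_iff.1 (Finite.of_equiv _ (g.fiberHomeo u).toEquiv)

/-- Finiteness of fibres over a point is tested on one etale cover. -/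
theorem finite_fibre_of_etale_cover (x : Points X) {ι : Type u} (U : ι → Over S)
    (φ : ∀ i, (yon S).obj (U i) ⟶ X) (hφ : ∀ i, RepWith @Etale (φ i))
    (hsurj : ∀ y : Points X, ∃ (i : ι) (v : ↥(U i).left), Points.ofPt (φ i) v = y)
    (hfin : ∀ i, (Points.ofPt (φ i) ⁻¹' {x}).Finite)
    {V : Over S} [CompactSpace ↥V.left] (ψ : (yon S).obj V ⟶ X) (hψ : RepWith @Etale ψ) :
    (Points.ofPt ψ ⁻¹' {x}).Finite := by
  have key : ∀ v : ↥V.left, ∃ (W : Over S) (w : W ⟶ V) (r : ↥W.left), Etale w.left ∧ w.left r = v ∧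
      ((fun z => Points.ofPt ψ (w.left z)) ⁻¹' {x}).Finite := by
    intro v
    obtain ⟨i, u, hu⟩ := hsurj (Points.ofPt ψ v)
    obtain ⟨P, t, s, r, ht, hs, hts, hr, -⟩ := exists_common_point hψ (hφ i) hu.symm
    obtain ⟨O, hO, hrO, -⟩ := exists_isAffineOpen_mem_and_subset (x := r) (U := (⊤ : P.left.Opens)) (by simp)
    haveI : IsAffine O.toScheme := hO
    let o : Over.mk (O.ι ≫ P.hom) ⟶ P := Over.homMk O.ι rfl
    haveI : Etale t.left := ht
    haveI : Etale s.left := hs
    haveI : Etale (o ≫ t).left := inferInstanceAs (Etale (O.ι ≫ t.left))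
    haveI : Etale (o ≫ s).left := inferInstanceAs (Etale (O.ι ≫ s.left))
    haveI : CompactSpace ↥(Over.mk (O.ι ≫ P.hom)).left := inferInstanceAs (CompactSpace ↥O.toScheme)
    refine ⟨_, o ≫ t, ⟨r, hrO⟩, inferInstance, hr, ?_⟩
    refine ((hfin i).biUnion fun u _ => finite_preimage_of_etale (o ≫ s).left u).subset fun z hz => ?_
    refine Set.mem_biUnion ?_ (rfl : (o ≫ s).left z ∈ ({(o ≫ s).left z} : Set _))
    show Points.ofPt (φ i) _ = x
    rw [← ofPt_yon_map_comp, (yon S).map_comp, Category.assoc, ← hts, ← Functor.map_comp_assoc,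
      ofPt_yon_map_comp]
    exact hz
  choose W w r hwe hwr hwf using key
  have hop : ∀ v, IsOpen (Set.range (w v).left) := fun v => by
    haveI := hwe v
    exact (w v).left.isOpenMap.isOpen_range
  obtain ⟨F, hF⟩ := isCompact_univ.elim_finite_subcover (fun v => Set.range (w v).left) hop
    (fun v _ => Set.mem_iUnion.2 ⟨v, r v, hwr v⟩)
  refine (F.finite_toSet.biUnion fun k _ => (hwf k).image (w k).left).subset fun v hv => ?_
  obtain ⟨k, hk, z, rfl⟩ := Set.mem_iUnion₂.1 (hF (Set.mem_univ v))
  exact Set.mem_biUnion hk ⟨z, hv, rfl⟩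

/-- Points over a point with quasi-compact fibre form finite fibres. -/
theorem finite_fibres_of_compact (p : FieldPt X)
    {U : Over S} {φ : (yon S).obj U ⟶ X} (hφ : RepWith @Etale φ)
    {T : Over S} {v : T ⟶ U} {c : T ⟶ p.pt} (sqT : IsPullback ((yon S).map v) ((yon S).map c) φ p.toHom)
    [CompactSpace ↥T.left]
    {R : Over S} {s t : R ⟶ U} (sq : IsPullback ((yon S).map t) ((yon S).map s) φ φ) :
    (Points.ofPt φ ⁻¹' {Points.mk p}).Finite ∧
      (Points.ofPt ((yon S).map t ≫ φ) ⁻¹' {Points.mk p}).Finite := by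
  haveI : Etale c.left := hφ.2 _ _ _ sqT
  haveI : Finite ↥T.left := by
    haveI : IsLocallyArtinian p.pt.left := inferInstanceAs (IsLocallyArtinian (Spec (CommRingCat.of p.K)))
    haveI := Groth.Agent.Unibranch.locallyQuasiFinite_of_etale c.left
    haveI : IsLocallyArtinian T.left := IsLocallyArtinian.of_locallyQuasiFinite c.left
    exact finite_of_compact_of_discrete
  haveI : Etale t.left := hφ.2 _ _ _ sq.flip
  have hlift : ∀ (W : Over S) (a : W ⟶ U) (w : ↥W.left), Points.ofPt ((yon S).map a ≫ φ) w = Points.mk p →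
      a.left w ∈ Set.range v.left := by
    intro W a w h
    rw [ofPt_yon_map_comp] at h
    obtain ⟨z, hz, -⟩ := (ofPt_eq_ofPt_iff sqT (a.left w) (IsLocalRing.closedPoint p.K)).1
      (h.trans (Points.ofPt_toHom p _).symm)
    exact ⟨z, hz⟩
  refine ⟨(Set.finite_range v.left).subset fun u hu => ?_, ?_⟩
  · exact hlift U (𝟙 U) u (by rw [ofPt_yon_map_comp]; exact hu)
  obtain ⟨l, hl⟩ := (yon S).map_surjective (sqT.lift ((yon S).map (pullback.snd v t ≫ s))
    ((yon S).map (pullback.fst v t ≫ c)) (by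
      rw [(yon S).map_comp, Category.assoc, ← sq.w, ← Functor.map_comp_assoc, ← pullback.condition,
        Functor.map_comp_assoc, sqT.w, (yon S).map_comp, Category.assoc]))
  have hlc : l ≫ c = pullback.fst v t ≫ c := (yon S).map_injective (by rw [(yon S).map_comp, hl, sqT.lift_snd])
  have hlv : l ≫ v = pullback.snd v t ≫ s := (yon S).map_injective (by rw [(yon S).map_comp, hl, sqT.lift_fst])
  have sql : IsPullback ((yon S).map l) ((yon S).map (pullback.fst v t)) ((yon S).map c) ((yon S).map c) := by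
    refine IsPullback.of_right (h₁₂ := (yon S).map v) (v₁₃ := φ) (h₂₂ := p.toHom) ?_
      (by rw [← (yon S).map_comp, ← (yon S).map_comp, hlc]) sqT.flip.flip
    rw [← (yon S).map_comp, hlv, (yon S).map_comp, ← sqT.w]
    exact (isPullback_yon_map (IsPullback.of_hasPullback v t)).flip.paste_horiz sq.flip
  have sql' := isPullback_left (IsPullback.of_map_of_faithful (F := yon S) sql)
  haveI : QuasiSeparatedSpace ↥p.pt.left :=
    inferInstanceAs (QuasiSeparatedSpace ↥(Spec (CommRingCat.of p.K)))
  haveI : QuasiCompact c.left := quasiCompact_of_compactSpace _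
  haveI : Etale (pullback.fst v t).left := MorphismProperty.of_isPullback (P := @Etale) sql' inferInstance
  haveI : QuasiCompact (pullback.fst v t).left :=
    MorphismProperty.of_isPullback (P := @QuasiCompact) sql' inferInstance
  haveI : CompactSpace ↥(pullback v t).left :=
    QuasiCompact.compactSpace_of_compactSpace (pullback.fst v t).left
  haveI : Finite ↥(pullback v t).left := by
    haveI : IsLocallyArtinian p.pt.left := inferInstanceAs (IsLocallyArtinian (Spec (CommRingCat.of p.K)))
    haveI := Groth.Agent.Unibranch.locallyQuasiFinite_of_etale ((pullback.fst v t).left ≫ c.left)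
    haveI : IsLocallyArtinian (pullback v t).left :=
      IsLocallyArtinian.of_locallyQuasiFinite ((pullback.fst v t).left ≫ c.left)
    exact finite_of_compact_of_discrete
  refine (Set.finite_range (pullback.snd v t).left).subset fun w hw => ?_
  obtain ⟨z, hz⟩ := hlift R t w hw
  obtain ⟨y, hy₁, hy₂⟩ := Scheme.Pullback.exists_preimage_pullback (f := v.left) (g := t.left) z w hz
  have f₂ := isPullback_left (IsPullback.of_hasPullback v t)
  exact ⟨f₂.isoPullback.inv y, by rw [← Scheme.Hom.comp_apply, IsPullback.isoPullback_inv_snd, hy₂]⟩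

/-- Points over a monomorphic quasi-compact point form finite fibres. -/
theorem finite_fibres_of_mono_qc (hX : IsAlgSpace X) (p : FieldPt X) (hp : RepWith @QuasiCompact p.toHom)
    {U : Over S} [IsAffine U.left] {φ : (yon S).obj U ⟶ X} (hφ : RepWith @Etale φ)
    {R : Over S} {s t : R ⟶ U} (sq : IsPullback ((yon S).map t) ((yon S).map s) φ φ) :
    (Points.ofPt φ ⁻¹' {Points.mk p}).Finite ∧
      (Points.ofPt ((yon S).map t ≫ φ) ⁻¹' {Points.mk p}).Finite := by
  obtain ⟨T, v, c, sqT⟩ := exists_isPullback_yon (hX.representable_from_yon φ) p.toHom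
  haveI : QuasiCompact v.left := hp.2 _ _ _ sqT.flip
  haveI : CompactSpace ↥T.left := QuasiCompact.compactSpace_of_compactSpace v.left
  exact finite_fibres_of_compact p hφ sqT sq

/-- Finite fibres of all affine etale charts give a monomorphic quasi-compact representative. -/
theorem exists_mono_qc_of_finite_fibres (hX : IsAlgSpace X) (x : Points X)
    (h : ∀ (U : Over S) (φ : (yon S).obj U ⟶ X), IsAffine U.left → RepWith @Etale φ →
      ∀ (R : Over S) (s t : R ⟶ U), IsPullback ((yon S).map t) ((yon S).map s) φ φ →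
        (Points.ofPt φ ⁻¹' {x}).Finite ∧ (Points.ofPt ((yon S).map t ≫ φ) ⁻¹' {x}).Finite) :
    ∃ p : FieldPt X, Points.mk p = x ∧ Mono p.toHom ∧ RepWith @QuasiCompact p.toHom := by
  obtain ⟨U₀, a, hae, has⟩ := hX.atlas
  obtain ⟨u₀, rfl⟩ := surjective_ofPt has x
  obtain ⟨O, hO, huO, -⟩ := exists_isAffineOpen_mem_and_subset (x := u₀) (U := (⊤ : U₀.left.Opens)) (by simp)
  let U : Over S := Over.mk (O.ι ≫ U₀.hom)
  let ι : U ⟶ U₀ := Over.homMk O.ι rfl
  set φ : (yon S).obj U ⟶ X := (yon S).map ι ≫ a with hφdef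
  have hφ : RepWith @Etale φ :=
    repWith_comp (repWith_yon_map (P := @Etale) (g := ι) (inferInstanceAs (Etale O.ι))) hae
  haveI hUa : IsAffine U.left := hO
  let u : ↥U.left := ⟨u₀, huO⟩
  let L := U.left.residueField u
  let j : Over.mk (U.left.fromSpecResidueField u ≫ U.hom) ⟶ U := Over.homMk (U.left.fromSpecResidueField u) rfl
  haveI : Mono j := Over.mono_of_mono_left (hk := (inferInstance : Mono (U.left.fromSpecResidueField u)))
  set q : (yon S).obj (Over.mk (U.left.fromSpecResidueField u ≫ U.hom)) ⟶ X := (yon S).map j ≫ φ with hqdef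
  have hqx : Points.mk (fieldPtOf q) = Points.ofPt a u₀ := by
    rw [← Points.ofPt_toHom (fieldPtOf q) (IsLocalRing.closedPoint L), toHom_fieldPtOf, hqdef, ofPt_yon_map_comp]
    refine (congrArg (Points.ofPt φ) (Scheme.fromSpecResidueField_apply u _ :
      j.left (IsLocalRing.closedPoint L) = u)).trans ?_
    rw [hφdef, ofPt_yon_map_comp]
    rfl
  -- the fibre over `q` of every affine chart is finite
  have hkey : ∀ (W : U₀.left.Opens), IsAffineOpen W → ∀ (E : Over S) (b : E ⟶ Over.mk (U.left.fromSpecResidueField u ≫ U.hom))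
      (e : E ⟶ Over.mk (W.ι ≫ U₀.hom)), IsPullback ((yon S).map b) ((yon S).map e) q
        ((yon S).map (Over.homMk W.ι rfl : Over.mk (W.ι ≫ U₀.hom) ⟶ U₀) ≫ a) → Finite ↥E.left := by
    intro W hW E b e sqE
    let Us : ULift.{u} Bool → Over S := fun i => bif i.down then U else Over.mk (W.ι ≫ U₀.hom)
    let fs : ∀ i, (yon S).obj (Us i) ⟶ X := fun i => match i with
      | ⟨true⟩ => φ
      | ⟨false⟩ => (yon S).map (Over.homMk W.ι rfl : Over.mk (W.ι ≫ U₀.hom) ⟶ U₀) ≫ a
    have hfs : ∀ i, RepWith @Etale (fs i) := by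
      rintro ⟨_ | _⟩
      · exact repWith_comp (repWith_yon_map (P := @Etale)
          (g := (Over.homMk W.ι rfl : Over.mk (W.ι ≫ U₀.hom) ⟶ U₀)) (inferInstanceAs (Etale W.ι))) hae
      · exact hφ
    haveI : ∀ i, IsAffine (Us i).left := by
      rintro ⟨_ | _⟩
      · exact hW
      · exact hUa
    let Z : Over S := Over.mk (Limits.Sigma.desc fun i => (Us i).hom)
    let ζ : ∀ i, Us i ⟶ Z := fun i => Over.homMk (Sigma.ι (fun i => (Us i).left) i) (Sigma.ι_desc _ _)
    obtain ⟨π, hπ⟩ := exists_sigma_desc Z Us ζ rfl (fun i => Category.comp_id _) fs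
    have hπe : RepWith @Etale π := by
      refine repWith_of_sigma @Etale hX.diag _ π fun i => ?_
      have e1 : (Over.homMk (Sigma.ι (fun i => (Us i).left) i) rfl :
          Over.mk (Sigma.ι (fun i => (Us i).left) i ≫ Limits.Sigma.desc fun i => (Us i).hom) ⟶ Z) =
          (Over.isoMk (Iso.refl _) (by simp) :
            Over.mk (Sigma.ι (fun i => (Us i).left) i ≫ Limits.Sigma.desc fun i => (Us i).hom) ≅ Us i).hom ≫ ζ i :=
        Over.OverMorphism.ext (Category.id_comp _).symm
      rw [e1, (yon S).map_comp, Category.assoc, hπ i]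
      exact repWith_comp (repWith_of_isIso _) (hfs i)
    haveI : IsAffine Z.left := inferInstanceAs (IsAffine (∐ fun i => (Us i).left))
    obtain ⟨R, t, s, sqR⟩ := exists_isPullback_yon (hX.representable_from_yon π) π
    obtain ⟨-, hfin⟩ := h Z π inferInstance hπe R s t sqR
    haveI hm1 : Mono (ζ ⟨true⟩) := Over.mono_of_mono_left (hk :=
      (inferInstance : Mono (Sigma.ι (fun i => (Us i).left) ⟨true⟩)))
    haveI hm2 : Mono (ζ ⟨false⟩) := Over.mono_of_mono_left (hk :=
      (inferInstance : Mono (Sigma.ι (fun i => (Us i).left) ⟨false⟩)))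
    obtain ⟨m, hm⟩ := (yon S).map_surjective (sqR.lift ((yon S).map (b ≫ j ≫ ζ ⟨true⟩))
      ((yon S).map (e ≫ ζ ⟨false⟩)) (by
        simp only [(yon S).map_comp, Category.assoc, hπ]
        exact sqE.w))
    have hm₁ : m ≫ t = b ≫ j ≫ ζ ⟨true⟩ := (yon S).map_injective (by rw [(yon S).map_comp, hm, sqR.lift_fst])
    have hm₂ : m ≫ s = e ≫ ζ ⟨false⟩ := (yon S).map_injective (by rw [(yon S).map_comp, hm, sqR.lift_snd])
    haveI : Mono m := ⟨fun c d hcd => by
      have h1 : (c ≫ b) ≫ j ≫ ζ ⟨true⟩ = (d ≫ b) ≫ j ≫ ζ ⟨true⟩ := by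
        rw [Category.assoc, ← hm₁, reassoc_of% hcd, hm₁, Category.assoc]
      have h2 : (c ≫ e) ≫ ζ ⟨false⟩ = (d ≫ e) ≫ ζ ⟨false⟩ := by
        rw [Category.assoc, ← hm₂, reassoc_of% hcd, hm₂, Category.assoc]
      refine (yon S).map_injective (sqE.hom_ext ?_ ?_)
      · rw [← (yon S).map_comp, ← (yon S).map_comp, (cancel_mono (j ≫ ζ ⟨true⟩)).1 h1]
      · rw [← (yon S).map_comp, ← (yon S).map_comp, (cancel_mono (ζ ⟨false⟩)).1 h2]⟩
    haveI : Mono m.left := Over.mono_left_of_mono m
    have hr : ∀ z : ↥E.left, m.left z ∈ Points.ofPt ((yon S).map t ≫ π) ⁻¹' {Points.ofPt a u₀} := fun z => by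
      show Points.ofPt _ _ = Points.ofPt a u₀
      rw [← ofPt_yon_map_comp, ← Functor.map_comp_assoc, hm₁, (yon S).map_comp, (yon S).map_comp,
        Category.assoc, Category.assoc, hπ, ofPt_yon_map_comp, ← hqx]
      show Points.ofPt q _ = _
      conv_lhs => rw [← toHom_fieldPtOf q]
      exact Points.ofPt_toHom _ _
    haveI := hfin.to_subtype
    exact Finite.of_injective (fun z => (⟨m.left z, hr z⟩ : ↥(Points.ofPt ((yon S).map t ≫ π) ⁻¹' {Points.ofPt a u₀})))
      fun z z' hzz => m.left.injective (congrArg Subtype.val hzz)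
  obtain ⟨T, c, v, sqT⟩ := exists_isPullback_yon (hX.representable_from_yon q) φ
  haveI : Finite ↥T.left := hkey O hO T c v sqT
  haveI : Etale c.left := hφ.2 _ _ _ sqT.flip
  haveI : IsLocallyArtinian (Over.mk (U.left.fromSpecResidueField u ≫ U.hom)).left :=
    inferInstanceAs (IsLocallyArtinian (Spec (CommRingCat.of L)))
  haveI := Groth.Agent.Unibranch.locallyQuasiFinite_of_etale c.left
  haveI : QuasiSeparatedSpace ↥(Over.mk (U.left.fromSpecResidueField u ≫ U.hom)).left :=
    inferInstanceAs (QuasiSeparatedSpace ↥(Spec (CommRingCat.of L)))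
  haveI : QuasiCompact c.left := quasiCompact_of_compactSpace _
  haveI : Subsingleton ↥(Over.mk (U.left.fromSpecResidueField u ≫ U.hom)).left :=
    inferInstanceAs (Subsingleton ↥(Spec (CommRingCat.of L)))
  haveI : QuasiCompact j.left := quasiCompact_of_subsingleton _
  haveI : LocallyQuasiFinite j.left := inferInstanceAs (LocallyQuasiFinite (U.left.fromSpecResidueField u))
  have sM : IsPullback ((yon S).map (pullback.fst v j ≫ c)) ((yon S).map (pullback.snd v j)) q q := by
    rw [(yon S).map_comp]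
    exact (isPullback_yon_map (IsPullback.of_hasPullback v j)).paste_horiz sqT
  have f₁ := isPullback_left (IsPullback.of_hasPullback v j)
  haveI : QuasiCompact (pullback.fst v j).left := MorphismProperty.of_isPullback f₁.flip ‹QuasiCompact j.left›
  haveI : LocallyQuasiFinite (pullback.fst v j).left :=
    MorphismProperty.of_isPullback f₁.flip ‹LocallyQuasiFinite j.left›
  haveI : QuasiCompact (pullback.fst v j ≫ c).left :=
    inferInstanceAs (QuasiCompact ((pullback.fst v j).left ≫ c.left))
  haveI : LocallyQuasiFinite (pullback.fst v j ≫ c).left :=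
    inferInstanceAs (LocallyQuasiFinite ((pullback.fst v j).left ≫ c.left))
  haveI : IsFinite (pullback.fst v j ≫ c).left := IsFinite.of_locallyQuasiFinite _
  obtain ⟨p, r, hr, hp⟩ := exists_mono_of_finite (L := L) q sM
  have hqqc : RepWith @QuasiCompact q := by
    refine repWith_qc_of_chart hX hae has q fun W hW E₀ b₀ e₀ sqE₀ => ?_
    exact hkey W hW E₀ b₀ e₀ sqE₀
  refine ⟨p, ?_, hp, repWith_qc_descend hX r hr hqqc⟩
  rw [← hqx, ← Points.ofPt_toHom (fieldPtOf q) (IsLocalRing.closedPoint L), toHom_fieldPtOf]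
  show _ = Points.ofPt q _
  rw [← hr, ofPt_yon_map_comp, Points.ofPt_toHom]

end Groth.Agent.ASp
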