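import Groth.Agent.ASp.Coprod
import Groth.Agent.ASp.EqvQuot
import Mathlib.AlgebraicGeometry.Morphisms.Finite
import Mathlib.CategoryTheory.Extensive
/-!
Finite coproducts of finite morphisms.
-/

set_option autoImplicit false
set_option backward.isDefEq.respectTransparency false
set_option backward.isDefEq.respectTransparency.types false

universe u

open CategoryTheory CategoryTheory.Limits AlgebraicGeometry Opposite

namespace Groth.Agent.ASp

open _root_.AlgSp

theorem isFinite_sigmaDesc_fin {Z : Scheme.{u}} : ∀ {n : ℕ} (W : Fin n → Scheme.{u}) (f : ∀ i, W i ⟶ Z),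
    (∀ i, IsFinite (f i)) → IsFinite (Limits.Sigma.desc f) := by
  intro n
  induction n with
  | zero =>
    intro W f _
    haveI : IsEmpty ↥(∐ W) := ⟨fun x => ((sigmaOpenCover W).exists_eq x).choose.elim0⟩
    infer_instance
  | succ n ih =>
    intro W f hf
    haveI : IsFinite (f 0) := hf 0
    haveI : IsFinite (Limits.Sigma.desc fun i : Fin n => f i.succ) := ih _ _ fun i => hf i.succ
    let e : ∐ W ⟶ coprod (W 0) (∐ fun i : Fin n => W i.succ) := Limits.Sigma.desc
      (Fin.cases coprod.inl fun i => Limits.Sigma.ι (fun i : Fin n => W i.succ) i ≫ coprod.inr)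
    let e' : coprod (W 0) (∐ fun i : Fin n => W i.succ) ⟶ ∐ W :=
      coprod.desc (Limits.Sigma.ι W 0) (Limits.Sigma.desc fun i : Fin n => Limits.Sigma.ι W i.succ)
    haveI : IsIso e := ⟨e', Sigma.hom_ext _ _ fun i => by cases i using Fin.cases <;> simp [e, e'],
      coprod.hom_ext (by simp [e, e']) (by
        refine Eq.trans ?_ (Category.comp_id _).symm
        exact Sigma.hom_ext _ _ fun i => by simp [e, e'])⟩
    have : e ≫ coprod.desc (f 0) (Limits.Sigma.desc fun i : Fin n => f i.succ) = Limits.Sigma.desc f :=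
      Sigma.hom_ext _ _ fun i => by cases i using Fin.cases <;> simp [e]
    rw [← this]
    infer_instance

theorem isFinite_sigmaDesc {Z : Scheme.{u}} {n : ℕ} (W : ULift.{u} (Fin n) → Scheme.{u}) (f : ∀ i, W i ⟶ Z)
    (hf : ∀ i, IsFinite (f i)) : IsFinite (Limits.Sigma.desc f) := by
  let a : ∐ W ⟶ ∐ fun i : Fin n => W ⟨i⟩ := Limits.Sigma.desc fun i => Limits.Sigma.ι (fun i : Fin n => W ⟨i⟩) i.down
  let b : (∐ fun i : Fin n => W ⟨i⟩) ⟶ ∐ W := Limits.Sigma.desc fun i => Limits.Sigma.ι W ⟨i⟩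
  haveI : IsIso a := ⟨b, Sigma.hom_ext _ _ fun i => by simp [a, b], Sigma.hom_ext _ _ fun i => by simp [a, b]⟩
  have e : a ≫ Limits.Sigma.desc (fun i : Fin n => f ⟨i⟩) = Limits.Sigma.desc f :=
    Sigma.hom_ext _ _ fun i => by simp [a]
  haveI := isFinite_sigmaDesc_fin (fun i : Fin n => W ⟨i⟩) (fun i => f ⟨i⟩) fun i => hf ⟨i⟩
  rw [← e]
  infer_instance

variable {S : Scheme.{u}}

theorem repWith_isFinite_cofan_desc {n : ℕ} {F : Fin n → Sp S} {G : Sp S} {g : ∀ i, F i ⟶ G}
    (hg : ∀ i, RepWith @IsFinite (g i)) (c : Cofan F) (hc : IsColimit c) (d : c.pt ⟶ G)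
    (hd : ∀ i, c.inj i ≫ d = g i) : RepWith @IsFinite d := by
  have key : ∀ ⦃Z : Over S⦄ (b : (yon S).obj Z ⟶ G), ∃ (W : Over S) (a : (yon S).obj W ⟶ c.pt) (w : W ⟶ Z),
      IsPullback a ((yon S).map w) d b ∧ IsFinite w.left := fun Z b => by
    let fi := fun i => (hg i).1.fst b
    let si := fun i => (hg i).1.snd b
    let Wl : ULift.{u} (Fin n) → Scheme.{u} := fun i => ((hg i.down).1.pullback b).left
    let ws : ∐ Wl ⟶ Z.left := Limits.Sigma.desc fun i => (si i.down).left
    let Zs : Over S := Over.mk (ws ≫ Z.hom)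
    let U : ULift.{u} (Fin n) → Over S := fun i => (hg i.down).1.pullback b
    let ζ : ∀ i, U i ⟶ Zs := fun i => Over.homMk (Limits.Sigma.ι Wl i) (by
      show Limits.Sigma.ι Wl i ≫ ws ≫ Z.hom = _
      rw [Sigma.ι_desc_assoc]
      exact Over.w (si i.down))
    obtain ⟨a, ha⟩ := exists_sigma_desc Zs U ζ rfl (fun i => Category.comp_id _)
      fun i => fi i.down ≫ c.inj i.down
    let w : Zs ⟶ Z := Over.homMk ws rfl
    have hw : ∀ i, ζ i ≫ w = si i.down := fun i => Over.OverMorphism.ext (Sigma.ι_desc _ _)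
    have hext : ∀ {T : Sp S} (p q : (yon S).obj Zs ⟶ T),
        (∀ i : Fin n, (yon S).map (ζ ⟨i⟩) ≫ p = (yon S).map (ζ ⟨i⟩) ≫ q) → p = q := fun {T} p q h => by
      refine sigma_hom_ext (X := Wl) _ _ _ fun i => ?_
      let j : Over.mk (Limits.Sigma.ι Wl i ≫ Zs.hom) ⟶ U i := Over.homMk (𝟙 (Wl i)) (by
        show 𝟙 _ ≫ (U i).hom = Limits.Sigma.ι Wl i ≫ Zs.hom
        rw [Category.id_comp]
        exact (Over.w (ζ i)).symm)
      have e' : (Over.homMk (Limits.Sigma.ι Wl i) rfl : Over.mk (Limits.Sigma.ι Wl i ≫ Zs.hom) ⟶ Zs) = j ≫ ζ i :=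
        Over.OverMorphism.ext (Category.id_comp _).symm
      rw [e', Functor.map_comp]
      exact (Category.assoc _ _ _).trans
        ((congrArg ((yon S).map j ≫ ·) (h i.down)).trans (Category.assoc _ _ _).symm)
    have comm : a ≫ d = (yon S).map w ≫ b := hext _ _ fun i => by
      rw [reassoc_of% ha ⟨i⟩, hd i, ← Category.assoc, ← Functor.map_comp, hw ⟨i⟩]
      exact (hg i).1.w b
    -- the fibre product is covered by the same cofan
    let P := pullback d b
    let Q : Cofan fun i : Fin n => (yon S).obj ((hg i).1.pullback b) :=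
      Cofan.mk P fun i => pullback.lift (fi i ≫ c.inj i) ((yon S).map (si i)) (by
        rw [Category.assoc, hd i]
        exact (hg i).1.w b)
    obtain ⟨hQ⟩ := (FinitaryExtensive.isVanKampen_finiteCoproducts hc).isUniversal Q
      (Discrete.natTrans fun i => fi i.as) (pullback.fst d b)
      (NatTrans.ext (funext fun ⟨i⟩ => (pullback.lift_fst (fi i ≫ c.inj i) ((yon S).map (si i)) _).symm))
      (NatTrans.equifibered_of_discrete _) fun ⟨i⟩ => by
        show IsPullback (Q.inj i) (fi i) (pullback.fst d b) (c.inj i)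
        refine IsPullback.of_right ?_ (pullback.lift_fst _ _ _) (IsPullback.of_hasPullback d b).flip
        show IsPullback (Q.inj i ≫ pullback.snd d b) (fi i) b (c.inj i ≫ d)
        rw [hd i, show Q.inj i ≫ pullback.snd d b = (yon S).map (si i) from pullback.lift_snd _ _ _]
        exact ((hg i).1.isPullback b).flip
    let t : P ⟶ (yon S).obj Zs := Cofan.IsColimit.desc hQ fun i => (yon S).map (ζ ⟨i⟩)
    let t' : (yon S).obj Zs ⟶ P := pullback.lift a ((yon S).map w) comm
    have ht' : ∀ i, (yon S).map (ζ ⟨i⟩) ≫ t' = Q.inj i := fun i => pullback.hom_ext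
      ((Category.assoc _ _ _).trans ((congrArg _ (pullback.lift_fst _ _ _)).trans
        ((ha ⟨i⟩).trans (pullback.lift_fst _ _ _).symm)))
      ((Category.assoc _ _ _).trans ((congrArg _ (pullback.lift_snd _ _ _)).trans
        ((((yon S).map_comp _ _).symm.trans (congrArg (yon S).map (hw ⟨i⟩))).trans
          (pullback.lift_snd _ _ _).symm)))
    haveI : IsIso t' := ⟨t, hext _ _ fun i => by
        rw [reassoc_of% ht' i, Category.comp_id]
        exact Cofan.IsColimit.fac hQ _ i,
      Cofan.IsColimit.hom_ext hQ _ _ fun i => by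
        rw [← Category.assoc, Cofan.IsColimit.fac, ht' i]
        exact (Category.comp_id _).symm⟩
    refine ⟨Zs, a, w, IsPullback.of_iso (IsPullback.of_hasPullback d b) (asIso t').symm (Iso.refl _) (Iso.refl _)
      (Iso.refl _) ?_ ?_ (by simp) (by simp), isFinite_sigmaDesc Wl _ fun i => ?_⟩
    · simp only [Iso.symm_hom, asIso_inv, Iso.refl_hom, Category.comp_id]
      rw [IsIso.eq_inv_comp]
      exact pullback.lift_fst _ _ _
    · simp only [Iso.symm_hom, asIso_inv, Iso.refl_hom, Category.comp_id]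
      rw [IsIso.eq_inv_comp]
      exact pullback.lift_snd _ _ _
    · exact (hg i.down).2 b _ _ ((hg i.down).1.isPullback b)
  exact CategoryTheory.MorphismProperty.relative.of_exists fun Z b => by
    obtain ⟨W, a, w, sq, hw⟩ := key b
    exact ⟨W, a, w, sq, hw⟩

end Groth.Agent.ASp
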