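import Groth.Agent.ASp.AffineLimRel
import Groth.Agent.AffLim.DescendRing
import Groth.Agent.FpqcDesc.Basic
/-!
# Members which are eventually finite
-/

set_option autoImplicit false
set_option backward.isDefEq.respectTransparency false
set_option backward.isDefEq.respectTransparency.types false

universe u

open CategoryTheory CategoryTheory.Limits AlgebraicGeometry Opposite

noncomputable section

namespace Groth.Agent.ASp

open _root_.AlgSp

attribute [local instance] CategoryTheory.isConnected_of_hasTerminal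

variable {S : Scheme.{u}} {I : Type u} [SmallCategory I] [IsCofiltered I] [QuasiSeparatedSpace ↥S]

/-- A system of finite type over `Y` with finite transition maps and integral limit is eventually finite. -/
theorem exists_isFiniteMor_member (D : I ⥤ Sp S) (hD : ∀ i, IsAlgSpace (D.obj i))
    (hDf : ∀ (i j : I) (φ : i ⟶ j), IsFiniteMor (D.map φ)) (hqc : ∀ i, IsQuasiCompactSp (D.obj i))
    (hqs : ∀ i, IsQuasiSeparatedSp (D.obj i)) {Y : Sp S} (hY : IsAlgSpace Y) (hYqc : IsQuasiCompactSp Y)
    (hYqs : IsQuasiSeparatedSp Y) (t : D ⟶ (Functor.const I).obj Y)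
    (hft : ∀ i, LocP @LocallyOfFiniteType (t.app i)) (c : Cone D) (hc : IsLimit c)
    (g : c.pt ⟶ Y) (hg : ∀ i, c.π.app i ≫ t.app i = g) (hX : IsIntegralMor g) :
    ∃ i₀ : I, ∀ (i : I) (_ : i ⟶ i₀), IsFiniteMor (t.app i) := by
  have hDa : ∀ (i j : I) (φ : i ⟶ j), IsAffineMor (D.map φ) := fun i j φ Z hZ z => by
    obtain ⟨W, w, fst, h1, h2, -⟩ := hDf i j φ hZ z
    exact ⟨W, w, fst, h1, h2⟩
  have ht : ∀ {i j : I} (φ : i ⟶ j), D.map φ ≫ t.app j = t.app i := fun φ => by simpa using t.naturality φ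
  obtain ⟨i₀, hi₀⟩ := exists_isAffineMor_member D hD hDa hqc hqs hY hYqc hYqs t c hc g hg (fun Z hZ z => by
    obtain ⟨W, w, fst, h1, h2, -⟩ := hX hZ z
    exact ⟨W, w, fst, h1, h2⟩)
  haveI := compactSpace_of_isQuasiCompactSp hYqc
  obtain ⟨V, v, hV, hv, hvs⟩ := exists_affine_chart hY
  haveI := hV
  obtain ⟨Q, q, a, sqa, hQ⟩ := hi₀ i₀ (𝟙 i₀) hV v
  haveI := hQ
  obtain ⟨F⟩ := exists_frame D hD hDa c hc i₀ a
  haveI : IsAffine F.cone.pt.left := F.isAffine_lim
  -- the squares over the chart
  have sqk : ∀ k, IsPullback (F.q k) ((yon S).map (F.w k ≫ q)) (t.app k.left) v := fun k => by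
    rw [Functor.map_comp, ← ht k.hom]
    exact ((F.sq k).flip.paste_horiz sqa.flip).flip
  have sql : IsPullback F.qLim ((yon S).map (F.wLim ≫ q)) g v := by
    rw [Functor.map_comp, ← hg i₀]
    exact (F.sqLim.flip.paste_horiz sqa.flip).flip
  haveI hint : IsIntegralHom (F.wLim ≫ q).left :=
    ((isIntegralMor_iff (isAlgSpace_limit_and_isAffineMor D hD hDa c hc).1 hY).1 hX).2 v _ _ sql
  -- the systems of schemes
  let E' : CategoryTheory.Over i₀ ⥤ Scheme.{u} := F.E ⋙ Over.forget S
  let E : CategoryTheory.Over i₀ ⥤ Scheme.{u} := (Functor.const _).obj V.left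
  haveI : ∀ k, IsAffine (E.obj k) := fun k => hV
  haveI : ∀ k, IsAffine (E'.obj k) := F.isAffine_stage
  let e : Cone E := constCone (CategoryTheory.Over i₀) V.left
  obtain he : IsLimit e := isLimitConstCone (CategoryTheory.Over i₀) V.left
  let h : E' ⟶ E :=
    { app := fun k => (F.w k ≫ q).left
      naturality := fun k l φ => by
        change (F.E.map φ).left ≫ (F.w l ≫ q).left = (F.w k ≫ q).left ≫ 𝟙 _
        rw [Category.comp_id, ← Over.comp_left, ← Category.assoc, F.map_w] }
  let o : CategoryTheory.Over i₀ := Over.mk (𝟙 i₀)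
  have hlft : ∀ k, LocallyOfFiniteType (h.app k) := fun k =>
    hft k.left (F.q k) v (F.w k ≫ q) (repWith_of_isPullback (sqk k).flip hv) hv (sqk k).w
  haveI := hlft o
  have hfin : ∀ {k l : CategoryTheory.Over i₀} (φ : k ⟶ l), IsFinite (F.E.map φ).left := fun {k l} φ =>
    ((isFiniteMor_iff (hD _) (hD _)).1 (hDf _ _ φ.left)).2 (F.q l) _ _ (F.isPullback_stage φ).flip
  obtain ⟨k, -, hk⟩ := AffLim.exists_isIntegral_appTop he F.isLimit h (F.wLim ≫ q).left
    (fun k => by
      change (F.wLim ≫ q).left ≫ 𝟙 _ = (F.cone.π.app k).left ≫ (F.w k ≫ q).left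
      rw [Category.comp_id, ← Over.comp_left, ← Category.assoc, F.π_w])
    (i := o) (fun l b x => by
      have hi : (E'.map b).appTop.hom.IsIntegral := by
        haveI := hfin b
        exact ((HasAffineProperty.iff_of_isAffine (P := @IsIntegralHom)).1 (inferInstanceAs (IsIntegralHom (F.E.map b).left))).2
      obtain ⟨P, hP, hPx⟩ := hi x
      let R := Subring.closure (Set.range (h.app l).appTop ∪ Set.range (E'.map b).appTop)
      let g₀ : Γ(E'.obj o, ⊤) →+* R := (E'.map b).appTop.hom.codRestrict R fun y =>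
        Subring.subset_closure (Or.inr ⟨y, rfl⟩)
      refine ⟨P.map g₀, hP.map _, ?_⟩
      rw [Polynomial.eval₂_map]
      exact hPx)
    ((HasAffineProperty.iff_of_isAffine (P := @IsIntegralHom)).1 hint).2
  refine ⟨k.left, fun j ψ => ?_⟩
  let m : CategoryTheory.Over i₀ := Over.mk (ψ ≫ k.hom)
  let ν : m ⟶ k := Over.homMk ψ rfl
  haveI : IsFinite (h.app k) := by
    haveI := hlft k
    haveI : IsIntegralHom (h.app k) :=
      (HasAffineProperty.iff_of_isAffine (P := @IsIntegralHom)).2 ⟨F.isAffine_stage k, hk⟩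
    exact (IsFinite.iff_isIntegralHom_and_locallyOfFiniteType _).2 ⟨inferInstance, inferInstance⟩
  have hmf : IsFinite (F.w m ≫ q).left := by
    haveI := hfin ν
    have : (F.w m ≫ q).left = (F.E.map ν).left ≫ h.app k := by
      change _ = (F.E.map ν).left ≫ (F.w k ≫ q).left
      rw [← Over.comp_left, ← Category.assoc, F.map_w]
    rw [this]
    infer_instance
  haveI := Groth.Agent.FpqcDesc.isFinite_descends.{u}
  refine (isFiniteMor_iff (hD j) hY).2 (repWith_of_fpqc_affine (P := @IsFinite)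
    (fun z (hz : IsFinite z) => inferInstance) (hD j) hY (fun _ : PUnit.{u+1} => sqk m)
    (isFpqcCover_of_chart hY hv hvs) fun _ => repWith_yon_map hmf)

end Groth.Agent.ASp
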