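import Groth.Prelude
import Groth.Agent.CMFlatLib.Dim
import Groth.Agent.CILib.FibreDim
import Groth.Agent.CILib.Scheme
import Groth.Agent.ASp.EtDim
import Groth.Agent.ASp.NoethFibre
import Groth.Agent.FibreDimEt.Sp
/-!
The dimension formula for flat morphisms with locally constant fibre dimension.
-/

set_option autoImplicit false
set_option backward.isDefEq.respectTransparency false
set_option linter.style.haveILetI false

universe u

open CategoryTheory CategoryTheory.Limits AlgebraicGeometry TopologicalSpace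

namespace Groth.Agent.ASp

open _root_.AlgSp DimFormulaLib CMFlatLib

theorem localDim_eq_of_flat {X Y : Scheme.{u}} (f : X ⟶ Y) [IsLocallyNoetherian X] [IsLocallyNoetherian Y]
    [Flat f] [LocallyOfFiniteType f] (x : X) (n : ℕ) (W : X.Opens) (hxW : x ∈ W)
    (hW : ∀ z ∈ W, FlatMor.fibreDimAt f z = n) :
    FlatMor.localDim ↥X x = FlatMor.localDim ↥Y (f x) + (n : WithBot ℕ∞) := by
  haveI : Nonempty {V : Opens ↥Y // f x ∈ V} := ⟨⟨⊤, trivial⟩⟩
  have hflat : ∀ z, (f.stalkMap z).hom.Flat := fun z => Flat.stalkMap f z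
  refine le_antisymm ?_ (le_iInf fun U => ?_)
  · obtain ⟨⟨V, hV⟩, hVd⟩ := ciInf_mem (fun V : {V : Opens ↥Y // f x ∈ V} => topologicalKrullDim V.1)
    rw [show FlatMor.localDim ↥Y (f x) = topologicalKrullDim ↥V from hVd.symm]
    let U : X.Opens := W ⊓ f ⁻¹ᵁ V
    refine (iInf_le _ (⟨U, ⟨hxW, hV⟩⟩ : {U : Opens ↥X // x ∈ U})).trans ?_
    show topologicalKrullDim ↥U ≤ _
    rw [topologicalKrullDim_opens_eq]
    refine iSup_le fun z => ?_
    obtain ⟨c⟩ := exists_chart f z.1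
    obtain ⟨a, b, d, t', ha, hb, hd, -, hloc, -, -, -, -⟩ := c.dims
    have h1 := stalk_dim_eq f z.1 (hflat z.1)
    rw [ha, hb, hd] at h1
    have h2 : n = d + t' := by exact_mod_cast (hW z.1 z.2.1).symm.trans hloc
    have h3 : a = b + d := by exact_mod_cast h1
    refine le_trans ?_ (add_le_add (show ringKrullDim (Y.presheaf.stalk (f z.1)) ≤ topologicalKrullDim ↥V from ?_) le_rfl)
    · rw [ha, hb]
      exact_mod_cast (by omega : a ≤ b + n)
    · rw [topologicalKrullDim_opens_eq]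
      exact le_iSup (fun w : V => ringKrullDim (Y.presheaf.stalk w.1)) ⟨f z.1, z.2.2⟩
  · obtain ⟨U, hU⟩ := U
    let U' : X.Opens := W ⊓ U
    have hopen : IsOpen (f '' (U' : Set X)) :=
      isOpenMap_of_generalizingMap f (Flat.generalizingMap f) _ U'.isOpen
    refine (add_le_add (iInf_le _ (⟨⟨_, hopen⟩, x, ⟨hxW, hU⟩, rfl⟩ : {V : Opens ↥Y // f x ∈ V})) le_rfl).trans ?_
    show topologicalKrullDim ↥(⟨_, hopen⟩ : Y.Opens) + (n : WithBot ℕ∞) ≤ topologicalKrullDim ↥U
    rw [topologicalKrullDim_opens_eq, topologicalKrullDim_opens_eq]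
    haveI : Nonempty ↥(⟨_, hopen⟩ : Y.Opens) := ⟨⟨f x, x, ⟨hxW, hU⟩, rfl⟩⟩
    refine add_le_of_forall _ n _ (fun y h => ?_) fun y => ?_
    · have := ringKrullDim_nonneg_of_nontrivial (R := Y.presheaf.stalk y.1)
      rw [h] at this
      exact absurd this (by simp)
    · obtain ⟨_, z₀, hz₀, rfl⟩ := y
      obtain ⟨z, hz, hzt⟩ := exists_resTrdegAt_zero (U'.ι ≫ f) ⟨z₀, hz₀⟩
      rw [resTrdegAt_ι f] at hzt
      obtain ⟨c⟩ := exists_chart f (U'.ι z)
      obtain ⟨a, b, d, t', ha, hb, hd, ht', hloc, -, -, -, -⟩ := c.dims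
      have h1 := stalk_dim_eq f _ (hflat (U'.ι z))
      rw [ha, hb, hd] at h1
      have h2 : n = d + t' := by exact_mod_cast (hW _ z.2.1).symm.trans hloc
      have h3 : a = b + d := by exact_mod_cast h1
      have h4 : t' = 0 := by exact_mod_cast (c.resTrdegAt_self.trans ht').symm.trans hzt
      have hfz : f (U'.ι z) = f z₀ := hz
      refine le_trans ?_ (le_iSup (fun w : U => ringKrullDim (X.presheaf.stalk w.1)) ⟨U'.ι z, z.2.2⟩)
      show ringKrullDim (Y.presheaf.stalk (f z₀)) + (n : WithBot ℕ∞) ≤ ringKrullDim (X.presheaf.stalk (U'.ι z))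
      rw [← hfz, hb, ha]
      exact_mod_cast (by omega : b + n ≤ a)

theorem exists_nhd_fibreDimAt_of_smooth {X Y : Scheme.{u}} (f : X ⟶ Y) [Smooth f] (x : X) :
    ∃ (n : ℕ) (W : X.Opens), x ∈ W ∧ FlatMor.fibreDimAt f x = n ∧ ∀ z ∈ W, FlatMor.fibreDimAt f z = n := by
  obtain ⟨n, hn⟩ := CMFlatLib.exists_nat_fibreDimAt f x
  obtain ⟨V, hxV, hV⟩ :=
    exists_nhd_isCMAt f x n (Groth.Agent.CILib.isCMAt_of_isSyntomicMor f (Groth.Agent.CILib.isSyntomicMor_of_smooth f) x) hn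
  exact ⟨n, V, hxV, hn, fun z hz => (hV z hz).2⟩

variable {S : Scheme.{u}}

theorem localDim_eq_of_hasAt {F : Sp S} {x : Points F} {dX : WithBot ℕ∞}
    (hx : HasAt (fun U u => FlatMor.localDim ↥U u = dX) F x) {U : Over S} {a : (yon S).obj U ⟶ F}
    (ha : RepWith @Etale a) {u : ↥U.left} (hu : Points.ofPt a u = x) : FlatMor.localDim ↥U.left u = dX := by
  obtain ⟨U₁, a₁, u₁, ha₁, hu₁, h⟩ := hx
  obtain ⟨P, t, s, r, ht, hs, -, rfl, rfl⟩ := exists_common_point ha ha₁ (hu.trans hu₁.symm)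
  haveI := ht
  haveI := hs
  rw [localDim_eq_of_etale t.left r, ← h, localDim_eq_of_etale s.left r]

/-- The dimension formula on charts. -/
theorem dim_formula_of_chart {X Y : Space S} {f : X ⟶ Y} (hX : IsLocNoethSp X.obj) (hY : IsLocNoethSp Y.obj)
    (hf : LocP @Flat f.hom) (hf' : LocP @LocallyOfFiniteType f.hom) {x : Points X.obj} {dX dY : WithBot ℕ∞}
    (hx : HasAt (fun U u => FlatMor.localDim ↥U u = dX) X.obj x)
    (hy : HasAt (fun U u => FlatMor.localDim ↥U u = dY) Y.obj (Points.map f.hom x))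
    {U V : Over S} {a : (yon S).obj U ⟶ X.obj} {b : (yon S).obj V ⟶ Y.obj} {h : U ⟶ V}
    (ha : RepWith @Etale a) (hb : RepWith @Etale b) (e : a ≫ f.hom = (yon S).map h ≫ b) {u : ↥U.left}
    (hu : Points.ofPt a u = x) (n : ℕ) (W : U.left.Opens) (huW : u ∈ W)
    (hW : ∀ z ∈ W, FlatMor.fibreDimAt h.left z = n) : dX = dY + (n : WithBot ℕ∞) := by
  haveI := isLocallyNoetherian_of_chart hX ha
  haveI := isLocallyNoetherian_of_chart hY hb
  haveI : Flat h.left := hf a b h ha hb e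
  haveI : LocallyOfFiniteType h.left := hf' a b h ha hb e
  rw [← localDim_eq_of_hasAt hx ha hu, localDim_eq_of_flat h.left u n W huW hW,
    localDim_eq_of_hasAt hy hb (u := h.left u) ?_]
  rw [← hu, Points.map_ofPt, e, ofPt_yon_map_comp]

end Groth.Agent.ASp
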