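import Groth.Agent.FlatLocus.FibreCrit
import Groth.Agent.FlatLocus.Scheme
import Groth.Agent.PullbackMod.Flat
import Mathlib.AlgebraicGeometry.Morphisms.Etale
/-!
Flatness at a point: etale invariance and commutation with base change, stalk form.
-/

set_option backward.isDefEq.respectTransparency false
set_option backward.isDefEq.respectTransparency.types false

universe u

open CategoryTheory CategoryTheory.Limits AlgebraicGeometry

namespace Groth.Agent.ASp

open Groth.Agent.FlatLocus

variable {X Y S : Scheme.{u}}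

/-- Flatness at a point may be tested after a flat map. -/
theorem flatAt_precomp_iff (t : X ⟶ Y) (f : Y ⟶ S) [Flat t] (x : X) :
    ((t ≫ f).stalkMap x).hom.Flat ↔ (f.stalkMap (t x)).hom.Flat :=
  ⟨fun h => flat_left_of_flat_comp t f x h (Flat.stalkMap t x),
    fun h => flat_comp_stalkMap t f x h (Flat.stalkMap t x)⟩

/-- An etale map of the target does not affect flatness at a point. -/
theorem flatAt_postcomp_iff (l : X ⟶ Y) (π : Y ⟶ S) [Etale π] [LocallyOfFinitePresentation l] (x : X) :
    ((l ≫ π).stalkMap x).hom.Flat ↔ (l.stalkMap x).hom.Flat := by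
  refine ⟨fun h => ?_, fun h => flat_comp_stalkMap l π x (Flat.stalkMap π _) h⟩
  haveI : LocallyOfFinitePresentation (l ≫ π) := inferInstance
  let O : X.Opens := ⟨{y | ((l ≫ π).stalkMap y).hom.Flat}, isOpen_flat_stalkMap (l ≫ π)⟩
  haveI : Flat ((O.ι ≫ l) ≫ π) := by
    rw [Category.assoc]
    refine Flat.of_stalkMap _ fun y => ?_
    rw [flatAt_precomp_iff]
    exact y.2
  haveI : FormallyUnramified π := inferInstance
  haveI : Flat (O.ι ≫ l) := by
    let Γ' := pullback.lift (f := (O.ι ≫ l) ≫ π) (g := π) (𝟙 _) (O.ι ≫ l) (Category.id_comp _)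
    have sq : IsPullback (O.ι ≫ l) Γ' (pullback.diagonal π) _ := pullback_lift_diagonal_isPullback (O.ι ≫ l) π
    haveI : Flat Γ' := MorphismProperty.of_isPullback (P := @Flat) sq inferInstance
    have e : Γ' ≫ pullback.snd ((O.ι ≫ l) ≫ π) π = O.ι ≫ l := pullback.lift_snd _ _ _
    rw [← e]
    infer_instance
  exact (flatAt_precomp_iff O.ι l ⟨x, h⟩).1 (Flat.stalkMap (O.ι ≫ l) ⟨x, h⟩)

/-- For `X` flat and locally of finite presentation over `S`, flatness over `Y` at a point descends along base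
changes of `S`. -/
theorem flatAt_of_baseChange_of_flat {X' Y' S' : Scheme.{u}} (f : X ⟶ Y) (g : Y ⟶ S)
    [LocallyOfFinitePresentation (f ≫ g)] [LocallyOfFiniteType g] [Flat (f ≫ g)]
    {h : S' ⟶ S} {gY : Y' ⟶ Y} {g' : Y' ⟶ S'} (hY : IsPullback gY g' g h)
    {gX : X' ⟶ X} {f' : X' ⟶ Y'} (hX : IsPullback gX f' f gY) (x' : X')
    (h2 : (f'.stalkMap x').hom.Flat) : (f.stalkMap (gX x')).hom.Flat := by
  let s' := (f' ≫ g') x'
  let s := h s'
  let k := Spec.map (h.residueFieldMap s')
  have hk : S'.fromSpecResidueField s' ≫ h = k ≫ S.fromSpecResidueField s :=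
    (Scheme.Hom.SpecMap_residueFieldMap_fromSpecResidueField h s').symm
  let z' := (f' ≫ g').asFiber x'
  have hz' : (f' ≫ g').fiberι s' z' = x' := (f' ≫ g').fiberι_asFiber x'
  haveI : Flat k := by
    rw [HasRingHomProperty.Spec_iff (P := @Flat)]
    letI := (h.residueFieldMap s').hom.toAlgebra
    exact RingHom.flat_algebraMap_iff.2 inferInstance
  have hD : IsPullback (g'.fiberι s' ≫ gY) (g'.fiberToSpecResidueField s') g
      (k ≫ S.fromSpecResidueField s) := by
    rw [← hk]
    exact (IsPullback.of_hasPullback g' (S'.fromSpecResidueField s')).paste_horiz hY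
  obtain ⟨a, ha1, ha2⟩ : ∃ a : g'.fiber s' ⟶ g.fiber s,
      a ≫ g.fiberι s = g'.fiberι s' ≫ gY ∧
      a ≫ g.fiberToSpecResidueField s = g'.fiberToSpecResidueField s' ≫ k :=
    ⟨pullback.lift (g'.fiberι s' ≫ gY) (g'.fiberToSpecResidueField s' ≫ k)
      (by rw [Category.assoc _ k]; exact hD.w), pullback.lift_fst _ _ _, pullback.lift_snd _ _ _⟩
  have hAa : IsPullback a (g'.fiberToSpecResidueField s') (g.fiberToSpecResidueField s) k :=
    IsPullback.of_right (h₁₂ := g.fiberι s) (by rw [ha1]; exact hD) ha2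
      (IsPullback.of_hasPullback g (S.fromSpecResidueField s))
  haveI : Flat a := MorphismProperty.of_isPullback (P := @Flat) hAa.flip ‹_›
  obtain ⟨c, hc1, hc2⟩ : ∃ c : (f' ≫ g').fiber s' ⟶ (f ≫ g).fiber s,
      c ≫ (f ≫ g).fiberι s = (f' ≫ g').fiberι s' ≫ gX ∧
      c ≫ (f ≫ g).fiberToSpecResidueField s = (f' ≫ g').fiberToSpecResidueField s' ≫ k :=
    ⟨pullback.lift ((f' ≫ g').fiberι s' ≫ gX) ((f' ≫ g').fiberToSpecResidueField s' ≫ k)
      (by rw [Category.assoc, Category.assoc _ k, ← hk, (hX.paste_vert hY).w, ← Category.assoc,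
            show (f' ≫ g').fiberι s' ≫ f' ≫ g' = (f' ≫ g').fiberToSpecResidueField s' ≫ S'.fromSpecResidueField s'
              from pullback.condition, Category.assoc]),
      pullback.lift_fst _ _ _, pullback.lift_snd _ _ _⟩
  have hC : IsPullback ((f' ≫ g').fiberι s' ≫ gX) ((f' ≫ g').fiberToSpecResidueField s') (f ≫ g)
      (k ≫ S.fromSpecResidueField s) := by
    rw [← hk]
    exact (IsPullback.of_hasPullback (f' ≫ g') (S'.fromSpecResidueField s')).paste_horiz (hX.paste_vert hY)
  have hCc : IsPullback c ((f' ≫ g').fiberToSpecResidueField s') ((f ≫ g).fiberToSpecResidueField s) k :=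
    IsPullback.of_right (h₁₂ := (f ≫ g).fiberι s) (by rw [hc1]; exact hC) hc2
      (IsPullback.of_hasPullback (f ≫ g) (S.fromSpecResidueField s))
  haveI : Flat c := MorphismProperty.of_isPullback (P := @Flat) hCc.flip ‹_›
  have hw : c ≫ MoreMor.fiberMap f g s = MoreMor.fiberMap f' g' s' ≫ a := by
    apply pullback.hom_ext
    · show (c ≫ MoreMor.fiberMap f g s) ≫ g.fiberι s = (MoreMor.fiberMap f' g' s' ≫ a) ≫ g.fiberι s
      rw [Category.assoc, fiberMap_fiberι, reassoc_of% hc1, Category.assoc, ha1,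
        reassoc_of% (fiberMap_fiberι f' g' s'), hX.w]
    · show (c ≫ MoreMor.fiberMap f g s) ≫ g.fiberToSpecResidueField s =
        (MoreMor.fiberMap f' g' s' ≫ a) ≫ g.fiberToSpecResidueField s
      rw [Category.assoc, show MoreMor.fiberMap f g s ≫ g.fiberToSpecResidueField s =
        (f ≫ g).fiberToSpecResidueField s from pullback.lift_snd _ _ _, hc2, Category.assoc, ha2,
        ← Category.assoc (MoreMor.fiberMap f' g' s'),
        show MoreMor.fiberMap f' g' s' ≫ g'.fiberToSpecResidueField s' =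
        (f' ≫ g').fiberToSpecResidueField s' from pullback.lift_snd _ _ _]
  have h3 : ((MoreMor.fiberMap f' g' s').stalkMap z').hom.Flat := by
    refine fiberMap_stalkMap_flat_of_flat f' g' s' z' ?_
    rw [hz']
    exact h2
  have h4 : ((c ≫ MoreMor.fiberMap f g s).stalkMap z').hom.Flat := by
    rw [hw]
    exact flat_comp_stalkMap _ a z' (Flat.stalkMap a _) h3
  have h5 : ((MoreMor.fiberMap f g s).stalkMap (c z')).hom.Flat :=
    (flatAt_precomp_iff c _ z').1 h4
  refine ((fibre_criterion f g s (c z') (gX x') ?_).1 ⟨Flat.stalkMap _ _, h5⟩).2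
  rw [← Scheme.Hom.comp_apply, hc1, Scheme.Hom.comp_apply, hz']

end Groth.Agent.ASp
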