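import Groth.Agent.ASp.OpenImm
import Groth.Agent.ASp.Graph
import Groth.Agent.ASp.Infinitesimal

/-!
Unramified morphisms of algebraic spaces are those with open diagonal.
-/

set_option autoImplicit false
set_option backward.isDefEq.respectTransparency false
set_option backward.isDefEq.respectTransparency.types false

universe u

open CategoryTheory CategoryTheory.Limits AlgebraicGeometry Opposite

namespace Groth.Agent.ASp

open _root_.AlgSp

variable {S : Scheme.{u}} {F G : Sp S} {f : F ⟶ G}

/-- The chart of the diagonal given by a chart of a morphism. -/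
theorem exists_diagonal_chart {U V : Over S} {a : (yon S).obj U ⟶ F} {b : (yon S).obj V ⟶ G} {h : U ⟶ V}
    (ha : RepWith @Etale a) (hb : RepWith @Etale b) (e : a ≫ f = (yon S).map h ≫ b) :
    ∃ m : (yon S).obj (pullback h h) ⟶ pullback f f, RepWith @Etale m ∧
      a ≫ pullback.diagonal f = (yon S).map (pullback.diagonal h) ≫ m ∧
      m ≫ pullback.fst f f = (yon S).map (pullback.fst h h) ≫ a := by
  have hdb : RepWith @Etale (pullback.diagonal b) :=
    (repWith_diagonal_iff hb.1).2 ⟨hb.1, fun U' V' g fst snd sq => by
      haveI : Etale snd.left := hb.2 g fst snd sq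
      show Etale (pullback.diagonal snd.left)
      infer_instance⟩
  let m₁ := pullback.map ((yon S).map h) ((yon S).map h) ((yon S).map h ≫ b) ((yon S).map h ≫ b)
    (𝟙 _) (𝟙 _) b (Category.id_comp _).symm (Category.id_comp _).symm
  have hm₁' : m₁ = pullback.map _ _ _ _ (𝟙 _) (𝟙 _) b (Category.id_comp _).symm (Category.id_comp _).symm := rfl
  have hm₁ : pullback.diagonal ((yon S).map h) ≫ m₁ = pullback.diagonal ((yon S).map h ≫ b) := by
    apply pullback.hom_ext <;> simp [m₁, pullback.map]
  have hsq := pullback_map_diagonal_isPullback ((yon S).map h) ((yon S).map h) b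
  have hm₁e : RepWith @Etale m₁ := repWith_of_isPullback hsq hdb
  let m₂ : pullback ((yon S).map h ≫ b) ((yon S).map h ≫ b) ⟶ pullback f f :=
    pullback.map _ _ f f a a (𝟙 G) ((Category.comp_id _).trans e.symm) ((Category.comp_id _).trans e.symm)
  have hm₂ : RepWith @Etale m₂ :=
    MorphismProperty.pullbackMap (P := RepWith (S := S) @Etale) ha ha e.symm e.symm
  let i := (isPullback_yon_map (IsPullback.of_hasPullback h h)).isoPullback
  refine ⟨(i.hom ≫ m₁) ≫ m₂, repWith_comp (repWith_comp (repWith_of_isIso i.hom) hm₁e) hm₂, ?_, ?_⟩
  rotate_left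
  · rw [Category.assoc, Category.assoc, show m₂ ≫ pullback.fst f f = pullback.fst _ _ ≫ a from
      pullback.lift_fst _ _ _]
    have hfst : m₁ ≫ pullback.fst ((yon S).map h ≫ b) ((yon S).map h ≫ b) =
        pullback.fst ((yon S).map h) ((yon S).map h) := by
      rw [hm₁']
      exact (pullback.lift_fst _ _ _).trans (Category.comp_id _)
    rw [reassoc_of% hfst, IsPullback.isoPullback_hom_fst_assoc]
  have hi : (yon S).map (pullback.diagonal h) ≫ i.hom = pullback.diagonal ((yon S).map h) := by
    apply pullback.hom_ext
    · rw [Category.assoc, IsPullback.isoPullback_hom_fst, ← Functor.map_comp, pullback.diagonal_fst,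
        pullback.diagonal_fst, CategoryTheory.Functor.map_id]
    · rw [Category.assoc, IsPullback.isoPullback_hom_snd, ← Functor.map_comp, pullback.diagonal_snd,
        pullback.diagonal_snd, CategoryTheory.Functor.map_id]
  rw [← Category.assoc, ← Category.assoc, hi, hm₁]
  apply pullback.hom_ext
  · simp [m₂, pullback.map]
  · simp [m₂, pullback.map]

/-- The diagonal of an unramified morphism is an open immersion. -/
theorem repWith_diagonal_isOpenImmersion_of_unramified (hF : IsAlgSpace F) (hG : IsAlgSpace G)
    (h : LocP (@LocallyOfFiniteType ⊓ @FormallyUnramified) f) :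
    RepWith @IsOpenImmersion (pullback.diagonal f) := by
  have hP := isAlgSpace_pullback hG.diag hF hF f f
  haveI : Mono (pullback.diagonal f) := inferInstance
  refine repWith_isOpenImmersion_of_mono_etale hF hP _ ?_
  obtain ⟨U, V, a, b, k, ha, has, hb, hbs, e⟩ := Inf.exists_chart (f := f) hF hG
  obtain ⟨m, hm, em, -⟩ := exists_diagonal_chart ha hb e
  haveI : LocallyOfFiniteType k.left := (h a b k ha hb e).1
  haveI : FormallyUnramified k.left := (h a b k ha hb e).2
  refine locP_of_chart ha has hm em ?_
  have : IsPullback (pullback.fst k k).left (pullback.snd k k).left k.left k.left :=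
    (IsPullback.of_hasPullback k k).map (Over.forget S)
  have hd : (pullback.diagonal k).left = pullback.diagonal k.left ≫ this.isoPullback.inv := by
    rw [Iso.eq_comp_inv]
    apply pullback.hom_ext
    · rw [Category.assoc, IsPullback.isoPullback_hom_fst, ← Over.comp_left, pullback.diagonal_fst,
        pullback.diagonal_fst]
      rfl
    · rw [Category.assoc, IsPullback.isoPullback_hom_snd, ← Over.comp_left, pullback.diagonal_snd,
        pullback.diagonal_snd]
      rfl
  rw [hd]
  infer_instance

/-- A morphism locally of finite type whose diagonal is an open immersion is unramified. -/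
theorem locP_unramified_of_diagonal (hft : LocP @LocallyOfFiniteType f)
    (hd : RepWith @IsOpenImmersion (pullback.diagonal f)) :
    LocP (@LocallyOfFiniteType ⊓ @FormallyUnramified) f := by
  intro U V a b k ha hb e
  refine ⟨hft a b k ha hb e, ?_⟩
  obtain ⟨m, hm, em, -⟩ := exists_diagonal_chart ha hb e
  have hde : RepWith @Etale (pullback.diagonal f) :=
    repWith_mono (fun _ _ g hg => by have : IsOpenImmersion g := hg; exact inferInstance) hd
  haveI het : Etale (pullback.diagonal k).left := locP_of_repWith hde a m _ ha hm em
  have : IsPullback (pullback.fst k k).left (pullback.snd k k).left k.left k.left :=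
    (IsPullback.of_hasPullback k k).map (Over.forget S)
  have hd : pullback.diagonal k.left = (pullback.diagonal k).left ≫ this.isoPullback.hom := by
    apply pullback.hom_ext
    · rw [Category.assoc, IsPullback.isoPullback_hom_fst, ← Over.comp_left, pullback.diagonal_fst,
        pullback.diagonal_fst]
      rfl
    · rw [Category.assoc, IsPullback.isoPullback_hom_snd, ← Over.comp_left, pullback.diagonal_snd,
        pullback.diagonal_snd]
      rfl
  haveI : Mono ((yon S).map (pullback.diagonal k)) := (yon S).map_mono _
  haveI : IsOpenImmersion (pullback.diagonal k).left :=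
    (repWith_yon_map_iff _ _).1 (repWith_isOpenImmersion_of_mono_etale (IsAlgSpace.yon_obj U)
      (IsAlgSpace.yon_obj _) _ (locP_of_repWith (repWith_yon_map het)))
  haveI : IsOpenImmersion (pullback.diagonal k.left) := hd ▸ inferInstance
  exact inferInstance

/-- A morphism of schemes whose self base change is etale is locally quasi-finite. -/
theorem locallyQuasiFinite_of_etale_self {U V : Scheme.{u}} (k : U ⟶ V) [Etale (pullback.fst k k)] :
    LocallyQuasiFinite k := by
  refine LocallyQuasiFinite.of_fiberToSpecResidueField k fun v => ?_
  let g := k.fiberToSpecResidueField v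
  let c : k.fiber v ⟶ U := k.fiberι v
  let ι := V.fromSpecResidueField v
  have hg : IsPullback c g k ι := IsPullback.of_hasPullback _ _
  have hgg : Etale (pullback.fst g g) := by
    let d : pullback g g ⟶ pullback k k := pullback.map g g k k c c ι hg.w.symm hg.w.symm
    have hsq : IsPullback d (pullback.fst g g) (pullback.fst k k) c := by
      refine IsPullback.of_right ?_ (pullback.lift_fst _ _ _) (IsPullback.of_hasPullback k k).flip
      rw [show d ≫ pullback.snd k k = pullback.snd g g ≫ c from pullback.lift_snd _ _ _, hg.w]
      exact (IsPullback.of_hasPullback g g).flip.paste_horiz hg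
    exact MorphismProperty.of_isPullback (P := @Etale) hsq ‹_›
  rw [IsZariskiLocalAtSource.iff_of_openCover (P := @LocallyQuasiFinite) (k.fiber v).affineCover]
  intro i
  let j := (k.fiber v).affineCover.f i
  haveI : IsOpenImmersion j := (k.fiber v).affineCover.map_prop i
  let w := j ≫ g
  rcases isEmpty_or_nonempty ↥((k.fiber v).affineCover.X i) with he | hne
  · haveI : IsOpenImmersion w := inferInstance
    exact inferInstanceAs (LocallyQuasiFinite w)
  haveI : Surjective w := ⟨fun p => ⟨hne.some, Subsingleton.elim _ _⟩⟩
  haveI : IsAffine ((k.fiber v).affineCover.X i) := inferInstanceAs (IsAffine (Spec _))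
  haveI : Flat w := inferInstance
  haveI : Etale (pullback.fst w w) := by
    haveI : Etale (pullback.fst w w ≫ j) := by
      have e : pullback.fst w w ≫ j = pullback.map w w g g j j (𝟙 _) (Category.comp_id _) (Category.comp_id _) ≫
          pullback.fst g g := (pullback.lift_fst _ _ _).symm
      rw [e]
      infer_instance
    exact Etale.of_comp (pullback.fst w w) j
  haveI : Etale w := MorphismProperty.of_isPullback_of_descendsAlong (P := @Etale)
    (Q := @Surjective ⊓ @Flat ⊓ @QuasiCompact) (IsPullback.of_hasPullback w w)
    ⟨⟨‹_›, ‹_›⟩, inferInstance⟩ ‹_›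
  show LocallyQuasiFinite w
  rw [HasRingHomProperty.iff_appLE (P := @LocallyQuasiFinite)]
  intro U' V' e
  algebraize [(w.appLE U' V' e).hom]
  haveI : Algebra.Etale _ _ := RingHom.etale_algebraMap.mp (w.etale_appLE U'.2 V'.2 e)
  exact RingHom.quasiFinite_algebraMap.mpr inferInstance

/-- Monomorphisms locally of finite type are locally quasi-finite. -/
theorem locP_lqf_of_mono [Mono f] (hft : LocP @LocallyOfFiniteType f) :
    LocP (@LocallyQuasiFinite ⊓ @LocallyOfFiniteType) f := by
  intro U V a b k ha hb e
  refine ⟨?_, hft a b k ha hb e⟩
  obtain ⟨m, hm, -, em⟩ := exists_diagonal_chart ha hb e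
  haveI : Etale (pullback.fst k k).left := etale_of_comp_eq (k := pullback.fst k k)
    (repWith_comp hm (repWith_of_isIso (pullback.fst f f))) ha em.symm
  have : IsPullback (pullback.fst k k).left (pullback.snd k k).left k.left k.left :=
    (IsPullback.of_hasPullback k k).map (Over.forget S)
  haveI : Etale (pullback.fst k.left k.left) := by
    rw [← this.isoPullback_inv_fst]
    infer_instance
  exact locallyQuasiFinite_of_etale_self k.left

end Groth.Agent.ASp
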