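import Groth.Agent.ASp.FlatLocusSch
import Groth.Agent.ASp.LocP
import Groth.Agent.ASp.EtLocal
import Groth.Agent.ASp.ChartDim
import Groth.Agent.ASp.Infinitesimal
import Groth.Agent.FibreFlatSp.Main

/-!
The flat locus of a morphism of algebraic spaces: one chart suffices, openness, base change.
-/

set_option autoImplicit false
set_option backward.isDefEq.respectTransparency false
set_option backward.isDefEq.respectTransparency.types false

universe u

open CategoryTheory CategoryTheory.Limits AlgebraicGeometry Opposite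

namespace Groth.Agent.ASp

open _root_.AlgSp Groth.Agent.Inf

variable {S : Scheme.{u}} {X Y Z : Sp S} {f : X ⟶ Y} {g : Y ⟶ Z}

/-- Flatness at a point can be tested in one chart. -/
theorem isFlatAtMor_iff_of_chart (hfp : LocP @LocallyOfFinitePresentation f) {U V : Over S}
    {a : (yon S).obj U ⟶ X} {b : (yon S).obj V ⟶ Y} {k : U ⟶ V} (ha : RepWith @Etale a)
    (hb : RepWith @Etale b) (e : a ≫ f = (yon S).map k ≫ b) (u : ↥U.left) :
    IsFlatAtMor f (Points.ofPt a u) ↔ (k.left.stalkMap u).hom.Flat := by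
  refine ⟨fun h => h a b k u ha hb e rfl, fun h U' V' a' b' k' u' ha' hb' e' hu => ?_⟩
  obtain ⟨P, t, s, r, ht, hs, hts, rfl, rfl⟩ := exists_common_point ha' ha hu
  obtain ⟨V₂, v₁, v₂, sq⟩ := exists_isPullback_yon hb'.1 b
  haveI hv₁ : Etale v₁.left := hb.2 _ _ _ sq.flip
  haveI hv₂ : Etale v₂.left := hb'.2 _ _ _ sq
  obtain ⟨l, hl⟩ := (yon S).map_surjective (sq.lift ((yon S).map (t ≫ k')) ((yon S).map (s ≫ k)) (by
    rw [Functor.map_comp, Functor.map_comp, Category.assoc, Category.assoc, ← e, ← e', reassoc_of% hts]))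
  have h₁ : l.left ≫ v₁.left = t.left ≫ k'.left := by
    rw [← Over.comp_left, ← Over.comp_left]
    exact congrArg CommaMorphism.left ((yon S).map_injective (by simp [hl]) : l ≫ v₁ = t ≫ k')
  have h₂ : l.left ≫ v₂.left = s.left ≫ k.left := by
    rw [← Over.comp_left, ← Over.comp_left]
    exact congrArg CommaMorphism.left ((yon S).map_injective (by simp [hl]) : l ≫ v₂ = s ≫ k)
  haveI : Etale t.left := ht
  haveI : Etale s.left := hs
  haveI : LocallyOfFinitePresentation k'.left := hfp a' b' k' ha' hb' e'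
  haveI : LocallyOfFinitePresentation (l.left ≫ v₁.left) := by rw [h₁]; infer_instance
  haveI : LocallyOfFinitePresentation l.left := FlatLocus.locallyOfFinitePresentation_of_comp l.left v₁.left
  change (k'.left.stalkMap (t.left r)).hom.Flat
  rw [← flatAt_precomp_iff t.left k'.left r, ← h₁, flatAt_postcomp_iff, ← flatAt_postcomp_iff l.left v₂.left,
    h₂, flatAt_precomp_iff s.left k.left r]
  exact h

/-- The flat locus of a morphism locally of finite presentation is open. -/
theorem isOpen_flatLocus (hX : IsAlgSpace X) (hY : IsAlgSpace Y) (hfp : LocP @LocallyOfFinitePresentation f) :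
    IsOpen {x : Points X | IsFlatAtMor f x} := by
  obtain ⟨U, V, a, b, k, ha, has, hb, -, e⟩ := exists_chart (f := f) hX hY
  haveI : LocallyOfFinitePresentation k.left := hfp a b k ha hb e
  rw [isOpen_iff_chart ha has]
  convert FlatLocus.isOpen_flat_stalkMap k.left using 1
  exact Set.ext fun u => isFlatAtMor_iff_of_chart hfp ha hb e u

/-- The chart of a base change over a chart of the new base. -/
theorem exists_baseChange_chart {X' Z' : Sp S} {F : X ⟶ Z} {G : Z' ⟶ Z} {pX : X' ⟶ X} {F' : X' ⟶ Z'}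
    (sq : IsPullback pX F' F G) {U W W' : Over S} {a : (yon S).obj U ⟶ X} {c : (yon S).obj W ⟶ Z}
    {c' : (yon S).obj W' ⟶ Z'} {k : U ⟶ W} {j : W' ⟶ W} (ha : RepWith @Etale a) (hc : RepWith @Etale c)
    (hc' : RepWith @Etale c') (e : a ≫ F = (yon S).map k ≫ c) (ej : (yon S).map j ≫ c = c' ≫ G) :
    ∃ a' : (yon S).obj (pullback k j) ⟶ X', RepWith @Etale a' ∧
      a' ≫ pX = (yon S).map (pullback.fst k j) ≫ a ∧ a' ≫ F' = (yon S).map (pullback.snd k j) ≫ c' := by
  obtain ⟨m, hm, hm₁, hm₂⟩ := FibreFlatSp.exists_fibre_chart ha hc e j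
  obtain ⟨ψ, hψ₁, hψ₂⟩ : ∃ ψ : pullback F ((yon S).map j ≫ c) ⟶ X',
      ψ ≫ pX = pullback.fst _ _ ∧ ψ ≫ F' = pullback.snd _ _ ≫ c' :=
    ⟨sq.lift (pullback.fst _ _) (pullback.snd _ _ ≫ c') (by rw [pullback.condition, Category.assoc, ← ej]),
      sq.lift_fst _ _ _, sq.lift_snd _ _ _⟩
  have hψ : IsPullback ψ (pullback.snd F ((yon S).map j ≫ c)) F' c' :=
    IsPullback.of_right (h₁₂ := pX) (by rw [hψ₁, ← ej]; exact IsPullback.of_hasPullback _ _) hψ₂ sq
  refine ⟨m ≫ ψ, repWith_comp hm (repWith_of_isPullback hψ.flip hc'), ?_, ?_⟩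
  · rw [Category.assoc, hψ₁, hm₁]
  · rw [Category.assoc, hψ₂, reassoc_of% hm₂]

/-- The flat locus commutes with base change when the source is flat over the base. -/
theorem isFlatAtMor_baseChange_iff (hX : IsAlgSpace X) (hY : IsAlgSpace Y) (hZ : IsAlgSpace Z)
    {X' Y' Z' : Sp S} (hX' : IsAlgSpace X') (hZ' : IsAlgSpace Z')
    (hfgp : LocP @LocallyOfFinitePresentation (f ≫ g)) (hfgf : LocP @Flat (f ≫ g))
    (hg : LocP @LocallyOfFiniteType g)
    {pX : X' ⟶ X} {pY : Y' ⟶ Y} {pZ : Z' ⟶ Z} {f' : X' ⟶ Y'} {g' : Y' ⟶ Z'}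
    (hcY : IsPullback pY g' g pZ) (hcX : IsPullback pX f' f pY)
    (hfp : LocP @LocallyOfFinitePresentation f) (hfp' : LocP @LocallyOfFinitePresentation f')
    (x' : Points X') : IsFlatAtMor f' x' ↔ IsFlatAtMor f (Points.map pX x') := by
  obtain ⟨V, W, b, c, r, hb, hbs, hc, hcs, e₂⟩ := exists_chart (f := g) hY hZ
  obtain ⟨U₀, p, hpe, hps⟩ := hX.atlas
  obtain ⟨U, w, k, hwe, hws, hk, -⟩ := exists_etale_cover hb hbs (p ≫ f)
  set a := (yon S).map w ≫ p
  have ha : RepWith @Etale a := repWith_comp (repWith_yon_map hwe) hpe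
  have has : RepWith @Surjective a := repWith_comp (repWith_yon_map hws) hps
  have e₁ : a ≫ f = (yon S).map k ≫ b := by rw [hk, Category.assoc]
  obtain ⟨u, hu⟩ := surjective_ofPt has (Points.map pX x')
  -- a point over `x'` and `u`
  have hQ : IsAlgSpace (pullback pX a) := isAlgSpace_pullback hX.diag hX' (IsAlgSpace.yon_obj U) pX a
  obtain ⟨q, hq₁, hq₂⟩ := points_exists_of_isPullback (IsPullback.of_hasPullback pX a) x'
    (Points.ofScheme U u) (by rw [← Points.ofPt_eq_map_ofScheme, hu])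
  obtain ⟨U₁, p₁, -, hp₁s⟩ := hQ.atlas
  obtain ⟨u₁, rfl⟩ := surjective_ofPt hp₁s q
  obtain ⟨z₁, hz₁⟩ := (yon S).map_surjective (p₁ ≫ pullback.snd pX a)
  -- an atlas of the new base over the old one
  have hZ₁ : IsAlgSpace (pullback c pZ) := isAlgSpace_pullback hZ.diag (IsAlgSpace.yon_obj W) hZ' c pZ
  obtain ⟨W', ω, hωe, hωs⟩ := hZ₁.atlas
  obtain ⟨j, hj⟩ := (yon S).map_surjective (ω ≫ pullback.fst c pZ)
  set c' := ω ≫ pullback.snd c pZ
  have hc' : RepWith @Etale c' := repWith_comp hωe (repWith_of_isPullback (IsPullback.of_hasPullback c pZ) hc)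
  have ej : (yon S).map j ≫ c = c' ≫ pZ := by
    rw [hj, Category.assoc, pullback.condition, Category.assoc]
  let σ : (yon S).obj U₁ ⟶ pullback c pZ :=
    pullback.lift ((yon S).map (z₁ ≫ k ≫ r)) (p₁ ≫ pullback.fst pX a ≫ f' ≫ g') (by
      simp only [Functor.map_comp, Category.assoc, ← e₂, ← reassoc_of% e₁, hz₁]
      rw [← hcY.w, ← reassoc_of% hcX.w, pullback.condition_assoc])
  obtain ⟨U₂, w₂, v₂, -, hw₂s, hv₂, -⟩ := exists_etale_cover hωe hωs σ
  obtain ⟨u₂, rfl⟩ := hw₂s.surj u₁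
  -- charts of the base change
  have e₁₂ : a ≫ f ≫ g = (yon S).map (k ≫ r) ≫ c := by
    rw [reassoc_of% e₁, e₂, Functor.map_comp, Category.assoc]
  obtain ⟨b', hb', hb'₁, hb'₂⟩ := exists_baseChange_chart hcY hb hc hc' e₂ ej
  obtain ⟨a', ha', ha'₁, ha'₂⟩ := exists_baseChange_chart (hcX.paste_vert hcY) ha hc hc' e₁₂ ej
  let k' : pullback (k ≫ r) j ⟶ pullback r j :=
    pullback.lift (pullback.fst (k ≫ r) j ≫ k) (pullback.snd (k ≫ r) j)
      (by rw [Category.assoc, pullback.condition])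
  have sqk : IsPullback (pullback.fst (k ≫ r) j) k' k (pullback.fst r j) :=
    IsPullback.of_bot (v₂₁ := pullback.snd r j) (v₂₂ := r) (h₃₁ := j)
      (by simpa [k'] using IsPullback.of_hasPullback (k ≫ r) j) (pullback.lift_fst _ _ _).symm
      (IsPullback.of_hasPullback r j)
  have e' : a' ≫ f' = (yon S).map k' ≫ b' := by
    refine hcY.hom_ext ?_ ?_
    · rw [Category.assoc, ← hcX.w, reassoc_of% ha'₁, e₁, Category.assoc, hb'₁, ← Functor.map_comp_assoc,
        ← Functor.map_comp_assoc]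
      simp [k']
    · rw [Category.assoc, ha'₂, Category.assoc, hb'₂, ← Functor.map_comp_assoc]
      simp [k']
  -- the point in the chart of the base change
  obtain ⟨l, hl₁, hl₂⟩ : ∃ l : U₂ ⟶ pullback (k ≫ r) j,
      l ≫ pullback.fst _ _ = w₂ ≫ z₁ ∧ l ≫ pullback.snd _ _ = v₂ :=
    ⟨pullback.lift (w₂ ≫ z₁) v₂ ((yon S).map_injective (by
        have := hv₂ =≫ pullback.fst c pZ
        simp only [Category.assoc, σ, pullback.lift_fst, ← hj] at this
        simp only [Functor.map_comp, Category.assoc] at this ⊢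
        rw [this])),
      pullback.lift_fst _ _ _, pullback.lift_snd _ _ _⟩
  have hla : (yon S).map l ≫ a' = (yon S).map w₂ ≫ p₁ ≫ pullback.fst pX a := by
    refine (hcX.paste_vert hcY).hom_ext ?_ ?_
    · rw [Category.assoc, ha'₁, ← Functor.map_comp_assoc, hl₁, Functor.map_comp_assoc, hz₁]
      simp only [Category.assoc, pullback.condition]
    · have := hv₂ =≫ pullback.snd c pZ
      simp only [Category.assoc, σ, pullback.lift_snd] at this
      rw [Category.assoc, ha'₂, ← Functor.map_comp_assoc, hl₂]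
      simp only [c', Category.assoc, this]
  have hx : Points.ofPt a' (l.left u₂) = x' := by
    rw [← ofPt_yon_map_comp, hla, ofPt_yon_map_comp, ofPt_comp_eq_map, ← hq₁, ofPt_comp_eq_map]
    exact Points.map_comp _ _ _
  have hxu : Points.map pX x' = Points.ofPt a ((pullback.fst (k ≫ r) j).left (l.left u₂)) := by
    rw [← ofPt_yon_map_comp (pullback.fst (k ≫ r) j) a, ← ha'₁, ← hx, ofPt_comp_eq_map, ofPt_comp_eq_map]
    exact (Points.map_comp _ _ _).symm
  rw [hxu, isFlatAtMor_iff_of_chart hfp ha hb e₁, ← hx, isFlatAtMor_iff_of_chart hfp' ha' hb' e']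
  refine ⟨fun h => ?_, fun h => ?_⟩
  · haveI : LocallyOfFinitePresentation (k.left ≫ r.left) := by
      rw [← Over.comp_left]; exact hfgp a c (k ≫ r) ha hc e₁₂
    haveI : Flat (k.left ≫ r.left) := by
      rw [← Over.comp_left]; exact hfgf a c (k ≫ r) ha hc e₁₂
    haveI : LocallyOfFiniteType r.left := hg b c r hb hc e₂
    exact flatAt_of_baseChange_of_flat k.left r.left (isPullback_left (IsPullback.of_hasPullback r j))
      (isPullback_left sqk) _ h
  · exact PullbackMod.flat_stalkMap_of_isPullback (isPullback_left sqk).flip _ h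

end Groth.Agent.ASp
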