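import Groth.Agent.ASp.Glue
/-!
Gluing maps from a scheme into a sheaf along a jointly surjective fppf family.
-/

set_option backward.isDefEq.respectTransparency.types false

universe u

open CategoryTheory CategoryTheory.Limits AlgebraicGeometry Opposite

namespace Groth.Agent.ASp

open _root_.AlgSp

variable {S : Scheme.{u}} {ι : Type u} {T : Over S} (U : ι → Over S) (c : ∀ i, U i ⟶ T)

theorem ofArrows_mem_J (hfl : ∀ i, Flat (c i).left) (hfp : ∀ i, LocallyOfFinitePresentation (c i).left)
    (hs : ∀ t : ↥T.left, ∃ i, t ∈ Set.range (c i).left) : Sieve.ofArrows U c ∈ (J S) T := by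
  rw [GrothendieckTopology.mem_over_iff]
  refine GrothendieckTopology.superset_covering _ ?_
    (Precoverage.generate_mem_toGrothendieck (J := Scheme.fppfPrecoverage)
      (R := Presieve.ofArrows (fun i => (U i).left) fun i => (c i).left)
      ((Scheme.ofArrows_mem_precoverage_iff _).2 ⟨hs, fun i => ⟨hfl i, hfp i⟩⟩))
  rw [Sieve.generate_le_iff]
  rintro _ _ ⟨i⟩
  exact ⟨U i, c i, 𝟙 _, Sieve.ofArrows_mk _ _ i, (Category.id_comp _).symm⟩

variable {U c}

/-- Compatible maps on an fppf family glue uniquely. -/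
theorem existsUnique_glue (hfl : ∀ i, Flat (c i).left)
    (hfp : ∀ i, LocallyOfFinitePresentation (c i).left)
    (hs : ∀ t : ↥T.left, ∃ i, t ∈ Set.range (c i).left) {F : Sp S}
    (x : ∀ i, (yon S).obj (U i) ⟶ F)
    (hx : ∀ (i j : ι) (W : Over S) (gi : W ⟶ U i) (gj : W ⟶ U j), gi ≫ c i = gj ≫ c j →
      (yon S).map gi ≫ x i = (yon S).map gj ≫ x j) :
    ∃! l : (yon S).obj T ⟶ F, ∀ i, (yon S).map (c i) ≫ l = x i := by
  have hcov := ofArrows_mem_J U c hfl hfp hs
  have hF := (isSheaf_iff_isSheaf_of_type _ _).1 F.2 _ hcov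
  have hF' : Presieve.IsSheafFor F.obj (Presieve.ofArrows U c) :=
    (Presieve.isSheafFor_iff_generate _).2 hF
  obtain ⟨t, ht, htu⟩ := (Presieve.isSheafFor_arrows_iff _ _).1 hF'
    (fun i => (J S).uliftYonedaEquiv.{u+1} (x i)) (fun i j W gi gj hij => by
      rw [GrothendieckTopology.uliftYonedaEquiv_naturality.{u+1},
        GrothendieckTopology.uliftYonedaEquiv_naturality.{u+1}, hx i j W gi gj hij])
  refine ⟨(J S).uliftYonedaEquiv.{u+1}.symm t, fun i => (J S).uliftYonedaEquiv.{u+1}.injective ?_,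
    fun l hl => (J S).uliftYonedaEquiv.{u+1}.injective ?_⟩
  · rw [← GrothendieckTopology.uliftYonedaEquiv_naturality.{u+1}, Equiv.apply_symm_apply]
    exact ht i
  · rw [Equiv.apply_symm_apply]
    refine htu _ fun i => ?_
    rw [GrothendieckTopology.uliftYonedaEquiv_naturality.{u+1}, hl i]

/-- Maps out of a scheme into a sheaf agree if they agree on an fppf family. -/
theorem hom_ext_fppf (hfl : ∀ i, Flat (c i).left)
    (hfp : ∀ i, LocallyOfFinitePresentation (c i).left)
    (hs : ∀ t : ↥T.left, ∃ i, t ∈ Set.range (c i).left) {F : Sp S} {a b : (yon S).obj T ⟶ F}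
    (h : ∀ i, (yon S).map (c i) ≫ a = (yon S).map (c i) ≫ b) : a = b :=
  (existsUnique_glue hfl hfp hs (fun i => (yon S).map (c i) ≫ a) fun i j W gi gj e => by
    rw [← Category.assoc, ← Category.assoc, ← Functor.map_comp, ← Functor.map_comp, e]).unique
      (fun _ => rfl) fun i => (h i).symm

/-- The affine pieces of a scheme over `S` cover it. -/
theorem hom_ext_affineCover {T : Over S} {F : Sp S} {a b : (yon S).obj T ⟶ F}
    (h : ∀ i : T.left.affineCover.I₀,
      (yon S).map (Over.homMk (T.left.affineCover.f i) rfl :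
        Over.mk (T.left.affineCover.f i ≫ T.hom) ⟶ T) ≫ a =
      (yon S).map (Over.homMk (T.left.affineCover.f i) rfl :
        Over.mk (T.left.affineCover.f i ≫ T.hom) ⟶ T) ≫ b) : a = b :=
  hom_ext_fppf
    (c := fun i => (Over.homMk (T.left.affineCover.f i) rfl :
        Over.mk (T.left.affineCover.f i ≫ T.hom) ⟶ T))
    (fun i => (inferInstance : Flat (T.left.affineCover.f i)))
    (fun i => (inferInstance : LocallyOfFinitePresentation (T.left.affineCover.f i)))
    (fun t => ⟨T.left.affineCover.idx t, T.left.affineCover.covers t⟩) h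

end Groth.Agent.ASp
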