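import Groth.Agent.ASp.Basic
import Groth.Prelude.Def_AlgSpRep
import Mathlib.CategoryTheory.Limits.Types.Pullbacks
/-!
Maps of presheaves representable by algebraic spaces.
-/

set_option backward.isDefEq.respectTransparency.types false

universe u

open CategoryTheory CategoryTheory.Limits AlgebraicGeometry Opposite

namespace Groth.Agent.ASp

open _root_.AlgSp

variable {S : Scheme.{u}}

/-- A presheaf over a sheaf all of whose fibres over representables are sheaves is a sheaf. -/
theorem isSheaf_of_fibres {F G : PSp S} (a : F ⟶ G) (hG : Presheaf.IsSheaf (J S) G)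
    (h : ∀ (U : Over S) (ξ : (pyon S).obj U ⟶ G), Presheaf.IsSheaf (J S) (pullback a ξ)) :
    Presheaf.IsSheaf (J S) F := by
  rw [isSheaf_iff_isSheaf_of_type] at hG ⊢
  intro T R hR x hx
  let y : Presieve.FamilyOfElements G R.arrows := fun V k hk => a.app _ (x k hk)
  have hy : y.Compatible := hx.map a
  let g := (hG R hR).amalgamate y hy
  have hg : ∀ ⦃V⦄ (k : V ⟶ T) (hk : R k), G.map k.op g = a.app _ (x k hk) := fun V k hk =>
    (hG R hR).valid_glue hy k hk
  let ξ : (pyon S).obj T ⟶ G := uliftYonedaEquiv.{u+1}.symm g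
  have hξ : ∀ {V : Over S} (k : V ⟶ T), ξ.app (op V) ⟨k⟩ = G.map k.op g := fun k => rfl
  have sq : ∀ V : Over S, IsPullback ((pullback.fst a ξ).app (op V)) ((pullback.snd a ξ).app (op V))
      (a.app (op V)) (ξ.app (op V)) := fun V =>
    (IsPullback.of_hasPullback a ξ).map ((evaluation _ _).obj (op V))
  have hex : ∀ ⦃V⦄ (k : V ⟶ T) (hk : R k), ∃ p, (pullback.fst a ξ).app (op V) p = x k hk ∧
      (pullback.snd a ξ).app (op V) p = ⟨k⟩ := fun V k hk =>
    Types.exists_of_isPullback (sq V) _ _ (by rw [hξ k]; exact (hg k hk).symm)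
  choose p hp1 hp2 using hex
  have hP := (isSheaf_iff_isSheaf_of_type _ _).1 (h T ξ) R hR
  have hcomp : Presieve.FamilyOfElements.Compatible (P := pullback a ξ) p := by
    intro Y₁ Y₂ Z g₁ g₂ f₁ f₂ h₁ h₂ e
    refine Types.ext_of_isPullback (sq Z) ?_ ?_
    · rw [NatTrans.naturality_apply, NatTrans.naturality_apply, hp1, hp1]
      exact hx g₁ g₂ h₁ h₂ e
    · rw [NatTrans.naturality_apply, NatTrans.naturality_apply, hp2, hp2]
      exact ULift.ext _ _ e
  obtain ⟨z, hz, hz'⟩ := hP p hcomp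
  refine ⟨(pullback.fst a ξ).app _ z, fun V k hk => ?_, fun f hf => ?_⟩
  · rw [← NatTrans.naturality_apply, hz k hk, hp1]
  · have hfg : a.app _ f = g := by
      refine (hG R hR).isSeparatedFor.ext fun V k hk => ?_
      rw [← NatTrans.naturality_apply, hf k hk, hg k hk]
    obtain ⟨q, hq1, hq2⟩ := Types.exists_of_isPullback (sq T) f (⟨𝟙 T⟩ : ULift.{u+1} (T ⟶ T)) (by
      rw [hξ (𝟙 T), hfg]; simp)
    rw [← hq1, hz' q fun V k hk => Types.ext_of_isPullback (sq V) ?_ ?_]
    · rw [NatTrans.naturality_apply, hp1, hq1, hf k hk]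
    · rw [NatTrans.naturality_apply, hp2, hq2]
      exact ULift.ext _ _ (Category.comp_id k)

/-- The relative diagonal pulled back along a pair of sections. -/
theorem isPullback_diagonal_of_sections {C : Type*} [Category C] [HasPullbacks C] {F G P U E : C} {a : F ⟶ G}
    {π₁ : P ⟶ F} {π₂ : P ⟶ U} {ξ : U ⟶ pullback a a} (hP : IsPullback π₁ π₂ a (ξ ≫ pullback.fst a a ≫ a))
    {s₁ s₂ : U ⟶ P} (h₁ : s₁ ≫ π₁ = ξ ≫ pullback.fst a a) (h₁' : s₁ ≫ π₂ = 𝟙 U)
    (h₂ : s₂ ≫ π₁ = ξ ≫ pullback.snd a a) (h₂' : s₂ ≫ π₂ = 𝟙 U)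
    {e : E ⟶ U} (he : e ≫ s₁ = e ≫ s₂) (hl : IsLimit (Fork.ofι e he)) :
    IsPullback (e ≫ ξ ≫ pullback.fst a a) e (pullback.diagonal a) ξ := by
  have he' : e ≫ ξ ≫ pullback.fst a a = e ≫ ξ ≫ pullback.snd a a := by
    rw [← h₁, ← h₂, reassoc_of% he]
  have hmono : Mono e := mono_of_isLimit_fork hl
  refine IsPullback.of_isLimit' ⟨pullback.hom_ext ?_ ?_⟩ (PullbackCone.IsLimit.mk _
    (fun c => Fork.IsLimit.lift hl c.snd ?_) (fun c => ?_) (fun c => ?_) (fun c m hm1 hm2 => ?_))
  · simp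
  · simp [he']
  · have e1 : c.fst = c.snd ≫ ξ ≫ pullback.fst a a := by
      simpa using congrArg (· ≫ pullback.fst a a) c.condition
    have e2 : c.fst = c.snd ≫ ξ ≫ pullback.snd a a := by
      simpa using congrArg (· ≫ pullback.snd a a) c.condition
    apply hP.hom_ext
    · simp only [Category.assoc, h₁, h₂]; rw [← e1, ← e2]
    · simp only [Category.assoc, h₁', h₂']
  · change Fork.IsLimit.lift hl c.snd _ ≫ e ≫ ξ ≫ pullback.fst a a = c.fst
    rw [← Category.assoc, show Fork.IsLimit.lift hl c.snd _ ≫ e = c.snd from Fork.IsLimit.lift_ι' hl _ _]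
    simpa using (congrArg (· ≫ pullback.fst a a) c.condition).symm
  · exact Fork.IsLimit.lift_ι' hl _ _
  · rw [← cancel_mono e, hm2]
    exact (Fork.IsLimit.lift_ι' hl _ _).symm

/-- Two sections of an algebraic space over a scheme have a representable equalizer. -/
theorem exists_isLimit_fork {P : Sp S} (hP : IsAlgSpace P) {U : Over S} (s₁ s₂ : (yon S).obj U ⟶ P) :
    ∃ (E : Over S) (e : E ⟶ U) (he : (yon S).map e ≫ s₁ = (yon S).map e ≫ s₂),
      Nonempty (IsLimit (Fork.ofι _ he)) := by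
  obtain ⟨E, e, fst, sq⟩ := hP.diag (prod.lift s₁ s₂)
  have e1 : fst = (yon S).map e ≫ s₁ := by
    simpa only [Category.assoc, prod.lift_fst, Category.comp_id] using congrArg (· ≫ prod.fst) sq.w
  have e2 : fst = (yon S).map e ≫ s₂ := by
    simpa only [Category.assoc, prod.lift_snd, Category.comp_id] using congrArg (· ≫ prod.snd) sq.w
  refine ⟨E, e, e1.symm.trans e2, ⟨Fork.IsLimit.mk' _ fun c => ?_⟩⟩
  have hc : (c.ι ≫ s₁) ≫ Limits.diag P = c.ι ≫ prod.lift s₁ s₂ := by
    apply prod.hom_ext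
    · simp only [Category.assoc, prod.lift_fst, Category.comp_id]
    · simp only [Category.assoc, prod.lift_snd, Category.comp_id, c.condition]
  exact ⟨sq.lift (c.ι ≫ s₁) c.ι hc, sq.lift_snd _ _ _, fun {m} hm =>
    sq.hom_ext (by rw [sq.lift_fst, e1, ← Category.assoc]; exact congrArg (· ≫ s₁) hm)
      (by rw [sq.lift_snd]; exact hm)⟩

theorem repBySp_of_isPullback {F G F' G' : PSp S} {a : F ⟶ G} {g' : F' ⟶ F} {a' : F' ⟶ G'} {g : G' ⟶ G}
    (h : IsPullback g' a' a g) (ha : RepBySp a) : RepBySp a' :=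
  fun _ ξ _ fst snd sq => ha (ξ ≫ g) (fst ≫ g') snd (sq.paste_horiz h)

theorem isSheaf_of_repBySp {F G : PSp S} (a : F ⟶ G) (hG : Presheaf.IsSheaf (J S) G) (ha : RepBySp a) :
    Presheaf.IsSheaf (J S) F :=
  isSheaf_of_fibres a hG fun _ ξ => by
    obtain ⟨h, -⟩ := ha ξ _ _ (IsPullback.of_hasPullback a ξ)
    exact h


/-- The diagonal of a map representable by algebraic spaces is representable by schemes. -/
theorem representable_diagonal_of_repBySp {F G : PSp S} {a : F ⟶ G} (ha : RepBySp a) :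
    (pyon S).relativelyRepresentable (pullback.diagonal a) := by
  intro U ξ
  obtain ⟨h, hP⟩ := ha (ξ ≫ pullback.fst a a ≫ a) _ _ (IsPullback.of_hasPullback a (ξ ≫ pullback.fst a a ≫ a))
  have sq := IsPullback.of_hasPullback a (ξ ≫ pullback.fst a a ≫ a)
  let s₁ := sq.lift (ξ ≫ pullback.fst a a) (𝟙 _) (by simp)
  let s₂ := sq.lift (ξ ≫ pullback.snd a a) (𝟙 _) (by simp [pullback.condition])
  obtain ⟨E, e, he, ⟨hl⟩⟩ := exists_isLimit_fork hP (U := U)
    (ObjectProperty.homMk s₁ : (yon S).obj U ⟶ ⟨_, h⟩) (ObjectProperty.homMk s₂)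
  have he' : (pyon S).map e ≫ s₁ = (pyon S).map e ≫ s₂ := congrArg (fun φ => φ.hom) he
  exact ⟨E, e, _, isPullback_diagonal_of_sections sq (sq.lift_fst _ _ _) (sq.lift_snd _ _ _)
    (sq.lift_fst _ _ _) (sq.lift_snd _ _ _) he'
    (isLimitForkMapOfIsLimit (sheafToPresheaf (J S) (Type (u + 1))) he hl)⟩

theorem repBySp_of_relativelyRepresentable {F G : PSp S} {a : F ⟶ G}
    (ha : (pyon S).relativelyRepresentable a) : RepBySp a := by
  intro U ξ F' fst snd sq
  obtain ⟨V, snd', fst', sq'⟩ := ha ξ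
  exact ((isAlgSpaceP_obj_iff ((yon S).obj V)).2 (IsAlgSpace.yon_obj V)).of_iso (sq'.isoIsPullback _ _ sq)

/-- A presheaf representable by algebraic spaces over an algebraic space is one. -/
theorem isAlgSpaceP_of_repBySp {F G : PSp S} {a : F ⟶ G} (ha : RepBySp a) (hG : IsAlgSpaceP G) :
    IsAlgSpaceP F := by
  obtain ⟨hGs, hX⟩ := hG
  have hFs := isSheaf_of_repBySp a hGs ha
  let Fs : Sp S := ⟨F, hFs⟩
  let Xs : Sp S := ⟨G, hGs⟩
  let as : Fs ⟶ Xs := ObjectProperty.homMk a
  have hd : Representable (pullback.diagonal as) := by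
    intro U ξ
    let c := PreservesPullback.iso (sheafToPresheaf (J S) (Type (u + 1))) as as
    obtain ⟨E, e, fst, sq⟩ := representable_diagonal_of_repBySp ha (ξ.hom ≫ c.hom)
    refine ⟨E, e, (ObjectProperty.homMk fst : (yon S).obj E ⟶ Fs), IsPullback.of_map_of_faithful
      (sheafToPresheaf (J S) (Type (u + 1))) (IsPullback.of_iso sq (Iso.refl _) (Iso.refl _) (Iso.refl _) c.symm
        ((Category.comp_id _).trans (Category.id_comp _).symm) ((Category.comp_id _).trans (Category.id_comp _).symm)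
        ?_ ?_)⟩
    · change pullback.diagonal a ≫ c.inv = 𝟙 F ≫ (pullback.diagonal as).hom
      rw [Category.id_comp, Iso.comp_inv_eq]
      refine pullback.hom_ext ?_ ?_
      · rw [pullback.diagonal_fst, Category.assoc]
        erw [PreservesPullback.iso_hom_fst]
        exact (congrArg (fun φ => φ.hom) (pullback.diagonal_fst as)).symm
      · rw [pullback.diagonal_snd, Category.assoc]
        erw [PreservesPullback.iso_hom_snd]
        exact (congrArg (fun φ => φ.hom) (pullback.diagonal_snd as)).symm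
    · change (ξ.hom ≫ c.hom) ≫ c.inv = 𝟙 _ ≫ ξ.hom
      rw [Category.assoc, Iso.hom_inv_id]; simp
  refine ⟨hFs, ?_, ?_⟩
  · let m : pullback as as ⟶ Fs ⨯ Fs := prod.lift (pullback.fst as as) (pullback.snd as as)
    have hm : IsPullback (pullback.fst as as ≫ as) m (Limits.diag Xs) (prod.map as as) := by
      refine IsPullback.of_isLimit' ⟨prod.hom_ext (by simp only [m, Category.assoc, prod.lift_fst, prod.map_fst, Category.comp_id, prod.lift_fst_assoc]) (by simp only [m, Category.assoc, prod.lift_snd, prod.map_snd, Category.comp_id, prod.lift_snd_assoc, pullback.condition])⟩ (PullbackCone.IsLimit.mk _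
        (fun c => pullback.lift (c.snd ≫ prod.fst) (c.snd ≫ prod.snd) ?_) (fun c => ?_) (fun c => ?_)
        (fun c n h1 h2 => ?_))
      · have h1 := congrArg (· ≫ prod.fst) c.condition
        have h2 := congrArg (· ≫ prod.snd) c.condition
        simp only [Category.assoc, prod.lift_fst, prod.lift_snd, prod.map_fst, prod.map_snd, Category.comp_id] at h1 h2
        simp [← h1, ← h2]
      · have h1 := congrArg (· ≫ prod.fst) c.condition
        simp only [Category.assoc, prod.lift_fst, prod.map_fst, Category.comp_id] at h1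
        rw [pullback.lift_fst_assoc, Category.assoc, h1]
      · apply prod.hom_ext <;> simp only [m, Category.assoc, prod.lift_fst, prod.lift_snd, pullback.lift_fst, pullback.lift_snd]
      · apply pullback.hom_ext <;> simp only [← h2, m, Category.assoc, prod.lift_fst, prod.lift_snd, pullback.lift_fst, pullback.lift_snd]
    have : Limits.diag Fs = pullback.diagonal as ≫ m := by
      apply prod.hom_ext <;> simp only [m, Category.assoc, prod.lift_fst, prod.lift_snd, pullback.diagonal_fst, pullback.diagonal_snd]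
    rw [this]
    exact representable_comp hd (representable_of_isPullback hm hX.diag)
  · obtain ⟨U, p, hpe, hps⟩ := hX.atlas
    obtain ⟨hPs, hP⟩ := ha p.hom _ _ (IsPullback.of_hasPullback a p.hom)
    let Ps : Sp S := ⟨_, hPs⟩
    let b : Ps ⟶ Fs := ObjectProperty.homMk (pullback.fst a p.hom)
    let c : Ps ⟶ (yon S).obj U := ObjectProperty.homMk (pullback.snd a p.hom)
    have sq : IsPullback b c as p := IsPullback.of_map_of_faithful (sheafToPresheaf (J S) (Type (u + 1)))
      (IsPullback.of_hasPullback a p.hom)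
    obtain ⟨W, q, hqe, hqs⟩ := hP.atlas
    exact ⟨W, q ≫ b, repWith_comp hqe (repWith_of_isPullback sq.flip hpe),
      repWith_comp hqs (repWith_of_isPullback sq.flip hps)⟩

theorem isAlgSpaceP_of_isPullback {F G X F' : PSp S} {a : F ⟶ G} (ha : RepBySp a) (hX : IsAlgSpaceP X)
    {ξ : X ⟶ G} {fst : F' ⟶ F} {snd : F' ⟶ X} (sq : IsPullback fst snd a ξ) : IsAlgSpaceP F' :=
  isAlgSpaceP_of_repBySp (repBySp_of_isPullback sq ha) hX

theorem repBySp_comp {F G H : PSp S} {a : F ⟶ G} {b : G ⟶ H} (ha : RepBySp a) (hb : RepBySp b) :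
    RepBySp (a ≫ b) := fun U ξ F' fst snd sq => by
  let Q := pullback b ξ
  have hQ := IsPullback.of_hasPullback b ξ
  refine isAlgSpaceP_of_isPullback ha (hb ξ _ _ hQ) (fst := fst) (snd := hQ.lift (fst ≫ a) snd (by
    rw [Category.assoc]; exact sq.w)) (ξ := pullback.fst b ξ) ?_
  exact IsPullback.of_bot (by rw [hQ.lift_snd]; exact sq) (hQ.lift_fst _ _ _).symm hQ

theorem isPullback_diag_of_fork {C : Type*} [Category C] {F U P E : C} [HasBinaryProduct F F] {e : E ⟶ P}
    (ξ : U ⟶ F ⨯ F) {q₁ q₂ : P ⟶ U} (hP : IsPullback q₁ q₂ (ξ ≫ prod.fst) (ξ ≫ prod.snd))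
    (he : e ≫ q₁ = e ≫ q₂) (hl : IsLimit (Fork.ofι e he)) :
    IsPullback ((e ≫ q₁) ≫ ξ ≫ prod.fst) (e ≫ q₁) (Limits.diag F) ξ := by
  have hm : Mono e := mono_of_isLimit_fork hl
  have hc1 : ∀ (Z : C) (x : Z ⟶ F) (y : Z ⟶ U), x ≫ Limits.diag F = y ≫ ξ →
      y ≫ ξ ≫ prod.fst = x ∧ y ≫ ξ ≫ prod.snd = x := fun Z x y h => by
    have e1 := congrArg (· ≫ prod.fst) h
    have e2 := congrArg (· ≫ prod.snd) h
    simp only [Category.assoc, prod.lift_fst, prod.lift_snd, Category.comp_id] at e1 e2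
    exact ⟨e1.symm, e2.symm⟩
  refine IsPullback.of_isLimit' ⟨prod.hom_ext (by simp only [Category.assoc, prod.lift_fst, Category.comp_id]) (by
      simp only [Category.assoc, prod.lift_snd, Category.comp_id]; rw [hP.w, ← reassoc_of% he])⟩
    (PullbackCone.IsLimit.mk _ (fun c => Fork.IsLimit.lift hl (hP.lift c.snd c.snd
      ((hc1 _ _ _ c.condition).1.trans (hc1 _ _ _ c.condition).2.symm)) ((hP.lift_fst _ _ _).trans (hP.lift_snd _ _ _).symm))
      (fun c => ?_) (fun c => ?_) (fun c m h1 h2 => ?_))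
  · simp only [← Category.assoc]; rw [show Fork.IsLimit.lift hl _ _ ≫ e = _ from Fork.IsLimit.lift_ι' hl _ _,
      hP.lift_fst, Category.assoc]
    exact (hc1 _ _ _ c.condition).1
  · rw [← Category.assoc, show Fork.IsLimit.lift hl _ _ ≫ e = _ from Fork.IsLimit.lift_ι' hl _ _, hP.lift_fst]
  · rw [← cancel_mono e, show Fork.IsLimit.lift hl _ _ ≫ e = _ from Fork.IsLimit.lift_ι' hl _ _]
    apply hP.hom_ext
    · rw [hP.lift_fst, Category.assoc, h2]
    · rw [hP.lift_snd, Category.assoc, ← he, h2]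

end Groth.Agent.ASp
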