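import Groth.Agent.ASp.Bootstrap
import Groth.Agent.ASp.PShf
import Groth.Agent.ASp.EtaleCover
/-!
Consequences of the bootstrap theorem: being an algebraic space is fppf local.
-/

set_option autoImplicit false
set_option backward.isDefEq.respectTransparency false
set_option backward.isDefEq.respectTransparency.types false

universe u

open CategoryTheory CategoryTheory.Limits AlgebraicGeometry Opposite

namespace Groth.Agent.ASp

open _root_.AlgSp

variable {S : Scheme.{u}}

/-- Base changes of fppf maps representable by algebraic spaces are fppf charts. -/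
theorem isFppfChart_of_isPullback {F G F' G' : Sp S} {g : F ⟶ G} {g' : F' ⟶ G'} {x : F' ⟶ F} {y : G' ⟶ G}
    (hg : _root_.AlgSp.RepBySpWith (IsSurjectiveMor ⊓ LocP @Flat ⊓ LocP @LocallyOfFinitePresentation) g.hom)
    (sq : IsPullback x g' g y) : IsFppfChart g' :=
  fun _ h _ fst snd sq' => isFppfChart_of_repBySpWith hg (h ≫ y) (fst ≫ x) snd (sq'.paste_horiz sq)

/-- Base changes to algebraic spaces of maps representable by algebraic spaces are algebraic spaces. -/
theorem isAlgSpace_of_repBySp {F G X P : Sp S} {a : F ⟶ G} (ha : _root_.AlgSp.RepBySp a.hom) (hX : IsAlgSpace X)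
    {x : X ⟶ G} {fst : P ⟶ F} {snd : P ⟶ X} (sq : IsPullback fst snd a x) : IsAlgSpace P :=
  (isAlgSpaceP_obj_iff P).1 (isAlgSpaceP_of_isPullback ha ((isAlgSpaceP_obj_iff X).2 hX)
    (sq.map (sheafToPresheaf (J S) (Type (u + 1)))))

/-- The structure map to the final sheaf has base changes which are charts, for an fppf scheme over the base. -/
theorem repWith_prod_snd (P : MorphismProperty Scheme.{u}) [P.IsStableUnderBaseChange] (Si : Over S) (hP : P Si.hom)
    (F : Sp S) : RepWith P (prod.snd : (yon S).obj Si ⨯ F ⟶ F) := by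
  refine repWith_of_exists fun T g => ?_
  haveI : P.RespectsIso := MorphismProperty.IsStableUnderBaseChange.respectsIso
  let e : (yon S).obj (Si ⨯ T) ⟶ (yon S).obj Si ⨯ F :=
    prod.lift ((yon S).map prod.fst) ((yon S).map prod.snd ≫ g)
  refine ⟨Si ⨯ T, e, prod.snd, ?_, ?_⟩
  · refine IsPullback.of_isLimit' ⟨by simp [e]⟩ (PullbackCone.IsLimit.mk _
      (fun k => prod.lift (k.fst ≫ prod.fst) k.snd ≫ inv (prodComparison (yon S) Si T))
      (fun k => ?_) (fun k => by simp [inv_prodComparison_map_snd]) (fun k m h1 h2 => ?_))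
    · apply prod.hom_ext
      · simp [e, inv_prodComparison_map_fst]
      · simp only [e, Category.assoc, prod.lift_snd, inv_prodComparison_map_snd_assoc, prod.lift_snd_assoc]
        exact k.condition.symm
    · rw [← cancel_mono (prodComparison (yon S) Si T), Category.assoc, IsIso.inv_hom_id,
        Category.comp_id]
      apply prod.hom_ext
      · simp [← h1, e]
      · simp [← h2]
  · rw [show (prod.snd : Si ⨯ T ⟶ T).left = (Over.prodLeftIsoPullback Si T).hom ≫ pullback.snd Si.hom T.hom from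
      (Over.prodLeftIsoPullback_hom_snd _ _).symm, P.cancel_left_of_respectsIso]
    exact MorphismProperty.pullback_snd _ _ hP

/-- A map out of a disjoint union of schemes with representable pieces is representable. -/
theorem exists_sigma_chart {F : Sp S} {ι : Type u} (U : ι → Over S) (f : ∀ i, (yon S).obj (U i) ⟶ F)
    (hf : ∀ i, RepWith @Flat (f i)) (hl : ∀ i, RepWith @LocallyOfFinitePresentation (f i))
    (hs : ∀ ⦃T : Over S⦄ (g : (yon S).obj T ⟶ F) (t : ↥T.left), ∃ (i : ι) (V : Over S)
      (fst : (yon S).obj V ⟶ (yon S).obj (U i)) (snd : V ⟶ T),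
      IsPullback fst ((yon S).map snd) (f i) g ∧ t ∈ Set.range snd.left) :
    IsAlgSpace F := by
  let Us : ι → Scheme.{u} := fun i => (U i).left
  let Z : Over S := Over.mk (Limits.Sigma.desc fun i => (U i).hom : ∐ Us ⟶ S)
  let ζ : ∀ i, U i ⟶ Z := fun i => Over.homMk (Sigma.ι Us i) (Sigma.ι_desc _ _)
  obtain ⟨p, hp⟩ := exists_sigma_desc Z U ζ rfl (fun i => Category.comp_id _) f
  suffices hp' : IsFppfChart p from isAlgSpace_of_fppfChart (IsAlgSpace.yon_obj Z) hp'
  have key : ∀ ⦃T : Over S⦄ (g : (yon S).obj T ⟶ F), ∃ (V : Over S) (A : V ⟶ Z) (B : V ⟶ T),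
      IsPullback ((yon S).map A) ((yon S).map B) p g ∧ Flat B.left ∧ LocallyOfFinitePresentation B.left ∧
        Surjective B.left := by
    intro T g
    choose V va vb hV using fun i => exists_isPullback_yon (hf i).1 g
    let Vs : ι → Scheme.{u} := fun i => (V i).left
    let Z' : Over S := Over.mk (Limits.Sigma.desc fun i => (V i).hom : ∐ Vs ⟶ S)
    let σ : ∀ i, V i ⟶ Z' := fun i => Over.homMk (Sigma.ι Vs i) (Sigma.ι_desc _ _)
    let A : Z' ⟶ Z := Over.homMk (Limits.Sigma.desc fun i => (va i ≫ ζ i).left) (Sigma.hom_ext _ _ fun i => by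
      change Sigma.ι Vs i ≫ _ ≫ Z.hom = Sigma.ι Vs i ≫ Limits.Sigma.desc _
      rw [Sigma.ι_desc_assoc]
      exact (Over.w _).trans (Sigma.ι_desc (fun i => (V i).hom) i).symm)
    let B : Z' ⟶ T := Over.homMk (Limits.Sigma.desc fun i => (vb i).left) (Sigma.hom_ext _ _ fun i => by
      change Sigma.ι Vs i ≫ _ ≫ T.hom = Sigma.ι Vs i ≫ Limits.Sigma.desc _
      rw [Sigma.ι_desc_assoc]
      exact (Over.w _).trans (Sigma.ι_desc (fun i => (V i).hom) i).symm)
    refine ⟨Z', A, B, isPullback_sigma ζ rfl (fun i => Category.comp_id _) σ rfl (fun i => Category.comp_id _)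
      va vb A B (fun i => Over.OverMorphism.ext (Sigma.ι_desc _ _)) (fun i => Over.OverMorphism.ext (Sigma.ι_desc _ _))
      p g (fun i => by rw [hp i]; exact hV i), IsZariskiLocalAtSource.sigmaDesc fun i => (hf i).2 g _ _ (hV i),
      IsZariskiLocalAtSource.sigmaDesc fun i => (hl i).2 g _ _ (hV i), ⟨fun t => ?_⟩⟩
    obtain ⟨i, V', fst, snd, sq, w, rfl⟩ := hs g t
    obtain ⟨n, hn⟩ := (yon S).map_surjective ((hV i).lift fst ((yon S).map snd) sq.w)
    have hn2 : n ≫ vb i = snd := (yon S).map_injective (by rw [Functor.map_comp, hn, (hV i).lift_snd])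
    refine ⟨Sigma.ι Vs i (n.left w), ?_⟩
    change (Sigma.ι Vs i ≫ Limits.Sigma.desc fun i => (vb i).left) _ = _
    rw [Sigma.ι_desc, ← Scheme.Hom.comp_apply, ← Over.comp_left, hn2]
  refine isFppfChart_of_repWith (repWith_of_exists fun T g => ?_) (repWith_of_exists fun T g => ?_)
    (repWith_of_exists fun T g => ?_) <;> obtain ⟨V, A, B, h1, h2, h3, h4⟩ := key g
  exacts [⟨V, _, B, h1, h2⟩, ⟨V, _, B, h1, h3⟩, ⟨V, _, B, h1, h4⟩]

end Groth.Agent.ASp
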