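import Groth.Agent.FppfSrc.Etale
import Groth.Agent.FppfSrc.Retract
import Groth.Agent.ASp.Source
import Groth.Agent.ASp.Smooth
import Groth.Agent.ASp.Sheaf
import Groth.Agent.ASp.EqvQuot
/-!
Properties of morphisms of algebraic spaces which are fppf local on the source.
-/

set_option backward.isDefEq.respectTransparency.types false

universe u

open CategoryTheory CategoryTheory.Limits AlgebraicGeometry Opposite

namespace Groth.Agent.ASp

open _root_.AlgSp

variable {S : Scheme.{u}}

/-- A property descending along fppf coverings of schemes descends along fppf coverings of spaces on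
the source. -/
theorem locP_of_fppfCover {P : MorphismProperty Scheme.{u}} [IsEtLocal P] [IsZariskiLocalAtSource P]
    (hdesc : ∀ {X Y Z : Scheme.{u}} (g : X ⟶ Y) (h : Y ⟶ Z), Flat g → LocallyOfFinitePresentation g →
      Surjective g → P (g ≫ h) → P h)
    {ι : Type u} {X Y : Sp S} {Xi : ι → Sp S} {g : ∀ i, Xi i ⟶ X} {f : X ⟶ Y}
    (hXi : ∀ i, IsAlgSpace (Xi i)) (hsurj : ∀ x : Points X, ∃ i, x ∈ Set.range (Points.map (g i)))
    (hfl : ∀ i, LocP @Flat (g i)) (hfp : ∀ i, LocP @LocallyOfFinitePresentation (g i))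
    (h : ∀ i, LocP P (g i ≫ f)) : LocP P f := by
  intro U V a b k ha hb e
  haveI : IsZariskiLocalAtSource
      ((@Flat : MorphismProperty Scheme.{u}) ⊓ @LocallyOfFinitePresentation) :=
    inferInstanceAs (MorphismProperty.IsLocalAtSource _ _)
  obtain ⟨T, t, ⟨ht, ht'⟩, hts, htk⟩ := exists_source_cover
    (Q := (@Flat : MorphismProperty Scheme.{u}) ⊓ @LocallyOfFinitePresentation) hXi hsurj
    (fun i U' V' a' b' k' ha' hb' e' =>
      ⟨hfl i a' b' k' ha' hb' e', hfp i a' b' k' ha' hb' e'⟩) h ha hb e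
  exact hdesc t k.left ht ht' hts htk

/-- An etale local property descending from composites with a map having fppf local sections. -/
theorem locP_of_locallySurjective {P : MorphismProperty Scheme.{u}} [IsEtLocal P]
    (hfac : ∀ {T M U V : Scheme.{u}} (t : T ⟶ U) (m : M ⟶ U) (s : T ⟶ M) (k : U ⟶ V), Flat t →
      LocallyOfFinitePresentation t → Surjective t → P (m ≫ k) → s ≫ m = t → P k)
    {X Y Z : Sp S} {g : X ⟶ Y} {h : Y ⟶ Z} (hX : IsAlgSpace X) [Sheaf.IsLocallySurjective g]
    (hgh : LocP P (g ≫ h)) : LocP P h := by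
  obtain ⟨X₀, p, hpe, hps⟩ := hX.atlas
  haveI : Sheaf.IsLocallySurjective p := isLocallySurjective_of_repWith
    (repWith_mono (fun _ _ φ hφ => by have : Etale φ := hφ; infer_instance) hpe)
    (repWith_mono (fun _ _ φ hφ => by have : Etale φ := hφ; infer_instance) hpe) hps
  haveI : Sheaf.IsLocallySurjective (p ≫ g) :=
    inferInstanceAs (Presheaf.IsLocallySurjective (J S) (p.hom ≫ g.hom))
  intro U V a b k ha hb e
  obtain ⟨T, c, l, hcf, hcp, hcs, hl⟩ := exists_fppf_lift (p ≫ g) a
  obtain ⟨M, m₁, m₂, hM⟩ := exists_isPullback_yon ha.1 (p ≫ g)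
  have hm₂ : Etale m₂.left := ha.2 _ _ _ hM
  obtain ⟨s, hs⟩ := (yon S).map_surjective (hM.lift ((yon S).map c) ((yon S).map l) hl.symm)
  have hsc : s ≫ m₁ = c := (yon S).map_injective (by simp [hs])
  have hP : P (m₁ ≫ k).left := by
    refine hgh ((yon S).map m₂ ≫ p) b _ (repWith_comp (repWith_yon_map hm₂) hpe) hb ?_
    rw [Functor.map_comp, Category.assoc, Category.assoc, ← e, reassoc_of% hM.w]
  exact hfac c.left m₁.left s.left k.left hcf hcp hcs hP (by rw [← Over.comp_left, hsc])

end Groth.Agent.ASp
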