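import Groth.Agent.ASp.FpqcSheaf
import Groth.Prelude.Def_AlgSpCov
/-!
Morphisms of algebraic spaces glue along fpqc coverings.
-/

set_option autoImplicit false
set_option linter.style.haveILetI false
set_option backward.isDefEq.respectTransparency false
set_option backward.isDefEq.respectTransparency.types false

universe u

open CategoryTheory CategoryTheory.Limits AlgebraicGeometry Opposite

namespace Groth.Agent.ASp

open _root_.AlgSp

variable {S : Scheme.{u}}

/-- A finite jointly surjective family of flat maps of affines covers an affine for the fpqc topology. -/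
theorem ofArrows_mem_fpqc {Z : Over S} [IsAffine Z.left] {m : ℕ} (W : Fin m → Over S) (c : ∀ j, W j ⟶ Z)
    (hW : ∀ j, IsAffine (W j).left) (hf : ∀ j, Flat (c j).left)
    (hs : ∀ z : ↥Z.left, ∃ j, z ∈ Set.range (c j).left) :
    Sieve.ofArrows W c ∈ (Scheme.fpqcTopology.over S) Z := by
  haveI : ∀ j, IsAffine (W j).left := hW
  let 𝒰 : Z.left.Cover (Scheme.precoverage @Flat) :=
    { I₀ := ULift.{u} (Fin m)
      X := fun j => (W j.down).left
      f := fun j => (c j.down).left
      mem₀ := (Scheme.ofArrows_mem_precoverage_iff _).2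
        ⟨fun z => by obtain ⟨j, hj⟩ := hs z; exact ⟨⟨j⟩, hj⟩, fun j => hf _⟩ }
  haveI : Finite 𝒰.I₀ := inferInstanceAs (Finite (ULift.{u} (Fin m)))
  haveI : ∀ j, QuasiCompact (𝒰.f j) := fun j => by
    haveI : IsAffine (𝒰.X j) := hW _
    exact (inferInstance : QuasiCompact (𝒰.f j))
  have hqc : QuasiCompactCover 𝒰.toPreZeroHypercover := .of_finite
  rw [GrothendieckTopology.mem_over_iff]
  refine GrothendieckTopology.superset_covering _ ?_
    (Precoverage.generate_mem_toGrothendieck (J := Scheme.fpqcPrecoverage) (R := 𝒰.presieve₀)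
      ⟨Scheme.presieve₀_mem_qcPrecoverage_iff.mpr hqc, 𝒰.mem₀⟩)
  rw [Sieve.generate_le_iff]
  rintro _ _ ⟨j⟩
  exact ⟨W j.down, c j.down, 𝟙 _, Sieve.ofArrows_mk _ _ j.down, (Category.id_comp _).symm⟩

variable {ι : Type u} {T : Sp S} {Ti : ι → Sp S} (g : ∀ i, Ti i ⟶ T)

/-- The maps to a scheme over which a map into the target of a family lifts through a member. -/
def liftSieve {Z : Over S} (φ : (yon S).obj Z ⟶ T) : Sieve Z where
  arrows Z' k := ∃ (i : ι) (l : (yon S).obj Z' ⟶ Ti i), l ≫ g i = (yon S).map k ≫ φ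
  downward_closed := fun {Z' Z''} k ⟨i, l, hl⟩ a => ⟨i, (yon S).map a ≫ l, by
    rw [Category.assoc, hl, Functor.map_comp, Category.assoc]⟩

variable {g}

/-- For an fpqc covering the lifting sieves cover. -/
theorem liftSieve_mem (hg : IsFpqcCover Ti g) {Z : Over S} (φ : (yon S).obj Z ⟶ T) :
    liftSieve g φ ∈ (Scheme.fpqcTopology.over S) Z := by
  have haff : ∀ {Z : Over S}, IsAffine Z.left → ∀ φ : (yon S).obj Z ⟶ T,
      liftSieve g φ ∈ (Scheme.fpqcTopology.over S) Z := by
    intro Z hZ φ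
    obtain ⟨m, W, c, hW, hf, hs, hl⟩ := hg.2 Z hZ φ
    refine GrothendieckTopology.superset_covering _ ?_ (ofArrows_mem_fpqc W c hW hf hs)
    rw [Sieve.generate_le_iff]
    rintro _ _ ⟨j⟩
    exact hl j
  let U : Z.left.affineCover.I₀ → Over S := fun i => Over.mk (Z.left.affineCover.f i ≫ Z.hom)
  let c : ∀ i, U i ⟶ Z := fun i => Over.homMk (Z.left.affineCover.f i) rfl
  have hU : Sieve.ofArrows U c ∈ (J S) Z := ofArrows_mem_J U c
    (fun i => (inferInstance : Flat (Z.left.affineCover.f i)))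
    (fun i => (inferInstance : LocallyOfFinitePresentation (Z.left.affineCover.f i)))
    (fun t => ⟨Z.left.affineCover.idx t, Z.left.affineCover.covers t⟩)
  have hU' : Sieve.ofArrows U c ∈ (Scheme.fpqcTopology.over S) Z :=
    (GrothendieckTopology.mem_over_iff _ _).2
      (Scheme.fppfTopology_le_fpqcTopology _ ((GrothendieckTopology.mem_over_iff _ _).1 hU))
  refine GrothendieckTopology.transitive _ hU' _ ?_
  intro Y f hf
  obtain ⟨_, a, _, ⟨i⟩, rfl⟩ := hf
  refine GrothendieckTopology.superset_covering _ ?_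
    (GrothendieckTopology.pullback_stable _ a
      (haff (Z := U i) (inferInstanceAs (IsAffine (Z.left.affineCover.X i))) ((yon S).map (c i) ≫ φ)))
  intro Y' k ⟨j, l, hl⟩
  exact ⟨j, l, by rw [hl]; simp only [Functor.map_comp, Category.assoc]⟩

/-- Maps from a scheme to an algebraic space agree if they agree on a covering sieve. -/
theorem hom_ext_sieve {B : Sp S} (hB : IsAlgSpace B) {Z : Over S} {R : Sieve Z}
    (hR : R ∈ (Scheme.fpqcTopology.over S) Z) {a b : (yon S).obj Z ⟶ B}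
    (h : ∀ ⦃Z' : Over S⦄ (k : Z' ⟶ Z), R k → (yon S).map k ≫ a = (yon S).map k ≫ b) : a = b := by
  refine (J S).uliftYonedaEquiv.{u+1}.injective
    (((isSheaf_iff_isSheaf_of_type _ _).1 (isSheaf_fpqc hB) R hR).isSeparatedFor.ext fun Z' k hk => ?_)
  rw [GrothendieckTopology.uliftYonedaEquiv_naturality.{u+1},
    GrothendieckTopology.uliftYonedaEquiv_naturality.{u+1}, h k hk]

/-- Maps of sheaves agree if they agree on all maps from schemes. -/
theorem sp_hom_ext {F G : Sp S} {a b : F ⟶ G}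
    (h : ∀ (Z : Over S) (φ : (yon S).obj Z ⟶ F), φ ≫ a = φ ≫ b) : a = b := by
  apply Sheaf.hom_ext
  ext ⟨Z⟩ s
  obtain ⟨φ, rfl⟩ := (J S).uliftYonedaEquiv.{u+1}.surjective s
  exact congrArg (J S).uliftYonedaEquiv.{u+1} (h Z φ)

/-- Maps into an algebraic space agree if they do after the lifts through an fpqc covering. -/
theorem hom_ext_lift (hg : IsFpqcCover Ti g) {X B : Sp S} (hB : IsAlgSpace B) (f : X ⟶ T) {a b : X ⟶ B}
    (h : ∀ (Z : Over S) (φ : (yon S).obj Z ⟶ X) (i : ι) (l : (yon S).obj Z ⟶ Ti i),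
      l ≫ g i = φ ≫ f → φ ≫ a = φ ≫ b) : a = b := by
  refine sp_hom_ext fun Z φ => hom_ext_sieve hB (liftSieve_mem hg (φ ≫ f)) ?_
  rintro Z' k ⟨i, l, hl⟩
  rw [← Category.assoc, ← Category.assoc]
  exact h Z' _ i l (by rw [Category.assoc]; exact hl)

theorem hom_ext_fpqcCover (hg : IsFpqcCover Ti g) {B : Sp S} (hB : IsAlgSpace B) {a b : T ⟶ B}
    (h : ∀ i, g i ≫ a = g i ≫ b) : a = b :=
  hom_ext_lift hg hB (𝟙 T) fun Z φ i l hl => by
    rw [Category.comp_id] at hl
    rw [← hl, Category.assoc, Category.assoc, h i]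

/-- Compatible maps on the members of an fpqc covering glue. -/
theorem exists_glue_fpqcCover (hg : IsFpqcCover Ti g) {B : Sp S} (hB : IsAlgSpace B) (bi : ∀ i, Ti i ⟶ B)
    (hb : ∀ i j, pullback.fst (g i) (g j) ≫ bi i = pullback.snd (g i) (g j) ≫ bi j) :
    ∃ b : T ⟶ B, ∀ i, g i ≫ b = bi i := by
  have hwd : ∀ {Z : Over S} (i j : ι) (l : (yon S).obj Z ⟶ Ti i) (l' : (yon S).obj Z ⟶ Ti j),
      l ≫ g i = l' ≫ g j → l ≫ bi i = l' ≫ bi j := by
    intro Z i j l l' e
    simpa using congrArg (pullback.lift l l' e ≫ ·) (hb i j)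
  have hex : ∀ {Z : Over S} (φ : (yon S).obj Z ⟶ T), ∃ y : (yon S).obj Z ⟶ B,
      ∀ (Z' : Over S) (k : Z' ⟶ Z) (i : ι) (l : (yon S).obj Z' ⟶ Ti i),
        l ≫ g i = (yon S).map k ≫ φ → (yon S).map k ≫ y = l ≫ bi i := by
    intro Z φ
    let R := liftSieve g φ
    have hS := (isSheaf_iff_isSheaf_of_type _ _).1 (isSheaf_fpqc hB) R (liftSieve_mem hg φ)
    let x : Presieve.FamilyOfElements B.obj R.arrows := fun Z' k hk =>
      (J S).uliftYonedaEquiv.{u+1} (hk.choose_spec.choose ≫ bi hk.choose)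
    have hx : x.Compatible := by
      intro Y₁ Y₂ W g₁ g₂ f₁ f₂ h₁ h₂ e
      change B.obj.map g₁.op _ = B.obj.map g₂.op _
      rw [GrothendieckTopology.uliftYonedaEquiv_naturality.{u+1},
        GrothendieckTopology.uliftYonedaEquiv_naturality.{u+1}, ← Category.assoc, ← Category.assoc]
      refine congrArg _ (hwd _ _ _ _ ?_)
      rw [Category.assoc, h₁.choose_spec.choose_spec, Category.assoc, h₂.choose_spec.choose_spec,
        ← Category.assoc, ← Category.assoc, ← Functor.map_comp, ← Functor.map_comp, e]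
    refine ⟨(J S).uliftYonedaEquiv.{u+1}.symm (hS.amalgamate x hx), fun Z' k i l hl => ?_⟩
    have hk : R k := ⟨i, l, hl⟩
    apply (J S).uliftYonedaEquiv.{u+1}.injective
    rw [← GrothendieckTopology.uliftYonedaEquiv_naturality.{u+1}, Equiv.apply_symm_apply,
      hS.valid_glue hx k hk]
    exact congrArg (fun v => (J S).uliftYonedaEquiv.{u+1} v) (hwd _ _ _ _ (hk.choose_spec.choose_spec.trans hl.symm))
  choose y hy using @hex
  let η : T.obj ⟶ B.obj :=
  { app := fun Z => TypeCat.ofHom fun s =>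
      (J S).uliftYonedaEquiv.{u+1} (y (((J S).uliftYonedaEquiv.{u+1} (X := Z.unop) (F := T)).symm s))
    naturality := by
      rintro ⟨Z⟩ ⟨Z'⟩ k
      ext s
      obtain ⟨φ, rfl⟩ := (J S).uliftYonedaEquiv.{u+1}.surjective s
      change (J S).uliftYonedaEquiv.{u+1} (y ((J S).uliftYonedaEquiv.{u+1}.symm
          (T.obj.map k ((J S).uliftYonedaEquiv.{u+1} φ)))) =
        B.obj.map k ((J S).uliftYonedaEquiv.{u+1} (y ((J S).uliftYonedaEquiv.{u+1}.symm
          ((J S).uliftYonedaEquiv.{u+1} φ))))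
      obtain ⟨k, rfl⟩ : ∃ k' : Z' ⟶ Z, k = k'.op := ⟨k.unop, rfl⟩
      rw [GrothendieckTopology.uliftYonedaEquiv_naturality.{u+1},
        GrothendieckTopology.uliftYonedaEquiv_naturality.{u+1}, Equiv.symm_apply_apply, Equiv.symm_apply_apply]
      refine congrArg _ (hom_ext_sieve hB (liftSieve_mem hg ((yon S).map k ≫ φ)) ?_)
      rintro Z'' a ⟨i, l, hl⟩
      rw [hy _ _ a i l hl, ← Category.assoc, ← Functor.map_comp]
      exact (hy φ _ (a ≫ k) i l (by rw [hl, Functor.map_comp, Category.assoc])).symm }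
  refine ⟨⟨η⟩, fun i => sp_hom_ext fun Z l => ?_⟩
  apply (J S).uliftYonedaEquiv.{u+1}.injective
  change η.app (op Z) ((J S).uliftYonedaEquiv.{u+1} (l ≫ g i)) = _
  change (J S).uliftYonedaEquiv.{u+1} (y ((J S).uliftYonedaEquiv.{u+1}.symm
    ((J S).uliftYonedaEquiv.{u+1} (l ≫ g i)))) = _
  rw [Equiv.symm_apply_apply]
  refine congrArg _ ?_
  have h1 := hy (l ≫ g i) Z (𝟙 Z) i l (by rw [CategoryTheory.Functor.map_id, Category.id_comp])
  rwa [CategoryTheory.Functor.map_id, Category.id_comp] at h1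

end Groth.Agent.ASp
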