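import Groth.Agent.ASp.Coprod
import Groth.Agent.ASp.Diag
import Groth.Prelude.Def_AlgSpCov
import Mathlib.CategoryTheory.Sites.LeftExact
import Mathlib.CategoryTheory.Extensive
/-!
A criterion for a property to be local on the base for fpqc coverings.
-/

set_option autoImplicit false
set_option backward.isDefEq.respectTransparency false
set_option backward.isDefEq.respectTransparency.types false

universe u

open CategoryTheory CategoryTheory.Limits AlgebraicGeometry Opposite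

namespace Groth.Agent.ASp

open _root_.AlgSp

variable {S : Scheme.{u}}

/-- The coproduct of schemes over `S`, as a cofan of sheaves, is a coproduct. -/
theorem nonempty_isColimit_yon_sigma {ι : Type u} (U : ι → Over S) :
    ∃ (Z : Over S) (ζ : ∀ i, U i ⟶ Z), Z.left = (∐ fun i => (U i).left) ∧
      Nonempty (IsColimit (Cofan.mk ((yon S).obj Z) fun i => (yon S).map (ζ i))) ∧
      (∀ z : ↥Z.left, ∃ i, z ∈ Set.range (ζ i).left) ∧
      (∀ (P : MorphismProperty Scheme.{u}) [IsZariskiLocalAtSource P] {T : Over S} (c : ∀ i, U i ⟶ T) (d : Z ⟶ T),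
        (∀ i, ζ i ≫ d = c i) → (∀ i, P (c i).left) → P d.left) := by
  let str : (∐ fun i => (U i).left) ⟶ S := Sigma.desc fun i => (U i).hom
  let ζ : ∀ i, U i ⟶ Over.mk str := fun i => Over.homMk (Sigma.ι (fun i => (U i).left) i) (Sigma.ι_desc _ _)
  have hext : ∀ {F : Sp S} (a b : (yon S).obj (Over.mk str) ⟶ F),
      (∀ i, (yon S).map (ζ i) ≫ a = (yon S).map (ζ i) ≫ b) → a = b := fun a b h => by
    obtain ⟨p, hp⟩ := exists_sigma_desc (Over.mk str) U ζ rfl (fun i => Category.comp_id _)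
      (fun i => (yon S).map (ζ i) ≫ a)
    refine sigma_hom_ext (X := fun i => (U i).left) str _ _ fun i => ?_
    have e : U i = Over.mk (Sigma.ι (fun i => (U i).left) i ≫ str) := by
      conv_lhs => rw [show U i = Over.mk (U i).hom from rfl]
      exact congrArg Over.mk (Sigma.ι_desc (fun i => (U i).hom) i).symm
    have key : ∀ (A : Over S) (h : A = Over.mk (Sigma.ι (fun i => (U i).left) i ≫ str)) (m : A ⟶ Over.mk str),
        eqToHom h.symm ≫ m = Over.homMk (Sigma.ι (fun i => (U i).left) i) rfl →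
        (yon S).map m ≫ a = (yon S).map m ≫ b →
        (yon S).map (Over.homMk (Sigma.ι (fun i => (U i).left) i) rfl :
          Over.mk (Sigma.ι (fun i => (U i).left) i ≫ str) ⟶ Over.mk str) ≫ a =
        (yon S).map (Over.homMk (Sigma.ι (fun i => (U i).left) i) rfl :
          Over.mk (Sigma.ι (fun i => (U i).left) i ≫ str) ⟶ Over.mk str) ≫ b := by
      rintro A rfl m hm hab
      rw [eqToHom_refl, Category.id_comp] at hm
      rw [← hm]
      exact hab
    refine key _ e (ζ i) (Over.OverMorphism.ext ?_) (h i)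
    simp [ζ]
  refine ⟨Over.mk str, ζ, rfl, ⟨?_⟩, fun z => ?_, fun P _ T c d hd hc => ?_⟩
  · choose desc hdesc using fun (s : Cofan fun i => (yon S).obj (U i)) =>
      exists_sigma_desc (Over.mk str) U ζ rfl (fun i => Category.comp_id _) s.inj
    exact mkCofanColimit _ desc (fun s i => hdesc s i) fun s m hm => hext _ _ fun i => (hm i).trans (hdesc s i).symm
  · obtain ⟨i, y, hy⟩ := (sigmaOpenCover fun i => (U i).left).exists_eq z
    exact ⟨i, y, hy⟩
  · refine IsZariskiLocalAtSource.of_openCover (P := P) (sigmaOpenCover fun i => (U i).left) fun i => ?_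
    have := congrArg CommaMorphism.left (hd i)
    simp only [Over.comp_left] at this
    exact this ▸ hc i

/-- A criterion for being local on the base for fpqc coverings. -/
theorem isLocalOnBase_fpqc_of_affine (P : MorphismProperty (Sp S))
    (h1 : ∀ ⦃ι : Type u⦄ [Finite ι] (Xi Yi : ι → Sp S) (fi : ∀ i, Xi i ⟶ Yi i)
      (cX : Cofan Xi) (cY : Cofan Yi) (_ : IsColimit cX) (_ : IsColimit cY) (m : cX.pt ⟶ cY.pt),
      (∀ i, IsAlgSpace (Xi i)) → (∀ i, IsAlgSpace (Yi i)) →
      IsAlgSpace cX.pt → IsAlgSpace cY.pt →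
      (∀ i, cX.inj i ≫ m = fi i ≫ cY.inj i) → (∀ i, P (fi i)) → P m)
    (h2 : ∀ ⦃X Y : Sp S⦄, IsAlgSpace X → IsAlgSpace Y → ∀ (f : X ⟶ Y),
      P f ↔ ∀ (Z : Over S), IsAffine Z.left → ∀ (g : (yon S).obj Z ⟶ Y) (W : Sp S)
        (fst : W ⟶ X) (snd : W ⟶ (yon S).obj Z), IsAlgSpace W → IsPullback fst snd f g → P snd)
    (h3 : ∀ ⦃Z Z' : Over S⦄ (c : Z' ⟶ Z), IsAffine Z.left → IsAffine Z'.left → Surjective c.left → Flat c.left →
      ∀ ⦃X X' : Sp S⦄ (f : X ⟶ (yon S).obj Z) (fst : X' ⟶ X) (f' : X' ⟶ (yon S).obj Z'),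
        IsAlgSpace X → IsAlgSpace X' → IsPullback fst f' f ((yon S).map c) → P f' → P f) :
    IsLocalOnBase (IsFpqcCover (S := S)) P := by
  intro ι Y Yi g hY hYi hτ X f hX Xi p q hXi hsq
  refine ⟨fun hf i => (h2 (hXi i) (hYi i) (p i)).2 fun Z hZ l W fst snd hW sq =>
    (h2 hX hY f).1 hf Z hZ (l ≫ g i) W (fst ≫ q i) snd hW (sq.paste_horiz (hsq i)), fun hp => ?_⟩
  refine (h2 hX hY f).2 fun Z hZ h W fst snd hW sq => ?_
  obtain ⟨m, Wj, c, hWa, hcf, hcs, hl⟩ := hτ.2 Z hZ h
  let U : ULift.{u} (Fin m) → Over S := fun j => Wj j.down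
  obtain ⟨Z', ζ, hZ', ⟨hcY⟩, hζs, hζP⟩ := nonempty_isColimit_yon_sigma U
  obtain ⟨d', hd'⟩ : ∃ d' : (yon S).obj Z' ⟶ (yon S).obj Z, ∀ j : ULift.{u} (Fin m),
      (yon S).map (ζ j) ≫ d' = (yon S).map (c j.down) :=
    ⟨Cofan.IsColimit.desc hcY fun j => (yon S).map (c j.down), fun j => Cofan.IsColimit.fac hcY _ j⟩
  obtain ⟨d, rfl⟩ := (yon S).map_surjective d'
  have hd : ∀ j, ζ j ≫ d = c j.down := fun j => (yon S).map_injective (by
    rw [(yon S).map_comp]; exact hd' j)
  haveI : IsAffine Z'.left := by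
    haveI : ∀ j, IsAffine (U j).left := fun j => hWa j.down
    rw [hZ']; infer_instance
  have hflat : Flat d.left := hζP @Flat (fun j => c j.down) d hd fun j => hcf j.down
  have hsurj : Surjective d.left := ⟨fun z => by
    obtain ⟨j, w, hw⟩ := hcs z
    refine ⟨(ζ ⟨j⟩).left w, ?_⟩
    rw [← Scheme.Hom.comp_apply, ← Over.comp_left, hd ⟨j⟩]
    exact hw⟩
  obtain ⟨X', a', f', sq'⟩ : ∃ (X' : Sp S) (a' : X' ⟶ W) (f' : X' ⟶ (yon S).obj Z'),
      IsPullback a' f' snd ((yon S).map d) := ⟨_, _, _, IsPullback.of_hasPullback _ _⟩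
  have hX' : IsAlgSpace X' :=
    isAlgSpace_of_isPullback (IsAlgSpace.yon_obj Z).diag hW (IsAlgSpace.yon_obj Z') sq'
  refine h3 d hZ inferInstance hsurj hflat snd a' f' hW hX' sq' ?_
  let Xj : ULift.{u} (Fin m) → Sp S := fun j => pullback f' ((yon S).map (ζ j))
  have sqj : ∀ j, IsPullback (pullback.fst f' ((yon S).map (ζ j))) (pullback.snd f' ((yon S).map (ζ j))) f'
      ((yon S).map (ζ j)) := fun j => IsPullback.of_hasPullback _ _
  obtain ⟨hcX⟩ := (FinitaryExtensive.isVanKampen_finiteCoproducts hcY).isUniversal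
    (Cofan.mk X' fun j => pullback.fst f' ((yon S).map (ζ j)))
    (Discrete.natTrans fun j => pullback.snd f' ((yon S).map (ζ j.as))) f'
    (NatTrans.ext (funext fun ⟨j⟩ => (sqj j).w.symm)) (NatTrans.equifibered_of_discrete _) fun ⟨j⟩ => sqj j
  refine h1 Xj (fun j => (yon S).obj (U j)) (fun j => pullback.snd f' ((yon S).map (ζ j)))
    (Cofan.mk X' fun j => pullback.fst f' ((yon S).map (ζ j))) _ hcX hcY f'
    (fun j => isAlgSpace_pullback (IsAlgSpace.yon_obj Z').diag hX' (IsAlgSpace.yon_obj _) _ _)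
    (fun j => IsAlgSpace.yon_obj _) hX' (IsAlgSpace.yon_obj Z') (fun j => (sqj j).w) fun j => ?_
  obtain ⟨i, l, hl⟩ := hl j.down
  have big : IsPullback (pullback.fst f' ((yon S).map (ζ j)) ≫ a' ≫ fst) (pullback.snd f' ((yon S).map (ζ j))) f
      (l ≫ g i) := by
    have e : (yon S).map (c j.down) ≫ h = (yon S).map (ζ j) ≫ (yon S).map d ≫ h := by
      rw [← hd j, (yon S).map_comp, Category.assoc]
    rw [hl, e]
    exact (sqj j).paste_horiz (sq'.paste_horiz sq)
  exact (h2 (hXi i) (hYi i) (p i)).1 (hp i) (U j) (hWa j.down) l (Xj j)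
    ((hsq i).lift (pullback.fst f' ((yon S).map (ζ j)) ≫ a' ≫ fst) (pullback.snd f' ((yon S).map (ζ j)) ≫ l)
      (by rw [big.w, Category.assoc]))
    (pullback.snd f' ((yon S).map (ζ j)))
    (isAlgSpace_pullback (IsAlgSpace.yon_obj Z').diag hX' (IsAlgSpace.yon_obj _) _ _)
    (IsPullback.of_right (by rw [(hsq i).lift_fst]; exact big) ((hsq i).lift_snd _ _ _) (hsq i))

end Groth.Agent.ASp
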