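import Groth.Agent.AdeqShLib.Slice
import Groth.Agent.ASp.PShf
import Groth.Agent.ASp.Fpqc
import Groth.Agent.ASp.FppfGlue
import Groth.Agent.Boot.Helpers
import Groth.Agent.S1402
import Groth.Agent.S7482
import Groth.Agent.Unibranch.Open
/-!
Algebraic spaces satisfy the sheaf property for the fpqc topology.
-/

set_option autoImplicit false
set_option linter.style.haveILetI false
set_option backward.isDefEq.respectTransparency false
set_option backward.isDefEq.respectTransparency.types false

universe u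

open CategoryTheory CategoryTheory.Limits AlgebraicGeometry Opposite

namespace Groth.Agent.ASp

open _root_.AlgSp

variable {S : Scheme.{u}}

/-- An atlas by a separated scheme. -/
theorem exists_separated_atlas_fpqc {X : Sp S} (hX : IsAlgSpace X) :
    ∃ (U : Over S) (p : (yon S).obj U ⟶ X), RepWith @Etale p ∧ RepWith @Surjective p ∧ IsSeparated U.hom := by
  obtain ⟨U₀, p₀, hp₀, hp₀s⟩ := hX.atlas
  let g : U₀.left.affineOpens → Scheme.{u} := fun V => V.1.toScheme
  let σ : ∐ g ⟶ U₀.left := Limits.Sigma.desc fun V => V.1.ι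
  haveI : ∀ V, IsAffine (g V) := fun V => V.2
  haveI hσe : Etale σ := IsZariskiLocalAtSource.sigmaDesc (P := @Etale) fun V => inferInstance
  haveI hσs : Surjective σ := ⟨fun x => by
    obtain ⟨_, ⟨V : U₀.left.Opens, hV, rfl⟩, hxV, -⟩ :=
      U₀.left.isBasis_affineOpens.exists_subset_of_mem_open (Set.mem_univ x) isOpen_univ
    refine ⟨Limits.Sigma.ι g ⟨V, hV⟩ ⟨x, hxV⟩, ?_⟩
    rw [← Scheme.Hom.comp_apply, Sigma.ι_desc]
    rfl⟩
  let s : Over.mk (σ ≫ U₀.hom) ⟶ U₀ := Over.homMk σ rfl
  refine ⟨Over.mk (σ ≫ U₀.hom), (yon S).map s ≫ p₀, repWith_comp (repWith_yon_map hσe) hp₀,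
    repWith_comp (repWith_yon_map hσs) hp₀s, ?_⟩
  haveI := Boot.isSeparated_sigma g
  have h : IsSeparated ((σ ≫ U₀.hom) ≫ terminal.from S) := by
    rw [terminal.comp_from]; exact Scheme.IsSeparated.isSeparated_terminal_from
  exact IsSeparated.of_comp (σ ≫ U₀.hom) (terminal.from S)

/-- Maps from a scheme to an algebraic space which agree after an fpqc base change agree. -/
theorem hom_ext_fpqc_single {X : Sp S} (hX : IsAlgSpace X) {T V : Over S} (c : V ⟶ T) [Flat c.left]
    [Surjective c.left] [QuasiCompact c.left] {a b : (yon S).obj T ⟶ X}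
    (h : (yon S).map c ≫ a = (yon S).map c ≫ b) : a = b := by
  obtain ⟨E, e, he, ⟨hl⟩⟩ := exists_isLimit_fork hX a b
  haveI : Mono ((yon S).map e) := mono_of_isLimit_fork hl
  obtain ⟨k, hk⟩ := (yon S).map_surjective (Fork.IsLimit.lift hl _ h)
  have hke : k ≫ e = c := (yon S).map_injective (by
    rw [Functor.map_comp, hk]
    exact Fork.IsLimit.lift_ι' hl _ _)
  haveI : Mono e := (yon S).mono_of_mono_map inferInstance
  haveI : Mono e.left := (inferInstance : Mono ((Over.forget S).map e))
  have hkel : k.left ≫ e.left = c.left := by rw [← Over.comp_left, hke]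
  let g : T.left ⟶ E.left := EffectiveEpi.desc c.left k.left (fun g₁ g₂ hg => by
    rw [← cancel_mono e.left, Category.assoc, Category.assoc, hkel, hg])
  have hg : c.left ≫ g = k.left := EffectiveEpi.fac _ _ _
  have hge : g ≫ e.left = 𝟙 _ := by
    rw [← cancel_epi c.left, ← Category.assoc, hg, hkel, Category.comp_id]
  let g' : T ⟶ E := Over.homMk g (by rw [← Over.w e, reassoc_of% hge])
  have hge' : g' ≫ e = 𝟙 T := Over.OverMorphism.ext hge
  calc a = (yon S).map g' ≫ (yon S).map e ≫ a := by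
        rw [← Functor.map_comp_assoc, hge', CategoryTheory.Functor.map_id, Category.id_comp]
    _ = (yon S).map g' ≫ (yon S).map e ≫ b := by rw [he]
    _ = b := by rw [← Functor.map_comp_assoc, hge', CategoryTheory.Functor.map_id, Category.id_comp]

/-- A map from a scheme to an algebraic space with equal pullbacks descends along an fpqc covering of affines. -/
theorem exists_glue_fpqc {X : Sp S} (hX : IsAlgSpace X) {T V : Over S} (c : V ⟶ T) [IsAffine T.left]
    [IsAffine V.left] [Flat c.left] [Surjective c.left] (x : (yon S).obj V ⟶ X)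
    (hx : ∀ (Z : Over S) (a b : Z ⟶ V), a ≫ c = b ≫ c → (yon S).map a ≫ x = (yon S).map b ≫ x) :
    ∃ y : (yon S).obj T ⟶ X, (yon S).map c ≫ y = x := by
  haveI : QuasiCompact c.left := inferInstance
  obtain ⟨U, p, hpe, hps, hUs⟩ := exists_separated_atlas_fpqc hX
  obtain ⟨W, wU, wV, hW⟩ := exists_isPullback_yon hpe.1 x
  haveI hwe : Etale wV.left := etale_snd hpe hW
  haveI hws : Surjective wV.left := hps.2 _ _ _ hW
  have hext : ∀ {Z : Scheme.{u}} (a b : Z ⟶ W.left), a ≫ wV.left = b ≫ wV.left → a ≫ wU.left = b ≫ wU.left →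
      a = b := by
    intro Z a b h1 h2
    have hab : a ≫ W.hom = b ≫ W.hom := by rw [← Over.w wV, reassoc_of% h1]
    let a' : Over.mk (a ≫ W.hom) ⟶ W := Over.homMk a rfl
    let b' : Over.mk (a ≫ W.hom) ⟶ W := Over.homMk b hab.symm
    suffices a' = b' from congrArg CommaMorphism.left this
    refine (yon S).map_injective (hW.hom_ext ?_ ?_)
    · rw [← Functor.map_comp, ← Functor.map_comp]
      exact congrArg _ (Over.OverMorphism.ext h2)
    · rw [← Functor.map_comp, ← Functor.map_comp]
      exact congrArg _ (Over.OverMorphism.ext h1)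
  have hcomm : wV.left ≫ V.hom = wU.left ≫ U.hom := (Over.w wV).trans (Over.w wU).symm
  haveI : IsSeparated wV.left := by
    let l : W.left ⟶ pullback V.hom U.hom := pullback.lift wV.left wU.left hcomm
    haveI : Mono l := ⟨fun a b h => hext a b
      (by simpa [l] using congrArg (· ≫ pullback.fst V.hom U.hom) h)
      (by simpa [l] using congrArg (· ≫ pullback.snd V.hom U.hom) h)⟩
    haveI : IsSeparated (pullback.fst V.hom U.hom) := inferInstance
    rw [show wV.left = l ≫ pullback.fst V.hom U.hom from (pullback.lift_fst _ _ _).symm]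
    infer_instance
  -- the descent datum
  have hlift : ∀ {Z : Scheme.{u}} (x₀ x₁ : Z ⟶ V.left), x₀ ≫ c.left = x₁ ≫ c.left → ∀ v : Z ⟶ W.left,
      v ≫ wV.left = x₀ → ∃ r : Z ⟶ W.left, r ≫ wV.left = x₁ ∧ r ≫ wU.left = v ≫ wU.left := by
    intro Z x₀ x₁ h v hv
    have h01 : x₁ ≫ V.hom = x₀ ≫ V.hom := by
      rw [← Over.w c, ← Category.assoc, ← Category.assoc, h]
    let Z' : Over S := Over.mk (x₀ ≫ V.hom)
    let a₀ : Z' ⟶ V := Over.homMk x₀ rfl
    let a₁ : Z' ⟶ V := Over.homMk x₁ h01
    let v' : Z' ⟶ W := Over.homMk v (by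
      change v ≫ W.hom = x₀ ≫ V.hom
      rw [← hv, Category.assoc, Over.w])
    have hc' : ((yon S).map (v' ≫ wU)) ≫ p = (yon S).map a₁ ≫ x := by
      rw [Functor.map_comp, Category.assoc, hW.w, ← Category.assoc, ← Functor.map_comp,
        show v' ≫ wV = a₀ from Over.OverMorphism.ext hv]
      exact hx _ _ _ (Over.OverMorphism.ext h)
    obtain ⟨r, hr⟩ := (yon S).map_surjective (hW.lift _ _ hc')
    refine ⟨r.left, ?_, ?_⟩
    · have : r ≫ wV = a₁ := (yon S).map_injective (by rw [Functor.map_comp, hr, hW.lift_snd])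
      exact congrArg CommaMorphism.left this
    · have : r ≫ wU = v' ≫ wU := (yon S).map_injective (by rw [Functor.map_comp, hr, hW.lift_fst])
      exact congrArg CommaMorphism.left this
  choose r hr1 hr2 using @hlift
  let f : PUnit.{u + 1} → (V.left ⟶ T.left) := fun _ => c.left
  let D : Desc.SchDDFam f :=
  { obj := fun _ => Over.mk wV.left
    φ := fun Z i j x₀ x₁ h =>
      { toFun := fun v => ⟨r x₀ x₁ h v.1 v.2, hr1 _ _ h _ v.2⟩
        invFun := fun v => ⟨r x₁ x₀ h.symm v.1 v.2, hr1 _ _ h.symm _ v.2⟩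
        left_inv := fun v => Subtype.ext (hext _ _
          (by rw [hr1]; exact v.2.symm) (by rw [hr2, hr2]))
        right_inv := fun v => Subtype.ext (hext _ _
          (by rw [hr1]; exact v.2.symm) (by rw [hr2, hr2])) }
    φ_natural := fun Z Z' g i j x₀ x₁ h y₀ y₁ _ e₁ h' v v' hv => hext _ _
      (by
        change r _ _ _ _ _ ≫ wV.left = (g ≫ r _ _ _ _ _) ≫ wV.left
        rw [hr1, Category.assoc, hr1, e₁])
      (by
        change r _ _ _ _ _ ≫ wU.left = (g ≫ r _ _ _ _ _) ≫ wU.left
        rw [hr2, Category.assoc, hr2, hv, Category.assoc])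
    φ_self := fun Z i x₀ v => Subtype.ext (hext _ _ ((hr1 _ _ _ _ _).trans v.2.symm) (hr2 _ _ _ _ _))
    φ_comp := fun Z i j k x₀ x₁ x₂ h₀₁ h₁₂ v => Subtype.ext (hext _ _
      ((hr1 _ _ _ _ _).trans (hr1 _ _ _ _ _).symm)
      ((hr2 _ _ _ _ _).trans ((hr2 _ _ _ _ _).trans (hr2 _ _ _ _ _).symm))) }
  obtain ⟨W₀, ⟨e⟩⟩ := S7482.result f (by
    rw [show Presieve.ofArrows (fun _ : PUnit.{u + 1} => V.left) f = Presieve.singleton c.left from
      Presieve.ofArrows_pUnit _]
    exact c.left.singleton_mem_fpqcPrecoverage) D (fun _ => haveI := Unibranch.locallyQuasiFinite_of_etale wV.left; S1402.result wV.left)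
  let E : pullback c.left W₀.hom ⟶ W.left := (e.hom.hom PUnit.unit).left
  let E' : W.left ⟶ pullback c.left W₀.hom := (e.inv.hom PUnit.unit).left
  have hEE' : E ≫ E' = 𝟙 _ :=
    congrArg (fun q : (Desc.toDDFam f).obj W₀ ⟶ _ => (q.hom PUnit.unit).left) e.hom_inv_id
  have hE'E : E' ≫ E = 𝟙 _ :=
    congrArg (fun q : D ⟶ D => (q.hom PUnit.unit).left) e.inv_hom_id
  have hEV : E ≫ wV.left = pullback.fst c.left W₀.hom := Over.w (e.hom.hom PUnit.unit)
  haveI : IsIso E := ⟨E', hEE', hE'E⟩
  haveI : Surjective (pullback.snd c.left W₀.hom) := inferInstance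
  haveI : Flat (pullback.snd c.left W₀.hom) := inferInstance
  haveI : QuasiCompact (pullback.snd c.left W₀.hom) := inferInstance
  have hinv : ∀ {Z : Scheme.{u}} (a b : Z ⟶ pullback c.left W₀.hom),
      a ≫ pullback.snd c.left W₀.hom = b ≫ pullback.snd c.left W₀.hom →
      a ≫ E ≫ wU.left = b ≫ E ≫ wU.left := by
    intro Z a b hab
    have h : (a ≫ pullback.fst c.left W₀.hom) ≫ c.left = (b ≫ pullback.fst c.left W₀.hom) ≫ c.left := by
      rw [Category.assoc, Category.assoc, pullback.condition, ← Category.assoc, hab, Category.assoc]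
    have := e.hom.comm (i := PUnit.unit) (j := PUnit.unit) _ _ h ⟨a, rfl⟩
      ⟨a ≫ E, by
        change (a ≫ E) ≫ wV.left = _
        rw [Category.assoc, hEV]⟩ rfl
    change r _ _ _ (a ≫ E) _ = _ ≫ E at this
    have hb : ((((Desc.toDDFam f).obj W₀).φ (i := PUnit.unit) (j := PUnit.unit)
        (a ≫ pullback.fst c.left W₀.hom) (b ≫ pullback.fst c.left W₀.hom) h ⟨a, rfl⟩)).1 = b := by
      apply pullback.hom_ext
      · exact pullback.lift_fst _ _ _
      · exact (pullback.lift_snd _ _ _).trans hab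
    rw [hb] at this
    rw [← Category.assoc b, ← this, hr2, Category.assoc]
  let u₀ : W₀.left ⟶ U.left :=
    EffectiveEpi.desc (pullback.snd c.left W₀.hom) (E ≫ wU.left) (fun a b => hinv a b)
  have hu₀ : pullback.snd c.left W₀.hom ≫ u₀ = E ≫ wU.left := EffectiveEpi.fac _ _ _
  let Z₀ : Over S := Over.mk (W₀.hom ≫ T.hom)
  let w₀ : Z₀ ⟶ T := Over.homMk W₀.hom rfl
  let u₀' : Z₀ ⟶ U := Over.homMk u₀ (by
    change u₀ ≫ U.hom = W₀.hom ≫ T.hom
    rw [← cancel_epi (pullback.snd c.left W₀.hom), reassoc_of% hu₀, ← hcomm, reassoc_of% hEV,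
      ← pullback.condition_assoc, Over.w])
  -- properties of the descended scheme
  haveI : Etale (pullback.fst c.left W₀.hom) := by rw [← hEV]; infer_instance
  haveI : Surjective (pullback.fst c.left W₀.hom) := by rw [← hEV]; infer_instance
  have hEt : Etale W₀.hom := MorphismProperty.of_pullback_fst_of_descendsAlong
    (P := @Etale) (Q := @Surjective ⊓ @Flat ⊓ @QuasiCompact)
    (f := c.left) (g := W₀.hom) ⟨⟨inferInstance, inferInstance⟩, inferInstance⟩ inferInstance
  haveI : Surjective (pullback.snd c.left W₀.hom ≫ W₀.hom) := by rw [← pullback.condition]; infer_instance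
  haveI : Surjective W₀.hom := Surjective.of_comp (pullback.snd c.left W₀.hom) W₀.hom
  have hu' : ∀ {Z : Scheme.{u}} (q : Z ⟶ W.left),
      (q ≫ E' ≫ pullback.snd c.left W₀.hom) ≫ u₀ = q ≫ wU.left := fun q => by
    simp only [Category.assoc, hu₀, reassoc_of% hE'E]
  let x₀ : (yon S).obj Z₀ ⟶ X := (yon S).map u₀' ≫ p
  have hcompat : ∀ (Z : Over S) (a b : Z ⟶ Z₀), a ≫ w₀ = b ≫ w₀ →
      (yon S).map a ≫ x₀ = (yon S).map b ≫ x₀ := by
    intro Z a b hab
    let t : Z.left ⟶ T.left := (a ≫ w₀).left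
    let ZV : Over S := Over.mk (pullback.snd c.left t ≫ Z.hom)
    let π : ZV ⟶ Z := Over.homMk (pullback.snd c.left t) rfl
    let d : ZV ⟶ V := Over.homMk (pullback.fst c.left t) (by
      change pullback.fst c.left t ≫ V.hom = pullback.snd c.left t ≫ Z.hom
      rw [← Over.w c, pullback.condition_assoc, Over.w])
    haveI : Flat π.left := inferInstanceAs (Flat (pullback.snd c.left t))
    haveI : Surjective π.left := inferInstanceAs (Surjective (pullback.snd c.left t))
    haveI : QuasiCompact π.left := inferInstanceAs (QuasiCompact (pullback.snd c.left t))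
    refine hom_ext_fpqc_single hX π ?_
    have key : ∀ a : Z ⟶ Z₀, (a ≫ w₀).left = t → (yon S).map π ≫ (yon S).map a ≫ x₀ = (yon S).map d ≫ x := by
      intro a ha
      let l : pullback c.left t ⟶ W.left :=
        pullback.lift (pullback.fst c.left t) (pullback.snd c.left t ≫ a.left) (by
          rw [pullback.condition, ← ha, Category.assoc]; rfl) ≫ E
      have hl : l ≫ wV.left = pullback.fst c.left t := by
        simp only [l, Category.assoc, hEV, pullback.lift_fst]
      have hl' : l ≫ wU.left = pullback.snd c.left t ≫ a.left ≫ u₀ := by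
        simp only [l, Category.assoc, ← hu₀, pullback.lift_snd_assoc]
      let l' : ZV ⟶ W := Over.homMk l (by
        change l ≫ W.hom = pullback.snd c.left t ≫ Z.hom
        rw [← Over.w wV, reassoc_of% hl]
        exact Over.w d)
      have e1 : π ≫ a ≫ u₀' = l' ≫ wU := Over.OverMorphism.ext hl'.symm
      have e2 : d = l' ≫ wV := Over.OverMorphism.ext hl.symm
      simp only [x₀, ← Functor.map_comp_assoc, e1, e2]
      simp only [Functor.map_comp, Category.assoc, hW.w]
    rw [key a rfl, key b (congrArg CommaMorphism.left hab.symm)]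
  obtain ⟨y, hy, -⟩ := existsUnique_glue (U := fun _ : PUnit.{u + 1} => Z₀) (c := fun _ => w₀)
    (fun _ => (inferInstance : Flat W₀.hom)) (fun _ => (inferInstance : LocallyOfFinitePresentation W₀.hom))
    (fun t => ⟨PUnit.unit, W₀.hom.surjective t⟩) (fun _ => x₀) (fun _ _ Z a b h => hcompat Z a b h)
  refine ⟨y, hom_ext_fppf (U := fun _ : PUnit.{u + 1} => W) (c := fun _ => wV)
    (fun _ => inferInstance) (fun _ => inferInstance) (fun t => ⟨PUnit.unit, wV.left.surjective t⟩) fun _ => ?_⟩
  have hE'V : E' ≫ pullback.fst c.left W₀.hom = wV.left := by rw [← hEV, reassoc_of% hE'E]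
  let m : W ⟶ Z₀ := Over.homMk (E' ≫ pullback.snd c.left W₀.hom) (by
    change (E' ≫ pullback.snd c.left W₀.hom) ≫ W₀.hom ≫ T.hom = W.hom
    rw [Category.assoc, ← pullback.condition_assoc, Over.w, reassoc_of% hE'V, Over.w])
  have e1 : wV ≫ c = m ≫ w₀ := Over.OverMorphism.ext (by
    change wV.left ≫ c.left = (E' ≫ pullback.snd c.left W₀.hom) ≫ W₀.hom
    rw [Category.assoc, ← pullback.condition, reassoc_of% hE'V])
  have e2 : m ≫ u₀' = wU := Over.OverMorphism.ext (by
    change (E' ≫ pullback.snd c.left W₀.hom) ≫ u₀ = wU.left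
    simpa using hu' (𝟙 W.left))
  rw [← Functor.map_comp_assoc, e1, Functor.map_comp, Category.assoc, hy PUnit.unit]
  simp only [x₀, ← Functor.map_comp_assoc, e2]
  exact hW.w

/-- The underlying presheaf of an algebraic space is a sheaf for the fpqc topology. -/
theorem isSheaf_fpqc {X : Sp S} (hX : IsAlgSpace X) : Presheaf.IsSheaf (Scheme.fpqcTopology.over S) X.obj := by
  rw [isSheaf_iff_isSheaf_of_type]
  let P : (Over S)ᵒᵖ ⥤ Type (u + 1) := X.obj
  have hzar : Presieve.IsSheaf (Scheme.zariskiTopology.over S) P :=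
    Presieve.isSheaf_of_le _ ((fun _ _ hR => Precoverage.toGrothendieck_mono
      Scheme.zariskiPrecoverage_le_fppfPrecoverage _ hR)) ((isSheaf_iff_isSheaf_of_type _ _).1 X.2)
  have hQ : Presieve.IsSheaf Scheme.fpqcTopology (AdeqShLib.totalPre P) := by
    rw [Scheme.fpqcTopology_eq_propQCTopology, isSheaf_type_propQCTopology_iff]
    refine ⟨AdeqShLib.isSheaf_totalPre _ hzar, fun {R B} φ hflat hsurj => ?_⟩
    haveI := hsurj
    haveI : Flat (Spec.map φ) := hflat
    rw [Presieve.isSheafFor_singleton]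
    rintro ⟨g, t⟩ hcomp
    let a : Spec R ⟶ S := EffectiveEpi.desc (Spec.map φ) g
      (fun {Z} p₁ p₂ e => congrArg Sigma.fst (hcomp p₁ p₂ e))
    have ha : Spec.map φ ≫ a = g := EffectiveEpi.fac _ _ _
    clear_value a
    subst ha
    let T : Over S := Over.mk a
    let V : Over S := Over.mk (Spec.map φ ≫ a)
    let c : V ⟶ T := Over.homMk (Spec.map φ) rfl
    haveI : IsAffine T.left := inferInstanceAs (IsAffine (Spec R))
    haveI : IsAffine V.left := inferInstanceAs (IsAffine (Spec B))
    haveI : Flat c.left := hflat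
    haveI : Surjective c.left := hsurj
    let ξ : (yon S).obj V ⟶ X := (J S).uliftYonedaEquiv.{u+1}.symm t
    have hξ : ∀ (Z : Over S) (p₁ p₂ : Z ⟶ V), p₁ ≫ c = p₂ ≫ c →
        (yon S).map p₁ ≫ ξ = (yon S).map p₂ ≫ ξ := by
      intro Z p₁ p₂ hp
      apply (J S).uliftYonedaEquiv.{u+1}.injective
      rw [← GrothendieckTopology.uliftYonedaEquiv_naturality.{u+1},
        ← GrothendieckTopology.uliftYonedaEquiv_naturality.{u+1}, Equiv.apply_symm_apply]
      have h := hcomp p₁.left p₂.left (congrArg CommaMorphism.left hp)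
      let e : Z ⟶ Over.mk (p₁.left ≫ Spec.map φ ≫ a) :=
        Over.homMk (𝟙 _) ((Category.id_comp _).trans (Over.w p₁))
      let m : Over.mk (p₁.left ≫ Spec.map φ ≫ a) ⟶ Over.mk (p₂.left ≫ Spec.map φ ≫ a) :=
        Over.homMk (𝟙 _) ((Category.id_comp _).trans ((Over.w p₂).trans (Over.w p₁).symm))
      have h1 := congrArg (P.map e.op) (AdeqShLib.total_snd ((AdeqShLib.totalPre_map _ _ t).symm.trans
        (h.trans (AdeqShLib.totalPre_map _ _ t))) m rfl)
      refine Eq.trans ?_ (h1.trans ?_)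
      · refine Eq.trans ?_ (P.map_comp_apply _ _ _)
        rw [← op_comp]
        exact congrArg (fun m => P.map (Quiver.Hom.op m) t) (Over.OverMorphism.ext (Category.id_comp _).symm)
      · refine ((congrArg (P.map e.op) (P.map_comp_apply _ m.op t).symm).trans
          (P.map_comp_apply _ _ _).symm).trans ?_
        rw [← op_comp, ← op_comp]
        refine congrArg (fun m => P.map (Quiver.Hom.op m) t) (Over.OverMorphism.ext ?_)
        simp [e, m]
    obtain ⟨y, hy⟩ := exists_glue_fpqc hX c ξ hξ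
    have hy' : P.map c.op ((J S).uliftYonedaEquiv.{u+1} y) = t := by
      rw [GrothendieckTopology.uliftYonedaEquiv_naturality.{u+1}, hy]
      exact Equiv.apply_symm_apply _ _
    refine ⟨⟨a, (J S).uliftYonedaEquiv.{u+1} y⟩, ?_, ?_⟩
    · refine (AdeqShLib.totalPre_map (Spec.map φ) a _).trans (congrArg (Sigma.mk (Spec.map φ ≫ a)) ?_)
      exact hy'
    · rintro ⟨a', t'⟩ h
      have hh := (AdeqShLib.totalPre_map (Spec.map φ) a' t').symm.trans h
      obtain rfl : a' = a := (cancel_epi (Spec.map φ)).1 (congrArg Sigma.fst hh)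
      refine congrArg (Sigma.mk a') ?_
      have h1 : P.map c.op t' = t := eq_of_heq (Sigma.mk.inj hh).2
      obtain ⟨y', rfl⟩ := (J S).uliftYonedaEquiv.{u+1}.surjective t'
      refine congrArg _ (hom_ext_fpqc_single hX c ((J S).uliftYonedaEquiv.{u+1}.injective ?_))
      rw [← GrothendieckTopology.uliftYonedaEquiv_naturality.{u+1}, h1, hy]
      exact (Equiv.apply_symm_apply _ _).symm
  exact AdeqShLib.isSheaf_over_of_isSheaf_totalPre _ hQ

end Groth.Agent.ASp
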