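import Groth.Agent.ASp.Basic
import Groth.Agent.ASp.SchDenseFlat
import Mathlib.AlgebraicGeometry.Limits
/-!
Free actions of abstract groups give etale equivalence relations.
-/

set_option autoImplicit false
set_option backward.isDefEq.respectTransparency false
set_option backward.isDefEq.respectTransparency.types false

universe u

open CategoryTheory CategoryTheory.Limits AlgebraicGeometry Opposite

namespace Groth.Agent.ASp

open _root_.AlgSp

variable {S : Scheme.{u}}

theorem over_hom_ext_local {A B : Over S} (f f' : A ⟶ B)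
    (h : ∀ p : ↥A.left, ∃ O : A.left.Opens, p ∈ O ∧ openInc O ≫ f = openInc O ≫ f') : f = f' :=
  Over.OverMorphism.ext (Scheme.hom_ext_of_forall _ _ fun p => by
    obtain ⟨O, hp, e⟩ := h p
    exact ⟨O, hp, congrArg (·.left) e⟩)

/-- Freeness: two group elements agreeing on a point with values in a nonempty scheme are equal. -/
theorem eq_of_comp_eq_of_free {U : Over S} {G : Type u} [Group G] {ρ : G →* Aut U}
    (hfree : ∀ (g : G) (x : U.left), g ≠ 1 →
      U.left.fromSpecResidueField x ≫ (ρ g).hom.left ≠ U.left.fromSpecResidueField x)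
    {T : Over S} (x : T ⟶ U) {g h : G} (e : x ≫ (ρ g).hom = x ≫ (ρ h).hom) (p : ↥T.left) : g = h := by
  have e' : x ≫ (ρ (h⁻¹ * g)).hom = x := by
    rw [map_mul, map_inv]
    show x ≫ (ρ g).hom ≫ (ρ h).inv = x
    rw [reassoc_of% e, Iso.hom_inv_id, Category.comp_id]
  by_contra hne
  refine hfree (h⁻¹ * g) (x.left p) (fun h1 => hne (inv_mul_eq_one.1 h1).symm) ?_
  haveI : Epi (Spec.map (x.left.residueFieldMap p)) := by
    haveI : Flat (Spec.map (x.left.residueFieldMap p)) := by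
      rw [HasRingHomProperty.Spec_iff (P := @Flat)]
      algebraize [(x.left.residueFieldMap p).hom]
      exact Module.Flat.of_free
    haveI : Surjective (Spec.map (x.left.residueFieldMap p)) :=
      ⟨fun z => ⟨IsLocalRing.closedPoint _, Subsingleton.elim _ _⟩⟩
    exact Flat.epi_of_flat_of_surjective _
  rw [← cancel_epi (Spec.map (x.left.residueFieldMap p)),
    Scheme.Hom.SpecMap_residueFieldMap_fromSpecResidueField_assoc,
    Scheme.Hom.SpecMap_residueFieldMap_fromSpecResidueField, ← Over.comp_left, e']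

/-- A free action of a group gives an etale equivalence relation. -/
theorem isEtaleEqvRel_of_free {U : Over S} {G : Type u} [Group G] (ρ : G →* Aut U)
    (hfree : ∀ (g : G) (x : U.left), g ≠ 1 →
      U.left.fromSpecResidueField x ≫ (ρ g).hom.left ≠ U.left.fromSpecResidueField x)
    (c : Cofan (fun _ : G => U)) (hc : IsColimit c) (s t : c.pt ⟶ U)
    (hs : ∀ g, c.inj g ≫ s = 𝟙 U) (ht : ∀ g, c.inj g ≫ t = (ρ g).hom) :
    IsEtaleEqvRel s t := by
  have hcS : IsColimit (Cofan.mk c.pt.left fun g => (c.inj g).left) :=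
    isColimitCofanMkObjOfIsColimit (Over.forget S) _ _
      (hc.ofIsoColimit (Cocone.ext (Iso.refl c.pt) (fun j => by simp [Cofan.inj])))
  let e : ∐ (fun _ : G => U.left) ≅ c.pt.left :=
    IsColimit.coconePointUniqueUpToIso (coproductIsCoproduct _) hcS
  have he : ∀ g, Limits.Sigma.ι (fun _ : G => U.left) g ≫ e.hom = (c.inj g).left := fun g =>
    IsColimit.comp_coconePointUniqueUpToIso_hom (coproductIsCoproduct _) hcS ⟨g⟩
  haveI hoi : ∀ g, IsOpenImmersion (c.inj g).left := fun g => by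
    rw [← he g]
    haveI : IsOpenImmersion (Limits.Sigma.ι (fun _ : G => U.left) g) := (sigmaOpenCover _).map_prop g
    infer_instance
  have hcov : ∀ p : ↥c.pt.left, ∃ g u, (c.inj g).left u = p := fun p => by
    obtain ⟨g, u, hu⟩ := (sigmaOpenCover fun _ : G => U.left).exists_eq (e.inv p)
    refine ⟨g, u, ?_⟩
    rw [← he g, Scheme.Hom.comp_apply, show Limits.Sigma.ι (fun _ : G => U.left) g u = e.inv p from hu]
    exact e.schemeIsoToHomeo.apply_symm_apply p
  have loc : ∀ {T : Over S} (r : T ⟶ c.pt) (p : ↥T.left), ∃ (g : G) (O : T.left.Opens) (x : openOver O ⟶ U),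
      p ∈ O ∧ openInc O ≫ r = x ≫ c.inj g := by
    intro T r p
    obtain ⟨g, u, hu⟩ := hcov (r.left p)
    let O : T.left.Opens := r.left ⁻¹ᵁ (c.inj g).left.opensRange
    have hr : Set.range (O.ι ≫ r.left) ⊆ Set.range (c.inj g).left := by
      rintro _ ⟨z, rfl⟩
      exact z.2
    refine ⟨g, O, Over.homMk (IsOpenImmersion.lift (c.inj g).left (O.ι ≫ r.left) hr) ?_, ⟨u, hu⟩,
      Over.OverMorphism.ext (IsOpenImmersion.lift_fac _ _ _).symm⟩
    show _ ≫ U.hom = O.ι ≫ T.hom
    rw [← Over.w (c.inj g), IsOpenImmersion.lift_fac_assoc, Category.assoc, Over.w]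
  have key : ∀ {O : Over S} (x : O ⟶ U) (g : G), (x ≫ c.inj g) ≫ t = x ≫ (ρ g).hom ∧ (x ≫ c.inj g) ≫ s = x :=
    fun x g => ⟨by rw [Category.assoc, ht], by rw [Category.assoc, hs, Category.comp_id]⟩
  have loc2 : ∀ {T : Over S} (r r' : T ⟶ c.pt) (p : ↥T.left),
      ∃ (g h : G) (O : T.left.Opens) (x y : openOver O ⟶ U), p ∈ O ∧
        openInc O ≫ r = x ≫ c.inj g ∧ openInc O ≫ r' = y ≫ c.inj h := by
    intro T r r' p
    obtain ⟨g, A, x, hpA, hx⟩ := loc r p
    obtain ⟨h, B, y, hpB, hy⟩ := loc r' p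
    let iA : openOver (A ⊓ B) ⟶ openOver A := Over.homMk (T.left.homOfLE inf_le_left) (by
      show _ ≫ A.ι ≫ T.hom = (A ⊓ B).ι ≫ T.hom
      rw [Scheme.homOfLE_ι_assoc])
    let iB : openOver (A ⊓ B) ⟶ openOver B := Over.homMk (T.left.homOfLE inf_le_right) (by
      show _ ≫ B.ι ≫ T.hom = (A ⊓ B).ι ≫ T.hom
      rw [Scheme.homOfLE_ι_assoc])
    have eA : iA ≫ openInc A = openInc (A ⊓ B) := Over.OverMorphism.ext (Scheme.homOfLE_ι T.left (inf_le_left : A ⊓ B ≤ A))
    have eB : iB ≫ openInc B = openInc (A ⊓ B) := Over.OverMorphism.ext (Scheme.homOfLE_ι T.left (inf_le_right : A ⊓ B ≤ B))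
    exact ⟨g, h, A ⊓ B, iA ≫ x, iB ≫ y, ⟨hpA, hpB⟩, by rw [Category.assoc, ← hx, reassoc_of% eA],
      by rw [Category.assoc, ← hy, reassoc_of% eB]⟩
  have inj : ∀ (T : Over S) (r r' : T ⟶ c.pt), r ≫ t = r' ≫ t → r ≫ s = r' ≫ s → r = r' := by
    intro T r r' e1 e2
    refine over_hom_ext_local r r' fun p => ?_
    obtain ⟨g, h, O, x, y, hp, hx, hy⟩ := loc2 r r' p
    refine ⟨O, hp, ?_⟩
    have hxy : x = y := by rw [← (key x g).2, ← (key y h).2, ← hx, ← hy, Category.assoc, Category.assoc, e2]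
    subst hxy
    have hgh : g = h := eq_of_comp_eq_of_free hfree x (by
      rw [← (key x g).1, ← (key x h).1, ← hx, ← hy, Category.assoc, Category.assoc, e1]) ⟨p, hp⟩
    rw [hx, hy, hgh]
  have glue : ∀ (T : Over S) (a b : T ⟶ U), (∀ p : ↥T.left, ∃ (O : T.left.Opens) (r : openOver O ⟶ c.pt),
      p ∈ O ∧ r ≫ t = openInc O ≫ a ∧ r ≫ s = openInc O ≫ b) → ∃ r : T ⟶ c.pt, r ≫ t = a ∧ r ≫ s = b := by
    intro T a b H
    choose O r hp h1 h2 using H
    let 𝒰 : T.left.OpenCover := {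
      I₀ := ↥T.left, X i := (O i), f i := (O i).ι,
      mem₀ := by
        rw [Scheme.presieve₀_mem_precoverage_iff]
        exact ⟨fun x => ⟨x, by simpa using hp x⟩, inferInstance⟩ }
    have compat : ∀ i j, pullback.fst (O i).ι (O j).ι ≫ (r i).left = pullback.snd (O i).ι (O j).ι ≫ (r j).left := by
      intro i j
      let P : Over S := Over.mk (pullback.fst (O i).ι (O j).ι ≫ (O i).ι ≫ T.hom)
      let a₁ : P ⟶ openOver (O i) := Over.homMk (pullback.fst (O i).ι (O j).ι) rfl
      let a₂ : P ⟶ openOver (O j) := Over.homMk (pullback.snd (O i).ι (O j).ι) (by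
        show _ ≫ (O j).ι ≫ T.hom = pullback.fst _ _ ≫ (O i).ι ≫ T.hom
        rw [pullback.condition_assoc])
      have e : a₁ ≫ openInc (O i) = a₂ ≫ openInc (O j) := Over.OverMorphism.ext pullback.condition
      exact congrArg (·.left) (inj P (a₁ ≫ r i) (a₂ ≫ r j)
        (by rw [Category.assoc, Category.assoc, h1, h1, reassoc_of% e])
        (by rw [Category.assoc, Category.assoc, h2, h2, reassoc_of% e]))
    let l := 𝒰.glueMorphisms (fun i => (r i).left) compat
    have hl : ∀ i, (O i).ι ≫ l = (r i).left := fun i => 𝒰.ι_glueMorphisms _ _ i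
    let L : T ⟶ c.pt := Over.homMk l (𝒰.hom_ext _ _ fun i => by
      show (O i).ι ≫ l ≫ c.pt.hom = (O i).ι ≫ T.hom
      rw [reassoc_of% hl i]
      exact Over.w (r i))
    have hL : ∀ i, openInc (O i) ≫ L = r i := fun i => Over.OverMorphism.ext (hl i)
    refine ⟨L, over_hom_ext_local _ _ fun p => ⟨O p, hp p, ?_⟩, over_hom_ext_local _ _ fun p => ⟨O p, hp p, ?_⟩⟩
    · rw [reassoc_of% hL p, h1]
    · rw [reassoc_of% hL p, h2]
  refine ⟨⟨inj, fun T => ⟨fun a => ⟨a ≫ c.inj 1, ?_, ?_⟩, ?_, ?_⟩⟩, ?_, ?_⟩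
  · rw [(key a 1).1, map_one]; exact Category.comp_id _
  · exact (key a 1).2
  · rintro a b ⟨r, rfl, rfl⟩
    refine glue T _ _ fun p => ?_
    obtain ⟨g, O, x, hp, hx⟩ := loc r p
    refine ⟨O, (x ≫ (ρ g).hom) ≫ c.inj g⁻¹, hp, ?_, ?_⟩
    · rw [(key _ _).1, reassoc_of% hx, hs, Category.comp_id, map_inv]
      show (x ≫ (ρ g).hom) ≫ (ρ g).inv = x
      simp
    · rw [(key _ _).2, reassoc_of% hx, ht]
  · rintro a b d ⟨r, rfl, hrs⟩ ⟨r', rfl, rfl⟩
    refine glue T _ _ fun p => ?_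
    obtain ⟨g, h, O, x, y, hp, hx, hy⟩ := loc2 r r' p
    refine ⟨O, y ≫ c.inj (g * h), hp, ?_, ?_⟩
    · have hxy : x = y ≫ (ρ h).hom := by
        rw [← (key x g).2, ← hx, Category.assoc, hrs, reassoc_of% hy, ht]
      rw [(key _ _).1, reassoc_of% hx, ht, hxy, map_mul, Category.assoc]
      rfl
    · rw [(key _ _).2, reassoc_of% hy, hs, Category.comp_id]
  · rw [← MorphismProperty.cancel_left_of_respectsIso @Etale e.hom,
      IsZariskiLocalAtSource.iff_of_openCover (P := @Etale) (sigmaOpenCover fun _ : G => U.left)]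
    intro g
    show Etale (Limits.Sigma.ι _ g ≫ e.hom ≫ s.left)
    rw [reassoc_of% he g, ← Over.comp_left, hs]
    dsimp; infer_instance
  · rw [← MorphismProperty.cancel_left_of_respectsIso @Etale e.hom,
      IsZariskiLocalAtSource.iff_of_openCover (P := @Etale) (sigmaOpenCover fun _ : G => U.left)]
    intro g
    show Etale (Limits.Sigma.ι _ g ≫ e.hom ≫ t.left)
    rw [reassoc_of% he g, ← Over.comp_left, ht]
    haveI : IsIso (ρ g).hom.left := inferInstanceAs (IsIso ((Over.forget S).map (ρ g).hom))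
    infer_instance

end Groth.Agent.ASp
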