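import Groth.Agent.ASp.Univ
import Groth.Agent.ASp.EtLocal
import Groth.Agent.FtPtsLib.Basic

/-!
Finite type points of algebraic spaces.
-/

set_option backward.isDefEq.respectTransparency false
set_option backward.isDefEq.respectTransparency.types false

universe u

open CategoryTheory CategoryTheory.Limits AlgebraicGeometry Opposite

namespace Groth.Agent.ASp

open _root_.AlgSp Groth.Agent.FtPtsLib

variable {S : Scheme.{u}}

/-- `x` is represented by a map locally of finite type from the spectrum of a field. -/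
def IsFtPoint {X : Sp S} (x : Points X) : Prop :=
  ∃ (k : Type u) (_ : Field k) (str : Spec (CommRingCat.of k) ⟶ S) (ξ : (yon S).obj (Over.mk str) ⟶ X),
    LocP @LocallyOfFiniteType ξ ∧ Points.ofPt ξ (IsLocalRing.closedPoint k) = x

theorem isFtPoint_ofPt {X : Sp S} (hX : IsAlgSpace X) {U : Over S} {p : (yon S).obj U ⟶ X}
    (hp : RepWith @Etale p) {u : ↥U.left} (hu : LocallyOfFiniteType (U.left.fromSpecResidueField u)) :
    IsFtPoint (Points.ofPt p u) := by
  let Z : Over S := Over.mk (U.left.fromSpecResidueField u ≫ U.hom)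
  let z : Z ⟶ U := Over.homMk (U.left.fromSpecResidueField u) rfl
  refine ⟨U.left.residueField u, inferInstance, _, (yon S).map z ≫ p,
    locP_comp (IsAlgSpace.yon_obj U) (locP_of_repWith ((repWith_yon_map_iff _ z).2 hu))
      (locP_of_repWith (repWith_mono (fun _ _ g (hg : Etale g) => inferInstanceAs (LocallyOfFiniteType g)) hp)), ?_⟩
  rw [ofPt_yon_map_comp]
  congr 1
  exact Scheme.fromSpecResidueField_apply u _

theorem exists_ftPoint_chart {X : Sp S} {x : Points X} (hx : IsFtPoint x) {U : Over S} {p : (yon S).obj U ⟶ X}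
    (hp : RepWith @Etale p) (hps : RepWith @Surjective p) :
    ∃ u : ↥U.left, LocallyOfFiniteType (U.left.fromSpecResidueField u) ∧ Points.ofPt p u = x := by
  obtain ⟨k, _, str, ξ, hξ, rfl⟩ := hx
  obtain ⟨R, r₂, r₁, hR⟩ := exists_isPullback_yon hp.1 ξ
  haveI he : Etale r₁.left := hp.2 ξ _ r₁ hR
  haveI hsu : Surjective r₁.left := hps.2 ξ _ r₁ hR
  haveI : LocallyOfFiniteType r₂.left := hξ ((yon S).map r₁) p r₂ ((repWith_yon_map_iff _ r₁).2 he) hp hR.w.symm
  obtain ⟨t₀, -⟩ := r₁.left.surjective (IsLocalRing.closedPoint k)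
  obtain ⟨t, -, ht⟩ := exists_mem_of_isLocallyClosed (S := R.left) isClosed_univ.isLocallyClosed ⟨t₀, trivial⟩
  refine ⟨r₂.left t, lft_fromSpec_image r₂.left ht, ?_⟩
  rw [← ofPt_yon_map_comp, hR.w, ofPt_yon_map_comp]
  congr 1
  exact @Subsingleton.elim _ (inferInstanceAs (Subsingleton ↥(Spec (.of k)))) _ _

theorem exists_ftPoint_of_isLocallyClosed {X : Sp S} (hX : IsAlgSpace X) {T : Set (Points X)}
    (hT : IsLocallyClosed T) (hne : T.Nonempty) : ∃ x ∈ T, IsFtPoint x := by
  obtain ⟨U, p, hp, hps⟩ := hX.atlas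
  obtain ⟨x, hx⟩ := hne
  obtain ⟨u₀, rfl⟩ := surjective_ofPt hps x
  obtain ⟨u, huT, hu⟩ := exists_mem_of_isLocallyClosed (S := U.left) (hT.preimage (Points.continuous_ofPt p))
    ⟨u₀, hx⟩
  exact ⟨_, huT, isFtPoint_ofPt hX hp hu⟩

end Groth.Agent.ASp
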