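import Groth.Agent.ASp.FtPoint
import Groth.Agent.ASp.EqvQuot
import Groth.Agent.ASp.Quot
import Groth.Agent.ASp.OnePoint
/-!
Finite type points are monomorphisms from etale quotients of spectra of fields.
-/

set_option autoImplicit false
set_option backward.isDefEq.respectTransparency false
set_option backward.isDefEq.respectTransparency.types false

universe u

open CategoryTheory CategoryTheory.Limits AlgebraicGeometry Opposite

namespace Groth.Agent.ASp

open _root_.AlgSp

variable {S : Scheme.{u}}

/-- A finite type point is the image of a monomorphism from an etale quotient of a field spectrum. -/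
theorem exists_mono_quot_of_isFtPoint {X : Sp S} (hX : IsAlgSpace X) {x : Points X} (hx : IsFtPoint x) :
    ∃ (Z : Sp S) (_ : IsAlgSpace Z) (f : Z ⟶ X) (k : Type u) (_ : Field k) (str : Spec (CommRingCat.of k) ⟶ S)
      (z : (yon S).obj (Over.mk str) ⟶ Z), RepWith @Etale z ∧ RepWith @Surjective z ∧
      LocP @LocallyOfFiniteType f ∧ Mono f ∧ Points.ofPt (z ≫ f) (IsLocalRing.closedPoint k) = x := by
  obtain ⟨U, p, hp, hps⟩ := hX.atlas
  obtain ⟨u, hu, rfl⟩ := exists_ftPoint_chart hx hp hps
  let str := U.left.fromSpecResidueField u ≫ U.hom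
  let z : Over.mk str ⟶ U := Over.homMk (U.left.fromSpecResidueField u) rfl
  haveI : LocallyOfFiniteType z.left := hu
  haveI : Mono z.left := inferInstanceAs (Mono (U.left.fromSpecResidueField u))
  obtain ⟨R, r₁, r₂, hR⟩ := exists_isPullback_yon hp.1 p
  haveI : Etale r₁.left := hp.2 p _ r₁ hR.flip
  let q := (yon S).map z ≫ p
  let d : pullback z r₁ ⟶ U := pullback.snd z r₁ ≫ r₂
  haveI hse : Etale (pullback.fst z r₁).left :=
    MorphismProperty.of_isPullback (P := @Etale) (isPullback_left (IsPullback.of_hasPullback z r₁)).flip ‹_›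
  have h1 : IsPullback ((yon S).map (pullback.fst z r₁)) ((yon S).map d) q p := by
    rw [Functor.map_comp]
    exact ((isPullback_yon_map (IsPullback.of_hasPullback z r₁)).flip.paste_horiz hR.flip).flip
  let t : pullback d z ⟶ Over.mk str := pullback.snd d z
  let n : pullback d z ⟶ pullback z r₁ := pullback.fst d z
  let s : pullback d z ⟶ Over.mk str := n ≫ pullback.fst z r₁
  have hk : IsPullback ((yon S).map s) ((yon S).map t) q q := by
    rw [Functor.map_comp]
    exact (isPullback_yon_map (IsPullback.of_hasPullback d z)).flip.paste_vert h1.flip |>.flip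
  have hn := isPullback_left (IsPullback.of_hasPullback d z)
  haveI : Mono n.left := MorphismProperty.of_isPullback (P := MorphismProperty.monomorphisms Scheme.{u}) hn.flip ‹Mono z.left›
  haveI : LocallyOfFiniteType n.left := MorphismProperty.of_isPullback hn.flip ‹LocallyOfFiniteType z.left›
  let af : (pullback z r₁).left ⟶ Spec (CommRingCat.of (U.left.residueField u)) := (pullback.fst z r₁).left
  haveI : Etale af := hse
  haveI : IsLocallyNoetherian (pullback z r₁).left := LocallyOfFiniteType.isLocallyNoetherian af
  haveI : LocallyOfFinitePresentation n.left := LocallyOfFinitePresentation.iff_locallyOfFiniteType.mpr ‹_›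
  haveI : Flat n.left := flat_of_isField_stalk n.left fun v =>
    isField_stalk_of_etale_field (K := U.left.residueField u) af v
  haveI : FormallyUnramified n.left := inferInstance
  haveI : Etale n.left := Etale.of_formallyUnramified_of_flat _
  haveI hs : Etale s.left := by rw [Over.comp_left]; infer_instance
  obtain ⟨σ, hσ⟩ : ∃ σ : pullback d z ≅ pullback d z, σ.hom ≫ s = t :=
    ⟨(yon S).preimageIso (hk.flip.isoIsPullback _ _ hk), (yon S).map_injective (by
      rw [Functor.map_comp, Functor.preimageIso_hom, Functor.map_preimage, IsPullback.isoIsPullback_hom_fst])⟩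
  haveI : Etale t.left := by rw [← hσ, Over.comp_left]; infer_instance
  let e : (yon S).obj (Over.mk str) ⟶ Sheaf.image q := Sheaf.toImage q
  have he : e ≫ Sheaf.imageι q = q := Sheaf.toImage_ι q
  have hke : IsPullback ((yon S).map t) ((yon S).map s) e e := by
    have hk' := hk.flip
    refine IsPullback.of_isLimit' ⟨(cancel_mono (Sheaf.imageι q)).1 (by rw [Category.assoc, Category.assoc, he, hk'.w])⟩
      (PullbackCone.IsLimit.mk _ (fun c => hk'.lift c.fst c.snd (by simpa only [Category.assoc, he] using c.condition =≫ Sheaf.imageι q))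
        (fun c => hk'.lift_fst _ _ _) (fun c => hk'.lift_snd _ _ _)
        (fun c m a b => hk'.hom_ext (by rw [hk'.lift_fst, a]) (by rw [hk'.lift_snd, b])))
  obtain ⟨hee, hes⟩ := repWith_etale_surjective_of_kernelPair e hke
  refine ⟨_, isAlgSpace_of_etale_surjective (IsAlgSpace.yon_obj _) e hee hes, Sheaf.imageι q, _, inferInstance, str, e,
    hee, hes, locP_of_chart hee hes hp he hu, inferInstance, ?_⟩
  rw [he, ofPt_yon_map_comp]
  congr 1
  exact Scheme.fromSpecResidueField_apply u _

end Groth.Agent.ASp
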