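import Groth.Prelude
import Groth.Agent.ASp.BiratEtale
import Groth.Agent.S10400
import Groth.Agent.ASp.QSBase
import Groth.Agent.ASp.Decent
/-!
Morphisms of integral spaces with a single point over the generic point.
-/

set_option autoImplicit false
set_option backward.isDefEq.respectTransparency false
set_option linter.style.haveILetI false

universe u

open CategoryTheory CategoryTheory.Limits AlgebraicGeometry Opposite Topology

namespace Groth.Agent.ASp

open _root_.AlgSp

variable {S : Scheme.{u}}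

/-- Products of decent spaces are decent. -/
theorem isDecent_prod {X Y : Sp S} (hX : IsDecent X) (hY : IsDecent Y) : IsDecent (X ⨯ Y) :=
  isDecent_of_isPullback (IsPullback.of_is_product' (prodIsProd X Y) isTerminalYonBase)
    (IsAlgSpace.yon_obj _) hX hY

theorem genericPoints_eq_singleton_of_integral {X : Sp S} (hX : IsAlgSpace X) (hXi : IsIntegralSp X) {x : Points X}
    (hx : IsGenericPoint x (Set.univ : Set (Points X))) : genericPoints (Points X) = {x} := by
  obtain ⟨-, hdec, hirr⟩ := hXi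
  haveI := quasiSober_of_isDecent hX hdec
  haveI := t0Space_of_isDecent hX hdec
  haveI := hirr
  rw [genericPoints_eq_singleton]
  exact congrArg _ ((genericPoint_spec _).eq hx)

variable {X Y : Space S} {f : X ⟶ Y}

theorem map_generic_of_dominant (hYi : IsIntegralSp Y.obj) (hd : IsDominantMor f.hom) {x : Points X.obj}
    (hx : IsGenericPoint x (Set.univ : Set (Points X.obj))) {y : Points Y.obj}
    (hy : IsGenericPoint y (Set.univ : Set (Points Y.obj))) : Points.map f.hom x = y := by
  haveI := t0Space_of_isDecent Y.2 hYi.2.1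
  refine ((hy.specializes trivial).antisymm (specializes_iff_mem_closure.2 ?_)).eq.symm
  refine closure_minimal ?_ isClosed_closure (hd y)
  rintro _ ⟨z, rfl⟩
  exact ((hx.specializes trivial).map (Points.continuous_map f.hom)).mem_closure

theorem qfNbhd_iff_unique (hXi : IsIntegralSp X.obj) (hYi : IsIntegralSp Y.obj)
    (hft : LocP @LocallyOfFiniteType f.hom) (hd : IsDominantMor f.hom) {x : Points X.obj}
    (hx : IsGenericPoint x (Set.univ : Set (Points X.obj))) {y : Points Y.obj}
    (hy : IsGenericPoint y (Set.univ : Set (Points Y.obj))) :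
    IsQfNbhd f.hom x ↔ ∀ x' : Points X.obj, Points.map f.hom x' = y → x' = x := by
  have hX0 := genericPoints_eq_singleton_of_integral X.2 hXi hx
  have hY0 := genericPoints_eq_singleton_of_integral Y.2 hYi hy
  obtain ⟨hiff, hback⟩ := fibre_codimZero_iff f hft y
    ((mem_genericPoints_iff Y.2 hYi.2.1 y).1 (hY0.symm ▸ Set.mem_singleton y))
  have huniq : ∀ z, HasAt (fun U u => ringKrullDim ↥(U.presheaf.stalk u) = 0) X.obj z ↔ z = x := fun z => by
    rw [← mem_genericPoints_iff X.2 hXi.2.1, hX0, Set.mem_singleton_iff]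
  refine ⟨fun h x' hx' => (huniq x').1 (hback (fun z _ hz => (huniq z).1 hz ▸ h) x' hx'),
    fun h => hiff.1 (fun z hz => (huniq z).2 (h z hz)) x (map_generic_of_dominant hYi hd hx hy)⟩

/-- An open subscheme around the generic point. -/
theorem exists_affine_nbhd_generic (Y : Space S) (hYi : IsIntegralSp Y.obj) {y : Points Y.obj}
    (hy : IsGenericPoint y (Set.univ : Set (Points Y.obj))) {O : Set (Points Y.obj)} (hO : IsOpen O) (hyO : y ∈ O) :
    ∃ (B : Over S) (b : (yon S).obj B ⟶ Y.obj) (v : ↥B.left), IsAffine B.left ∧ RepWith @IsOpenImmersion b ∧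
      Set.range (Points.ofPt b) ⊆ O ∧ Points.ofPt b v = y ∧ ∀ z, v ⤳ z := by
  obtain ⟨X', j, hj, hrep, hdense⟩ := StratX.exists_dense_open_subscheme Y hYi.2.1
  obtain ⟨T, bT, hbT, hmax⟩ := exists_universal_schemeOpen Y
  obtain ⟨T', ⟨eR⟩⟩ := hrep
  let eT : (yon S).obj T' ≅ X'.obj := isoOfRepresentableBy eR
  have hj' : RepWith @IsOpenImmersion (eT.hom ≫ j.hom) :=
    repWith_of_isPullback (f := j.hom) (g := 𝟙 Y.obj) (g' := eT.hom) (IsPullback.of_horiz_isIso ⟨by simp⟩) hj
  obtain ⟨_, ⟨z, rfl⟩, -⟩ := hdense.exists_mem_open hO ⟨y, hyO⟩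
  obtain ⟨z, rfl⟩ : ∃ w, Points.map eT.hom w = z :=
    ⟨Points.map eT.inv z, by rw [← Points.map_comp, eT.inv_hom_id, Points.map_id]⟩
  obtain ⟨t', rfl⟩ := (Points.schemeHomeo T').surjective z
  haveI := t0Space_of_isDecent Y.2 hYi.2.1
  have hye : RepWith @Etale (eT.hom ≫ j.hom) := etale_of_openImm hj'
  obtain ⟨η, -, hη⟩ := exists_generic_generization Y.2 hYi.2.1 hye t'
  rw [genericPoints_eq_singleton_of_integral Y.2 hYi hy, Set.mem_singleton_iff] at hη
  obtain ⟨w, hw, hwb⟩ := hmax _ hj'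
  have ht : Points.ofPt bT (w.left η) = y := by rw [← ofPt_yon_map_comp, hwb, hη]
  obtain ⟨B, hB, hvB, hBO⟩ := exists_isAffineOpen_mem_and_subset (x := w.left η)
    (U := ⟨Points.ofPt bT ⁻¹' O, hO.preimage (Points.continuous_ofPt bT)⟩)
    (show Points.ofPt bT (w.left η) ∈ O from ht.symm ▸ hyO)
  let b : (yon S).obj (openOver B) ⟶ Y.obj := (yon S).map (openInc B) ≫ bT
  have hb : RepWith @IsOpenImmersion b := repWith_comp (repWith_yon_map (inferInstanceAs (IsOpenImmersion B.ι))) hbT
  haveI := mono_of_openImm hb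
  have hpt : ∀ s, Points.ofPt b s = Points.ofPt bT s.1 := fun s => ofPt_yon_map_comp (openInc B) bT s
  refine ⟨openOver B, b, ⟨w.left η, hvB⟩, hB, hb, ?_, (hpt _).trans ht, fun s => ?_⟩
  · rintro _ ⟨s, rfl⟩
    rw [hpt]
    exact hBO s.2
  · obtain ⟨θ, hθ, hθ0⟩ := exists_generic_generization Y.2 hYi.2.1 (etale_of_openImm hb) s
    rw [genericPoints_eq_singleton_of_integral Y.2 hYi hy, Set.mem_singleton_iff] at hθ0
    have h3 : θ = ⟨w.left η, hvB⟩ := injective_ofPt_of_mono b (hθ0.trans ((hpt ⟨w.left η, hvB⟩).trans ht).symm)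
    exact h3 ▸ hθ

theorem exists_finite_affines_of_unique (hXi : IsIntegralSp X.obj) (hYi : IsIntegralSp Y.obj)
    (hft : LocP @LocallyOfFiniteType f.hom) (hd : IsDominantMor f.hom) {x : Points X.obj}
    (hx : IsGenericPoint x (Set.univ : Set (Points X.obj))) {y : Points Y.obj}
    (hy : IsGenericPoint y (Set.univ : Set (Points Y.obj)))
    (h : ∀ x' : Points X.obj, Points.map f.hom x' = y → x' = x) :
    ∃ (U V : Over S) (a : (yon S).obj U ⟶ X.obj) (b : (yon S).obj V ⟶ Y.obj) (g : U ⟶ V),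
      IsAffine U.left ∧ IsAffine V.left ∧ Nonempty ↥U.left ∧
        RepWith @IsOpenImmersion a ∧ RepWith @IsOpenImmersion b ∧
          a ≫ f.hom = (yon S).map g ≫ b ∧ IsFinite g.left := by
  have hxy := map_generic_of_dominant hYi hd hx hy
  obtain ⟨B, b, v, hB, hb, -, hbv, hvgen⟩ := exists_affine_nbhd_generic Y hYi hy isOpen_univ trivial
  haveI := hB
  haveI := mono_of_openImm hb
  obtain ⟨A, a, u, hA, ha, hAB, hau, -⟩ := exists_affine_nbhd_generic X hXi hx
    ((isOpenMap_ofPt_of_etale (etale_of_openImm hb)).isOpen_range.preimage (Points.continuous_map f.hom))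
    ⟨v, hbv.trans hxy.symm⟩
  haveI := hA
  haveI := mono_of_openImm ha
  obtain ⟨A', g', z, sq⟩ : ∃ (A' : Over S) (g' : A' ⟶ B) (z : A' ⟶ A),
      IsPullback ((yon S).map g') ((yon S).map z) b (a ≫ f.hom) := by
    obtain ⟨h, hh⟩ := (yon S).map_surjective (hb.1.fst (a ≫ f.hom))
    exact ⟨_, h, hb.1.snd (a ≫ f.hom), hh.symm ▸ hb.1.isPullback (a ≫ f.hom)⟩
  haveI : IsOpenImmersion z.left := hb.2 _ _ z sq
  haveI : Surjective z.left := ⟨fun s => by
    obtain ⟨r, hr⟩ := hAB ⟨s, rfl⟩
    obtain ⟨q, -, hq⟩ := points_exists_of_isPullback sq (Points.ofScheme B r) (Points.ofScheme A s)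
      (by rw [← Points.ofPt_eq_map_ofScheme, ← Points.ofPt_eq_map_ofScheme, hr, Points.map_ofPt])
    obtain ⟨r', rfl⟩ := (Points.schemeHomeo A').surjective q
    rw [Points.map_yon_map_apply] at hq
    exact ⟨r', (Points.schemeHomeo A).injective hq⟩⟩
  haveI : Epi z.left.base := (TopCat.epi_iff_surjective _).2 z.left.surjective
  haveI : IsIso z.left := (isIso_iff_isOpenImmersion_and_epi_base _).2 ⟨inferInstance, inferInstance⟩
  haveI : IsIso ((Over.forget S).map z) := ‹IsIso z.left›
  haveI : IsIso z := isIso_of_reflects_iso z (Over.forget S)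
  let g : A ⟶ B := inv z ≫ g'
  have e : a ≫ f.hom = (yon S).map g ≫ b := by
    rw [Functor.map_comp, Category.assoc, sq.w, ← Functor.map_comp_assoc, IsIso.inv_hom_id, CategoryTheory.Functor.map_id,
      Category.id_comp]
  haveI : LocallyOfFiniteType g.left := hft a b g (etale_of_openImm ha) (etale_of_openImm hb) e
  have hsub : ∀ z : Points ((yon S).obj A),
      Points.map ((yon S).map g) z = Points.ofScheme B v ↔ z = Points.ofScheme A u := fun z => by
    constructor
    · intro hz
      refine injective_points_map_of_mono a (((h _ ?_)).trans ?_)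
      · rw [← Points.map_comp, e, Points.map_comp, hz, ← Points.ofPt_eq_map_ofScheme, hbv]
      · rw [← Points.ofPt_eq_map_ofScheme, hau]
    · rintro rfl
      refine injective_points_map_of_mono b ?_
      rw [← Points.map_comp, ← e, Points.map_comp, ← Points.ofPt_eq_map_ofScheme, hau, hxy,
        ← Points.ofPt_eq_map_ofScheme, hbv]
  obtain ⟨W, hW, hvW, hfinW⟩ := exists_open_finite_generic ⟨(yon S).obj A, IsAlgSpace.yon_obj A⟩ ((yon S).map g)
    (locP_of_chart (repWith_id _ A) (repWith_id _ A) (repWith_id _ B) (by simp) ‹LocallyOfFiniteType g.left›)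
    (.inr ((isSeparatedMor_yon_map_iff g).2 inferInstance)) v hvgen
    ((Set.finite_singleton (Points.ofScheme A u)).subset fun z hz => (hsub z).1 hz) (fun z => by
      rw [hsub, ← mem_genericPoints_iff (IsAlgSpace.yon_obj A) (isDecent_yon A),
        ← mem_genericPoints_map_iff (IsAlgSpace.yon_obj A) X.2 (isDecent_yon A) hXi.2.1 (etale_of_openImm ha),
        genericPoints_eq_singleton_of_integral X.2 hXi hx, Set.mem_singleton_iff, ← hau, Points.ofPt_eq_map_ofScheme]
      exact (injective_points_map_of_mono a).eq_iff)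
  let g₁ : openOver (g.left ⁻¹ᵁ W) ⟶ openOver W := Over.homMk (g.left ∣_ W) (by
    show (g.left ∣_ W) ≫ W.ι ≫ B.hom = (g.left ⁻¹ᵁ W).ι ≫ A.hom
    rw [← Category.assoc, morphismRestrict_ι, Category.assoc, Over.w g])
  have sqg : IsPullback (openInc (g.left ⁻¹ᵁ W)) g₁ g (openInc W) :=
    IsPullback.of_map (Over.forget S) (Over.OverMorphism.ext (morphismRestrict_ι g.left W).symm)
      (isPullback_morphismRestrict g.left W).flip
  have hfm := hfinW (openOver W) (openInc W) rfl (Category.id_comp _).symm ⟨(yon S).obj _, IsAlgSpace.yon_obj _⟩ _ _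
    (isPullback_yon_map sqg)
  haveI : IsAffine (openOver W).left := hW
  obtain ⟨W', i, fst', sq', hW', hi⟩ := hfm (inferInstance : IsAffine (openOver W).left) (𝟙 _)
  haveI : IsIso fst' := sq'.isIso_fst_of_isIso
  obtain ⟨r, hr⟩ := (yon S).map_surjective fst'
  haveI : IsIso ((yon S).map r) := hr ▸ ‹IsIso fst'›
  haveI : IsIso r := isIso_of_reflects_iso r (yon S)
  haveI : IsIso r.left := inferInstanceAs (IsIso ((Over.forget S).map r))
  have hri : r ≫ g₁ = i := (yon S).map_injective (by rw [Functor.map_comp, hr, sq'.w, Category.comp_id])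
  haveI := hW'
  have hfinite : IsFinite g₁.left := by
    rw [← MorphismProperty.cancel_left_of_respectsIso @IsFinite r.left, ← Over.comp_left, hri]
    exact hi
  have hgu : g.left u = v := (Points.schemeHomeo B).injective
    ((Points.map_yon_map_apply g u).symm.trans ((hsub _).2 rfl))
  refine ⟨openOver (g.left ⁻¹ᵁ W), openOver W, (yon S).map (openInc _) ≫ a, (yon S).map (openInc W) ≫ b, g₁,
    IsAffine.of_isIso (inv r.left), hW, ⟨⟨u, show g.left u ∈ W from hgu.symm ▸ hvW⟩⟩,
    repWith_comp (repWith_yon_map (inferInstanceAs (IsOpenImmersion (g.left ⁻¹ᵁ W).ι))) ha,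
    repWith_comp (repWith_yon_map (inferInstanceAs (IsOpenImmersion W.ι))) hb, ?_, hfinite⟩
  rw [Category.assoc, e, ← Functor.map_comp_assoc, ← Functor.map_comp_assoc, sqg.w]

theorem unique_of_finite_affines (hXi : IsIntegralSp X.obj) (hYi : IsIntegralSp Y.obj)
    (hft : LocP @LocallyOfFiniteType f.hom) (hd : IsDominantMor f.hom) {x : Points X.obj}
    (hx : IsGenericPoint x (Set.univ : Set (Points X.obj))) {y : Points Y.obj}
    (hy : IsGenericPoint y (Set.univ : Set (Points Y.obj)))
    {U V : Over S} {a : (yon S).obj U ⟶ X.obj} {b : (yon S).obj V ⟶ Y.obj} {g : U ⟶ V} (hne : Nonempty ↥U.left)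
    (ha : RepWith @IsOpenImmersion a) (hb : RepWith @IsOpenImmersion b) (e : a ≫ f.hom = (yon S).map g ≫ b)
    (hg : IsFinite g.left) : ∀ x' : Points X.obj, Points.map f.hom x' = y → x' = x := by
  obtain ⟨u₀⟩ := hne
  obtain ⟨η, -, hη⟩ := exists_generic_generization X.2 hXi.2.1 (etale_of_openImm ha) u₀
  rw [genericPoints_eq_singleton_of_integral X.2 hXi hx, Set.mem_singleton_iff] at hη
  haveI := hg
  refine (qfNbhd_iff_unique hXi hYi hft hd hx hy).1
    ⟨U, V, a, b, g, η, etale_of_openImm ha, etale_of_openImm hb, e, hη, ⊤, trivial, ?_, ?_⟩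
  · exact inferInstanceAs (LocallyQuasiFinite (_ ≫ g.left))
  · exact inferInstanceAs (LocallyOfFiniteType (_ ≫ g.left))

theorem exists_finite_over_affine_of_unique (hXi : IsIntegralSp X.obj) (hYi : IsIntegralSp Y.obj)
    (hft : LocP @LocallyOfFiniteType f.hom) (hd : IsDominantMor f.hom) {x : Points X.obj}
    (hx : IsGenericPoint x (Set.univ : Set (Points X.obj))) {y : Points Y.obj}
    (hy : IsGenericPoint y (Set.univ : Set (Points Y.obj)))
    (hsq : IsSeparatedMor f.hom ∨ IsQuasiCompactMor f.hom)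
    (h : ∀ x' : Points X.obj, Points.map f.hom x' = y → x' = x) :
    ∃ (V : Over S) (b : (yon S).obj V ⟶ Y.obj) (U : Over S) (g : U ⟶ V) (a : (yon S).obj U ⟶ X.obj),
      IsAffine V.left ∧ Nonempty ↥V.left ∧ RepWith @IsOpenImmersion b ∧
        IsPullback a ((yon S).map g) f.hom b ∧ IsAffine U.left ∧ IsFinite g.left := by
  have hX0 := genericPoints_eq_singleton_of_integral X.2 hXi hx
  have hY0 := genericPoints_eq_singleton_of_integral Y.2 hYi hy
  have hxy := map_generic_of_dominant hYi hd hx hy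
  have hXc : ∀ z, HasAt (fun U u => ringKrullDim ↥(U.presheaf.stalk u) = 0) X.obj z ↔ z = x := fun z => by
    rw [← mem_genericPoints_iff X.2 hXi.2.1, hX0, Set.mem_singleton_iff]
  have hYc : ∀ z, HasAt (fun U u => ringKrullDim ↥(U.presheaf.stalk u) = 0) Y.obj z ↔ z = y := fun z => by
    rw [← mem_genericPoints_iff Y.2 hYi.2.1, hY0, Set.mem_singleton_iff]
  obtain ⟨V₁, X₁, j, p, q, hj, hdense, sq, hfin⟩ := Groth.Agent.S10400.result f hft hYi.2.1
    ((Set.finite_singleton x).subset fun z hz => (hXc z).1 hz)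
    ((Set.finite_singleton y).subset fun z hz => (hYc z).1 hz)
    (fun z => by rw [hXc, hYc]; exact ⟨fun hz => hz ▸ hxy, h z⟩) hsq.symm
  have hopen : IsOpen (Set.range (Points.map j.hom)) := Groth.Agent.S10400.isOpen_range_map_of_openImm V₁ j.hom hj
  have hyr : y ∈ Set.range (Points.map j.hom) := by
    obtain ⟨z, hz, -⟩ := hdense.exists_mem_open isOpen_univ ⟨y, trivial⟩
    exact (hy.specializes trivial).mem_open hopen hz
  obtain ⟨B, b, v, hB, hb, hBr, hbv, -⟩ := exists_affine_nbhd_generic Y hYi hy hopen hyr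
  haveI := hB
  obtain ⟨B', k', z, sqB⟩ : ∃ (B' : Over S) (k' : (yon S).obj B' ⟶ V₁.obj) (z : B' ⟶ B),
      IsPullback k' ((yon S).map z) j.hom b := ⟨_, _, _, hj.1.isPullback b⟩
  haveI : IsOpenImmersion z.left := hj.2 _ _ z sqB
  haveI : Surjective z.left := ⟨fun s => by
    obtain ⟨r, hr⟩ := hBr ⟨s, rfl⟩
    obtain ⟨w, -, hw⟩ := points_exists_of_isPullback sqB r (Points.ofScheme B s)
      (by rw [← Points.ofPt_eq_map_ofScheme, hr])
    obtain ⟨r', rfl⟩ := (Points.schemeHomeo B').surjective w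
    rw [Points.map_yon_map_apply] at hw
    exact ⟨r', (Points.schemeHomeo B).injective hw⟩⟩
  haveI : Epi z.left.base := (TopCat.epi_iff_surjective _).2 z.left.surjective
  haveI : IsIso z.left := (isIso_iff_isOpenImmersion_and_epi_base _).2 ⟨inferInstance, inferInstance⟩
  haveI : IsIso ((Over.forget S).map z) := ‹IsIso z.left›
  haveI : IsIso z := isIso_of_reflects_iso z (Over.forget S)
  let k : (yon S).obj B ⟶ V₁.obj := (yon S).map (inv z) ≫ k'
  have hk : k ≫ j.hom = b := by
    rw [Category.assoc, sqB.w, ← Functor.map_comp_assoc, IsIso.inv_hom_id, CategoryTheory.Functor.map_id,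
      Category.id_comp]
  obtain ⟨W, i, fst, sqW, hW, hi⟩ := hfin hB k
  exact ⟨B, b, W, i, fst ≫ q.hom, hB, ⟨v⟩, hb, hk ▸ sqW.flip.paste_vert sq |>.flip, hW, hi⟩

theorem unique_of_finite_over_affine (hXi : IsIntegralSp X.obj) (hYi : IsIntegralSp Y.obj)
    (hft : LocP @LocallyOfFiniteType f.hom) (hd : IsDominantMor f.hom) {x : Points X.obj}
    (hx : IsGenericPoint x (Set.univ : Set (Points X.obj))) {y : Points Y.obj}
    (hy : IsGenericPoint y (Set.univ : Set (Points Y.obj)))
    {V U : Over S} {b : (yon S).obj V ⟶ Y.obj} {g : U ⟶ V} {a : (yon S).obj U ⟶ X.obj} (hne : Nonempty ↥V.left)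
    (hb : RepWith @IsOpenImmersion b) (sq : IsPullback a ((yon S).map g) f.hom b) (hg : IsFinite g.left) :
    ∀ x' : Points X.obj, Points.map f.hom x' = y → x' = x := by
  obtain ⟨v₀⟩ := hne
  obtain ⟨η, -, hη⟩ := exists_generic_generization Y.2 hYi.2.1 (etale_of_openImm hb) v₀
  rw [genericPoints_eq_singleton_of_integral Y.2 hYi hy, Set.mem_singleton_iff] at hη
  obtain ⟨z, -, -⟩ := points_exists_of_isPullback sq x (Points.ofScheme V η)
    (by rw [← Points.ofPt_eq_map_ofScheme, hη, map_generic_of_dominant hYi hd hx hy])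
  obtain ⟨u, -⟩ := (Points.schemeHomeo U).surjective z
  exact unique_of_finite_affines hXi hYi hft hd hx hy ⟨u⟩ (repWith_of_isPullback sq.flip hb) hb sq.w hg

theorem forall_integral_bc_iff {k : Type u} [Field k] (X : Space (Spec (CommRingCat.of k))) (hX : IsDecent X.obj) :
    (∀ (K : Type u) [Field K] [Algebra k K],
      IsIntegralSp (X.obj ⨯ (yon (Spec (CommRingCat.of k))).obj (Over.mk (Spec.map (CommRingCat.ofHom (algebraMap k K)))))) ↔
    (∀ (K : Type u) [Field K] [Algebra k K],
      IsReducedSp (X.obj ⨯ (yon (Spec (CommRingCat.of k))).obj (Over.mk (Spec.map (CommRingCat.ofHom (algebraMap k K)))))) ∧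
    ∀ (K : Type u) [Field K] [Algebra k K], IrreducibleSpace
      (Points (X.obj ⨯ (yon (Spec (CommRingCat.of k))).obj (Over.mk (Spec.map (CommRingCat.ofHom (algebraMap k K)))))) := by
  constructor
  · intro h
    exact ⟨fun K _ _ => (h K).1, fun K _ _ => (h K).2.2⟩
  · rintro ⟨h1, h2⟩ K _ _
    exact ⟨h1 K, isDecent_prod hX (isDecent_yon _), h2 K⟩

end Groth.Agent.ASp
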