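import Groth.Agent.ASp.FibreDimSp
import Groth.Agent.S1301
import Groth.Agent.SteinConn.FlatCount
/-!
Loci of geometrically reduced fibres of morphisms of algebraic spaces.
-/

set_option autoImplicit false
set_option backward.isDefEq.respectTransparency false
set_option backward.isDefEq.respectTransparency.types false
set_option linter.style.haveILetI false

universe u

open CategoryTheory CategoryTheory.Limits AlgebraicGeometry Opposite Topology

namespace Groth.Agent.ASp

open _root_.AlgSp

variable {S : Scheme.{u}} {X Y : Space S}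

/-- The fibre over a point of the target is geometrically reduced. -/
def GeomRedFib (f : X ⟶ Y) (y : Points Y.obj) : Prop :=
  ∀ (k : FieldPt Y.obj), Points.mk k = y →
    ∀ (k' : Type u) [Field k'] (φ : k.K →+* k') (Xk' : Sp S) (a : Xk' ⟶ X.obj)
      (b : Xk' ⟶ (yon S).obj (Over.mk (Spec.map (CommRingCat.ofHom φ) ≫ k.str))),
      IsPullback a b f.hom ((yon S).map (Over.homMk (Spec.map (CommRingCat.ofHom φ)) rfl :
        Over.mk (Spec.map (CommRingCat.ofHom φ) ≫ k.str) ⟶ k.pt) ≫ k.toHom) →
      IsReducedSp Xk'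

variable {f : X ⟶ Y} {V : Over S} {b : (yon S).obj V ⟶ Y.obj}

/-- Geometric reducedness of a fibre is read on a chart. -/
theorem FibreChart.geomRedFib_iff (D : FibreChart f b) (v : ↥V.left) :
    GeomRedFib f (Points.ofPt b v) ↔ GeometricallyReduced (D.g.left.fiberToSpecResidueField v) := by
  let kv := FieldPt.ofPt b v
  let jv : kv.pt ⟶ V := Over.homMk (V.left.fromSpecResidueField v) rfl
  let sqF := IsPullback.of_hasPullback f.hom b
  have key : ∀ (k' : Type u) [Field k'] (φ : kv.K →+* k'),
      (∀ (Xk' : Sp S) (a : Xk' ⟶ X.obj)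
          (b' : Xk' ⟶ (yon S).obj (Over.mk (Spec.map (CommRingCat.ofHom φ) ≫ kv.str))),
          IsPullback a b' f.hom ((yon S).map (Over.homMk (Spec.map (CommRingCat.ofHom φ)) rfl :
            Over.mk (Spec.map (CommRingCat.ofHom φ) ≫ kv.str) ⟶ kv.pt) ≫ kv.toHom) → IsReducedSp Xk') ↔
        IsReduced (pullback (D.g.left.fiberToSpecResidueField v) (Spec.map (CommRingCat.ofHom φ))) := by
    intro k' _ φ
    let o : Over.mk (Spec.map (CommRingCat.ofHom φ) ≫ kv.str) ⟶ kv.pt :=
      Over.homMk (Spec.map (CommRingCat.ofHom φ)) rfl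
    have ho : (yon S).map o ≫ kv.toHom = (yon S).map (o ≫ jv) ≫ b := by
      rw [FieldPt.toHom_ofPt, Functor.map_comp_assoc]
    obtain ⟨U', o', i', sqU⟩ : ∃ (U' : Over S) (o' : U' ⟶ D.U) (i' : U' ⟶ _), IsPullback o' i' D.g (o ≫ jv) :=
      ⟨_, _, _, IsPullback.of_hasPullback D.g (o ≫ jv)⟩
    have hiso : IsReduced U'.left ↔
        IsReduced (pullback (D.g.left.fiberToSpecResidueField v) (Spec.map (CommRingCat.ofHom φ))) := by
      have h := isPullback_left sqU
      have e : (o ≫ jv).left = Spec.map (CommRingCat.ofHom φ) ≫ V.left.fromSpecResidueField v := rfl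
      rw [e] at h
      let sqv := IsPullback.of_hasPullback D.g.left (V.left.fromSpecResidueField v)
      let l := sqv.lift o'.left (i'.left ≫ Spec.map (CommRingCat.ofHom φ)) (by rw [h.w, Category.assoc])
      have h' : IsPullback l i'.left (D.g.left.fiberToSpecResidueField v) (Spec.map (CommRingCat.ofHom φ)) := by
        refine IsPullback.of_right ?_ (sqv.lift_snd _ _ _) sqv
        rw [sqv.lift_fst]
        exact h
      exact ⟨fun _ => isReduced_of_isOpenImmersion h'.isoPullback.inv,
        fun _ => isReduced_of_isOpenImmersion h'.isoPullback.hom⟩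
    rw [← hiso]
    have hXk : ∀ (Xk' : Sp S) (a : Xk' ⟶ X.obj) (b' : Xk' ⟶ (yon S).obj (Over.mk (Spec.map (CommRingCat.ofHom φ) ≫ kv.str))),
        IsPullback a b' f.hom ((yon S).map o ≫ kv.toHom) →
        ∃ aU : (yon S).obj U' ⟶ Xk', RepWith @Etale aU ∧ RepWith @Surjective aU := by
      intro Xk' a b' sq
      rw [ho] at sq
      let m : Xk' ⟶ pullback f.hom b :=
        sqF.lift a (b' ≫ (yon S).map (o ≫ jv)) (by rw [sq.w, Category.assoc])
      have sqm : IsPullback m b' (pullback.snd f.hom b) ((yon S).map (o ≫ jv)) := by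
        refine IsPullback.of_right ?_ (sqF.lift_snd _ _ _) sqF
        rw [sqF.lift_fst]
        exact sq
      exact exists_atlas_baseChange (o ≫ jv) sqm D.ha D.has D.hg sqU
    constructor
    · intro h
      have sq := IsPullback.of_hasPullback f.hom ((yon S).map o ≫ kv.toHom)
      obtain ⟨aU, haU, -⟩ := hXk _ _ _ sq
      exact isReduced_of_chart (h _ _ _ sq) haU
    · intro h Xk' a b' sq
      obtain ⟨aU, haU, haUs⟩ := hXk _ _ _ sq
      exact ⟨U', aU, haU, haUs, h⟩
  rw [geometricallyReduced_iff, geometrically_iff_of_commRing_of_isClosedUnderIsomorphisms]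
  constructor
  · intro h K _ alg
    letI : Algebra kv.K K := alg
    exact (key K (algebraMap kv.K K)).1 fun Xk' a b' sq => h kv rfl K (algebraMap kv.K K) Xk' a b' sq
  · intro h
    have h12 := (geomReduced_fibre_tfae f (Points.ofPt b v)).out 0 1 rfl rfl
    refine h12.1 ⟨kv, rfl, fun k' _ φ => ?_⟩
    letI : Algebra (V.left.residueField v : Type u) k' := φ.toAlgebra
    exact (key k' φ).2 (@h k' inferInstance φ.toAlgebra)

/-- The locus of geometrically reduced fibres on an affine chart is constructible. -/
theorem isConstructible_geomRedFib (hq : IsQuasiCompactMor f.hom)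
    (hfp : LocP @LocallyOfFinitePresentation f.hom) (hV : IsAffine V.left) :
    Topology.IsConstructible (Points.ofPt b ⁻¹' {y | GeomRedFib f y}) := by
  haveI := hV
  obtain ⟨D, hD⟩ := FibreChart.exists_affine f b hq
  haveI := hD
  haveI : LocallyOfFinitePresentation D.g.left := D.prop_g hfp
  haveI : QuasiCompact D.g.left := (quasiCompact_iff_compactSpace D.g.left).2 inferInstance
  have e : Points.ofPt b ⁻¹' {y | GeomRedFib f y} =
      {v | GeometricallyReduced (D.g.left.fiberToSpecResidueField v)} := Set.ext fun v => D.geomRedFib_iff v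
  rw [e]
  exact (Groth.Agent.S1301.result D.g.left).isConstructible

theorem isGeomReducedAt_fiber_iff_of_etale {R U Z : Scheme.{u}} (t : R ⟶ U) [Etale t] (g : U ⟶ Z) (c : R ⟶ Z)
    (w : t ≫ g = c) (r : R) :
    FBase.IsGeomReducedAt (c.fiberToSpecResidueField (c r)) (c.asFiber r) ↔
      FBase.IsGeomReducedAt (g.fiberToSpecResidueField (g (t r))) (g.asFiber (t r)) := by
  subst w
  show FBase.IsGeomReducedAt ((t ≫ g).fiberToSpecResidueField (g (t r))) ((t ≫ g).asFiber r) ↔ _
  let z := g (t r)
  let sqg := IsPullback.of_hasPullback g (Z.fromSpecResidueField z)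
  let sqc := IsPullback.of_hasPullback (t ≫ g) (Z.fromSpecResidueField z)
  let T : (t ≫ g).fiber z ⟶ g.fiber z := sqg.lift ((t ≫ g).fiberι z ≫ t) ((t ≫ g).fiberToSpecResidueField z)
    (by rw [Category.assoc]; exact sqc.w)
  have hT : IsPullback ((t ≫ g).fiberι z) T t (g.fiberι z) := by
    refine IsPullback.of_bot ?_ (sqg.lift_fst _ _ _).symm sqg
    rw [sqg.lift_snd]
    exact sqc
  haveI : Etale T := MorphismProperty.of_isPullback hT ‹Etale t›
  let r' : ↥((t ≫ g).fiber z) := (t ≫ g).asFiber r
  have h1 : T r' = g.asFiber (t r) := by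
    apply (g.fiberι z).isEmbedding.injective
    rw [← Scheme.Hom.comp_apply, show T ≫ g.fiberι z = (t ≫ g).fiberι z ≫ t from sqg.lift_fst _ _ _,
      Scheme.Hom.comp_apply]
    exact (congrArg t ((t ≫ g).fiberι_asFiber r)).trans (g.fiberι_asFiber (t r)).symm
  have h2 : T ≫ g.fiberToSpecResidueField z = (t ≫ g).fiberToSpecResidueField z := sqg.lift_snd _ _ _
  show FBase.IsGeomReducedAt ((t ≫ g).fiberToSpecResidueField z) r' ↔ _
  rw [← h2, isGeomReducedAt_iff_of_etale (k := Z.residueField z) T, h1]

/-- For a flat proper morphism the locus of geometrically reduced fibres is open on a chart. -/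
theorem isOpen_geomRedFib_chart (D : FibreChart f b) (hfl : LocP @Flat f.hom)
    (hfp : LocP @LocallyOfFinitePresentation f.hom) (hu : IsUnivClosedMor f.hom) :
    IsOpen (Points.ofPt b ⁻¹' {y | GeomRedFib f y}) := by
  haveI : Flat D.g.left := D.prop_g hfl
  haveI : LocallyOfFinitePresentation D.g.left := D.prop_g hfp
  let O : Set ↥D.U.left :=
    {u | FBase.IsGeomReducedAt (D.g.left.fiberToSpecResidueField (D.g.left u)) (D.g.left.asFiber u)}
  have hO : IsOpen O := GeomRk.isOpen_geomReduced_of_flat D.g.left
  have hinv : ∀ u u', Points.ofPt D.a u = Points.ofPt D.a u' → u ∈ O → u' ∈ O := fun u u' e h => by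
    obtain ⟨P, t, s, r, ht, hs, hcomm, rfl, rfl⟩ := exists_common_point D.ha D.ha e
    haveI := ht
    haveI := hs
    have hc : s.left ≫ D.g.left = t.left ≫ D.g.left := by
      rw [← Over.comp_left, ← Over.comp_left]
      congr 1
      apply (yon S).map_injective
      rw [Functor.map_comp, Functor.map_comp, ← D.hg, ← Category.assoc, ← Category.assoc, hcomm]
    exact (isGeomReducedAt_fiber_iff_of_etale s.left D.g.left _ hc r).1
      ((isGeomReducedAt_fiber_iff_of_etale t.left D.g.left _ rfl r).2 h)
  have hC : IsClosed (Points.ofPt D.a '' O)ᶜ := (isOpenMap_ofPt_of_etale D.ha _ hO).isClosed_compl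
  have him := hu (IsAlgSpace.yon_obj V) b _ _ (IsPullback.of_hasPullback f.hom b) _ hC
  have e : Points.ofPt b ⁻¹' {y | GeomRedFib f y} =
      (Points.schemeHomeo V ⁻¹' (Points.map (pullback.snd f.hom b) '' (Points.ofPt D.a '' O)ᶜ))ᶜ := by
    ext v
    rw [Set.mem_preimage, Set.mem_setOf_eq, D.geomRedFib_iff,
      SteinConn.geometricallyReduced_iff_forall_at (k := V.left.residueField v) (D.g.left.fiberToSpecResidueField v)]
    have hmap : ∀ u, Points.map (pullback.snd f.hom b) (Points.ofPt D.a u) = Points.schemeHomeo V (D.g.left u) :=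
      fun u => by
        rw [Points.map_ofPt, D.hg, Points.ofPt_eq_map_ofScheme]
        exact Points.map_yon_map_apply D.g u
    constructor
    · rintro h ⟨z, hz, hzv⟩
      obtain ⟨u, rfl⟩ := surjective_ofPt D.has z
      rw [hmap] at hzv
      obtain rfl := (Points.schemeHomeo V).injective hzv
      exact hz ⟨u, h (D.g.left.asFiber u), rfl⟩
    · intro h x
      by_contra hne
      have hv : D.g.left (D.g.left.fiberι v x) = v := by
        have : D.g.left.fiberι v x ∈ Set.range (D.g.left.fiberι v) := ⟨x, rfl⟩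
        rw [Scheme.Hom.range_fiberι] at this
        exact this
      refine h ⟨Points.ofPt D.a (D.g.left.fiberι v x), ?_, by rw [hmap, hv]⟩
      rintro ⟨u', hu', e⟩
      have hmem := hinv u' _ e hu'
      have gen : ∀ (w : ↥V.left) (x : ↥(D.g.left.fiber w)), D.g.left (D.g.left.fiberι w x) = w →
          D.g.left.fiberι w x ∈ O → FBase.IsGeomReducedAt (D.g.left.fiberToSpecResidueField w) x := by
        intro w x hw hmem
        generalize hu : D.g.left.fiberι w x = u at hw hmem
        subst hw
        rw [show x = D.g.left.asFiber u from (D.g.left.fiberι _).isEmbedding.injective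
          (hu.trans (D.g.left.fiberι_asFiber u).symm)]
        exact hmem
      exact hne (gen v x hv hmem)
  rw [e]
  exact (him.preimage (Points.schemeHomeo V).continuous).isOpen_compl

/-- For a flat proper morphism of finite presentation the locus of geometrically reduced fibres is open. -/
theorem isOpen_geomRedFib (hfl : LocP @Flat f.hom) (hfp : LocP @LocallyOfFinitePresentation f.hom)
    (hu : IsUnivClosedMor f.hom) : IsOpen {y | GeomRedFib f y} := by
  obtain ⟨U, p, hp, hps⟩ := Y.2.atlas
  obtain ⟨D⟩ := FibreChart.nonempty f p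
  exact (isQuotientMap_ofPt hp hps).isOpen_preimage.1 (isOpen_geomRedFib_chart D hfl hfp hu)

end Groth.Agent.ASp
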