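import Groth.Agent.ASp.SpQuot
import Groth.Agent.ShfQuotLib.Basic

/-!
Sections of the quotient sheaf of a pre-equivalence relation, and injectivity of maps between quotients.
-/

set_option autoImplicit false
set_option backward.isDefEq.respectTransparency false
set_option backward.isDefEq.respectTransparency.types false

universe u

open CategoryTheory CategoryTheory.Limits AlgebraicGeometry Opposite

namespace Groth.Agent.ASp

open _root_.AlgSp

variable {S : Scheme.{u}}

/-- Two sections with the same image in the quotient are related, locally on the base. -/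
theorem locally_related {R U : Sp S} {s t : R ⟶ U} (h : IsPreEqvRelSp s t) {T : Over S}
    (a b : (yon S).obj T ⟶ U) (hab : a ≫ quotSpπ s t = b ≫ quotSpπ s t) :
    ∃ Rc : Sieve T, Rc ∈ J S T ∧ ∀ ⦃V : Over S⦄ (k : V ⟶ T), Rc k →
      ∃ r : (yon S).obj V ⟶ R, r ≫ t = (yon S).map k ≫ a ∧ r ≫ s = (yon S).map k ≫ b := by
  let G := presheafToSheaf (J S) (Type (u + 1))
  let Q₀ := coequalizer s.hom t.hom
  let π₀ : U.obj ⟶ Q₀ := coequalizer.π s.hom t.hom
  let π : U ⟶ G.obj Q₀ := (sheafificationIso U).hom ≫ G.map π₀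
  have hπhom : π.hom = π₀ ≫ toSheafify (J S) Q₀ := by
    rw [toSheafify_naturality]; rfl
  have hπ : s ≫ π = t ≫ π := by
    refine Sheaf.hom_ext ?_
    change s.hom ≫ π.hom = t.hom ≫ π.hom
    rw [hπhom]
    exact coequalizer.condition_assoc _ _ _
  obtain ⟨c, hc⟩ : ∃ c : quotSp s t ⟶ G.obj Q₀, quotSpπ s t ≫ c = π :=
    ⟨coequalizer.desc π hπ, coequalizer.π_desc _ _⟩
  have hab' : a ≫ π = b ≫ π := by rw [← hc, reassoc_of% hab]
  let e := fun (F : Sp S) (V : Over S) => ((J S).uliftYonedaEquiv.{u+1} : ((yon S).obj V ⟶ F) ≃ F.obj.obj (op V))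
  have hev : (toSheafify (J S) Q₀).app (op T) (π₀.app (op T) (e U T a)) =
      (toSheafify (J S) Q₀).app (op T) (π₀.app (op T) (e U T b)) := by
    have h1 := congrArg (e (G.obj Q₀) T) hab'
    simp only [e] at h1
    rw [GrothendieckTopology.uliftYonedaEquiv_comp, GrothendieckTopology.uliftYonedaEquiv_comp, hπhom] at h1
    exact h1
  refine ⟨_, Presheaf.equalizerSieve_mem (J S) (toSheafify (J S) Q₀) (π₀.app (op T) (e U T a))
    (π₀.app (op T) (e U T b)) hev, fun V k hk => ?_⟩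
  have hk' : π₀.app (op V) (U.obj.map k.op (e U T a)) = π₀.app (op V) (U.obj.map k.op (e U T b)) :=
    ((ConcreteCategory.congr_hom (π₀.naturality k.op) _).trans hk).trans
      (ConcreteCategory.congr_hom (π₀.naturality k.op) _).symm
  have hk'' : ∀ x : (yon S).obj T ⟶ U, U.obj.map k.op (e U T x) = e U V ((yon S).map k ≫ x) := fun x =>
    GrothendieckTopology.uliftYonedaEquiv_naturality.{u+1} (J S) x k
  rw [hk'', hk''] at hk'
  let Setd : Setoid ((yon S).obj V ⟶ U) := ⟨_, h V⟩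
  let hc := isColimitCoforkMapOfIsColimit ((evaluation _ _).obj (op V)) (coequalizer.condition s.hom t.hom)
    (coequalizerIsCoequalizer s.hom t.hom)
  let q : U.obj.obj (op V) ⟶ ULift.{u + 1} (Quotient Setd) :=
    ↾fun a => (⟨Quotient.mk Setd ((e U V).symm a)⟩ : ULift.{u + 1} (Quotient Setd))
  have he : ∀ {F H : Sp S} (f : F ⟶ H) (x : F.obj.obj (op V)), (e H V).symm (f.hom.app _ x) = (e F V).symm x ≫ f :=
    fun {F H} f x => (e H V).injective (by
      rw [Equiv.apply_symm_apply]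
      change _ = (J S).uliftYonedaEquiv.{u+1} ((J S).uliftYonedaEquiv.{u+1}.symm x ≫ f)
      rw [GrothendieckTopology.uliftYonedaEquiv_comp, Equiv.apply_symm_apply])
  have hq : ((evaluation _ _).obj (op V)).map s.hom ≫ q = ((evaluation _ _).obj (op V)).map t.hom ≫ q := by
    ext r
    exact (Quotient.sound (s := Setd) (a := (e U V).symm (s.hom.app _ r)) (b := (e U V).symm (t.hom.app _ r))
      ((h V).symm ⟨(e R V).symm r, (he t r).symm, (he s r).symm⟩))
  obtain ⟨d, hd⟩ := Cofork.IsColimit.desc' hc q hq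
  have hqq : q (e U V ((yon S).map k ≫ a)) = q (e U V ((yon S).map k ≫ b)) := by
    rw [← hd]; exact congrArg (fun z => d z) hk'
  obtain ⟨r, hr1, hr2⟩ := Quotient.exact (congrArg ULift.down hqq)
  exact ⟨r, hr1.trans ((e U V).symm_apply_apply _), hr2.trans ((e U V).symm_apply_apply _)⟩

/-- Maps out of a scheme into a sheaf agree once they agree on a covering sieve. -/
theorem eq_of_sieve {F : Sp S} {T : Over S} {Rc : Sieve T} (hR : Rc ∈ J S T) (a b : (yon S).obj T ⟶ F)
    (h : ∀ ⦃V : Over S⦄ (k : V ⟶ T), Rc k → (yon S).map k ≫ a = (yon S).map k ≫ b) : a = b := by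
  apply (J S).uliftYonedaEquiv.{u+1}.injective
  refine ((isSheaf_iff_isSheaf_of_type _ _).1 F.2 _ hR).isSeparatedFor.ext fun V k hk => ?_
  rw [GrothendieckTopology.uliftYonedaEquiv_naturality, GrothendieckTopology.uliftYonedaEquiv_naturality, h k hk]

/-- A map between quotients is injective when related pairs lift. -/
theorem mono_of_reflects {R U R' U' : Sp S} {s t : R ⟶ U} {s' t' : R' ⟶ U'} (h : IsPreEqvRelSp s t)
    (g : U' ⟶ U) (ψ : quotSp s' t' ⟶ quotSp s t) (hψ : quotSpπ s' t' ≫ ψ = g ≫ quotSpπ s t)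
    (hl : ∀ ⦃V : Over S⦄ (a b : (yon S).obj V ⟶ U') (r : (yon S).obj V ⟶ R), r ≫ t = a ≫ g → r ≫ s = b ≫ g →
      ∃ r' : (yon S).obj V ⟶ R', r' ≫ t' = a ∧ r' ≫ s' = b) : Mono ψ := by
  haveI : Epi (quotSpπ s' t') := inferInstanceAs (Epi (coequalizer.π s' t'))
  refine ⟨fun {W} x y hxy => ?_⟩
  obtain ⟨W', c, hc, x', y', hx, hy⟩ :=
    Groth.Agent.ShfQuotLib.exists_lift_of_epi₂ (quotSpπ s' t') (quotSpπ s' t') x y
  rw [← cancel_epi c, hx, hy]
  refine hom_ext_yon fun T p => ?_
  rw [← Category.assoc, ← Category.assoc]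
  obtain ⟨Rc, hRc, hrel⟩ := locally_related h ((p ≫ x') ≫ g) ((p ≫ y') ≫ g) (by
    rw [Category.assoc _ g, Category.assoc _ g, ← hψ, Category.assoc p, Category.assoc p, ← reassoc_of% hx,
      ← reassoc_of% hy, hxy])
  refine eq_of_sieve hRc _ _ fun V k hk => ?_
  obtain ⟨r, hr1, hr2⟩ := hrel k hk
  obtain ⟨r', h1, h2⟩ := hl ((yon S).map k ≫ p ≫ x') ((yon S).map k ≫ p ≫ y') r
    (by rw [hr1]; simp only [Category.assoc]) (by rw [hr2]; simp only [Category.assoc])
  have key : r' ≫ t' ≫ quotSpπ s' t' = r' ≫ s' ≫ quotSpπ s' t' := by rw [quotSp_condition]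
  rw [reassoc_of% h1, reassoc_of% h2] at key
  simpa only [Category.assoc] using key

/-- The arrows of a groupoid form a pre-equivalence relation on objects. -/
theorem GroupoidSp.isPreEqvRelSp {B : Sp S} (G : _root_.AlgSp.GroupoidSp B) : IsPreEqvRelSp G.s G.t := fun T =>
  ⟨fun a => ⟨a ≫ G.e, by rw [Category.assoc, G.e_t, Category.comp_id], by rw [Category.assoc, G.e_s, Category.comp_id]⟩,
    fun {a b} ⟨r, h1, h2⟩ => ⟨r ≫ G.i, by rw [Category.assoc, G.i_t, h2], by rw [Category.assoc, G.i_s, h1]⟩,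
    fun {a b c} ⟨r, h1, h2⟩ ⟨r', h1', h2'⟩ => ⟨pullback.lift r r' (h2.trans h1'.symm) ≫ G.c,
      by rw [G.comp_t, h1], by rw [G.comp_s, h2']⟩⟩

end Groth.Agent.ASp
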