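import Groth.Agent.ASp.GsectReduced
import Groth.Agent.ASp.BiratNormal
/-!
Global functions on normal integral algebraic spaces.
-/

set_option autoImplicit false
set_option backward.isDefEq.respectTransparency false
set_option backward.isDefEq.respectTransparency.types false

universe u

open CategoryTheory CategoryTheory.Limits AlgebraicGeometry Opposite

namespace Groth.Agent.ASp

open _root_.AlgSp

theorem exists_mul_eq_of_isIntegral {R A : Type*} [CommRing R] [IsDomain R] [CommRing A] [IsDomain A]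
    [IsIntegrallyClosed A] (φ : R →+* A) (hφ : Function.Injective φ) (a b : R) (hb : b ∈ nonZeroDivisors R)
    (hx : IsIntegral R (IsLocalization.mk' (FractionRing R) a ⟨b, hb⟩)) : ∃ c : A, c * φ b = φ a := by
  have hinj : Function.Injective ((algebraMap A (FractionRing A)).comp φ) :=
    (IsFractionRing.injective A (FractionRing A)).comp hφ
  let ψ : FractionRing R →+* FractionRing A := IsFractionRing.lift hinj
  have hψ : ∀ s : R, ψ (algebraMap R _ s) = algebraMap A _ (φ s) := fun s => IsFractionRing.lift_algebraMap hinj s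
  obtain ⟨c, hc⟩ := IsIntegrallyClosed.isIntegral_iff.1
    (IsIntegral.map_of_comp_eq φ ψ (RingHom.ext fun s => (hψ s).symm) hx)
  refine ⟨c, IsFractionRing.injective A (FractionRing A) ?_⟩
  have := congrArg ψ (IsLocalization.mk'_spec (FractionRing R) a (⟨b, hb⟩ : nonZeroDivisors R))
  rw [map_mul, ← hc, hψ, hψ] at this
  rw [map_mul]
  exact this

section Scheme

theorem germ_ne_zero_of_dense {W : Scheme.{u}} (b : Γ(W, ⊤)) (hb : Dense (W.basicOpen b : Set ↥W)) (w : ↥W) :
    W.presheaf.germ ⊤ w trivial b ≠ 0 := fun e => by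
  obtain ⟨N, hwN, i, j, hN⟩ := W.presheaf.germ_eq (U := ⊤) (V := ⊤) w trivial trivial b 0 (by rw [e, map_zero])
  rw [map_zero] at hN
  obtain ⟨x, hxN, hxb⟩ := hb.inter_open_nonempty _ N.isOpen ⟨w, hwN⟩
  have h1 : IsUnit (W.presheaf.germ ⊤ x trivial b) := (W.mem_basicOpen b x trivial).1 hxb
  have h2 : W.presheaf.germ ⊤ x trivial b = 0 := by
    rw [← W.presheaf.germ_res_apply i x hxN b, hN, map_zero]
  rw [h2, isUnit_zero_iff] at h1
  exact zero_ne_one h1

theorem eq_of_mul_eq_mul {W : Scheme.{u}} [∀ w : ↥W, IsDomain ↥(W.presheaf.stalk w)] (b : Γ(W, ⊤))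
    (hb : Dense (W.basicOpen b : Set ↥W)) {V : W.Opens} {c c' : Γ(W, V)}
    (h : c * (W.presheaf.map (homOfLE (le_top : V ≤ ⊤)).op).hom b = c' * (W.presheaf.map (homOfLE (le_top : V ≤ ⊤)).op).hom b) :
    c = c' := by
  refine TopCat.Presheaf.section_ext W.sheaf V c c' fun w hw => ?_
  have := congrArg (W.presheaf.germ V w hw) h
  rw [map_mul, map_mul] at this
  have e : W.presheaf.germ V w hw ((W.presheaf.map (homOfLE (le_top : V ≤ ⊤)).op).hom b) =
      W.presheaf.germ ⊤ w trivial b := W.presheaf.germ_res_apply _ w hw b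
  rw [e] at this
  exact mul_right_cancel₀ (M₀ := ↥(W.presheaf.stalk w)) (germ_ne_zero_of_dense b hb w) this

theorem exists_mul_eq {W : Scheme.{u}} [∀ w : ↥W, IsDomain ↥(W.presheaf.stalk w)] (a b : Γ(W, ⊤))
    (hb : Dense (W.basicOpen b : Set ↥W))
    (h : ∀ w : ↥W, ∃ c, c * W.presheaf.germ ⊤ w trivial b = W.presheaf.germ ⊤ w trivial a) :
    ∃ c : Γ(W, ⊤), c * b = a := by
  have loc : ∀ w : ↥W, ∃ (V : W.Opens) (_ : w ∈ V) (c : Γ(W, V)),
      c * (W.presheaf.map (homOfLE (le_top : V ≤ ⊤)).op).hom b = (W.presheaf.map (homOfLE (le_top : V ≤ ⊤)).op).hom a := by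
    intro w
    obtain ⟨c, hc⟩ := h w
    obtain ⟨U, hU, c₀, rfl⟩ := W.presheaf.exists_germ_eq c
    have e : W.presheaf.germ U w hU (c₀ * (W.presheaf.map (homOfLE (le_top : U ≤ ⊤)).op).hom b) =
        W.presheaf.germ U w hU ((W.presheaf.map (homOfLE (le_top : U ≤ ⊤)).op).hom a) := by
      rw [map_mul]
      refine Eq.trans ?_ (W.presheaf.germ_res_apply _ w hU a).symm
      exact (congrArg (_ * ·) (W.presheaf.germ_res_apply _ w hU b)).trans hc
    obtain ⟨V, hwV, i, j, hV⟩ := W.presheaf.germ_eq w hU hU _ _ e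
    refine ⟨V, hwV, (W.presheaf.map i.op).hom c₀, ?_⟩
    obtain rfl : i = j := Subsingleton.elim _ _
    rw [map_mul] at hV
    simp only [← ConcreteCategory.comp_apply, ← CommRingCat.hom_comp, ← Functor.map_comp] at hV ⊢
    exact hV
  choose V hV c hc using loc
  have cover : (⊤ : W.Opens) ≤ iSup V := fun w _ => TopologicalSpace.Opens.mem_iSup.2 ⟨w, hV w⟩
  have compat : TopCat.Presheaf.IsCompatible W.presheaf V c := by
    intro i j
    refine eq_of_mul_eq_mul b hb ?_
    have hi := congrArg (W.presheaf.map (TopologicalSpace.Opens.infLELeft (V i) (V j)).op).hom (hc i)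
    have hj := congrArg (W.presheaf.map (TopologicalSpace.Opens.infLERight (V i) (V j)).op).hom (hc j)
    rw [map_mul] at hi hj
    simp only [← ConcreteCategory.comp_apply, ← CommRingCat.hom_comp, ← Functor.map_comp] at hi hj ⊢
    exact hi.trans hj.symm
  obtain ⟨g₀, hg, -⟩ := W.sheaf.existsUnique_gluing' V ⊤ (fun w => homOfLE le_top) cover c compat
  let g : Γ(W, ⊤) := g₀
  refine ⟨g, TopCat.Sheaf.eq_of_locally_eq' W.sheaf V ⊤ (fun w => homOfLE le_top) cover (g * b) a fun w => ?_⟩
  change (W.presheaf.map _).hom (g * b) = (W.presheaf.map _).hom a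
  rw [map_mul]
  exact (congrArg (fun t : Γ(W, V w) => t * _) (hg w)).trans (hc w)

end Scheme

variable {S : Scheme.{u}} {X : Sp S}

theorem dense_basicOpen_gsectAt (hint : IsIntegralSp X) {b : ↥(gsectEt (OEt X))} (hb : b ≠ 0) (E : EtOver X) :
    Dense (E.obj.left.left.basicOpen (gsectAt E b) : Set ↥E.obj.left.left) := by
  obtain ⟨hred, -, hirr⟩ := hint
  haveI := hirr
  rw [dense_iff_inter_open]
  intro W hW hWne
  have hne : (gsectSupp b).Nonempty := Set.nonempty_iff_ne_empty.2 fun hf => hb <|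
    gsect_eq_zero_of_basicOpen hred fun E' => by
      ext u
      simp only [TopologicalSpace.Opens.coe_bot, Set.mem_empty_iff_false, iff_false]
      intro hu
      have hm : Points.ofPt E'.obj.hom u ∈ gsectSupp b := Set.mem_iUnion.2 ⟨E', u, hu, rfl⟩
      rw [hf] at hm
      exact hm
  obtain ⟨x, hx, hxb⟩ := nonempty_preirreducible_inter (isOpen_range_ofPt E ⟨W, hW⟩) (isOpen_gsectSupp b)
    (hWne.image _) hne
  obtain ⟨u, huW, rfl⟩ := hx
  obtain ⟨E', v, hv, hvu⟩ := Set.mem_iUnion.1 hxb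
  obtain ⟨P, p, q, r, hp, -, w, rfl, rfl⟩ := exists_common_point E.property E'.property hvu.symm
  let EP : EtOver X := EtOver.mk ((yon S).map p ≫ E.obj.hom) (repWith_comp (repWith_yon_map (g := p) hp) E.property)
  let g : EP ⟶ E := EtOver.homMk p rfl
  let g' : EP ⟶ E' := EtOver.homMk q w.symm
  refine ⟨_, huW, ?_⟩
  have h₁ : r ∈ P.left.basicOpen (gsectAt EP b) := by
    rw [gsectAt_map g']
    exact (Scheme.preimage_basicOpen_top q.left (gsectAt E' b)).le hv
  rw [gsectAt_map g] at h₁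
  exact (Scheme.preimage_basicOpen_top p.left (gsectAt E b)).ge h₁

theorem isIntegrallyClosed_gsect (hA : IsAlgSpace X) (hint : IsIntegralSp X)
    (hn : EtaleLocally (fun U => ∀ u : ↥U, IsDomain ↥(U.presheaf.stalk u) ∧
      IsIntegrallyClosed ↥(U.presheaf.stalk u)) X) :
    IsIntegrallyClosed ↥(gsectEt (OEt X)) := by
  haveI := isDomain_gsect hA hint
  refine (isIntegrallyClosed_iff (FractionRing ↥(gsectEt (OEt X)))).2 fun {x} hx => ?_
  obtain ⟨a, ⟨b, hb⟩, rfl⟩ := IsLocalization.exists_mk'_eq (nonZeroDivisors ↥(gsectEt (OEt X))) x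
  have hb0 : b ≠ 0 := nonZeroDivisors.ne_zero hb
  have hdom : ∀ (E : EtOver X) (w : ↥E.obj.left.left), IsDomain ↥(E.obj.left.left.presheaf.stalk w) ∧
      IsIntegrallyClosed ↥(E.obj.left.left.presheaf.stalk w) :=
    fun E w => isNormalScheme_of_chart hn E.property w
  have hex : ∀ E : EtOver X, ∃ c : Γ(E.obj.left.left, ⊤), c * gsectAt E b = gsectAt E a := by
    intro E
    haveI : ∀ w : ↥E.obj.left.left, IsDomain ↥(E.obj.left.left.presheaf.stalk w) := fun w => (hdom E w).1
    refine exists_mul_eq _ _ (dense_basicOpen_gsectAt hint hb0 E) fun w => ?_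
    haveI := (hdom E w).2
    let φ : ↥(gsectEt (OEt X)) →+* ↥(E.obj.left.left.presheaf.stalk w) :=
      (E.obj.left.left.presheaf.germ ⊤ w trivial).hom.comp (gsectAt E)
    have hφ : Function.Injective φ := (injective_iff_map_eq_zero φ).2 fun s hs => by
      by_contra h0
      exact germ_ne_zero_of_dense _ (dense_basicOpen_gsectAt hint h0 E) w hs
    exact exists_mul_eq_of_isIntegral φ hφ a b hb hx
  choose c hc using hex
  have hcompat : ∀ {E E' : EtOver X} (g : E ⟶ E'), g.hom.left.left.appTop.hom (c E') = c E := by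
    intro E E' g
    haveI : ∀ w : ↥E.obj.left.left, IsDomain ↥(E.obj.left.left.presheaf.stalk w) := fun w => (hdom E w).1
    have h := congrArg g.hom.left.left.appTop.hom (hc E')
    rw [map_mul, ← gsectAt_map g, ← gsectAt_map g, ← hc E] at h
    refine eq_of_mul_eq_mul (gsectAt E b) (dense_basicOpen_gsectAt hint hb0 E) (V := ⊤) ?_
    simpa using h
  let F := (OEt X).obj
  let s : (F ⋙ forget CommRingCat.{u + 1}).sections :=
    ⟨fun E => ULift.up (c E.unop), fun {E E'} g => congrArg ULift.up (hcompat g.unop)⟩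
  obtain ⟨d, hd⟩ := (Types.isLimit_iff _).1 ⟨isLimitOfPreserves (forget CommRingCat.{u + 1}) (limit.isLimit F)⟩ _ s.2 |>.exists
  have hd' : ∀ E : EtOver X, gsectAt E d = c E := fun E => congrArg ULift.down (hd (op E))
  refine ⟨d, ?_⟩
  rw [IsLocalization.eq_mk'_iff_mul_eq, ← map_mul]
  congr 1
  exact gsect_ext fun E => by rw [map_mul, hd', hc]

end Groth.Agent.ASp
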