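import Groth.Agent.ASp.SchDenseImage
import Groth.Agent.ASp.EtSupport
import Groth.Prelude.Def_AlgSpOX
import Groth.Prelude.Def_AlgSpDec
/-!
Global functions on reduced and integral algebraic spaces.
-/

set_option autoImplicit false
set_option backward.isDefEq.respectTransparency false
set_option backward.isDefEq.respectTransparency.types false

universe u

open CategoryTheory CategoryTheory.Limits AlgebraicGeometry Opposite

namespace Groth.Agent.ASp

open _root_.AlgSp

variable {S : Scheme.{u}} {X : Sp S}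

/-- The function on a chart given by a global section. -/
noncomputable def gsectAt (E : EtOver X) : ↥(gsectEt (OEt X)) →+* Γ(E.obj.left.left, ⊤) :=
  (ULift.ringEquiv.toRingHom).comp (limit.π (OEt X).obj (op E)).hom

theorem gsectAt_map {E E' : EtOver X} (g : E ⟶ E') (s : ↥(gsectEt (OEt X))) :
    gsectAt E s = g.hom.left.left.appTop.hom (gsectAt E' s) := by
  have h := ConcreteCategory.congr_hom (limit.w (OEt X).obj g.op) s
  exact (congrArg (fun z => ULift.down z) h).symm

theorem gsect_ext {s t : ↥(gsectEt (OEt X))} (h : ∀ E, gsectAt E s = gsectAt E t) : s = t := by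
  refine Concrete.limit_ext _ s t fun E => ?_
  exact ULift.ext _ _ (h E.unop)

variable (hX : IsReducedSp X)

include hX in
theorem gsect_eq_zero_of_basicOpen {f : ↥(gsectEt (OEt X))}
    (h : ∀ E : EtOver X, E.obj.left.left.basicOpen (gsectAt E f) = ⊥) : f = 0 := gsect_ext fun E => by
  haveI : IsReduced E.obj.left.left := isReduced_of_chart hX E.property
  rw [map_zero]
  exact eq_zero_of_basicOpen_eq_bot _ (h E)

include hX in
theorem isReduced_gsect : _root_.IsReduced ↥(gsectEt (OEt X)) := ⟨fun f hf => gsect_ext fun E => by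
  haveI : IsReduced E.obj.left.left := isReduced_of_chart hX E.property
  rw [map_zero]
  exact (hf.map (gsectAt E)).eq_zero⟩

/-- The points where a global function is nonzero. -/
def gsectSupp (f : ↥(gsectEt (OEt X))) : Set (Points X) :=
  ⋃ E : EtOver X, Points.ofPt E.obj.hom '' (E.obj.left.left.basicOpen (gsectAt E f) : Set ↥E.obj.left.left)

theorem isOpen_gsectSupp (f : ↥(gsectEt (OEt X))) : IsOpen (gsectSupp f) :=
  isOpen_iUnion fun E => isOpen_range_ofPt E _

theorem disjoint_gsectSupp {s t : ↥(gsectEt (OEt X))} (h : s * t = 0) :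
    Disjoint (gsectSupp s) (gsectSupp t) := by
  rw [Set.disjoint_left]
  rintro x hs ht
  obtain ⟨E, u, hu, rfl⟩ := Set.mem_iUnion.1 hs
  obtain ⟨E', v, hv, hvu⟩ := Set.mem_iUnion.1 ht
  obtain ⟨P, p, q, r, hp, -, w, rfl, rfl⟩ := exists_common_point E.property E'.property hvu.symm
  let EP : EtOver X := EtOver.mk ((yon S).map p ≫ E.obj.hom)
    (repWith_comp (repWith_yon_map (g := p) hp) E.property)
  let g : EP ⟶ E := EtOver.homMk p rfl
  let g' : EP ⟶ E' := EtOver.homMk q w.symm
  have h₁ : r ∈ P.left.basicOpen (gsectAt EP s) := by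
    rw [gsectAt_map g]
    exact (Scheme.preimage_basicOpen_top p.left (gsectAt E s)).le hu
  have h₂ : r ∈ P.left.basicOpen (gsectAt EP t) := by
    rw [gsectAt_map g']
    exact (Scheme.preimage_basicOpen_top q.left (gsectAt E' t)).le hv
  have : r ∈ P.left.basicOpen (gsectAt EP (s * t)) := by
    rw [map_mul, Scheme.basicOpen_mul]
    exact ⟨h₁, h₂⟩
  rw [h, map_zero, Scheme.basicOpen_zero] at this
  exact this

theorem isDomain_gsect (hA : IsAlgSpace X) (hint : IsIntegralSp X) : IsDomain ↥(gsectEt (OEt X)) := by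
  obtain ⟨hred, -, hirr⟩ := hint
  haveI := hirr
  haveI : Nontrivial ↥(gsectEt (OEt X)) := by
    obtain ⟨U, a, ha, has⟩ := hA.atlas
    obtain ⟨x⟩ := hirr.toNonempty
    obtain ⟨u, -⟩ := surjective_ofPt has x
    refine ⟨⟨1, 0, fun e => ?_⟩⟩
    have e' := congrArg (gsectAt (EtOver.mk a ha)) e
    rw [map_one, map_zero] at e'
    have hb : U.left.basicOpen (1 : Γ(U.left, ⊤)) = U.left.basicOpen (0 : Γ(U.left, ⊤)) :=
      congrArg U.left.basicOpen e'
    rw [Scheme.basicOpen_zero, Scheme.basicOpen_of_isUnit _ isUnit_one] at hb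
    exact (hb ▸ (trivial : u ∈ (⊤ : U.left.Opens)) : u ∈ (⊥ : U.left.Opens))
  haveI : NoZeroDivisors ↥(gsectEt (OEt X)) := ⟨fun {s t} h => by
    have key : ∀ f : ↥(gsectEt (OEt X)), gsectSupp f = ∅ → f = 0 := fun f hf =>
      gsect_eq_zero_of_basicOpen hred fun E => by
        ext u
        simp only [TopologicalSpace.Opens.coe_bot, Set.mem_empty_iff_false, iff_false]
        intro hu
        have hm : Points.ofPt E.obj.hom u ∈ gsectSupp f := Set.mem_iUnion.2 ⟨E, u, hu, rfl⟩
        rw [hf] at hm
        exact hm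
    by_contra hne
    rw [not_or] at hne
    obtain ⟨x, hxs, hxt⟩ := nonempty_preirreducible_inter (isOpen_gsectSupp s) (isOpen_gsectSupp t)
      (Set.nonempty_iff_ne_empty.2 (mt (key s) hne.1)) (Set.nonempty_iff_ne_empty.2 (mt (key t) hne.2))
    exact Set.disjoint_left.1 (disjoint_gsectSupp h) hxs hxt⟩
  exact NoZeroDivisors.to_isDomain _

end Groth.Agent.ASp
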