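import Mathlib
import Groth.Agent.ASp.FieldChart
import Groth.Agent.ASp.LocP
import Groth.Agent.ASp.Smooth
import Groth.Agent.Hensel.Smooth
import Groth.Agent.Hensel.Etale
import Groth.Agent.Hensel.Sections
import Groth.Agent.EtaleSplit.HenselSplit
import Groth.Agent.ConnEt.Component

/-! Lifting points of algebraic spaces over henselian local rings. -/

set_option autoImplicit false
set_option backward.isDefEq.respectTransparency false
set_option backward.isDefEq.respectTransparency.types false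

universe u

open CategoryTheory CategoryTheory.Limits AlgebraicGeometry Opposite IsLocalRing

namespace Groth.Agent.ASp.HenselLift

open _root_.AlgSp Groth.Agent.EtaleSplit

/-- Sections modulo `I` of smooth schemes over a henselian local ring lift. -/
theorem exists_section_smooth {A : Type u} [CommRing A] [HenselianLocalRing A] (I : Ideal A) (hI : I ≠ ⊤)
    {T : Scheme.{u}} (g : T ⟶ Spec (CommRingCat.of A)) [Smooth g]
    (qT : Spec (CommRingCat.of (A ⧸ I)) ⟶ T)
    (hqT : qT ≫ g = Spec.map (CommRingCat.ofHom (Ideal.Quotient.mk I))) :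
    ∃ u : Spec (CommRingCat.of A) ⟶ T, u ≫ g = 𝟙 _ ∧
      Spec.map (CommRingCat.ofHom (Ideal.Quotient.mk I)) ≫ u = qT := by
  haveI : HenselianRing A (maximalIdeal A) := Hensel.henselianRing_maximalIdeal_iff.2 inferInstance
  haveI : HenselianRing A I := Hensel.of_le (le_maximalIdeal hI)
  haveI : Nontrivial (A ⧸ I) := Ideal.Quotient.nontrivial_iff.2 hI
  haveI : IsLocalRing (A ⧸ I) := IsLocalRing.of_surjective' _ Ideal.Quotient.mk_surjective
  obtain ⟨S, _, _, j, hj, ⟨p, hp⟩, hjg⟩ := Hensel.exists_affine_presentation g (qT (closedPoint (A ⧸ I)))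
  have hsm : Smooth (Spec.map (CommRingCat.ofHom (algebraMap A S))) := by
    rw [← hjg]; infer_instance
  rw [HasRingHomProperty.Spec_iff (P := @Smooth)] at hsm
  have : Algebra.Smooth A S := RingHom.smooth_algebraMap.1 hsm
  let ψ := IsOpenImmersion.lift j qT (by
    rintro _ ⟨z, rfl⟩
    exact ((specializes_closedPoint z).map qT.continuous).mem_open j.isOpenEmbedding.isOpen_range ⟨p, hp⟩)
  have hψ : ψ ≫ j = qT := IsOpenImmersion.lift_fac _ _ _
  have hψ2 : CommRingCat.ofHom (algebraMap A S) ≫ Spec.preimage ψ =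
      CommRingCat.ofHom (Ideal.Quotient.mk I) := by
    apply Spec.map_injective
    rw [Spec.map_comp, Spec.map_preimage, ← hjg, reassoc_of% hψ, hqT]
  let σ : S →ₐ[A] A ⧸ I :=
    { toRingHom := (Spec.preimage ψ).hom
      commutes' := fun a => congr($(hψ2).hom a) }
  obtain ⟨τ, hτ⟩ := Hensel.exists_lift_of_smooth σ
  refine ⟨Spec.map (CommRingCat.ofHom τ.toRingHom) ≫ j, ?_, ?_⟩
  · rw [Category.assoc, hjg, ← Spec.map_comp, ← Spec.map_id]
    congr 1
    exact CommRingCat.hom_ext (RingHom.ext τ.commutes)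
  · rw [← hψ, ← Spec.map_preimage ψ, ← Spec.map_comp_assoc]
    congr 2
    exact CommRingCat.hom_ext (congrArg AlgHom.toRingHom hτ)

variable {S : Scheme.{u}} {R : Type u} [CommRing R] (str : Spec (CommRingCat.of R) ⟶ S)

/-- `Spec R/a` over `S`. -/
noncomputable abbrev quo (a : Ideal R) : Over S :=
  Over.mk (Spec.map (CommRingCat.ofHom (Ideal.Quotient.mk a)) ≫ str)

/-- The closed immersion. -/
noncomputable abbrev quoMap (a : Ideal R) : quo str a ⟶ Over.mk str :=
  Over.homMk (Spec.map (CommRingCat.ofHom (Ideal.Quotient.mk a))) rfl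

/-- Lift through a morphism of schemes which is smooth. -/
theorem exists_lift_scheme [HenselianLocalRing R] {A B : Over S} (h : A ⟶ B) [Smooth h.left]
    (a : Ideal R) (ha : a ≠ ⊤) (z : Over.mk str ⟶ B) (z₀ : quo str a ⟶ A) (w : z₀ ≫ h = quoMap str a ≫ z) :
    ∃ z' : Over.mk str ⟶ A, z' ≫ h = z ∧ quoMap str a ≫ z' = z₀ := by
  haveI : Smooth (pullback.snd h.left z.left) := inferInstance
  obtain ⟨u, hu1, hu2⟩ := exists_section_smooth a ha (pullback.snd h.left z.left)
    (pullback.lift z₀.left (Spec.map (CommRingCat.ofHom (Ideal.Quotient.mk a))) (congrArg (·.left) w))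
    (pullback.lift_snd _ _ _)
  have hh : (u ≫ pullback.fst _ _) ≫ h.left = z.left := by
    rw [Category.assoc, pullback.condition, ← Category.assoc, hu1, Category.id_comp]
  refine ⟨Over.homMk (u ≫ pullback.fst _ _) ?_, Over.OverMorphism.ext hh, Over.OverMorphism.ext ?_⟩
  · show (u ≫ _) ≫ A.hom = str
    rw [← Over.w h, ← Category.assoc, hh]
    exact Over.w z
  · show Spec.map _ ≫ u ≫ pullback.fst _ _ = z₀.left
    rw [reassoc_of% hu2, pullback.lift_fst]

/-- Points over a henselian local ring lift through an etale chart from their closed point. -/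
theorem exists_lift_chart [HenselianLocalRing R] {X : Sp S} {Z : Over S} {q : (yon S).obj Z ⟶ X}
    (hq : RepWith @Etale q) (a : Ideal R) (ha : a ≠ ⊤) (z : (yon S).obj (Over.mk str) ⟶ X) (l₀ : quo str a ⟶ Z)
    (w : (yon S).map l₀ ≫ q = (yon S).map (quoMap str a) ≫ z) :
    ∃ l : Over.mk str ⟶ Z, (yon S).map l ≫ q = z ∧ quoMap str a ≫ l = l₀ := by
  obtain ⟨W, fst, snd, sq⟩ := exists_isPullback_yon hq.1 z
  haveI : Etale snd.left := hq.2 z _ _ sq
  obtain ⟨c₀, hc₀⟩ := (yon S).map_surjective (sq.lift ((yon S).map l₀) ((yon S).map (quoMap str a)) w)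
  obtain ⟨c, hc1, hc2⟩ := exists_lift_scheme str snd a ha (𝟙 _) c₀
    ((yon S).map_injective (by rw [Functor.map_comp, hc₀, sq.lift_snd, Category.comp_id]))
  refine ⟨c ≫ fst, ?_, ?_⟩
  · rw [Functor.map_comp, Category.assoc, sq.w, ← Functor.map_comp_assoc, hc1, CategoryTheory.Functor.map_id,
      Category.id_comp]
  · apply (yon S).map_injective
    rw [← Category.assoc, hc2, Functor.map_comp, hc₀, sq.lift_fst]

/-- An affine etale chart carrying a given point modulo any proper ideal, by the residual point. -/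
theorem exists_chart_quo [HenselianLocalRing R] {X : Sp S} {Z : Over S} {q : (yon S).obj Z ⟶ X}
    (hq : RepWith @Etale q) (a : Ideal R) (ha : a ≠ ⊤) (x : (yon S).obj (quo str a) ⟶ X)
    (ι : quo str (maximalIdeal R) ⟶ quo str a) (hι : ι.left = Spec.map (CommRingCat.ofHom
      (Ideal.Quotient.factor (le_maximalIdeal ha))))
    (l₀ : quo str (maximalIdeal R) ⟶ Z) (w : (yon S).map l₀ ≫ q = (yon S).map ι ≫ x) :
    ∃ g : quo str a ⟶ Z, (yon S).map g ≫ q = x := by
  haveI : Nontrivial (R ⧸ a) := Ideal.Quotient.nontrivial_iff.2 ha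
  haveI : IsLocalRing (R ⧸ a) := IsLocalRing.of_surjective' _ Ideal.Quotient.mk_surjective
  haveI : HenselianLocalRing (R ⧸ a) := ConnEt.henselianLocalRing_of_finite R _
  let str' : Spec (CommRingCat.of (R ⧸ a)) ⟶ S := Spec.map (CommRingCat.ofHom (Ideal.Quotient.mk a)) ≫ str
  let m' : Ideal (R ⧸ a) := (maximalIdeal R).map (Ideal.Quotient.mk a)
  have hm' : m' ≠ ⊤ := by
    intro h
    have h1 := congrArg (Ideal.comap (Ideal.Quotient.mk a)) h
    rw [Ideal.comap_map_of_surjective' _ Ideal.Quotient.mk_surjective, Ideal.mk_ker,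
      Ideal.comap_top, sup_eq_left.2 (le_maximalIdeal ha)] at h1
    exact (maximalIdeal.isMaximal R).ne_top h1
  let e := DoubleQuot.quotQuotEquivQuotOfLE (le_maximalIdeal ha)
  have he : (e.toRingHom).comp (Ideal.Quotient.mk m') = Ideal.Quotient.factor (le_maximalIdeal ha) := by
    ext r
    rfl
  let t : quo str' m' ⟶ quo str (maximalIdeal R) := Over.homMk (Spec.map (CommRingCat.ofHom e.symm.toRingHom)) (by
    show _ ≫ _ ≫ str = _ ≫ _ ≫ str
    rw [← Spec.map_comp_assoc, ← Spec.map_comp_assoc]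
    congr 2)
  have htι : t ≫ ι = quoMap str' m' := Over.OverMorphism.ext (by
    show Spec.map _ ≫ ι.left = _
    rw [hι, ← he, ← Spec.map_comp]
    congr 1
    ext r
    simp)
  obtain ⟨g, hg, -⟩ := exists_lift_chart str' hq m' hm' x (t ≫ l₀) (by
    rw [Functor.map_comp, Category.assoc, w, ← Functor.map_comp_assoc, htι])
  exact ⟨g, hg⟩

/-- `Spec` of the residue field as the quotient. -/
theorem exists_chart_point [HenselianLocalRing R] {X : Sp S} (hX : IsAlgSpace X)
    (x : (yon S).obj (quo str (maximalIdeal R)) ⟶ X) :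
    ∃ (Z : Over S) (q : (yon S).obj Z ⟶ X) (l : quo str (maximalIdeal R) ⟶ Z),
      IsAffine Z.left ∧ RepWith @Etale q ∧ (yon S).map l ≫ q = x :=
  FieldChart.exists_affine_chart (k := ResidueField R) hX x

/-- Smooth morphisms of spaces lift points over henselian local rings. -/
theorem exists_lift_of_smooth [HenselianLocalRing R] {Z X : Sp S} (hZ : IsAlgSpace Z) (hX : IsAlgSpace X) (f : Z ⟶ X)
    (hf : LocP @Smooth f) (z : (yon S).obj (Over.mk str) ⟶ X) (z₀ : (yon S).obj (quo str (maximalIdeal R)) ⟶ Z)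
    (w : z₀ ≫ f = (yon S).map (quoMap str _) ≫ z) :
    ∃ z' : (yon S).obj (Over.mk str) ⟶ Z, z' ≫ f = z ∧ (yon S).map (quoMap str _) ≫ z' = z₀ := by
  have hm := (maximalIdeal.isMaximal R).ne_top
  obtain ⟨A, qa, la, -, hqa, hla⟩ := exists_chart_point str hZ z₀
  obtain ⟨V, qb, lb₀, -, hqb, hlb₀⟩ := exists_chart_point str hX ((yon S).map (quoMap str _) ≫ z)
  obtain ⟨lb, hlb, hlbm⟩ := exists_lift_chart str hqb _ hm z lb₀ hlb₀
  obtain ⟨W, fst, snd, sq⟩ := exists_isPullback_yon hqb.1 (qa ≫ f)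
  haveI : Etale snd.left := hqb.2 (qa ≫ f) _ _ sq
  haveI : Smooth fst.left := hf ((yon S).map snd ≫ qa) qb fst
    (repWith_comp (repWith_yon_map (P := @Etale) ‹_›) hqa) hqb (by rw [Category.assoc]; exact sq.w.symm)
  obtain ⟨c₀, hc₀⟩ := (yon S).map_surjective (sq.lift ((yon S).map lb₀) ((yon S).map la) (by
    rw [hlb₀, ← Category.assoc, hla, w]))
  have h1 : c₀ ≫ fst = lb₀ := (yon S).map_injective (by rw [Functor.map_comp, hc₀, sq.lift_fst])
  have h2 : c₀ ≫ snd = la := (yon S).map_injective (by rw [Functor.map_comp, hc₀, sq.lift_snd])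
  obtain ⟨c, hc1, hc2⟩ := exists_lift_scheme str fst _ hm lb c₀ (by rw [h1, hlbm])
  refine ⟨(yon S).map (c ≫ snd) ≫ qa, ?_, ?_⟩
  · rw [Category.assoc, Functor.map_comp, Category.assoc, ← sq.w, ← Functor.map_comp_assoc, hc1, hlb]
  · rw [← Functor.map_comp_assoc, ← Category.assoc, hc2, h2, hla]

end Groth.Agent.ASp.HenselLift
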