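import Mathlib
import Groth.Agent.ASp.HenselLift
import Groth.Agent.ASp.QfChartLem
import Groth.Agent.ASp.Glue
import Groth.Agent.ASp.FieldMono
import Groth.Agent.ASp.SepEtale
import Groth.Agent.Boot.Helpers

/-! Families of etale affine charts carrying all the residual points. -/

set_option autoImplicit false
set_option backward.isDefEq.respectTransparency false
set_option backward.isDefEq.respectTransparency.types false

universe u v

open CategoryTheory CategoryTheory.Limits AlgebraicGeometry Opposite IsLocalRing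

namespace Groth.Agent.ASp.HenselFamily

open _root_.AlgSp HenselLift

variable {S : Scheme.{u}}

theorem exists_sigma_chart {X : Sp S} (hX : IsAlgSpace X) {ι : Type u} (Z : ι → Over S)
    (hZ : ∀ i, IsAffine (Z i).left) (q : ∀ i, (yon S).obj (Z i) ⟶ X) (hq : ∀ i, RepWith @Etale (q i)) :
    ∃ (W : Over S) (p : (yon S).obj W ⟶ X) (j : ∀ i, Z i ⟶ W),
      IsSeparated W.hom ∧ (Finite ι → IsAffine W.left) ∧ RepWith @Etale p ∧ ∀ i, (yon S).map (j i) ≫ p = q i := by
  let V : ι → Scheme.{u} := fun i => (Z i).left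
  haveI : ∀ i, IsAffine (V i) := hZ
  let W : Over S := Over.mk (Limits.Sigma.desc fun i => (Z i).hom : ∐ V ⟶ S)
  let j : ∀ i, Z i ⟶ W := fun i => Over.homMk (Sigma.ι V i) (Sigma.ι_desc _ _)
  obtain ⟨p, hp⟩ := exists_sigma_desc W Z j rfl (fun i => Category.comp_id _) q
  refine ⟨W, p, j, ?_, fun _ => inferInstanceAs (IsAffine (∐ V)), ?_, hp⟩
  · haveI : (∐ V).IsSeparated := Boot.isSeparated_sigma V
    haveI : IsSeparated (W.hom ≫ terminal.from S) := by
      rw [show W.hom ≫ terminal.from S = terminal.from W.left from Subsingleton.elim _ _]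
      exact (‹(∐ V).IsSeparated›).isSeparated_terminal_from
    exact IsSeparated.of_comp W.hom (terminal.from S)
  · refine repWith_of_sigma @Etale hX.diag _ _ fun i => ?_
    let eo : Over.mk (Sigma.ι V i ≫ W.hom) ⟶ Z i := Over.homMk (𝟙 _) (by
      change 𝟙 _ ≫ (Z i).hom = Sigma.ι V i ≫ Limits.Sigma.desc _
      rw [Sigma.ι_desc, Category.id_comp])
    rw [show (Over.homMk (Sigma.ι V i) rfl : Over.mk (Sigma.ι V i ≫ W.hom) ⟶ W) = eo ≫ j i from
      Over.OverMorphism.ext (Category.id_comp _).symm, Functor.map_comp, Category.assoc, hp]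
    haveI : IsIso eo.left := inferInstanceAs (IsIso (𝟙 _))
    exact repWith_comp (repWith_yon_map (P := @Etale) (inferInstance : Etale eo.left)) (hq i)

variable {R : Type u} [CommRing R] (str : Spec (CommRingCat.of R) ⟶ S)

/-- Charts carrying all points modulo all ideals, from a surjection onto the residual points. -/
theorem exists_universal [HenselianLocalRing R] {X : Sp S} (hX : IsAlgSpace X) {ι : Type u}
    (pt : ι → ((yon S).obj (quo str (maximalIdeal R)) ⟶ X)) (hpt : Function.Surjective pt) :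
    ∃ (W : Over S) (p : (yon S).obj W ⟶ X), IsSeparated W.hom ∧ (Finite ι → IsAffine W.left) ∧
      RepWith @Etale p ∧ ∀ (a : Ideal R) (x : (yon S).obj (quo str a) ⟶ X),
        ∃ g : quo str a ⟶ W, (yon S).map g ≫ p = x := by
  choose Z q l hZ hq hl using fun i => exists_chart_point str hX (pt i)
  obtain ⟨W, p, j, hW, hWf, hp, hj⟩ := exists_sigma_chart hX Z hZ q hq
  refine ⟨W, p, hW, hWf, hp, fun a x => ?_⟩
  by_cases ha : a = ⊤
  · -- the empty scheme
    haveI : Subsingleton (R ⧸ a) := Ideal.Quotient.subsingleton_iff.2 ha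
    haveI : IsEmpty (quo str a).left := inferInstanceAs (IsEmpty (PrimeSpectrum (R ⧸ a)))
    obtain ⟨Wx, fst, snd, sq⟩ := exists_isPullback_yon hp.1 x
    haveI : IsEmpty Wx.left := Function.isEmpty snd.left
    haveI : IsIso snd.left := inferInstance
    haveI : IsIso snd := by
      haveI : IsIso ((Over.forget S).map snd) := ‹IsIso snd.left›
      exact isIso_of_reflects_iso snd (Over.forget S)
    exact ⟨inv snd ≫ fst, by rw [Functor.map_comp, Category.assoc, sq.w, Functor.map_inv, IsIso.inv_hom_id_assoc]⟩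
  · let ι₀ : quo str (maximalIdeal R) ⟶ quo str a := Over.homMk (Spec.map (CommRingCat.ofHom
      (Ideal.Quotient.factor (le_maximalIdeal ha)))) (by
        show _ ≫ _ ≫ str = _ ≫ str
        rw [← Spec.map_comp_assoc]
        congr 2)
    obtain ⟨i, hi⟩ := hpt ((yon S).map ι₀ ≫ x)
    obtain ⟨g, hg⟩ := exists_chart_quo str (hq i) a ha x ι₀ rfl (l i) ((hl i).trans hi)
    exact ⟨g ≫ j i, by rw [Functor.map_comp, Category.assoc, hj, hg]⟩

/-- The points of a space in a field are indexed by a set in the base universe. -/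
theorem exists_small_points {X : Sp S} (hX : IsAlgSpace X) {k : Type u} [Field k] (σ : Spec (CommRingCat.of k) ⟶ S) :
    ∃ (ι : Type u) (pt : ι → ((yon S).obj (Over.mk σ) ⟶ X)), Function.Surjective pt := by
  obtain ⟨U, p, hp, hs⟩ := hX.atlas
  let K := AlgebraicClosure k
  let r : Over.mk (Spec.map (CommRingCat.ofHom (algebraMap k K)) ≫ σ) ⟶ Over.mk σ :=
    Over.homMk (Spec.map (CommRingCat.ofHom (algebraMap k K))) rfl
  refine ⟨{l : Over.mk (Spec.map (CommRingCat.ofHom (algebraMap k K)) ≫ σ) ⟶ U //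
    ∃ x : (yon S).obj (Over.mk σ) ⟶ X, (yon S).map r ≫ x = (yon S).map l ≫ p}, fun l => l.2.choose, fun x => ?_⟩
  obtain ⟨W, fst, snd, sq⟩ := exists_isPullback_yon hp.1 ((yon S).map r ≫ x)
  haveI : Etale snd.left := hp.2 _ _ _ sq
  haveI : Surjective snd.left := hs.2 _ _ _ sq
  obtain ⟨w, hw⟩ := snd.left.surjective (closedPoint K)
  obtain ⟨ψ, hψ, -⟩ := SepEtale.exists_lift_point (K := K) snd.left (𝟙 _) w hw
  let c : Over.mk (Spec.map (CommRingCat.ofHom (algebraMap k K)) ≫ σ) ⟶ W := Over.homMk ψ (by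
    show ψ ≫ W.hom = _
    rw [← Over.w snd, reassoc_of% hψ])
  have hc : c ≫ snd = 𝟙 _ := Over.OverMorphism.ext hψ
  have h : (yon S).map r ≫ x = (yon S).map (c ≫ fst) ≫ p := by
    rw [Functor.map_comp, Category.assoc, sq.w, ← Functor.map_comp_assoc, hc, CategoryTheory.Functor.map_id,
      Category.id_comp]
  refine ⟨⟨c ≫ fst, x, h⟩, eq_of_field_ext hX r ?_⟩
  have := Exists.choose_spec (⟨x, h⟩ : ∃ y : (yon S).obj (Over.mk σ) ⟶ X, (yon S).map r ≫ y = (yon S).map (c ≫ fst) ≫ p)
  rw [this, h]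

end Groth.Agent.ASp.HenselFamily
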