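import Groth.Agent.ASp.FinFibre
import Groth.Agent.ASp.ClosedPoint
import Groth.Agent.ASp.DecentTop
import Groth.Agent.ASp.Infinitesimal
/-!
Points represented by (quasi-compact) monomorphisms from spectra of fields.
-/

set_option autoImplicit false
set_option backward.isDefEq.respectTransparency false
set_option backward.isDefEq.respectTransparency.types false

universe u

open CategoryTheory CategoryTheory.Limits AlgebraicGeometry Opposite TopologicalSpace Topology

namespace Groth.Agent.ASp

open _root_.AlgSp Groth.Agent.Inf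

variable {S : Scheme.{u}} {X Y : Sp S}

theorem finite_fibre_inter_mono_qc (hX : IsAlgSpace X) (p : FieldPt X) (hp : RepWith @QuasiCompact p.toHom)
    {U : Over S} {a : (yon S).obj U ⟶ X} (ha : RepWith @Etale a) {W : U.left.Opens} (hW : IsAffineOpen W) :
    (Points.ofPt a ⁻¹' {Points.mk p} ∩ W).Finite := by
  let o : Over.mk (W.ι ≫ U.hom) ⟶ U := Over.homMk W.ι rfl
  haveI : IsAffine (Over.mk (W.ι ≫ U.hom)).left := hW
  have hφ : RepWith @Etale ((yon S).map o ≫ a) :=
    repWith_comp (repWith_yon_map (P := @Etale) (g := o) (inferInstanceAs (Etale W.ι))) ha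
  obtain ⟨R, t, s, sq⟩ := exists_isPullback_yon (hX.representable_from_yon ((yon S).map o ≫ a)) ((yon S).map o ≫ a)
  refine ((finite_fibres_of_mono_qc hX p hp hφ sq).1.image o.left).subset ?_
  rintro w ⟨hw, hwW⟩
  refine ⟨⟨w, hwW⟩, ?_, rfl⟩
  show Points.ofPt _ _ = _
  rw [ofPt_yon_map_comp]
  exact hw

/-- Specialisations towards a chart point lift when the generic one has a mono quasi-compact representative. -/
theorem exists_specializes_lift_mono_qc (hX : IsAlgSpace X) (p : FieldPt X)
    (hp : RepWith @QuasiCompact p.toHom) {U : Over S} {a : (yon S).obj U ⟶ X} (ha : RepWith @Etale a)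
    {u : ↥U.left} (hy : Points.mk p ⤳ Points.ofPt a u) :
    ∃ u' : ↥U.left, u' ⤳ u ∧ Points.ofPt a u' = Points.mk p := by
  obtain ⟨W, hW, huW, -⟩ := exists_isAffineOpen_mem_and_subset (x := u) (U := (⊤ : U.left.Opens)) (by simp)
  let F : Set ↥U.left := Points.ofPt a ⁻¹' {Points.mk p} ∩ W
  have hF : F.Finite := finite_fibre_inter_mono_qc hX p hp ha hW
  suffices u ∈ closure F by
    rw [← Set.biUnion_of_singleton F, hF.closure_biUnion] at this
    obtain ⟨w, hw, hwu⟩ := Set.mem_iUnion₂.1 this
    exact ⟨w, specializes_iff_mem_closure.2 hwu, hw.1⟩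
  rw [mem_closure_iff]
  intro O hO huO
  obtain ⟨w, hw, hwy⟩ := hy.mem_open (isOpenMap_ofPt_of_etale ha _ (hO.inter W.isOpen)) ⟨u, ⟨huO, huW⟩, rfl⟩
  exact ⟨w, hw.1, hwy, hw.2⟩

/-- Generalisations lift along flat morphisms, towards points with mono quasi-compact representatives. -/
theorem exists_specializes_lift_flat (hX : IsAlgSpace X) (hY : IsAlgSpace Y) (f : Y ⟶ X) (hf : LocP @Flat f)
    (p : FieldPt X) (hp : RepWith @QuasiCompact p.toHom) (y : Points Y)
    (hy : Points.mk p ⤳ Points.map f y) : ∃ y', y' ⤳ y ∧ Points.map f y' = Points.mk p := by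
  obtain ⟨V, U, b, a, h, hb, hbs, ha, -, e⟩ := exists_chart (f := f) hY hX
  obtain ⟨v, rfl⟩ := surjective_ofPt hbs y
  have he : ∀ v, Points.map f (Points.ofPt b v) = Points.ofPt a (h.left v) := fun v => by
    rw [Points.map_ofPt, e, ofPt_yon_map_comp]
  rw [he] at hy
  obtain ⟨u', hu', hu'x⟩ := exists_specializes_lift_mono_qc hX p hp ha hy
  haveI : Flat h.left := hf b a h hb ha e
  obtain ⟨v', hv', rfl⟩ := Flat.generalizingMap h.left hu'
  exact ⟨Points.ofPt b v', hv'.map (Points.continuous_ofPt b), by rw [he, hu'x]⟩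

/-- A monomorphism is injective on points. -/
theorem injective_points_map_of_mono {F G : Sp S} (f : F ⟶ G) [Mono f] : Function.Injective (Points.map f) := by
  intro x y h
  obtain ⟨z, rfl, rfl⟩ := points_exists_of_isPullback (IsKernelPair.id_of_mono f) x y h
  rfl

/-- The fibre of a chart over a mono quasi-compact point is a preimmersion into the chart. -/
theorem isPreimmersion_of_mono_qc (hX : IsAlgSpace X) (p : FieldPt X) [Mono p.toHom]
    (hp : RepWith @QuasiCompact p.toHom) {A : Over S} {a : (yon S).obj A ⟶ X} (hae : RepWith @Etale a)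
    {E : Over S} {s : E ⟶ p.pt} {c : E ⟶ A} (sq : IsPullback ((yon S).map s) ((yon S).map c) p.toHom a) :
    IsPreimmersion c.left := by
  haveI : Etale s.left := hae.2 _ _ _ sq.flip
  haveI : Mono c := (yon S).mono_of_mono_map (⟨fun u v e =>
    sq.hom_ext ((cancel_mono p.toHom).1 (by simp [sq.w, reassoc_of% e])) e⟩ : Mono ((yon S).map c))
  haveI : Mono c.left := Over.mono_left_of_mono c
  have hE : ∀ e : ↥E.left, IsField ↥(E.left.presheaf.stalk e) := fun e =>
    isField_stalk_of_etale_field (K := p.K) s.left e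
  haveI : SurjectiveOnStalks c.left := surjectiveOnStalks_of_mono c.left hE
  have hrange : ∀ e, Points.ofPt a (c.left e) = Points.mk p := fun e => by
    rw [← ofPt_yon_map_comp, ← sq.w, ofPt_yon_map_comp]
    haveI : Subsingleton ↥p.pt.left := inferInstanceAs (Subsingleton ↥(Spec (CommRingCat.of p.K)))
    rw [Subsingleton.elim (s.left e) (IsLocalRing.closedPoint p.K), Points.ofPt_toHom]
  refine ⟨⟨⟨?_⟩, c.left.injective⟩⟩
  refine le_antisymm (continuous_iff_le_induced.1 c.left.continuous) ?_
  intro Z hZ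
  have hsing : ∀ e : ↥E.left, ∃ O : Set ↥A.left, IsOpen O ∧ c.left e ∈ O ∧ ∀ e', c.left e' ∈ O → e' = e := by
    intro e
    obtain ⟨W, hW, heW, -⟩ :=
      exists_isAffineOpen_mem_and_subset (x := c.left e) (U := (⊤ : A.left.Opens)) (by simp)
    let F : Set ↥A.left := Points.ofPt a ⁻¹' {Points.mk p} ∩ W
    have hF : F.Finite := finite_fibre_inter_mono_qc hX p hp hae hW
    have hfin : ∀ W' : A.left.Opens, IsAffineOpen W' →
        ∀ w, Points.ofPt a w = Points.mk p → (Points.ofPt a ⁻¹' {Points.ofPt a w} ∩ W').Finite := fun W' hW' w hw => by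
      rw [hw]; exact finite_fibre_inter_mono_qc hX p hp hae hW'
    refine ⟨(W : Set ↥A.left) ∩ (closure (⋃ w ∈ {w ∈ F | ¬ c.left e ⤳ w}, {w}))ᶜ,
      W.isOpen.inter isClosed_closure.isOpen_compl, ⟨heW, ?_⟩, ?_⟩
    · show c.left e ∉ closure _
      rw [(hF.subset fun w hw => hw.1).closure_biUnion]
      intro hmem
      obtain ⟨w, ⟨hwF, hwn⟩, hw⟩ := Set.mem_iUnion₂.1 hmem
      have heq := eq_of_specializes_of_finite hae (fun W' hW' => hfin W' hW' _ (hrange e))
        ((hrange e).trans (Set.mem_singleton_iff.1 hwF.1).symm) (specializes_iff_mem_closure.2 hw)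
      exact hwn (heq ▸ specializes_rfl)
    · rintro e' ⟨he'W, he'⟩
      apply c.left.injective
      by_contra hne
      refine he' (subset_closure (Set.mem_iUnion₂.2 ⟨c.left e', ⟨⟨hrange e', he'W⟩, fun hs => hne ?_⟩, rfl⟩))
      exact eq_of_specializes_of_finite hae (fun W' hW' => hfin W' hW' _ (hrange e'))
        ((hrange e').trans (hrange e).symm) hs
  choose O hO hOe hOu using hsing
  refine isOpen_induced_iff.2 ⟨⋃ e ∈ Z, O e, isOpen_biUnion fun e _ => hO e, Set.ext fun e' => ?_⟩
  simp only [Set.mem_preimage, Set.mem_iUnion]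
  exact ⟨fun ⟨e, he, h⟩ => hOu e e' h ▸ he, fun he => ⟨e', he, hOe e'⟩⟩

/-- The points of the fibre over a mono quasi-compact point form the fibre. -/
theorem isEmbedding_fibre_mono_qc (hX : IsAlgSpace X) (hY : IsAlgSpace Y) (f : X ⟶ Y) (r : FieldPt Y)
    [Mono r.toHom] (hr : RepWith @QuasiCompact r.toHom) {F : Sp S} (hF : IsAlgSpace F) {fst : F ⟶ X}
    {snd : F ⟶ (yon S).obj r.pt} (sq : IsPullback fst snd f r.toHom) :
    IsEmbedding (Points.map fst) ∧ Set.range (Points.map fst) = Points.map f ⁻¹' {Points.mk r} := by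
  haveI : Mono fst := ⟨fun u v e => sq.hom_ext e ((cancel_mono r.toHom).1 (by
    rw [Category.assoc, Category.assoc, ← sq.w, reassoc_of% e]))⟩
  haveI : Subsingleton ↥r.pt.left := inferInstanceAs (Subsingleton ↥(Spec (CommRingCat.of r.K)))
  refine ⟨⟨⟨?_⟩, injective_points_map_of_mono fst⟩, ?_⟩
  · refine le_antisymm (continuous_iff_le_induced.1 (Points.continuous_map fst)) fun O hO => ?_
    obtain ⟨U, V, a, b, h, ha, has, hb, -, e⟩ := exists_chart (f := f) hX hY
    obtain ⟨E, s, c, sqE⟩ := exists_isPullback_yon (hY.representable_from_yon r.toHom) b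
    haveI : IsPreimmersion c.left := isPreimmersion_of_mono_qc hY r hr hb sqE
    have hp := isPullback_yon_map (IsPullback.of_hasPullback h c)
    haveI : IsPreimmersion (pullback.fst h c).left :=
      MorphismProperty.of_isPullback (P := @IsPreimmersion) (isPullback_left (IsPullback.of_hasPullback h c)).flip
        inferInstance
    obtain ⟨l, hl1, hl2⟩ : ∃ l, l ≫ fst = (yon S).map (pullback.fst h c) ≫ a ∧
        l ≫ snd = (yon S).map (pullback.snd h c) ≫ (yon S).map s :=
      ⟨sq.lift _ _ (by rw [Category.assoc, e, reassoc_of% hp.w, ← sqE.w, Category.assoc]),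
        sq.lift_fst _ _ _, sq.lift_snd _ _ _⟩
    have hl : IsPullback l ((yon S).map (pullback.fst h c)) fst a := by
      refine (IsPullback.of_bot (h₃₁ := r.toHom) (v₂₁ := snd) (v₂₂ := f) (h₂₁ := fst) ?_ hl1.symm sq).flip
      rw [hl2, e]
      exact hp.paste_vert sqE.flip
    obtain ⟨W, hW, hWeq⟩ := (pullback.fst h c).left.isEmbedding.isInducing.isOpen_iff.1
      (hO.preimage (Points.continuous_ofPt l))
    refine isOpen_induced_iff.2 ⟨Points.ofPt a '' W, isOpenMap_ofPt_of_etale ha W hW, Set.ext fun z => ?_⟩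
    constructor
    · rintro ⟨w, hw, hwz⟩
      obtain ⟨y, hy1, hy2⟩ := points_exists_of_isPullback hl z (Points.ofScheme U w)
        (by rw [← Points.ofPt_eq_map_ofScheme]; exact hwz.symm)
      obtain ⟨y, rfl⟩ := (Points.schemeHomeo (pullback h c)).surjective y
      rw [Points.map_yon_map_apply] at hy2
      rw [← hy1]
      show Points.map l (Points.ofScheme _ y) ∈ O
      rw [← Points.ofPt_eq_map_ofScheme]
      refine (Set.ext_iff.1 hWeq y).1 ?_
      show (pullback.fst h c).left y ∈ W
      rw [(Points.schemeHomeo U).injective hy2]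
      exact hw
    · intro hz
      obtain ⟨w, hw⟩ := surjective_ofPt has (Points.map fst z)
      obtain ⟨y, hy1, hy2⟩ := points_exists_of_isPullback hl z (Points.ofScheme U w)
        (by rw [← Points.ofPt_eq_map_ofScheme]; exact hw.symm)
      obtain ⟨y, rfl⟩ := (Points.schemeHomeo (pullback h c)).surjective y
      rw [Points.map_yon_map_apply] at hy2
      refine ⟨w, ?_, hw⟩
      rw [← (Points.schemeHomeo U).injective hy2]
      refine (Set.ext_iff.1 hWeq y).2 ?_
      show Points.ofPt l y ∈ O
      rw [Points.ofPt_eq_map_ofScheme]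
      exact hy1.symm ▸ hz
  · ext x
    constructor
    · rintro ⟨z, rfl⟩
      obtain ⟨q, hq⟩ := (Points.schemeHomeo r.pt).surjective (Points.map snd z)
      show Points.map f (Points.map fst z) = Points.mk r
      rw [← Points.map_comp, sq.w, Points.map_comp, ← hq]
      change Points.map r.toHom (Points.ofScheme r.pt q) = _
      rw [← Points.ofPt_eq_map_ofScheme, Points.ofPt_toHom]
    · intro hx
      obtain ⟨z, hz, -⟩ := points_exists_of_isPullback sq x (Points.ofScheme r.pt (IsLocalRing.closedPoint r.K))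
        (by rw [← Points.ofPt_eq_map_ofScheme, Points.ofPt_toHom]; exact hx)
      exact ⟨z, hz⟩

end Groth.Agent.ASp
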