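import Groth.Agent.ASp.ProperQf
import Groth.Agent.ASp.SchImageGen
import Groth.Agent.ASp.MorCancel
import Groth.Agent.ASp.QcMonoPoint
import Groth.Agent.ASp.DiscFibre
import Groth.Agent.ASp.GenFinite
import Groth.Agent.ASp.LargestOpen
/-!
Near a point over which the image of a proper family is finite, the image is finite over the base.
-/

set_option autoImplicit false
set_option backward.isDefEq.respectTransparency false
set_option linter.style.haveILetI false

universe u

open CategoryTheory CategoryTheory.Limits AlgebraicGeometry Opposite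

namespace Groth.Agent.ASp

open _root_.AlgSp

variable {S : Scheme.{u}}

/-- A separated space of finite type over a field with finitely many points is discrete. -/
theorem discreteTopology_of_finite_proper {P : Sp S} (hP : IsAlgSpace P) {T : Over S} [IsAffine T.left]
    [Subsingleton ↥T.left] {K : Type u} [Field K] (eT : T.left ⟶ Spec (CommRingCat.of K)) [IsIso eT]
    (π : P ⟶ (yon S).obj T) (hπ : IsSeparatedMor π) (hlft : LocP @LocallyOfFiniteType π)
    (hqc : IsQuasiCompactMor π) [Finite (Points P)] : DiscreteTopology (Points P) := by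
  obtain ⟨E, ε, hε, hεs, hE⟩ := hqc (IsAlgSpace.yon_obj T) isQuasiCompactSp_yon (𝟙 _) (𝟙 _) π
    (IsPullback.of_horiz_isIso ⟨by simp⟩)
  haveI : CompactSpace ↥E.left := hE
  obtain ⟨c, hc⟩ := (yon S).map_surjective (ε ≫ π)
  haveI : LocallyOfFiniteType c.left :=
    hlft ε (𝟙 _) c hε (repWith_id _ T) (by rw [Category.comp_id]; exact hc.symm)
  haveI : QuasiCompact c.left := (quasiCompact_iff_compactSpace c.left).2 inferInstance
  have hεq : IsQuasiCompactMor ε := quasiCompact_of_comp_separated (IsAlgSpace.yon_obj E) hP (IsAlgSpace.yon_obj T) ε π hπ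
    (hc ▸ isQuasiCompactMor_of_repWith (repWith_yon_map (inferInstance : QuasiCompact c.left)))
  haveI : Finite ↥E.left := by
    have hfib : ∀ x : Points P, (Points.ofPt ε ⁻¹' {x}).Finite := fun x => by
      obtain ⟨q, rfl⟩ := Points.mk_surjective x
      have sq := hε.1.isPullback q.toHom
      let R := hε.1.pullback q.toHom
      obtain ⟨ζ, hζ⟩ := (yon S).map_surjective (hε.1.fst q.toHom)
      rw [← hζ] at sq
      haveI : Etale (hε.1.snd q.toHom).left := hε.2 _ _ _ sq
      haveI := Groth.Agent.Unibranch.locallyQuasiFinite_of_etale (hε.1.snd q.toHom).left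
      haveI : QuasiCompact (hε.1.snd q.toHom).left := ((repWith_quasiCompact_iff hε.1).2 hεq).2 _ _ _ sq
      refine (((hε.1.snd q.toHom).left.finite_preimage_singleton (IsLocalRing.closedPoint q.K)).image ζ.left).subset
        fun z hz => ?_
      obtain ⟨r, hr, -⟩ := points_exists_of_isPullback sq (Points.ofScheme E z)
        (Points.ofScheme q.pt (IsLocalRing.closedPoint q.K))
        (by rw [← Points.ofPt_eq_map_ofScheme, ← Points.ofPt_eq_map_ofScheme, Points.ofPt_toHom]; exact hz)
      obtain ⟨r, rfl⟩ := (Points.schemeHomeo _).surjective r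
      rw [Points.map_yon_map_apply] at hr
      exact ⟨r, @Subsingleton.elim _ (inferInstanceAs (Subsingleton ↥(Spec (CommRingCat.of q.K)))) _ _,
        (Points.schemeHomeo E).injective hr⟩
    exact Set.finite_univ_iff.1 ((Set.finite_univ.biUnion fun x _ => hfib x).subset fun z _ =>
      Set.mem_biUnion (Set.mem_univ (Points.ofPt ε z)) rfl)
  haveI : LocallyOfFiniteType (c.left ≫ eT) := inferInstance
  haveI : JacobsonSpace ↥E.left := LocallyOfFiniteType.jacobsonSpace (c.left ≫ eT)
  refine discreteTopology_iff_isOpen_singleton.2 fun x => ?_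
  obtain ⟨w, rfl⟩ := surjective_ofPt hεs x
  have := isOpenMap_ofPt_of_etale hε _ (isOpen_discrete ({w} : Set ↥E.left))
  rwa [Set.image_singleton] at this

/-- A proper space with a finite fibre over a field point is quasi-finite over its class. -/
theorem qf_of_finite_fibre {Z B : Space S} {π : Z ⟶ B} (hπ : IsProperMor π.hom) (k : FieldPt B.obj) {Zk : Space S}
    {fst : Zk.obj ⟶ Z.obj} {snd : Zk.obj ⟶ (yon S).obj k.pt} (sq : IsPullback fst snd π.hom k.toHom)
    [Finite (Points Zk.obj)] (z : Points Z.obj) (hz : Points.map π.hom z = Points.mk k) : IsQfNbhd π.hom z := by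
  haveI : IsAffine k.pt.left := inferInstanceAs (IsAffine (Spec (CommRingCat.of k.K)))
  haveI : Subsingleton ↥k.pt.left := inferInstanceAs (Subsingleton ↥(Spec (CommRingCat.of k.K)))
  have hlft := locP_of_isPullback sq.flip Z.2 B.2 (IsAlgSpace.yon_obj k.pt) hπ.2.1.1
  have hp := proper_baseChange Z.2 B.2 (IsAlgSpace.yon_obj k.pt) sq hπ
  haveI : IsIso (show k.pt.left ⟶ Spec (CommRingCat.of k.K) from 𝟙 k.pt.left) := IsIso.id k.pt.left
  haveI := discreteTopology_of_finite_proper Zk.2 (T := k.pt) (K := k.K) (show k.pt.left ⟶ Spec (CommRingCat.of k.K) from 𝟙 k.pt.left) snd hp.1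
    hlft hp.2.1.2
  obtain ⟨z', hz', -⟩ := points_exists_of_isPullback sq z (Points.ofScheme k.pt (IsLocalRing.closedPoint k.K))
    (by rw [hz, ← Points.ofPt_eq_map_ofScheme, Points.ofPt_toHom])
  let kS : Space S := ⟨(yon S).obj k.pt, IsAlgSpace.yon_obj k.pt⟩
  rw [← hz']
  refine (isQfNbhd_baseChange_iff hπ.2.1.1 (X' := Zk) (Y' := kS) (g := ObjectProperty.homMk k.toHom)
    (p := ObjectProperty.homMk fst) (f' := ObjectProperty.homMk snd) sq z').1 ?_
  obtain ⟨U, V, a, b, h, ha, has, hb, -, e⟩ :=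
    Groth.Agent.Inf.exists_chart (f := snd) Zk.2 (IsAlgSpace.yon_obj k.pt)
  haveI : LocallyOfFiniteType h.left := hlft a b h ha hb e
  haveI := hb.2 _ _ _ (IsPullback.of_horiz_isIso (f := b) (g := 𝟙 ((yon S).obj k.pt)) (fst := 𝟙 ((yon S).obj V))
    (snd := (yon S).map ((yon S).preimage b)) ⟨by simp⟩)
  obtain ⟨u, rfl⟩ := surjective_ofPt has z'
  refine (isQfNbhd_iff_of_chart (X := Zk) (Y := kS) (f := ObjectProperty.homMk snd) hlft ha hb e u).2 ?_
  obtain ⟨c, hc⟩ := (yon S).map_surjective (a ≫ snd)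
  haveI : LocallyOfFiniteType c.left :=
    hlft a (𝟙 _) c ha (repWith_id _ k.pt) (by rw [Category.comp_id]; exact hc.symm)
  haveI : LocallyOfFiniteType (c.left : U.left ⟶ Spec (CommRingCat.of k.K)) := ‹_›
  haveI : DiscreteTopology ↥U.left := discreteTopology_of_chart ha (k := k.K) c.left
  exact Scheme.Hom.quasiFiniteAt_iff_isOpen_singleton_asFiber.2 (by
    haveI : DiscreteTopology ↥(h.left.fiber (h.left u)) :=
      DiscreteTopology.of_continuous_injective (h.left.fiberι _).continuous (h.left.fiberι _).isEmbedding.injective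
    exact isOpen_discrete _)

theorem exists_nhd_finite_image {X Y B : Space S} (h : X ⟶ Y) (f : X ⟶ B) (g : Y ⟶ B) (hc : h ≫ g = f)
    (b : Points B.obj) (k : FieldPt B.obj) (hk : Points.mk k = b)
    (hf : IsProperMor f.hom) (hg1 : IsSeparatedMor g.hom) (hg2 : LocP @LocallyOfFiniteType g.hom)
    (h3 : (∀ (Yk : Sp S) (gY : Yk ⟶ Y.obj) (sY : Yk ⟶ (yon S).obj k.pt), IsPullback gY sY g.hom k.toHom →
            ∀ (Xk : Sp S) (gX : Xk ⟶ X.obj) (hk' : Xk ⟶ Yk), IsPullback gX hk' h.hom gY →
              (Set.range (Points.map hk')).Finite) ∨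
          ((Points.map h.hom '' (Points.map f.hom ⁻¹' {b})).Finite ∧ IsDecent B.obj)) :
    ∃ (B' : Space S) (j : B' ⟶ B), RepWith @IsOpenImmersion j.hom ∧ b ∈ Set.range (Points.map j.hom) ∧
        ∀ (YB : Space S) (gY : YB ⟶ Y) (sY : YB ⟶ B'), IsPullback gY.hom sY.hom g.hom j.hom →
          ∀ (XB : Space S) (gX : XB ⟶ X) (hB : XB ⟶ YB), IsPullback gX.hom hB.hom h.hom gY.hom →
            ∃ (Z : Space S) (i : Z ⟶ YB) (e : XB ⟶ Z), RepWith @IsClosedImmersion i.hom ∧
              IsFiniteMor (i ≫ sY).hom ∧ e ≫ i = hB := by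
  have hcc : h.hom ≫ g.hom = f.hom := congrArg (·.hom) hc
  have hp : IsProperMor (h.hom ≫ g.hom) := hcc.symm ▸ hf
  have hu := univClosed_of_comp_separated X.2 Y.2 B.2 h.hom g.hom hg1 hp.2.2
  have hq := quasiCompact_of_comp_separated X.2 Y.2 B.2 h.hom g.hom hg1 hp.2.1.2
  obtain ⟨Z₀, hZ₀, i₀, hi₀⟩ := exists_schImage X.2 Y.2 h.hom
  obtain ⟨hci, ⟨e₀, he₀⟩, -⟩ := id hi₀
  haveI : Mono i₀ := mono_of_repWith (fun _ (hm : IsClosedImmersion _) => inferInstance) hci
  have hsurj : Function.Surjective (Points.map e₀) := fun z => by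
    have hz := range_subset_closure_of_isSchImage X.2 Y.2 hZ₀ hq hi₀ ⟨z, rfl⟩
    rw [(univClosed_closed Y.2 hu).isClosed_range.closure_eq] at hz
    obtain ⟨x, hx⟩ := hz
    exact ⟨x, injective_points_map_of_mono i₀ (by rw [← Points.map_comp, he₀, hx])⟩
  have hp' : IsProperMor (e₀ ≫ i₀ ≫ g.hom) := by rw [reassoc_of% he₀]; exact hp
  let ZS : Space S := ⟨Z₀, hZ₀⟩
  let π : ZS ⟶ B := ObjectProperty.homMk (i₀ ≫ g.hom)
  have hπ : IsProperMor π.hom := ⟨Groth.Agent.ASt.repWith_diagonal_comp (repWith_le_separated hci) hg1,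
    ⟨locP_comp Y.2 (repWith_le_lft hci) hg2, quasiCompact_of_comp_surjective hZ₀ B.2 e₀ _ hp'.2.1.2 hsurj⟩,
    univClosed_of_comp_surjective e₀ _ hp'.2.2 hsurj⟩
  have hqf : ∀ z, Points.map π.hom z = b → IsQfNbhd π.hom z := by
    intro z hz
    rcases h3 with h3 | ⟨hfin, hdec⟩
    · have sY := IsPullback.of_hasPullback g.hom k.toHom
      have sZ := IsPullback.of_hasPullback i₀ (pullback.fst g.hom k.toHom)
      have sX := IsPullback.of_hasPullback h.hom (pullback.fst g.hom k.toHom)
      let Zk : Space S := ⟨pullback i₀ (pullback.fst g.hom k.toHom),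
        isAlgSpace_of_isPullback B.2.diag hZ₀ (IsAlgSpace.yon_obj k.pt) (sZ.paste_vert sY)⟩
      haveI : Mono (pullback.snd i₀ (pullback.fst g.hom k.toHom)) := inferInstance
      haveI : Finite (Points Zk.obj) := by
        let l := sZ.lift (pullback.fst h.hom (pullback.fst g.hom k.toHom) ≫ e₀)
          (pullback.snd h.hom (pullback.fst g.hom k.toHom)) (by rw [Category.assoc, he₀, sX.w])
        have hls : Function.Surjective (Points.map l) := surjective_map_of_isPullback
          (f := e₀) (IsPullback.of_bot (v₂₁ := pullback.snd i₀ _) (by rw [sZ.lift_snd, he₀]; exact sX)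
            (sZ.lift_fst _ _ _).symm sZ) hsurj
        haveI := (h3 _ _ _ sY _ _ _ sX).to_subtype
        refine Finite.of_injective (fun z' => (⟨Points.map (pullback.snd i₀ _) z', ?_⟩ :
          ↥(Set.range (Points.map (pullback.snd h.hom (pullback.fst g.hom k.toHom)))))) fun z₁ z₂ e =>
          injective_points_map_of_mono (pullback.snd i₀ (pullback.fst g.hom k.toHom)) (congrArg Subtype.val e)
        obtain ⟨x, rfl⟩ := hls z'
        exact ⟨x, by rw [← Points.map_comp, sZ.lift_snd]⟩
      exact qf_of_finite_fibre hπ k (Zk := Zk) (sZ.paste_vert sY) z (hz.trans hk.symm)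
    · obtain ⟨p, hpb, hmono, -⟩ := hdec b
      haveI := hmono
      have sZ := IsPullback.of_hasPullback π.hom p.toHom
      let Zk : Space S := ⟨pullback π.hom p.toHom, isAlgSpace_of_isPullback B.2.diag hZ₀ (IsAlgSpace.yon_obj p.pt) sZ⟩
      haveI : Finite (Points Zk.obj) := by
        haveI := hfin.to_subtype
        refine Finite.of_injective (fun z' => (⟨Points.map (pullback.fst π.hom p.toHom ≫ i₀) z', ?_⟩ :
          ↥(Points.map h.hom '' (Points.map f.hom ⁻¹' {b})))) fun z₁ z₂ e =>
          injective_points_map_of_mono (pullback.fst π.hom p.toHom ≫ i₀) (congrArg Subtype.val e)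
        obtain ⟨x, hx⟩ := hsurj (Points.map (pullback.fst π.hom p.toHom) z')
        refine ⟨x, ?_, by rw [← he₀, Points.map_comp, hx, Points.map_comp]⟩
        show Points.map f.hom x = b
        rw [← hcc, ← he₀, Category.assoc, Points.map_comp, hx, ← Points.map_comp]
        show Points.map (pullback.fst π.hom p.toHom ≫ π.hom) z' = b
        rw [sZ.w, Points.map_comp, ← hpb, ← Points.ofPt_toHom p (IsLocalRing.closedPoint p.K),
          Points.ofPt_eq_map_ofScheme]
        obtain ⟨t, ht⟩ := (Points.schemeHomeo p.pt).surjective (Points.map (pullback.snd π.hom p.toHom) z')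
        haveI : Subsingleton ↥p.pt.left := inferInstanceAs (Subsingleton ↥(Spec (CommRingCat.of p.K)))
        rw [← ht, Subsingleton.elim t]
        rfl
      exact qf_of_finite_fibre hπ p (Zk := Zk) sZ z (hz.trans hpb.symm)
  obtain ⟨B', j, hj, hjb, hfinite⟩ := exists_finite_nhd_of_proper_qf π b hπ hqf
  refine ⟨B', j, hj, hjb, fun YB gY sY hY XB gX hB hX => ?_⟩
  have sZ := IsPullback.of_hasPullback i₀ gY.hom
  let Z : Space S := ⟨pullback i₀ gY.hom, isAlgSpace_of_isPullback Y.2.diag hZ₀ YB.2 sZ⟩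
  let i : Z ⟶ YB := ObjectProperty.homMk (pullback.snd i₀ gY.hom)
  refine ⟨Z, i, ObjectProperty.homMk (sZ.lift (gX.hom ≫ e₀) hB.hom (by rw [Category.assoc, he₀]; exact hX.w)),
    repWith_of_isPullback sZ hci, hfinite Z (ObjectProperty.homMk (pullback.fst i₀ gY.hom)) (i ≫ sY)
      (sZ.paste_vert hY), ObjectProperty.hom_ext _ (sZ.lift_snd _ _ _)⟩

end Groth.Agent.ASp
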