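import Groth.Agent.ASp.SchDesc
/-!
Quasi-affine morphisms: descent and representability.
-/

set_option backward.isDefEq.respectTransparency.types false

universe u

open CategoryTheory CategoryTheory.Limits AlgebraicGeometry Opposite

namespace Groth.Agent.ASp

open _root_.AlgSp

variable {S : Scheme.{u}}

theorem isQuasiAffineMor_of_fpqc {ι : Type u} {X Y : Sp S} {f : X ⟶ Y} {Yi Xi : ι → Sp S} {g : ∀ i, Yi i ⟶ Y}
    {p : ∀ i, Xi i ⟶ Yi i} {q : ∀ i, Xi i ⟶ X} (hX : IsAlgSpace X) (hY : IsAlgSpace Y)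
    (hsq : ∀ i, IsPullback (q i) (p i) f (g i)) (hτ : IsFpqcCover Yi g)
    (h : ∀ i, IsQuasiAffineMor (p i)) : IsQuasiAffineMor f := by
  intro Z hZ g₀
  have : IsAffine Z.left := hZ
  obtain ⟨m, W, c, hWa, hcf, hcs, hl⟩ := hτ.2 Z hZ g₀
  obtain ⟨XT, a, x, hXT⟩ : ∃ (XT : Sp S) (a : XT ⟶ X) (x : XT ⟶ (yon S).obj Z),
      IsPullback a x f g₀ := ⟨_, _, _, IsPullback.of_hasPullback _ _⟩
  have key : ∀ j : Fin m, ∃ (V : Over S) (v : V ⟶ W j) (fst : (yon S).obj V ⟶ XT), V.left.IsQuasiAffine ∧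
      IsPullback fst ((yon S).map v) x ((yon S).map (c j)) := by
    intro j
    obtain ⟨i, l, hl⟩ := hl j
    obtain ⟨V, v, fst, hV, hVa⟩ := h i (hWa j) l
    have hbig : IsPullback (fst ≫ q i) ((yon S).map v) f ((yon S).map (c j) ≫ g₀) := by
      have h1 := hV.paste_horiz (hsq i)
      rwa [hl] at h1
    refine ⟨V, v, hXT.lift (fst ≫ q i) ((yon S).map v ≫ (yon S).map (c j)) (by rw [hbig.w, Category.assoc]),
      hVa, IsPullback.of_right ?_ (hXT.lift_snd _ _ _) hXT⟩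
    rw [hXT.lift_fst]
    exact hbig
  choose V v fst hVa sqV using key
  obtain ⟨P, hP, ⟨φ⟩⟩ := exists_quasiAffine_of_flatCover W c hWa hcf hcs
    (isAlgSpace_of_isPullback hY.diag hX (IsAlgSpace.yon_obj _) hXT) x V hVa fst v sqV
  obtain ⟨i₀, hi₀⟩ := (yon S).map_surjective (φ.hom ≫ x)
  refine ⟨P, i₀, φ.hom ≫ a, ?_, hP⟩
  rw [hi₀]
  exact IsPullback.of_iso hXT φ.symm (Iso.refl _) (Iso.refl _) (Iso.refl _) (by simp) (by simp) (by simp) (by simp)

theorem isQuasiAffineMor_baseChange {X Y X' Y' : Sp S} {f : X ⟶ Y} {g : Y' ⟶ Y} {q : X' ⟶ X} {p : X' ⟶ Y'}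
    (sq : IsPullback q p f g) (h : IsQuasiAffineMor f) : IsQuasiAffineMor p := by
  intro Z hZ g₀
  obtain ⟨W, i, fst, hW, hWa⟩ := h hZ (g₀ ≫ g)
  refine ⟨W, i, sq.lift fst ((yon S).map i ≫ g₀) (by rw [hW.w, Category.assoc]),
    IsPullback.of_right ?_ (sq.lift_snd _ _ _) sq, hWa⟩
  rw [sq.lift_fst]
  exact hW

/-- A morphism is representable as soon as its base changes to affine schemes are schemes. -/
theorem representable_of_affine {X Y : Sp S} {f : X ⟶ Y} (hX : IsAlgSpace X) (hY : IsAlgSpace Y)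
    (h : ∀ ⦃Z : Over S⦄, IsAffine Z.left → ∀ g : (yon S).obj Z ⟶ Y, ∃ (W : Over S) (i : W ⟶ Z)
      (fst : (yon S).obj W ⟶ X), IsPullback fst ((yon S).map i) f g) : Representable f := by
  intro T g
  obtain ⟨XT, a, x, hXT⟩ : ∃ (XT : Sp S) (a : XT ⟶ X) (x : XT ⟶ (yon S).obj T),
      IsPullback a x f g := ⟨_, _, _, IsPullback.of_hasPullback _ _⟩
  let Z : T.left.affineOpens → Over S := fun U => Over.mk (U.1.ι ≫ T.hom)
  let z : ∀ U, Z U ⟶ T := fun U => Over.homMk U.1.ι rfl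
  have key : ∀ U : T.left.affineOpens, ∃ (W : Over S) (i : W ⟶ Z U) (fst : (yon S).obj W ⟶ XT),
      IsPullback fst ((yon S).map i) x ((yon S).map (z U)) := fun U => by
    obtain ⟨W, i, fst, hW⟩ := h (Z := Z U) U.2 ((yon S).map (z U) ≫ g)
    refine ⟨W, i, hXT.lift fst ((yon S).map i ≫ (yon S).map (z U)) (by rw [hW.w, Category.assoc]),
      IsPullback.of_right ?_ (hXT.lift_snd _ _ _) hXT⟩
    rw [hXT.lift_fst]
    exact hW
  choose W i fst hW using key
  have hz : ∀ U, RepWith @IsOpenImmersion ((yon S).map (z U)) := fun U =>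
    repWith_yon_map (inferInstanceAs (IsOpenImmersion U.1.ι))
  obtain ⟨P, ⟨φ⟩⟩ := exists_scheme_of_openCover (isAlgSpace_of_isPullback hY.diag hX (IsAlgSpace.yon_obj T) hXT)
    W fst (fun U => repWith_of_isPullback (hW U).flip (hz U)) (fun y => by
      obtain ⟨t, ht⟩ := (Points.schemeHomeo T).surjective (Points.map x y)
      obtain ⟨U, hU, htU, -⟩ := exists_isAffineOpen_mem_and_subset (x := t) (U := (⊤ : T.left.Opens)) (by simp)
      obtain ⟨w, hw, -⟩ := points_exists_of_isPullback (hW ⟨U, hU⟩) y (Points.schemeHomeo (Z ⟨U, hU⟩) ⟨t, htU⟩)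
        (by rw [Points.map_yon_map_apply]; exact ht.symm)
      exact ⟨⟨U, hU⟩, w, hw⟩)
  obtain ⟨i₀, hi₀⟩ := (yon S).map_surjective (φ.hom ≫ x)
  refine ⟨P, i₀, φ.hom ≫ a, ?_⟩
  rw [hi₀]
  exact IsPullback.of_iso hXT φ.symm (Iso.refl _) (Iso.refl _) (Iso.refl _) (by simp) (by simp) (by simp) (by simp)

theorem representable_of_isQuasiAffineMor {X Y : Sp S} {f : X ⟶ Y} (hX : IsAlgSpace X) (hY : IsAlgSpace Y)
    (h : IsQuasiAffineMor f) : Representable f :=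
  representable_of_affine hX hY fun _ hZ g => by
    obtain ⟨W, i, fst, hW, -⟩ := h hZ g
    exact ⟨W, i, fst, hW⟩

end Groth.Agent.ASp
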