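import Groth.Agent.ASp.ImmDesc
import Groth.Agent.ASp.QAffMor
import Groth.Agent.FlatLocus.ImageClosure
/-!
Quasi-compact immersions descend along fpqc coverings.
-/

set_option autoImplicit false
set_option backward.isDefEq.respectTransparency.types false

universe u

open CategoryTheory CategoryTheory.Limits AlgebraicGeometry Opposite MorphismProperty

namespace Groth.Agent.ASp

open _root_.AlgSp

theorem qcImmersion_descends :
    DescendsAlong (@IsImmersion ⊓ @QuasiCompact)
      (@Surjective ⊓ @Flat ⊓ @QuasiCompact : MorphismProperty Scheme.{u}) := by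
  have := Groth.Agent.FpqcDesc.isClosedImmersion_descends.{u}
  have := Groth.Agent.FpqcDesc.quasiCompact_descends.{u}
  apply DescendsAlong.mk'
  intro Y W X c f _ hc h
  have hcs : Surjective c := hc.1.1
  have hcf : Flat c := hc.1.2
  have hcq : QuasiCompact c := hc.2
  have hf' : IsImmersion (pullback.fst c f) := h.1
  have hq : QuasiCompact f := MorphismProperty.of_pullback_fst_of_descendsAlong (P := @QuasiCompact)
    (Q := @Surjective ⊓ @Flat ⊓ @QuasiCompact) hc h.2
  let U : X.Opens := ⟨coborder (Set.range f), by
    have hrange : Set.range (pullback.fst c f) = c ⁻¹' Set.range f := Scheme.Pullback.range_fst c f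
    have hclos : closure (Set.range (pullback.fst c f)) = c ⁻¹' closure (Set.range f) := by
      rw [hrange]
      refine (c.continuous.closure_preimage_subset _).antisymm fun y hy => ?_
      rw [← Set.image_univ] at hy
      obtain ⟨w, -, hw⟩ := FlatLocus.exists_specializes_of_mem_closure_image f isClosed_univ hy
      obtain ⟨y', hy', hy''⟩ := (Flat.generalizingMap c) hw
      exact hy'.mem_closed isClosed_closure (subset_closure (show c y' ∈ Set.range f from ⟨w, hy''.symm⟩))
    have h1 : IsOpen (c ⁻¹' coborder (Set.range f)) := by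
      have e : c ⁻¹' coborder (Set.range f) = coborder (Set.range (pullback.fst c f)) := by
        rw [coborder, coborder, Set.preimage_compl, Set.preimage_sdiff, ← hclos, hrange]
      rw [e]
      exact (pullback.fst c f).isLocallyClosed_range.isOpen_coborder
    exact (Flat.isQuotientMap_of_surjective c).isOpen_preimage.1 h1⟩
  have hU : Set.range f ⊆ Set.range U.ι := by
    rw [Scheme.Opens.range_ι]; exact subset_coborder
  let g : W ⟶ U.toScheme := IsOpenImmersion.lift U.ι f hU
  have hg : g ≫ U.ι = f := IsOpenImmersion.lift_fac _ _ _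
  let Y' := pullback c U.ι
  let g' : pullback (pullback.snd c U.ι) g ⟶ Y' := pullback.fst _ _
  have sq : IsPullback g' (pullback.snd (pullback.snd c U.ι) g) (pullback.snd c U.ι) g := IsPullback.of_hasPullback _ _
  have sq2 : IsPullback (g' ≫ pullback.fst c U.ι) (pullback.snd (pullback.snd c U.ι) g) c f := by
    rw [← hg]
    exact sq.paste_horiz (IsPullback.of_hasPullback c U.ι) |> fun h => h
  have : IsImmersion (g' ≫ pullback.fst c U.ι) := by
    rw [← sq2.isoPullback_hom_fst]; infer_instance
  have : IsImmersion g' := IsImmersion.of_comp g' (pullback.fst c U.ι)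
  have : IsClosedImmersion g' := by
    refine IsClosedImmersion.of_isPreimmersion g' ?_
    rw [Scheme.Pullback.range_fst]
    refine IsClosed.preimage (pullback.snd c U.ι).continuous ?_
    have e : Set.range g = U.ι ⁻¹' Set.range f := by
      rw [← hg]
      ext y
      constructor
      · rintro ⟨w, rfl⟩; exact ⟨w, rfl⟩
      · rintro ⟨w, hw⟩; exact ⟨w, U.ι.isOpenEmbedding.injective hw⟩
    rw [e]
    exact isClosed_preimage_val_coborder
  have hQ : (@Surjective ⊓ @Flat ⊓ @QuasiCompact : MorphismProperty Scheme.{u}) (pullback.snd c U.ι) :=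
    MorphismProperty.pullback_snd _ _ hc
  have : IsClosedImmersion g := MorphismProperty.of_isPullback_of_descendsAlong sq hQ ‹IsClosedImmersion g'›
  refine ⟨?_, hq⟩
  rw [← hg]
  infer_instance

variable {S : Scheme.{u}}

/-- Quasi-compact immersions are quasi-affine. -/
theorem isQuasiAffineMor_of_qcImmersion {X Y : Sp S} {f : X ⟶ Y}
    (h : RepWith (@IsImmersion ⊓ @QuasiCompact) f) : IsQuasiAffineMor f := by
  intro Z hZ g
  obtain ⟨W, i, fst, hW⟩ : ∃ (W : Over S) (i : W ⟶ Z) (fst : (yon S).obj W ⟶ X),
      IsPullback fst ((yon S).map i) f g := h.1 g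
  have hi := h.2 g fst i hW
  haveI : IsImmersion i.left := hi.1
  haveI : QuasiCompact i.left := hi.2
  exact ⟨W, i, fst, hW, isQuasiAffine_of_lqf i.left⟩

end Groth.Agent.ASp
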