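import Groth.Agent.ASp.Morph
import Groth.Agent.ASp.Sub
import Groth.Agent.ASp.GpdAlg
import Groth.Agent.ASp.DecentPt
/-!
Open subspaces and invariance under a groupoid, on points.
-/

set_option backward.isDefEq.respectTransparency false
set_option backward.isDefEq.respectTransparency.types false

universe u

open CategoryTheory CategoryTheory.Limits AlgebraicGeometry Topology

namespace Groth.Agent.ASp

open _root_.AlgSp

variable {S : Scheme.{u}}

theorem map_ofPt_mem_range {F W : Sp S} {w : W ⟶ F} {T : Over S} {r : (yon S).obj T ⟶ F}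
    (h : ∃ a : (yon S).obj T ⟶ W, a ≫ w = r) (t : ↥T.left) : Points.ofPt r t ∈ Set.range (Points.map w) := by
  obtain ⟨a, rfl⟩ := h
  exact ⟨Points.ofPt a t, Points.map_ofPt _ _ _⟩

/-- An open subspace whose set of points is invariant is invariant. -/
theorem isInvariant_of_points {B : Sp S} (G : GroupoidSp B) {W : Sp S} {w : W ⟶ G.U}
    (hw : RepWith @IsOpenImmersion w)
    (h : ∀ z : Points G.R, Points.map G.t z ∈ Set.range (Points.map w) ↔ Points.map G.s z ∈ Set.range (Points.map w)) :
    G.IsInvariant w := by
  intro T r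
  constructor <;> intro ha <;> refine exists_lift_openImm hw _ fun t => ?_
  · have := map_ofPt_mem_range ha t
    rw [← Points.map_ofPt] at this ⊢
    exact (h _).1 this
  · have := map_ofPt_mem_range ha t
    rw [← Points.map_ofPt] at this ⊢
    exact (h _).2 this

theorem exists_points_comp {B : Sp S} (G : GroupoidSp B) (y z : Points G.R)
    (e : Points.map G.s y = Points.map G.t z) :
    ∃ x : Points G.R, Points.map G.s x = Points.map G.s z ∧ Points.map G.t x = Points.map G.t y := by
  obtain ⟨q, hq1, hq2⟩ := points_exists_of_isPullback (IsPullback.of_hasPullback G.s G.t) y z e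
  have h1 := G.comp_s (pullback.fst G.s G.t) (pullback.snd G.s G.t) pullback.condition
  have h2 := G.comp_t (pullback.fst G.s G.t) (pullback.snd G.s G.t) pullback.condition
  rw [show pullback.lift (pullback.fst G.s G.t) (pullback.snd G.s G.t) pullback.condition = 𝟙 _ from
    pullback.hom_ext (by simp) (by simp), Category.id_comp] at h1 h2
  refine ⟨Points.map G.c q, ?_, ?_⟩
  · rw [← Points.map_comp, h1, Points.map_comp, hq2]
  · rw [← Points.map_comp, h2, Points.map_comp, hq1]

/-- The set `s (t⁻¹ A)` is invariant. -/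
theorem saturation_invariant {B : Sp S} (G : GroupoidSp B) (A : Set (Points G.U)) (z : Points G.R) :
    Points.map G.t z ∈ Points.map G.s '' (Points.map G.t ⁻¹' A) ↔
      Points.map G.s z ∈ Points.map G.s '' (Points.map G.t ⁻¹' A) := by
  constructor
  · rintro ⟨y, hy, e⟩
    obtain ⟨x, hx1, hx2⟩ := exists_points_comp G y z e
    exact ⟨x, by rw [Set.mem_preimage, hx2]; exact hy, hx1⟩
  · rintro ⟨y, hy, e⟩
    obtain ⟨x, hx1, hx2⟩ := exists_points_comp G y (Points.map G.i z) (by rw [← Points.map_comp, G.i_t, e])
    refine ⟨x, by rw [Set.mem_preimage, hx2]; exact hy, ?_⟩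
    rw [hx1, ← Points.map_comp, G.i_s]

/-- The open subspace on an open set of points, as a compact space when the set is compact. -/
theorem isQuasiCompactSp_subSp {F : Sp S} (hF : IsAlgSpace F) {W : Set (Points F)} (hW : IsOpen W) (hc : IsCompact W) :
    IsQuasiCompactSp (subSp F W) := by
  have hi : RepWith @IsImmersion (subι F W) :=
    repWith_mono (fun _ _ g (hg : IsOpenImmersion g) => inferInstanceAs (IsImmersion g)) (repWith_subι F W hW)
  haveI : CompactSpace (Points (subSp F W)) := by
    refine ⟨(isEmbedding_of_immersion hF hi).1.isInducing.isCompact_iff.2 ?_⟩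
    rw [Set.image_univ, range_map_subι]
    exact hc
  exact isQuasiCompactSp_of_compactSpace (isAlgSpace_subSp hF hW)

/-- Preimages of compact opens under quasi-compact maps are compact. -/
theorem isCompact_preimage_of_qcMor {F G : Sp S} (hG : IsAlgSpace G) {f : F ⟶ G} (hf : IsQuasiCompactMor f)
    {W : Set (Points G)} (hW : IsOpen W) (hc : IsCompact W) : IsCompact (Points.map f ⁻¹' W) := by
  obtain ⟨P, a, b, sq⟩ : ∃ (P : Sp S) (a : P ⟶ F) (b : P ⟶ subSp G W), IsPullback a b f (subι G W) :=
    ⟨_, _, _, IsPullback.of_hasPullback _ _⟩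
  haveI := compactSpace_of_isQuasiCompactSp
    (hf (isAlgSpace_subSp hG hW) (isQuasiCompactSp_subSp hG hW hc) (subι G W) a b sq)
  have e : Points.map f ⁻¹' W = Set.range (Points.map a) := by
    ext x
    constructor
    · intro hx
      obtain ⟨y, hy⟩ := (Set.ext_iff.1 (range_map_subι G W) _).2 hx
      obtain ⟨z, hz, -⟩ := points_exists_of_isPullback sq x y hy.symm
      exact ⟨z, hz⟩
    · rintro ⟨z, rfl⟩
      rw [Set.mem_preimage, ← Points.map_comp, sq.w, Points.map_comp]
      exact (Set.ext_iff.1 (range_map_subι G W) _).1 ⟨_, rfl⟩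
  rw [e]
  exact isCompact_range (Points.continuous_map a)

end Groth.Agent.ASp
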