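import Groth.Agent.ASp.LimEventually2
import Groth.Agent.S0594
/-!
# Closed immersions and monomorphisms at a late stage of a limit of algebraic spaces
-/

set_option autoImplicit false
set_option backward.isDefEq.respectTransparency false
set_option backward.isDefEq.respectTransparency.types false

universe u

open CategoryTheory CategoryTheory.Limits AlgebraicGeometry Opposite

noncomputable section

namespace Groth.Agent.ASp

open _root_.AlgSp

variable {S : Scheme.{u}}

/-- A monomorphism is cartesian over its square with respect to diagonals. -/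
theorem isPullback_diagonal_of_mono {A B Y : Sp S} (m : A ⟶ B) [Mono m] {tA : A ⟶ Y} {tB : B ⟶ Y}
    {M : pullback tA tA ⟶ pullback tB tB} (h1 : M ≫ pullback.fst tB tB = pullback.fst tA tA ≫ m)
    (h2 : M ≫ pullback.snd tB tB = pullback.snd tA tA ≫ m) :
    IsPullback m (pullback.diagonal tA) (pullback.diagonal tB) M := by
  have hw : m ≫ pullback.diagonal tB = pullback.diagonal tA ≫ M := by
    apply pullback.hom_ext <;> simp [h1, h2]
  refine IsPullback.of_isLimit' ⟨hw⟩ (PullbackCone.IsLimit.mk _ (fun s => s.snd ≫ pullback.fst tA tA)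
    (fun s => ?_) (fun s => ?_) (fun s l e1 e2 => ?_))
  · have e := congrArg (· ≫ pullback.fst tB tB) s.condition
    simp only [Category.assoc, pullback.diagonal_fst, Category.comp_id, h1] at e
    rw [Category.assoc]; exact e.symm
  · have ea := congrArg (· ≫ pullback.fst tB tB) s.condition
    have eb := congrArg (· ≫ pullback.snd tB tB) s.condition
    simp only [Category.assoc, pullback.diagonal_fst, pullback.diagonal_snd, Category.comp_id, h1, h2] at ea eb
    apply pullback.hom_ext
    · simp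
    · rw [← cancel_mono m]
      simp [← ea, ← eb]
  · rw [← e2]; simp

variable [QuasiSeparatedSpace ↥S] {I : Type u} [SmallCategory I] [IsCofiltered I]
  (D : I ⥤ Sp S) (hD : ∀ i, IsAlgSpace (D.obj i))

include hD in
/-- A limit which is a closed subspace of `Y` has a member which is a closed subspace of `Y`. -/
theorem exists_isClosedImmersion_member (hDc : ∀ (i j : I) (φ : i ⟶ j), RepWith @IsClosedImmersion (D.map φ))
    (hqc : ∀ i, IsQuasiCompactSp (D.obj i)) (hqs : ∀ i, IsQuasiSeparatedSp (D.obj i))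
    {Y : Sp S} (hY : IsAlgSpace Y) (hYqc : IsQuasiCompactSp Y) (hYqs : IsQuasiSeparatedSp Y)
    (t : D ⟶ (Functor.const I).obj Y) (hft : ∀ i, LocP @LocallyOfFiniteType (t.app i))
    (c : Cone D) (hc : IsLimit c) (g : c.pt ⟶ Y) (hg : ∀ i, c.π.app i ≫ t.app i = g)
    (hX : RepWith @IsClosedImmersion g) :
    ∃ i₀ : I, ∀ (i : I) (_ : i ⟶ i₀), RepWith @IsClosedImmersion (t.app i) := by
  obtain ⟨i₀⟩ := IsCofiltered.nonempty (C := I)
  have hDa : ∀ (i j : I) (φ : i ⟶ j), IsAffineMor (D.map φ) := fun i j φ =>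
    isAffineMor_of_closedImmersion (hDc i j φ)
  have hm : ∀ (i j : I) (φ : i ⟶ j), Mono (D.map φ) := fun i j φ => mono_of_closedImmersion (hDc i j φ)
  have hD2 : ∀ i, IsAlgSpace ((pairs D t).obj i) := fun i => isAlgSpace_pairs D hD t hY i
  have hD2a : ∀ (i j : I) (φ : i ⟶ j), IsAffineMor ((pairs D t).map φ) :=
    isAffineMor_pairs D t (P := @IsClosedImmersion) (fun _ (h : IsClosedImmersion _) => inferInstance) hDc
  obtain ⟨hPc, hPs⟩ := qcqs_pullback (IsPullback.of_hasPullback (t.app i₀) (t.app i₀)) (hqc i₀) (hqs i₀) hYqs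
    (hqc i₀) (hqs i₀)
  haveI : Mono (c.π.app i₀) := mono_π hc hm i₀
  haveI : Mono g := mono_of_closedImmersion hX
  have hsX : IsPullback (c.π.app i₀) (pullback.diagonal g) (pullback.diagonal (t.app i₀))
      ((pairsCone D t c g hg).π.app i₀) :=
    isPullback_diagonal_of_mono _ (by simp [pairsCone]) (by simp [pairsCone])
  obtain ⟨k, φ, h⟩ := exists_stage_isIso (pairs D t) hD2 hD2a (pairsCone D t c g hg) (isLimitPairsCone D t c hc g hg)
    i₀ (hD i₀) (hD2 i₀) (pullback.diagonal (t.app i₀)) (𝟙 _) (hqc i₀) hPc hPs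
    (X := c.pt) (f := pullback.diagonal g) (pY := (pairsCone D t c g hg).π.app i₀) (qY := 𝟙 _)
    (IsPullback.of_vert_isIso ⟨by simp⟩) hsX (hqs i₀)
    (lfp_diagonal (hD i₀) hY (t.app i₀) (hft i₀)) inferInstance
  haveI := hm _ _ φ
  haveI : Mono (t.app k) := (pullback.isIso_diagonal_iff _).mp (h _ _ (pullback.diagonal (t.app k)) ((pairs D t).map φ) (𝟙 _)
    (IsPullback.of_vert_isIso ⟨by simp⟩) (D.map φ)
    (isPullback_diagonal_of_mono _ (by simp [pairs]) (by simp [pairs])))
  have hr : Representable (t.app k) := representable_of_mono_lft (hD k) hY (hft k)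
  haveI := compactSpace_of_isQuasiCompactSp hYqc
  obtain ⟨V, v, hV, hv, hvs⟩ := exists_affine_chart hY
  haveI := hV
  let z := hr.snd v
  have h₀ : IsPullback (hr.fst v) ((yon S).map z) (t.app k) v := hr.isPullback v
  obtain ⟨e1, e2⟩ := isEtLocal_of_list.{u} @LocallyOfFiniteType (.inl rfl)
  haveI : LocallyOfFiniteType z.left := (repWith_of_locP hY hr (hft k)).2 v _ _ h₀
  haveI : QuasiCompact z.left := (repWith_quasiCompact_of_qc (hD k) hY _ hr (hqc k) hYqs).2 v _ _ h₀
  haveI : Mono ((yon S).map z) :=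
    MorphismProperty.of_isPullback (P := MorphismProperty.monomorphisms (Sp S)) h₀ ‹Mono (t.app k)›
  haveI : Mono z := (yon S).mono_of_mono_map inferInstance
  haveI : CompactSpace ↥(hr.pullback v).left := QuasiCompact.compactSpace_of_compactSpace z.left
  haveI : QuasiSeparatedSpace ↥(hr.pullback v).left := quasiSeparatedSpace_of_quasiSeparated z.left
  obtain ⟨F⟩ := exists_frame D hD hDa c hc k (hr.fst v)
  have hwc : ∀ l, IsClosedImmersion (F.w l).left := fun l => (hDc _ _ l.hom).2 _ _ _ (F.sq l)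
  haveI : ∀ (l l' : CategoryTheory.Over k) (ψ : l ⟶ l'), IsClosedImmersion ((F.E ⋙ Over.forget S).map ψ) :=
    fun l l' ψ => by
      haveI := hwc l'
      haveI : IsClosedImmersion ((F.E.map ψ).left ≫ (F.w l').left) := by
        rw [← Over.comp_left, F.map_w]; exact hwc l
      exact IsClosedImmersion.of_comp (F.E.map ψ).left (F.w l').left
  haveI : ∀ l, CompactSpace ↥((F.E ⋙ Over.forget S).obj l) := fun l =>
    haveI := hwc l
    QuasiCompact.compactSpace_of_compactSpace (F.w l).left
  haveI : ∀ l, QuasiSeparatedSpace ↥((F.E ⋙ Over.forget S).obj l) := fun l =>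
    haveI := hwc l
    quasiSeparatedSpace_of_quasiSeparated (F.w l).left
  let t' : F.E ⋙ Over.forget S ⟶ (Functor.const _).obj V.left :=
    { app := fun l => (F.w l).left ≫ z.left
      naturality := fun l l' ψ => by
        change (F.E.map ψ).left ≫ (F.w l').left ≫ z.left = ((F.w l).left ≫ z.left) ≫ 𝟙 _
        rw [Category.comp_id, ← Category.assoc, ← Over.comp_left, F.map_w] }
  haveI : ∀ l, LocallyOfFiniteType (t'.app l) := fun l =>
    haveI := hwc l
    inferInstanceAs (LocallyOfFiniteType ((F.w l).left ≫ z.left))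
  have sL : IsPullback F.qLim ((yon S).map (F.wLim ≫ z)) g v := by
    rw [Functor.map_comp, ← hg k]; exact F.sqLim.paste_vert h₀
  let o : CategoryTheory.Over k := CategoryTheory.Over.mk (𝟙 k)
  haveI : IsClosedImmersion (((Over.forget S).mapCone F.cone).π.app o ≫ t'.app o) := by
    change IsClosedImmersion ((F.cone.π.app o).left ≫ (F.w o).left ≫ z.left)
    rw [← Category.assoc, ← Over.comp_left, F.π_w, ← Over.comp_left]
    exact hX.2 v _ _ sL
  obtain ⟨l, hl⟩ := S0594.result V.left (F.E ⋙ Over.forget S) t' _ F.isLimit o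
  haveI := FpqcDesc.isClosedImmersion_descends.{u}
  have sl : IsPullback (F.q l) ((yon S).map (F.w l ≫ z)) (t.app l.left) v := by
    have e : D.map l.hom ≫ t.app k = t.app l.left := by simp
    rw [Functor.map_comp, ← e]; exact (F.sq l).paste_vert h₀
  have hcl : IsClosedImmersion (F.w l ≫ z).left := hl
  have hrl : Representable (t.app l.left) := by
    have e : D.map l.hom ≫ t.app k = t.app l.left := by simp
    rw [← e]; exact representable_comp (hDc _ _ l.hom).1 hr
  have hres : RepWith @IsClosedImmersion (t.app l.left) := repWith_of_fpqc hrl (fun _ : PUnit.{u+1} => sl)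
    (isFpqcCover_of_chart hY hv hvs) (fun _ => repWith_yon_map hcl)
  refine ⟨l.left, fun i ψ => ?_⟩
  rw [show t.app i = D.map ψ ≫ t.app l.left by simp]
  exact repWith_comp (hDc _ _ ψ) hres

include hD in
omit [QuasiSeparatedSpace ↥S] in
/-- The closed immersions between the graphs of the projections. -/
theorem repWith_map_diag (hDa : ∀ (i j : I) (φ : i ⟶ j), IsAffineMor (D.map φ)) {i j : I} (φ : i ⟶ j)
    {Y : Sp S} (p : Y ⟶ D.obj i) :
    RepWith @IsClosedImmersion
      (pullback.map p p (p ≫ D.map φ) (p ≫ D.map φ) (𝟙 _) (𝟙 _) (D.map φ) (by simp) (by simp)) := by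
  have hR := repWith_isAffineHom_of_isAffineMor (hD i) (hD j) (hDa i j φ)
  have h : RepWith @IsClosedImmersion (pullback.diagonal (D.map φ)) := (isSeparatedMor_iff hR.1).2
    (repWith_mono (fun _ _ g (hg : IsAffineHom g) => inferInstanceAs (IsSeparated g)) hR)
  exact repWith_of_isPullback (pullback_map_diagonal_isPullback p p (D.map φ)) h

include hD in
/-- A monomorphism into a limit gives monomorphisms into the late members. -/
theorem exists_mono_member (hDa : ∀ (i j : I) (φ : i ⟶ j), IsAffineMor (D.map φ))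
    (c : Cone D) (hc : IsLimit c) (hqs : ∀ i, IsQuasiSeparatedSp (D.obj i))
    {Y : Sp S} (hY : IsAlgSpace Y) (hYqc : IsQuasiCompactSp Y) (y : Y ⟶ c.pt) [Mono y] (i₁ : I)
    (hft : LocP @LocallyOfFiniteType (y ≫ c.π.app i₁)) :
    ∃ i₀ : I, ∀ (i : I) (_ : i ⟶ i₀), Mono (y ≫ c.π.app i) := by
  let p : ∀ k : CategoryTheory.Over i₁, Y ⟶ D.obj k.left := fun k => y ≫ c.π.app k.left
  have hp : ∀ {k l : CategoryTheory.Over i₁} (φ : k ⟶ l), p k ≫ D.map φ.left = p l := fun φ => by simp [p]
  let P : CategoryTheory.Over i₁ ⥤ Sp S :=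
    { obj := fun k => pullback (p k) (p k)
      map := fun {k l} φ => pullback.map _ _ _ _ (𝟙 _) (𝟙 _) (D.map φ.left) (by simp [hp φ]) (by simp [hp φ])
      map_id := fun k => by apply pullback.hom_ext <;> simp
      map_comp := fun φ ψ => by apply pullback.hom_ext <;> simp }
  have hP : ∀ k, IsAlgSpace (P.obj k) := fun k => isAlgSpace_pullback (hD _).diag hY hY _ _
  have hPc : ∀ (k l : CategoryTheory.Over i₁) (φ : k ⟶ l), RepWith @IsClosedImmersion (P.map φ) := fun k l φ => by
    have e := hp φ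
    have key : ∀ (q : Y ⟶ D.obj l.left) (eq : p k ≫ D.map φ.left = q),
        RepWith @IsClosedImmersion
          (pullback.map (p k) (p k) q q (𝟙 _) (𝟙 _) (D.map φ.left) (by simp [eq]) (by simp [eq])) := by
      rintro _ rfl
      exact repWith_map_diag D hD hDa φ.left (p k)
    exact key _ e
  let cP : Cone P :=
    { pt := Y
      π := { app := fun k => pullback.diagonal (p k)
             naturality := fun k l φ => by apply pullback.hom_ext <;> simp [P] } }
  let o : CategoryTheory.Over i₁ := CategoryTheory.Over.mk (𝟙 i₁)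
  let hci : IsLimit (c.whisker (CategoryTheory.Over.forget i₁)) :=
    (Functor.Initial.isLimitWhiskerEquiv (CategoryTheory.Over.forget i₁) c).symm hc
  have hfst : ∀ (s : Cone P) (k), s.π.app k ≫ pullback.fst (p k) (p k) =
      s.π.app o ≫ pullback.fst (p o) (p o) := fun s k => by
    rw [← s.w (CategoryTheory.Over.homMk k.hom (Category.comp_id _) : k ⟶ o)]
    simp [P]
  have hsnd : ∀ (s : Cone P) (k), s.π.app k ≫ pullback.snd (p k) (p k) =
      s.π.app o ≫ pullback.snd (p o) (p o) := fun s k => by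
    rw [← s.w (CategoryTheory.Over.homMk k.hom (Category.comp_id _) : k ⟶ o)]
    simp [P]
  have heq : ∀ s : Cone P, s.π.app o ≫ pullback.fst (p o) (p o) = s.π.app o ≫ pullback.snd (p o) (p o) := fun s => by
    rw [← cancel_mono y]
    refine hci.hom_ext fun k => ?_
    change (_ ≫ y) ≫ c.π.app k.left = (_ ≫ y) ≫ c.π.app k.left
    rw [← hfst s k, ← hsnd s k]
    simp only [Category.assoc]
    exact congrArg _ pullback.condition
  have hcP : IsLimit cP :=
    { lift := fun s => s.π.app o ≫ pullback.fst (p o) (p o)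
      fac := fun s k => by
        apply pullback.hom_ext
        · simp [cP, hfst s k]
        · simp [cP, hsnd s k, heq s]
      uniq := fun s m hm => by
        have := hm o
        simp [cP] at this ⊢
        rw [← this]; simp }
  obtain ⟨e1, e2⟩ := isEtLocal_of_list.{u} @LocallyOfFiniteType (.inl rfl)
  obtain ⟨k, hk⟩ := exists_isIso_π P hP hPc cP hcP o
    (isQuasiCompactSp_of_isPullback (IsPullback.of_hasPullback (p o) (p o)) hYqc (hqs _) hYqc)
    (lfp_diagonal hY (hD _) (p o) hft)
  haveI : Mono (p k) := (pullback.isIso_diagonal_iff _).mp (hk k (𝟙 k))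
  refine ⟨k.left, fun i φ => ?_⟩
  haveI : Mono ((y ≫ c.π.app i) ≫ D.map φ) := by rw [Category.assoc, c.w]; exact ‹Mono (p k)›
  exact mono_of_mono (y ≫ c.π.app i) (D.map φ)

include hD in
omit [QuasiSeparatedSpace ↥S] in
/-- A closed immersion into a limit gives closed immersions into the late members. -/
theorem exists_isClosedImmersion_into_member (hDa : ∀ (i j : I) (φ : i ⟶ j), IsAffineMor (D.map φ))
    (c : Cone D) (hc : IsLimit c) {Y : Sp S} (y : Y ⟶ c.pt) (hy : RepWith @IsClosedImmersion y) (i₁ : I)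
    (hqc : IsQuasiCompactSp (D.obj i₁)) (hYa : IsAlgSpace Y) (hft : LocP @LocallyOfFiniteType (y ≫ c.π.app i₁)) :
    ∃ i₀ : I, ∀ (i : I) (_ : i ⟶ i₀), RepWith @IsClosedImmersion (y ≫ c.π.app i) := by
  obtain ⟨hXa, hπa⟩ := isAlgSpace_limit_and_isAffineMor D hD hDa c hc
  have hr : ∀ i, Representable (y ≫ c.π.app i) := fun i =>
    representable_comp hy.1 (representable_of_isAffineMor hXa (hD i) (hπa i))
  haveI := compactSpace_of_isQuasiCompactSp hqc
  obtain ⟨V, v, hV, hv, hvs⟩ := exists_affine_chart (hD i₁)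
  haveI := hV
  obtain ⟨F⟩ := exists_frame D hD hDa c hc i₁ v
  let Z := hy.1.pullback F.qLim
  let zL := hy.1.snd F.qLim
  have sZ : IsPullback (hy.1.fst F.qLim) ((yon S).map zL) y F.qLim := hy.1.isPullback _
  haveI : IsClosedImmersion zL.left := hy.2 _ _ _ sZ
  haveI : ∀ {k l : CategoryTheory.Over i₁} (φ : k ⟶ l), IsAffineHom ((F.E ⋙ Over.forget S).map φ) :=
    fun φ => F.affine φ
  haveI hEa : ∀ k, IsAffine ((F.E ⋙ Over.forget S).obj k) := fun k =>
    haveI := F.affine_w k
    isAffine_of_isAffineHom (F.w k).left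
  haveI : IsAffine F.cone.pt.left := Scheme.isAffine_of_isLimit _ F.isLimit
  haveI : IsAffine Z.left := isAffine_of_isAffineHom zL.left
  -- the constant system
  let E' : CategoryTheory.Over i₁ ⥤ Scheme.{u} := (Functor.const _).obj Z.left
  haveI : ∀ {k l : CategoryTheory.Over i₁} (φ : k ⟶ l), IsAffineHom (E'.map φ) :=
    fun φ => inferInstanceAs (IsAffineHom (𝟙 Z.left))
  let o : CategoryTheory.Over i₁ := CategoryTheory.Over.mk (𝟙 i₁)
  let cE : Cone E' := { pt := Z.left, π := 𝟙 _ }
  have hcE : IsLimit cE :=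
    { lift := fun s => s.π.app o
      fac := fun s k => by
        have h1 := s.w (CategoryTheory.Over.homMk k.hom (Category.comp_id _) : k ⟶ o)
        simp only [E', Functor.const_obj_map] at h1
        simpa [cE] using h1.symm
      uniq := fun s m hm => by simpa [cE] using hm o }
  let η : E' ⟶ F.E ⋙ Over.forget S :=
    { app := fun k => (zL ≫ F.cone.π.app k).left
      naturality := fun k l φ => by
        change 𝟙 _ ≫ (zL ≫ F.cone.π.app l).left = (zL ≫ F.cone.π.app k).left ≫ (F.E.map φ).left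
        rw [Category.id_comp, ← Over.comp_left, Category.assoc, F.cone.w] }
  have sq₁ : IsPullback (hy.1.fst F.qLim) ((yon S).map (zL ≫ F.wLim)) (y ≫ c.π.app i₁) v := by
    rw [Functor.map_comp]; exact sZ.paste_vert F.sqLim
  obtain ⟨e1, e2⟩ := isEtLocal_of_list.{u} @LocallyOfFiniteType (.inl rfl)
  have hZV : LocallyOfFiniteType (zL ≫ F.wLim).left := (repWith_of_locP (hD i₁) (hr i₁) hft).2 v _ _ sq₁
  haveI : ∀ k, LocallyOfFiniteType (η.app k) := fun k => by
    haveI : LocallyOfFiniteType ((zL ≫ F.cone.π.app k).left ≫ (F.w k).left) := by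
      rw [← Over.comp_left, Category.assoc, F.π_w]; exact hZV
    exact locallyOfFiniteType_of_comp (zL ≫ F.cone.π.app k).left (F.w k).left
  haveI : ∀ k, QuasiSeparatedSpace (E'.obj k) := fun k => inferInstanceAs (QuasiSeparatedSpace Z.left)
  haveI : ∀ k, IsAffine (E'.obj k) := fun k => inferInstanceAs (IsAffine Z.left)
  haveI : ∀ k, QuasiCompact (η.app k) := fun k => quasiCompact_of_compactSpace _
  have hcomp : ∀ {l k : CategoryTheory.Over i₁} (φ : l ⟶ k),
      IsClosedImmersion (AffLim.comparison (F.E ⋙ Over.forget S) E' η φ) := fun {l k} φ => by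
    haveI : IsAffineHom ((F.E ⋙ Over.forget S).map φ) := inferInstance
    refine isClosedImmersion_comparison _ (pullback.fst _ _) ?_ (pullback.fst _ _) (𝟙 _) (Category.comp_id _)
    rw [AffLim.comparison_fst]
    rfl
  obtain ⟨k, -, hk⟩ := AffLim.exists_isClosedImmersion (F.E ⋙ Over.forget S) _ F.isLimit E' cE hcE η zL.left
    (fun k => (Category.id_comp _).symm.trans rfl) hcomp (i := o)
  haveI := FpqcDesc.isClosedImmersion_descends.{u}
  have hkk : IsClosedImmersion (zL ≫ F.cone.π.app k).left := hk k (𝟙 k)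
  have sLk : IsPullback F.qLim ((yon S).map (F.cone.π.app k)) (c.π.app k.left) (F.q k) :=
    IsPullback.of_bot (by rw [← Functor.map_comp, F.π_w, c.w]; exact F.sqLim) (F.qLim_π k) (F.sq k)
  have sk : IsPullback (hy.1.fst F.qLim) ((yon S).map (zL ≫ F.cone.π.app k)) (y ≫ c.π.app k.left) (F.q k) := by
    rw [Functor.map_comp]; exact sZ.paste_vert sLk
  have hres : RepWith @IsClosedImmersion (y ≫ c.π.app k.left) := repWith_of_fpqc (hr _) (fun _ : PUnit.{u+1} => sk)
    (isFpqcCover_of_chart (hD _) (repWith_of_isPullback (F.sq k).flip hv) (repWith_of_isPullback (F.sq k).flip hvs))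
    (fun _ => repWith_yon_map hkk)
  refine ⟨k.left, fun i φ => ?_⟩
  have hR := repWith_isAffineHom_of_isAffineMor (hD i) (hD k.left) (hDa _ _ φ)
  have hsep : IsSeparatedMor (D.map φ) := (isSeparatedMor_iff hR.1).2
    (repWith_mono (fun _ _ g (hg : IsAffineHom g) => inferInstanceAs (IsSeparated g)) hR)
  obtain ⟨Γ, m, sΓ, eΓ, -⟩ := exists_graph (y ≫ c.π.app i) (D.map φ)
  rw [← eΓ]
  refine repWith_comp (repWith_of_isPullback sΓ hsep) ?_
  exact repWith_of_isPullback (IsPullback.of_hasPullback ((y ≫ c.π.app i) ≫ D.map φ) (D.map φ))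
    (by rw [Category.assoc, c.w]; exact hres)

end Groth.Agent.ASp
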