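import Groth.Agent.ASp.ThickProper
import Groth.Agent.ASp.ThickBase
import Groth.Agent.ASp.Sub
import Groth.Agent.NilLift.Basic
/-!
Closed immersions and immersions along cartesian thickenings.
-/

set_option autoImplicit false
set_option backward.isDefEq.respectTransparency false
set_option backward.isDefEq.respectTransparency.types false

universe u

open CategoryTheory CategoryTheory.Limits AlgebraicGeometry Opposite

namespace Groth.Agent.ASp

open _root_.AlgSp

theorem surjective_of_nil {R C : Type u} [CommRing R] [CommRing C] (φ : R →+* C) (hfin : φ.Finite)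
    {J : Ideal R} (hJ : J ≤ nilradical R) (h : Function.Surjective ((Ideal.Quotient.mk (J.map φ)).comp φ)) :
    Function.Surjective φ := by
  algebraize [φ]
  have hN : (⊤ : Submodule R C).FG := Module.finite_def.1 inferInstance
  have hjac : J ≤ Ideal.jacobson ⊥ :=
    hJ.trans (Ideal.radical_le_jacobson (I := (⊥ : Ideal R)))
  have hsup : ⊤ ≤ LinearMap.range (Algebra.linearMap R C) ⊔ J • (⊤ : Submodule R C) := fun x _ => by
    obtain ⟨r, hr⟩ := h (Ideal.Quotient.mk _ x)
    have : x - φ r ∈ J.map φ := (Ideal.Quotient.mk_eq_mk_iff_sub_mem _ _).1 hr.symm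
    rw [Submodule.mem_sup]
    refine ⟨φ r, ⟨r, rfl⟩, x - φ r, ?_, add_sub_cancel _ _⟩
    rw [Ideal.smul_top_eq_map]
    exact this
  intro x
  exact Submodule.le_of_le_smul_of_le_jacobson_bot hN hjac hsup (Submodule.mem_top (x := x))

theorem le_nilradical_of_surjective' {R B : CommRingCat.{u}} (g : R ⟶ B)
    (h : Function.Surjective (Spec.map g)) : RingHom.ker g.hom ≤ nilradical R := fun x hx => by
  rw [nilradical_eq_sInf, Ideal.mem_sInf]
  intro p hp
  obtain ⟨q, hq⟩ := h ⟨p, hp⟩
  have : p = q.asIdeal.comap g.hom := (congrArg PrimeSpectrum.asIdeal hq).symm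
  rw [this, Ideal.mem_comap, RingHom.mem_ker.1 hx]
  exact Ideal.zero_mem _

/-- A finite morphism which is a closed immersion over a thickened base is a closed immersion. -/
theorem isClosedImmersion_of_thick {U U' V V' : Scheme.{u}} [IsAffine V'] {ιU : U ⟶ U'} {k : U ⟶ V}
    {k' : U' ⟶ V'} {ιV : V ⟶ V'} [IsClosedImmersion ιV] [Surjective ιV] (sq : IsPullback ιU k k' ιV)
    [IsFinite k'] [IsClosedImmersion k] : IsClosedImmersion k' := by
  obtain ⟨hVa, hVs⟩ := IsClosedImmersion.isAffine_surjective_of_isAffine ιV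
  haveI : IsAffine U' := isAffine_of_isAffineHom k'
  haveI : IsClosedImmersion ιU := MorphismProperty.of_isPullback sq.flip (inferInstanceAs (IsClosedImmersion ιV))
  obtain ⟨hUa, hUs⟩ := IsClosedImmersion.isAffine_surjective_of_isAffine ιU
  have hks := (IsClosedImmersion.isAffine_surjective_of_isAffine k).2
  have hpo := isPushout_appTop_of_isPullback sq
  let φ := k'.appTop.hom
  let J := RingHom.ker ιV.appTop.hom
  have hJ : J ≤ nilradical Γ(V', ⊤) := le_nilradical_of_surjective' ιV.appTop fun p => by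
    obtain ⟨v, hv⟩ := ιV.surjective (V'.isoSpec.inv p)
    refine ⟨V.isoSpec.hom v, ?_⟩
    rw [← Scheme.Hom.comp_apply, Scheme.isoSpec_hom_naturality, Scheme.Hom.comp_apply, hv]
    simp
  have hle : RingHom.ker ιU.appTop.hom ≤ J.map φ := by
    let m : Γ(V, ⊤) →+* Γ(U', ⊤) ⧸ J.map φ :=
      (Ideal.quotientMap (J.map φ) φ Ideal.le_comap_map).comp
        (RingHom.quotientKerEquivOfSurjective hVs).symm.toRingHom
    have hm : ιV.appTop ≫ CommRingCat.ofHom m = k'.appTop ≫ CommRingCat.ofHom (Ideal.Quotient.mk (J.map φ)) := by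
      refine CommRingCat.hom_ext (RingHom.ext fun r => ?_)
      have e : (RingHom.quotientKerEquivOfSurjective hVs).symm (ιV.appTop r) = Ideal.Quotient.mk _ r := by
        rw [RingEquiv.symm_apply_eq]; rfl
      show Ideal.quotientMap (J.map φ) φ Ideal.le_comap_map
        ((RingHom.quotientKerEquivOfSurjective hVs).symm (ιV.appTop r)) = _
      rw [e]; rfl
    intro x hx
    obtain ⟨d, hd⟩ : ∃ d, ιU.appTop ≫ d = CommRingCat.ofHom (Ideal.Quotient.mk (J.map φ)) :=
      ⟨hpo.desc (CommRingCat.ofHom (Ideal.Quotient.mk (J.map φ))) (CommRingCat.ofHom m) hm.symm,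
        hpo.inl_desc _ _ _⟩
    have := congrArg (fun t => t.hom x) hd
    simp only [CommRingCat.hom_comp, RingHom.comp_apply, CommRingCat.hom_ofHom,
      RingHom.mem_ker.1 hx, map_zero] at this
    exact Ideal.Quotient.eq_zero_iff_mem.1 this.symm
  have hfin : φ.Finite := ((HasAffineProperty.iff_of_isAffine (P := @IsFinite) (f := k')).1 inferInstance).2
  refine IsClosedImmersion.of_surjective_of_isAffine k' (surjective_of_nil φ hfin hJ fun y => ?_)
  obtain ⟨c, rfl⟩ := Ideal.Quotient.mk_surjective y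
  obtain ⟨v, hv⟩ := hks (ιU.appTop c)
  obtain ⟨r, rfl⟩ := hVs v
  refine ⟨r, (Ideal.Quotient.mk_eq_mk_iff_sub_mem _ _).2 (hle ?_)⟩
  rw [RingHom.mem_ker, map_sub, sub_eq_zero, ← hv]
  show (k'.appTop ≫ ιU.appTop).hom r = (ιV.appTop ≫ k.appTop).hom r
  rw [← Scheme.Hom.comp_appTop, ← Scheme.Hom.comp_appTop, sq.w]

variable {S : Scheme.{u}} {X X' Y Y' : Sp S} {i : X ⟶ X'} {j : Y ⟶ Y'} {f : X ⟶ Y} {f' : X' ⟶ Y'}

/-- Being a closed immersion does not see cartesian thickenings, given finite type upstairs. -/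
theorem closedImmersion_thick_iff (hi : IsThickMor i) (hj : IsThickMor j) (hc : IsPullback i f f' j)
    (hX : IsAlgSpace X) (hX' : IsAlgSpace X') (hY : IsAlgSpace Y) (hY' : IsAlgSpace Y')
    (hft' : LocP @LocallyOfFiniteType f') :
    RepWith @IsClosedImmersion f ↔ RepWith @IsClosedImmersion f' := by
  refine ⟨fun h => ?_, fun h => repWith_of_isPullback hc h⟩
  have hfin := (isFiniteMor_iff hX' hY').1 ((isFiniteMor_thick_iff hi hj hc hX hX' hY hY' hft').1
    ((isFiniteMor_iff hX hY).2 (repWith_mono (fun _ _ k hk => by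
      have : IsClosedImmersion k := hk; exact inferInstance) h)))
  refine repWith_of_affine hfin.1 fun T hT g => ?_
  obtain ⟨W', fst', k', sq'⟩ : ∃ (W' : Over S) (fst' : (yon S).obj W' ⟶ X') (k' : W' ⟶ T),
      IsPullback fst' ((yon S).map k') f' g := ⟨_, _, _, hfin.1.isPullback g⟩
  refine ⟨W', k', fst', sq', ?_⟩
  obtain ⟨Tj, b, ιT, sqT⟩ : ∃ (Tj : Over S) (b : (yon S).obj Tj ⟶ Y) (ιT : Tj ⟶ T),
      IsPullback b ((yon S).map ιT) j g := ⟨_, _, _, hj.1.isPullback g⟩
  obtain ⟨W, fst, k, sqW⟩ : ∃ (W : Over S) (fst : (yon S).obj W ⟶ X) (k : W ⟶ Tj),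
      IsPullback fst ((yon S).map k) f b := ⟨_, _, _, h.1.isPullback b⟩
  obtain ⟨m, hm⟩ := (yon S).map_surjective (sq'.lift (fst ≫ i) ((yon S).map (k ≫ ιT))
    (by rw [Category.assoc, hc.w, reassoc_of% sqW.w, sqT.w, Functor.map_comp, Category.assoc]))
  have hm1 : (yon S).map m ≫ fst' = fst ≫ i := by rw [hm, sq'.lift_fst]
  have hm2 : m ≫ k' = k ≫ ιT := (yon S).map_injective (by rw [Functor.map_comp, hm, sq'.lift_snd])
  have ho : IsPullback ((yon S).map k) ((yon S).map m ≫ fst') ((yon S).map ιT ≫ g) f' := by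
    rw [hm1, ← sqT.w]
    exact sqW.flip.paste_vert hc.flip
  have sq := isPullback_left (isPullback_of_yon_map (IsPullback.of_bot ho
    (by rw [← Functor.map_comp, ← Functor.map_comp, hm2]) sq'.flip))
  haveI : IsFinite k'.left := hfin.2 _ _ _ sq'
  haveI : IsClosedImmersion k.left := h.2 _ _ _ sqW
  haveI : IsClosedImmersion ιT.left := (hj.2 _ _ _ sqT).1
  haveI : Surjective ιT.left := (hj.2 _ _ _ sqT).2
  haveI : IsAffine T.left := hT
  exact isClosedImmersion_of_thick sq.flip

/-- An immersion with closed image is a closed immersion. -/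
theorem closedImmersion_of_isClosed_range {F G : Sp S} {g : F ⟶ G} (h : RepWith @IsImmersion g)
    (hr : IsClosed (Set.range (Points.map g))) : RepWith @IsClosedImmersion g := by
  refine ⟨h.1, fun U V b fst snd sq => ?_⟩
  haveI : IsImmersion snd.left := h.2 _ _ _ sq
  refine IsClosedImmersion.of_isPreimmersion snd.left ?_
  have := preimage_ofPt_image sq Set.univ
  rw [Set.image_univ, Set.preimage_univ, Set.image_univ] at this
  rw [← this]
  exact hr.preimage (Points.continuous_ofPt b)

/-- Being an immersion does not see cartesian thickenings, given finite type upstairs. -/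
theorem immersion_thick_iff (hi : IsThickMor i) (hj : IsThickMor j) (hc : IsPullback i f f' j)
    (hX : IsAlgSpace X) (hX' : IsAlgSpace X') (hY : IsAlgSpace Y) (hY' : IsAlgSpace Y')
    (hft' : LocP @LocallyOfFiniteType f') :
    RepWith @IsImmersion f ↔ RepWith @IsImmersion f' := by
  refine ⟨fun h => ?_, fun h => repWith_of_isPullback hc h⟩
  obtain ⟨hemb, hlc⟩ := isEmbedding_of_immersion hY h
  have hjh := isHomeomorph_map_of_thick hj
  have hih := isHomeomorph_map_of_thick hi
  let Wset : Set (Points Y) := coborder (Set.range (Points.map f))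
  let W' : Set (Points Y') := Points.map j '' Wset
  have hW' : IsOpen W' := hjh.isOpenMap _ hlc.isOpen_coborder
  obtain ⟨a', ha'⟩ := exists_fac_subι f' (W := W') (by
    rintro _ ⟨x', rfl⟩
    obtain ⟨x, rfl⟩ := hih.surjective x'
    exact ⟨Points.map f x, subset_coborder ⟨x, rfl⟩,
      by rw [← Points.map_comp, ← Points.map_comp, hc.w]⟩)
  obtain ⟨V, v, jV, sqV⟩ : ∃ (V : Sp S) (v : V ⟶ Y) (jV : V ⟶ subSp Y' W'),
      IsPullback v jV j (subι Y' W') := ⟨_, _, _, IsPullback.of_hasPullback _ _⟩
  let a : X ⟶ V := sqV.lift f (i ≫ a') (by rw [Category.assoc, ha', hc.w])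
  have hsq : IsPullback i a a' jV := by
    refine IsPullback.of_bot ?_ (sqV.lift_snd _ _ _).symm sqV.flip
    rw [sqV.lift_fst, ha']
    exact hc
  have hv : RepWith @IsOpenImmersion v := repWith_of_isPullback sqV.flip (repWith_subι Y' W' hW')
  haveI : Mono v := mono_of_repWith (P := @IsOpenImmersion)
    (fun g hg => haveI : IsOpenImmersion g := hg; inferInstance) hv
  have ha : RepWith @IsImmersion a := by
    refine repWith_of_isPullback (f := f) (g := v) (g' := 𝟙 X) ?_ h
    rw [show f = a ≫ v from (sqV.lift_fst _ _ _).symm]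
    exact IsPullback.of_id_fst.paste_vert (IsKernelPair.id_of_mono v)
  have hrange : IsClosed (Set.range (Points.map a)) := by
    have e : Set.range (Points.map a) = Points.map v ⁻¹' Set.range (Points.map f) := by
      have hf : f = a ≫ v := (sqV.lift_fst _ _ _).symm
      ext y
      constructor
      · rintro ⟨x, rfl⟩
        exact ⟨x, by rw [hf, Points.map_comp]⟩
      · rintro ⟨x, hx⟩
        refine ⟨x, injective_map_of_repWith (P := @IsOpenImmersion) (fun g hg => by
          haveI : IsOpenImmersion g := hg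
          exact g.isOpenEmbedding.injective) hv ?_⟩
        rw [← Points.map_comp, ← hf, hx]
    have hvW : ∀ y, Points.map v y ∈ Wset := fun y => by
      have : Points.map j (Points.map v y) ∈ W' := by
        rw [← Points.map_comp, sqV.w, Points.map_comp]
        exact (range_map_subι Y' W').subset ⟨_, rfl⟩
      obtain ⟨w, hw, hwe⟩ := this
      rwa [← hjh.injective hwe]
    obtain ⟨C, hC, hCe⟩ : ∃ C : Set (Points Y), IsClosed C ∧ Set.range (Points.map f) = Wset ∩ C :=
      ⟨closure (Set.range (Points.map f)), isClosed_closure,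
        (coborder_inter_closure).symm⟩
    rw [e, hCe, Set.preimage_inter, Set.preimage_eq_univ_iff.2 (fun y hy => by
      obtain ⟨z, rfl⟩ := hy; exact hvW z), Set.univ_inter]
    exact hC.preimage (Points.continuous_map v)
  have hV : IsAlgSpace V := isAlgSpace_of_isPullback hY'.diag hY (isAlgSpace_subSp hY' hW') sqV
  have hft : LocP @LocallyOfFiniteType a' := locP_of_comp (P := @LocallyOfFiniteType) (Q := @LocallyOfFiniteType)
    (fun b c hbc _ => haveI : LocallyOfFiniteType (b ≫ c) := hbc; locallyOfFiniteType_of_comp b c) hY'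
    (by rw [ha']; exact hft')
    (locP_of_repWith (repWith_mono (fun _ _ g (hg : IsOpenImmersion g) => (inferInstance : LocallyOfFiniteType g))
      (repWith_subι Y' W' hW')))
  have hcl := (closedImmersion_thick_iff hi (isThickMor_of_isPullback sqV hj) hsq hX hX' hV
    (isAlgSpace_subSp hY' hW') hft).1 (closedImmersion_of_isClosed_range ha hrange)
  rw [← ha']
  exact repWith_comp (repWith_mono (fun _ _ g (hg : IsClosedImmersion g) => (inferInstance : IsImmersion g)) hcl)
    (repWith_mono (fun _ _ g (hg : IsOpenImmersion g) => (inferInstance : IsImmersion g)) (repWith_subι Y' W' hW'))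

end Groth.Agent.ASp
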