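import Groth.Agent.ASp.AffineLimRel
import Groth.Agent.ASp.SchemeLim
import Groth.Agent.ASp.LimOpen
import Groth.Agent.ASp.LimEventually3
import Groth.Agent.ASp.ThickImm
import Groth.Agent.ASp.InvOpen
/-!
# Immersions into limits of algebraic spaces
-/

set_option autoImplicit false
set_option backward.isDefEq.respectTransparency false
set_option backward.isDefEq.respectTransparency.types false

universe u

open CategoryTheory CategoryTheory.Limits AlgebraicGeometry Opposite

noncomputable section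

namespace Groth.Agent.ASp

open _root_.AlgSp

variable {S : Scheme.{u}}

/-- Compact open sets of points form a basis. -/
theorem exists_compact_open_sp {X : Sp S} (hX : IsAlgSpace X) {K : Set (Points X)} (hK : IsCompact K)
    {W : Set (Points X)} (hW : IsOpen W) (hKW : K ⊆ W) :
    ∃ V : Set (Points X), IsOpen V ∧ IsCompact V ∧ K ⊆ V ∧ V ⊆ W := by
  obtain ⟨U, p, he, hs⟩ := hX.atlas
  have hc := Points.continuous_ofPt p
  have ho := isOpenMap_ofPt_of_etale he
  have : ∀ x : K, ∃ V : Set (Points X), IsOpen V ∧ IsCompact V ∧ x.1 ∈ V ∧ V ⊆ W := fun x => by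
    obtain ⟨u, hu⟩ := surjective_ofPt hs x.1
    obtain ⟨_, ⟨A, hA, rfl⟩, hxA, hAW⟩ := U.left.isBasis_affineOpens.exists_subset_of_mem_open
      (show u ∈ Points.ofPt p ⁻¹' W by rw [Set.mem_preimage, hu]; exact hKW x.2) (hW.preimage hc)
    exact ⟨Points.ofPt p '' A, ho _ A.2, hA.isCompact.image hc, ⟨u, hxA, hu⟩, Set.image_subset_iff.2 hAW⟩
  choose V hVo hVc hxV hVW using this
  obtain ⟨s, hs⟩ := hK.elim_finite_subcover V hVo fun x hx => Set.mem_iUnion.2 ⟨⟨x, hx⟩, hxV _⟩
  exact ⟨⋃ i ∈ s, V i, isOpen_biUnion fun i _ => hVo i, s.finite_toSet.isCompact_biUnion fun i _ => hVc i,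
    hs, Set.iUnion₂_subset fun i _ => hVW i⟩

variable [QuasiSeparatedSpace ↥S] {I : Type u} [SmallCategory I] [IsCofiltered I]

/-- The system cut out by a quasi-compact open subspace of a member. -/
theorem exists_open_system (D : I ⥤ Sp S) (hD : ∀ i, IsAlgSpace (D.obj i))
    (hDa : ∀ (i j : I) (φ : i ⟶ j), IsAffineMor (D.map φ)) (hqs : ∀ i, IsQuasiSeparatedSp (D.obj i))
    (c : Cone D) (hc : IsLimit c) (i : I) {U Z : Sp S} (j : U ⟶ D.obj i) (hj : RepWith @IsOpenImmersion j)
    (hU : IsAlgSpace U) (hUc : IsQuasiCompactSp U) (p : Z ⟶ c.pt) (r : Z ⟶ U)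
    (sq : IsPullback p r (c.π.app i) j) :
    ∃ (P : CategoryTheory.Over i ⥤ Sp S) (pr : P ⟶ CategoryTheory.Over.forget i ⋙ D)
      (π : (Functor.const (CategoryTheory.Over i)).obj Z ⟶ P),
      Nonempty (IsLimit (⟨Z, π⟩ : Cone P)) ∧ (∀ k, IsAlgSpace (P.obj k)) ∧
      (∀ (k l : CategoryTheory.Over i) (φ : k ⟶ l), IsAffineMor (P.map φ)) ∧
      (∀ k, IsQuasiCompactSp (P.obj k)) ∧ (∀ k, IsQuasiSeparatedSp (P.obj k)) ∧
      (∀ k, RepWith @IsOpenImmersion (pr.app k)) ∧ (∀ k, π.app k ≫ pr.app k = p ≫ c.π.app k.left) := by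
  haveI := IsCofiltered.isConnected (CategoryTheory.Over i)
  let t : CategoryTheory.Over.forget i ⋙ D ⟶ (Functor.const _).obj (D.obj i) :=
    { app := fun k => D.map k.hom
      naturality := fun k l φ => by
        change D.map φ.left ≫ D.map l.hom = D.map k.hom ≫ 𝟙 _
        rw [Category.comp_id, ← D.map_comp, CategoryTheory.Over.w φ] }
  obtain ⟨P, pr, sn, π, hsq, hl, hmap, -, -, hpr⟩ := exists_pullback_system (CategoryTheory.Over.forget i ⋙ D) t j
    (c.whisker (CategoryTheory.Over.forget i)) ((Functor.Initial.isLimitWhiskerEquiv _ c).symm hc) (c.π.app i)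
    (fun k => c.w k.hom) p r sq
  have hPa : ∀ k, IsAlgSpace (P.obj k) := fun k =>
    isAlgSpace_of_isPullback (hD i).diag (hD _) hU (hsq k)
  have hUs := qcqs_of_openImmersion hj (hqs i)
  have hP := fun k => qcqs_of_isAffineMor (hPa k) hU (isAffineMor_baseChange (hsq k) (hDa _ _ k.hom)) hUc hUs
  exact ⟨P, pr, π, hl, hPa, fun k l φ => isAffineMor_baseChange (hmap φ).flip (hDa _ _ φ.left),
    fun k => (hP k).1, fun k => (hP k).2, fun k => repWith_of_isPullback (hsq k).flip hj, hpr⟩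

/-- An immersion into a limit, of finite type over the base, is an immersion into the late members. -/
theorem exists_isImmersion_into_member (D : I ⥤ Sp S) (hD : ∀ i, IsAlgSpace (D.obj i))
    (hDa : ∀ (i j : I) (φ : i ⟶ j), IsAffineMor (D.map φ)) (hqs : ∀ i, IsQuasiSeparatedSp (D.obj i))
    (c : Cone D) (hc : IsLimit c) {Y : Sp S} (hYa : IsAlgSpace Y) (hYqc : IsQuasiCompactSp Y)
    (y : Y ⟶ c.pt) (hy : RepWith @IsImmersion y) (i₁ : I)
    (hft : LocP @LocallyOfFiniteType (y ≫ c.π.app i₁)) :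
    ∃ i₀ : I, ∀ (i : I) (_ : i ⟶ i₀), RepWith @IsImmersion (y ≫ c.π.app i) := by
  haveI := compactSpace_of_isQuasiCompactSp hYqc
  have hP : ∀ {A B : Sp S} {f : A ⟶ B}, RepWith @IsOpenImmersion f → RepWith @IsImmersion f := fun h =>
    repWith_mono (fun _ _ g (hg : IsOpenImmersion g) => (inferInstance : IsImmersion g)) h
  have hOm : ∀ {A B : Sp S} {f : A ⟶ B}, RepWith @IsOpenImmersion f → Mono f := fun h =>
    mono_of_repWith (P := @IsOpenImmersion) (fun g hg => haveI : IsOpenImmersion g := hg; inferInstance) h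
  obtain ⟨hXa, -⟩ := isAlgSpace_limit_and_isAffineMor D hD hDa c hc
  -- a quasi-compact open of `D i₁` around the image
  obtain ⟨W₁, hW₁, hW₁c, hW₁m, -⟩ := exists_compact_open_sp (hD i₁)
    (isCompact_range (Points.continuous_map (y ≫ c.π.app i₁))) isOpen_univ (Set.subset_univ _)
  obtain ⟨b, hb⟩ := exists_fac_subι (y ≫ c.π.app i₁) hW₁m
  obtain ⟨Z, p, r, sq⟩ : ∃ (Z : Sp S) (p : Z ⟶ c.pt) (r : Z ⟶ subSp (D.obj i₁) W₁),
      IsPullback p r (c.π.app i₁) (subι (D.obj i₁) W₁) := ⟨_, _, _, IsPullback.of_hasPullback _ _⟩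
  obtain ⟨P, pr, π, ⟨hl⟩, hPa, hPda, hPc, hPs, hpr, hπ⟩ := exists_open_system D hD hDa hqs c hc i₁
    (subι _ W₁) (repWith_subι _ W₁ hW₁) (isAlgSpace_subSp (hD i₁) hW₁) (isQuasiCompactSp_subSp (hD i₁) hW₁ hW₁c)
    p r sq
  let y' : Y ⟶ Z := sq.lift y b hb.symm
  haveI : Mono p := hOm (repWith_of_isPullback sq.flip (repWith_subι _ W₁ hW₁))
  have hy' : RepWith @IsImmersion y' := by
    refine repWith_of_isPullback (f := y) (g := p) (g' := 𝟙 Y) ?_ hy
    rw [show y = y' ≫ p from (sq.lift_fst _ _ _).symm]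
    exact IsPullback.of_id_fst.paste_vert (IsKernelPair.id_of_mono p)
  have hZa : IsAlgSpace Z := isAlgSpace_of_isPullback (hD i₁).diag hXa (isAlgSpace_subSp (hD i₁) hW₁) sq
  -- a quasi-compact open of the limit in which the image is closed
  obtain ⟨-, hlc⟩ := isEmbedding_of_immersion hZa hy'
  obtain ⟨V, hVo, hVc, hyV, hVW⟩ := exists_compact_open_sp hZa (isCompact_range (Points.continuous_map y'))
    hlc.isOpen_coborder subset_coborder
  obtain ⟨y'', hy''⟩ := exists_fac_subι y' hyV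
  have hv := repWith_subι Z V hVo
  haveI : Mono (subι Z V) := hOm hv
  have hy''i : RepWith @IsImmersion y'' := by
    refine repWith_of_isPullback (f := y') (g := subι Z V) (g' := 𝟙 Y) ?_ hy'
    rw [← hy'']
    exact IsPullback.of_id_fst.paste_vert (IsKernelPair.id_of_mono _)
  have hy''c : RepWith @IsClosedImmersion y'' := by
    refine closedImmersion_of_isClosed_range hy''i ?_
    have e : Set.range (Points.map y'') = Points.map (subι Z V) ⁻¹' closure (Set.range (Points.map y')) := by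
      ext x
      constructor
      · rintro ⟨z, rfl⟩
        exact subset_closure ⟨z, by rw [← hy'', Points.map_comp]⟩
      · intro hx
        have hxW : Points.map (subι Z V) x ∈ coborder (Set.range (Points.map y')) :=
          hVW ((range_map_subι Z V).subset ⟨x, rfl⟩)
        obtain ⟨z, hz⟩ := coborder_inter_closure.subset ⟨hxW, hx⟩
        refine ⟨z, injective_map_of_repWith (P := @IsOpenImmersion) (fun g hg => by
          haveI : IsOpenImmersion g := hg
          exact g.isOpenEmbedding.injective) hv ?_⟩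
        rw [← Points.map_comp, hy'', hz]
    rw [e]
    exact isClosed_closure.preimage (Points.continuous_map _)
  obtain ⟨k, Uk, jk, q, hjk, hUk, sq₂⟩ := exists_open_stage P hPa hPda hPc hPs ⟨Z, π⟩ hl (subSp Z V) (subι Z V) hv
    (isQuasiCompactSp_subSp hZa hVo hVc)
  have hUka : IsAlgSpace Uk := by
    obtain ⟨A, a, ha, has, -⟩ := hUk
    haveI := hOm hjk
    exact ⟨representable_diag_of_mono jk (hPa k).diag, A, a, ha, has⟩
  obtain ⟨P₂, pr₂, π₂, ⟨hl₂⟩, hP₂a, hP₂da, hP₂c, -, hpr₂, hπ₂⟩ := exists_open_system P hPa hPda hPs ⟨Z, π⟩ hl k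
    jk hjk hUka hUk (subι Z V) q sq₂
  have key : ∀ l : CategoryTheory.Over k, (y'' ≫ π₂.app l) ≫ pr₂.app l ≫ pr.app l.left = y ≫ c.π.app l.left.left := by
    intro l
    rw [Category.assoc, ← Category.assoc (π₂.app l), hπ₂, Category.assoc, hπ, reassoc_of% hy'', ← Category.assoc,
      sq.lift_fst]
  let o : CategoryTheory.Over k := CategoryTheory.Over.mk (𝟙 k)
  have hfto : LocP @LocallyOfFiniteType (y'' ≫ π₂.app o) := by
    refine locP_of_comp (P := @LocallyOfFiniteType) (Q := ⊤) ?_ (hD i₁) (g := pr₂.app o ≫ pr.app k ≫ D.map k.hom) ?_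
      (fun _ _ _ _ _ _ _ _ => trivial)
    · intro _ _ _ f g hfg _
      haveI : LocallyOfFiniteType (f ≫ g) := hfg
      exact locallyOfFiniteType_of_comp f g
    · have e : (y'' ≫ π₂.app o) ≫ pr₂.app o ≫ pr.app k ≫ D.map k.hom = y ≫ c.π.app i₁ := by
        have := key o =≫ D.map k.hom
        simp only [Category.assoc, c.w] at this
        rw [Category.assoc]
        exact this
      rw [e]; exact hft
  obtain ⟨l₀, hl₀⟩ := exists_isClosedImmersion_into_member P₂ hP₂a hP₂da ⟨_, π₂⟩ hl₂ y'' hy''c o (hP₂c o) hYa hfto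
  refine ⟨l₀.left.left, fun i ψ => ?_⟩
  let m : CategoryTheory.Over.mk (ψ ≫ l₀.left.hom) ⟶ l₀.left := CategoryTheory.Over.homMk ψ
  let l : CategoryTheory.Over k := CategoryTheory.Over.mk (m ≫ l₀.hom)
  have := repWith_comp (repWith_mono (fun _ _ g (hg : IsClosedImmersion g) => (inferInstance : IsImmersion g))
    (hl₀ l (CategoryTheory.Over.homMk m))) (repWith_comp (hP (hpr₂ l)) (hP (hpr l.left)))
  rw [key l] at this
  exact this

end Groth.Agent.ASp
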