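import Groth.Agent.ASp.UnivThickExist
import Groth.Agent.ModPairLib.Pair
import Groth.Agent.S3857
/-!
The first infinitesimal neighbourhood of a closed subspace is its universal thickening.
-/

set_option autoImplicit false
set_option backward.isDefEq.respectTransparency false
set_option backward.isDefEq.respectTransparency.types false

universe u

open CategoryTheory CategoryTheory.Limits AlgebraicGeometry Opposite

namespace Groth.Agent.Inf

open _root_.AlgSp Groth.Agent.ASp

variable {S : Scheme.{u}} {Z Zn X : Sp S} {c : Z ⟶ X} {j : Z ⟶ Zn} {k : Zn ⟶ X}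

/-- The defining property of an infinitesimal neighbourhood on an arbitrary etale chart. -/
theorem ker_of_isInfNbhd {n : ℕ} (hN : IsInfNbhd n c j k) {U W Wn : Over S} {q : (yon S).obj U ⟶ X}
    (hq : RepWith @Etale q) {p : (yon S).obj W ⟶ Z} {pn : (yon S).obj Wn ⟶ Zn} {w : W ⟶ U} {wn : Wn ⟶ U}
    (sq : IsPullback p ((yon S).map w) c q) (sqn : IsPullback pn ((yon S).map wn) k q) :
    wn.left.ker = w.left.ker ^ (n + 1) := by
  haveI : IsClosedImmersion w.left := hN.2.1.2 _ _ _ sq
  haveI : IsClosedImmersion wn.left := hN.2.2.1.2 _ _ _ sqn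
  have key : ∀ a, wn.left.ker.comap (U.left.affineCover.f a) =
      (w.left.ker ^ (n + 1)).comap (U.left.affineCover.f a) := fun a => by
    let V : Over S := Over.mk (U.left.affineCover.f a ≫ U.hom)
    let g : V ⟶ U := Over.homMk (U.left.affineCover.f a) rfl
    haveI : IsAffine V.left := inferInstanceAs (IsAffine (U.left.affineCover.X a))
    have hb : RepWith @Etale ((yon S).map g ≫ q) := repWith_comp (repWith_yon_map (P := @Etale) (g := g)
      (inferInstanceAs (Etale (U.left.affineCover.f a)))) hq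
    have h1 : IsPullback (pullback.fst w g) (pullback.snd w g) w g := IsPullback.of_hasPullback _ _
    have h2 : IsPullback (pullback.fst wn g) (pullback.snd wn g) wn g := IsPullback.of_hasPullback _ _
    have e := hN.2.2.2 ((yon S).map g ≫ q) _ (pullback.snd w g) _ (pullback.snd wn g)
      inferInstance hb ((isPullback_yon_map h1).paste_horiz sq) ((isPullback_yon_map h2).paste_horiz sqn)
    rw [(S3857.ker_of_isPullback (isPullback_left h1).flip).2,
      (S3857.ker_of_isPullback (isPullback_left h2).flip).2, ← S3857.comap_pow] at e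
    exact e
  refine le_antisymm ?_ ?_ <;>
    refine ModPairLib.le_of_cover U.left.affineCover.f (fun x => ?_) fun a => ?_
  · exact ⟨_, U.left.affineCover.covers x⟩
  · exact (key a).le
  · exact ⟨_, U.left.affineCover.covers x⟩
  · exact (key a).ge

/-- The first infinitesimal neighbourhood is a first order thickening. -/
theorem isFOThickMor_of_isInfNbhd {Z Zn X : Space S} {c : Z ⟶ X} {j : Z ⟶ Zn} {k : Zn ⟶ X}
    (hN : IsInfNbhd 1 c.hom j.hom k.hom) : IsFOThickMor j.hom := by
  obtain ⟨U, q, hqe, hqs⟩ := X.property.atlas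
  obtain ⟨W, p, w, sq⟩ : ∃ (W : Over S) (p : (yon S).obj W ⟶ Z.obj) (w : W ⟶ U),
      IsPullback p ((yon S).map w) c.hom q := ⟨_, _, _, hN.2.1.1.isPullback q⟩
  obtain ⟨Wn, pn, wn, sqn⟩ : ∃ (Wn : Over S) (pn : (yon S).obj Wn ⟶ Zn.obj) (wn : Wn ⟶ U),
      IsPullback pn ((yon S).map wn) k.hom q := ⟨_, _, _, hN.2.2.1.1.isPullback q⟩
  obtain ⟨i, hi⟩ := (yon S).map_surjective (sqn.lift (p ≫ j.hom) ((yon S).map w)
    (by rw [Category.assoc, hN.1]; exact sq.w))
  have hw : i ≫ wn = w := (yon S).map_injective (by rw [Functor.map_comp, hi, sqn.lift_snd])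
  have hij : IsPullback p ((yon S).map i) j.hom pn := by
    refine IsPullback.of_bot (h₃₁ := q) (v₂₁ := (yon S).map wn) (v₂₂ := k.hom) ?_ ?_ sqn
    · rw [← Functor.map_comp, hw, hN.1]; exact sq
    · rw [hi, sqn.lift_fst]
  haveI : IsClosedImmersion w.left := hN.2.1.2 _ _ _ sq
  haveI : IsClosedImmersion wn.left := hN.2.2.1.2 _ _ _ sqn
  have hpb : IsPullback (𝟙 W.left) i.left w.left wn.left :=
    IsPullback.of_isLimit' ⟨by rw [Category.id_comp, ← Over.comp_left, hw]⟩
      (PullbackCone.IsLimit.mk _ (fun s => s.fst) (fun s => Category.comp_id _) (fun s => by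
          rw [← cancel_mono wn.left, Category.assoc, ← Over.comp_left, hw]; exact s.condition)
        (fun s m h1 _ => (Category.comp_id m).symm.trans h1))
  have hker := ker_of_isInfNbhd hN hqe sq sqn
  obtain ⟨hci, hik⟩ := S3857.ker_of_isPullback hpb.flip
  refine isFOThickMor_of_chart (iZ := j) (repWith_of_isPullback sqn.flip hqe)
    (repWith_of_isPullback sqn.flip hqs) hij ⟨⟨hci, ⟨fun x => ?_⟩⟩, ?_⟩
  · have hx : wn.left x ∈ Set.range w.left := by
      rw [← w.left.isClosedEmbedding.isClosed_range.closure_eq, ← Scheme.Hom.support_ker,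
        ← Scheme.IdealSheafData.support_pow_succ w.left.ker 1, ← hker, Scheme.Hom.support_ker]
      exact subset_closure ⟨x, rfl⟩
    obtain ⟨z, hz⟩ := hx
    exact ⟨z, wn.left.isClosedEmbedding.injective (by
      rw [← Scheme.Hom.comp_apply, ← Over.comp_left, hw, hz])⟩
  · have h1 : i.left.ker * i.left.ker = wn.left.ker.comap wn.left :=
      (congrArg (fun K => K * K) hik).trans ((BlowCompLib.comap_mul wn.left _ _).symm.trans
        (congrArg (fun K => Scheme.IdealSheafData.comap K wn.left) ((pow_two _).symm.trans hker.symm)))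
    refine le_bot_iff.1 (h1.le.trans ?_)
    exact (Scheme.IdealSheafData.le_map_iff_comap_le.1 (Scheme.IdealSheafData.map_bot wn.left).ge)

/-- Universality of the first infinitesimal neighbourhood. -/
theorem isUnivFOThick_infNbhd {Z Zn X : Space S} {c : Z ⟶ X} {j : Z ⟶ Zn} {k : Zn ⟶ X}
    (hN : IsInfNbhd 1 c.hom j.hom k.hom) : IsUnivFOThick c.hom j.hom k.hom := by
  have hk := hN.2.2.1
  haveI : Mono k.hom := mono_of_repWith (P := @IsClosedImmersion)
    (fun g hg => haveI : IsClosedImmersion g := hg; inferInstance) hk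
  refine isUnivFOThick_of_affine (isFOThickMor_of_isInfNbhd hN) hN.1 fun A _ I hI str a b e => ?_
  obtain ⟨U, q, hqe, hqs⟩ := X.property.atlas
  obtain ⟨W, p, w, sq⟩ : ∃ (W : Over S) (p : (yon S).obj W ⟶ Z.obj) (w : W ⟶ U),
      IsPullback p ((yon S).map w) c.hom q := ⟨_, _, _, hN.2.1.1.isPullback q⟩
  obtain ⟨Wn, pn, wn, sqn⟩ : ∃ (Wn : Over S) (pn : (yon S).obj Wn ⟶ Zn.obj) (wn : Wn ⟶ U),
      IsPullback pn ((yon S).map wn) k.hom q := ⟨_, _, _, hk.1.isPullback q⟩
  haveI : IsClosedImmersion w.left := hN.2.1.2 _ _ _ sq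
  haveI : IsClosedImmersion wn.left := hk.2 _ _ _ sqn
  obtain ⟨M, m₁, m₂, hM⟩ := exists_isPullback_yon hqe.1 b
  have hm : IsPullback (pullback.fst (qI I str) m₂) (pullback.snd (qI I str) m₂) (qI I str) m₂ :=
    IsPullback.of_hasPullback _ _
  let g := pullback.snd (qI I str) m₂
  have hth : MoreMor.IsFirstOrderThickening (qI I str).left :=
    isFirstOrderThickening_of_isFOThickMor_yon_map (inferInstanceAs (IsAffine (Spec (CommRingCat.of A))))
      (isFOThickMor_qI hI str)
  have hg2 : g.left.ker * g.left.ker = ⊥ :=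
    (Groth.Agent.ConormalLib.isFirstOrderThickening_of_isPullback (isPullback_left hm) hth).2
  obtain ⟨l, hl⟩ := (yon S).map_surjective (sq.lift ((yon S).map (pullback.fst (qI I str) m₂) ≫ a)
    ((yon S).map (g ≫ m₁)) (by
      rw [Category.assoc, ← e, ← Functor.map_comp_assoc, pullback.condition, Functor.map_comp,
        Functor.map_comp, Category.assoc, Category.assoc, hM.w]))
  have hlw : l ≫ w = g ≫ m₁ := (yon S).map_injective (by rw [Functor.map_comp, hl, sq.lift_snd])
  have hle : w.left.ker.comap m₁.left ≤ g.left.ker := by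
    rw [← Scheme.IdealSheafData.le_map_iff_comap_le, Scheme.IdealSheafData.map_ker, ← Over.comp_left,
      ← hlw, Over.comp_left]
    exact Scheme.Hom.le_ker_comp _ _
  have hker : wn.left.ker ≤ m₁.left.ker := by
    have h1 : wn.left.ker.comap m₁.left = w.left.ker.comap m₁.left * w.left.ker.comap m₁.left :=
      (congrArg (fun K => Scheme.IdealSheafData.comap K m₁.left)
        ((ker_of_isInfNbhd hN hqe sq sqn).trans (pow_two _))).trans (BlowCompLib.comap_mul m₁.left _ _)
    have h2 : w.left.ker.comap m₁.left * w.left.ker.comap m₁.left ≤ g.left.ker * g.left.ker := fun O => by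
      simp only [Scheme.IdealSheafData.ideal_mul, Pi.mul_apply]
      exact Ideal.mul_mono (hle O) (hle O)
    have h3 : wn.left.ker.comap m₁.left ≤ ⊥ := h1.le.trans (h2.trans hg2.le)
    exact (Scheme.IdealSheafData.le_map_iff_comap_le.2 h3).trans
      (Scheme.IdealSheafData.map_bot m₁.left).le
  let l' : M ⟶ Wn := Over.homMk (IsClosedImmersion.lift wn.left m₁.left hker) (by
    rw [← Over.w wn, ← Category.assoc, IsClosedImmersion.lift_fac, Over.w])
  have hl' : l' ≫ wn = m₁ := Over.OverMorphism.ext (IsClosedImmersion.lift_fac _ _ _)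
  haveI : Epi ((yon S).map m₂) := epi_of_etale_surjective (repWith_of_isPullback hM hqe)
    (repWith_of_isPullback hM hqs)
  obtain ⟨x, hx⟩ := exists_lift_of_epi k.hom b ((yon S).map m₂) ((yon S).map l' ≫ pn) (by
    rw [Category.assoc, sqn.w, ← Functor.map_comp_assoc, hl', hM.w])
  refine ⟨x, ⟨(cancel_mono k.hom).1 ?_, hx⟩, fun y ⟨_, hy⟩ => (cancel_mono k.hom).1 (hy.trans hx.symm)⟩
  rw [Category.assoc, hx, Category.assoc, hN.1, e]

end Groth.Agent.Inf
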