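import Groth.Agent.ASp.Infinitesimal
/-!
Infinitesimal lifting along representable etale morphisms of sheaves.
-/

set_option autoImplicit false
set_option backward.isDefEq.respectTransparency false
set_option backward.isDefEq.respectTransparency.types false

universe u

open CategoryTheory CategoryTheory.Limits AlgebraicGeometry Opposite

namespace Groth.Agent.Inf

open _root_.AlgSp Groth.Agent.ASp

variable {S : Scheme.{u}} {A : Type u} [CommRing A] {F G : Sp S} {a : F ⟶ G}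

/-- Representable etale maps lift infinitesimal test maps uniquely. -/
theorem existsUnique_rep_lift (ha : RepWith @Etale a) {I : Ideal A} (hI : I ^ 2 = ⊥)
    {str : Spec (CommRingCat.of A) ⟶ S} (b : (yon S).obj (TT str) ⟶ G)
    (v₀ : (yon S).obj (T0 I str) ⟶ F) (e : v₀ ≫ a = (yon S).map (qI I str) ≫ b) :
    ∃! v : (yon S).obj (TT str) ⟶ F, (yon S).map (qI I str) ≫ v = v₀ ∧ v ≫ a = b := by
  obtain ⟨M, fst, snd, hM⟩ : ∃ (M : Over S) (fst : (yon S).obj M ⟶ F) (snd : M ⟶ TT str),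
      IsPullback fst ((yon S).map snd) a b := ⟨_, _, _, ha.1.isPullback b⟩
  have he : RepWith @Etale ((yon S).map snd) := repWith_yon_map (ha.2 _ _ _ hM)
  obtain ⟨s₀, hs₀⟩ := (yon S).map_surjective (hM.lift v₀ ((yon S).map (qI I str)) e)
  have hs₀1 : (yon S).map s₀ ≫ fst = v₀ := by rw [hs₀, hM.lift_fst]
  have hs₀2 : (yon S).map s₀ ≫ (yon S).map snd = (yon S).map (qI I str) := by rw [hs₀, hM.lift_snd]
  obtain ⟨s, ⟨hs1, hs2⟩, hsu⟩ := existsUnique_chart_lift hI he (𝟙 _) s₀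
    (by rw [hs₀2, Category.comp_id])
  refine ⟨(yon S).map s ≫ fst, ⟨by rw [← Functor.map_comp_assoc, hs1, hs₀1],
    by rw [Category.assoc, hM.w, ← Category.assoc, hs2, Category.id_comp]⟩, fun v ⟨hv1, hv2⟩ => ?_⟩
  obtain ⟨t, ht⟩ := (yon S).map_surjective (hM.lift v (𝟙 _) (by rw [hv2, Category.id_comp]))
  have ht1 : (yon S).map t ≫ fst = v := by rw [ht, hM.lift_fst]
  have ht2 : (yon S).map t ≫ (yon S).map snd = 𝟙 _ := by rw [ht, hM.lift_snd]
  have ht0 : qI I str ≫ t = s₀ := by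
    apply (yon S).map_injective
    apply hM.hom_ext
    · rw [Functor.map_comp, Category.assoc, ht1, hv1, hs₀1]
    · rw [Functor.map_comp, Category.assoc, ht2, Category.comp_id, hs₀2]
  rw [← ht1, hsu t ⟨ht0, ht2⟩]

/-- Maps from the closed subscheme lift along a representable etale surjection on an etale covering
of the thickening. -/
theorem exists_pieces_rep (ha : RepWith @Etale a) (has : RepWith @Surjective a) {I : Ideal A}
    (hI : I ^ 2 = ⊥) {str : Spec (CommRingCat.of A) ⟶ S} (x : (yon S).obj (T0 I str) ⟶ G) :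
    ∃ (ι : Type u) (R : ι → Type u) (_ : ∀ i, CommRing (R i)) (φ : ∀ i, A →+* R i)
      (u : ∀ i, (yon S).obj (T0 (I.map (φ i)) (strR (φ i) str)) ⟶ F),
      (∀ i, Etale (cc (φ i) str).left) ∧
      (∀ t : ↥(TT str).left, ∃ i, t ∈ Set.range (cc (φ i) str).left) ∧
      (∀ t : ↥(T0 I str).left, ∃ i, t ∈ Set.range (cc0 (φ i) I str).left) ∧
      ∀ i, u i ≫ a = (yon S).map (cc0 (φ i) I str) ≫ x := by
  obtain ⟨M, fst, snd, hM⟩ : ∃ (M : Over S) (fst : (yon S).obj M ⟶ F) (snd : M ⟶ T0 I str),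
      IsPullback fst ((yon S).map snd) a x := ⟨_, _, _, ha.1.isPullback x⟩
  obtain ⟨ι, R, iR, φ, u, h1, h2, h3, h4⟩ := exists_pieces hI
    (repWith_yon_map (P := @Etale) (ha.2 _ _ _ hM)) (repWith_yon_map (P := @Surjective) (has.2 _ _ _ hM))
    (𝟙 ((yon S).obj (T0 I str)))
  refine ⟨ι, R, iR, φ, fun i => (yon S).map (u i) ≫ fst, h1, h2, h3, fun i => ?_⟩
  rw [Category.assoc, hM.w, ← Category.assoc, h4 i, Category.comp_id]

end Groth.Agent.Inf
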