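import Groth.Agent.ASp.Points
import Groth.Agent.EtPtsLib.ClosedLift
import Groth.Prelude.Def_AlgSpMor6
import Groth.Prelude.Def_AlgSpEt
/-!
Koszul-regular immersions of algebraic spaces are local complete intersection morphisms.
-/

set_option autoImplicit false
set_option backward.isDefEq.respectTransparency false
set_option backward.isDefEq.respectTransparency.types false

universe u

open CategoryTheory CategoryTheory.Limits AlgebraicGeometry Opposite

namespace Groth.Agent.ASp

open _root_.AlgSp

/-- Regular immersions are stable under isomorphisms of the source. -/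
theorem isRegularImmersion_iso_comp {k : RegImm.Kind} {Z' Z X : Scheme.{u}} (e : Z' ⟶ Z) [IsIso e] (i : Z ⟶ X)
    (h : RegImm.IsRegularImmersion k i) : RegImm.IsRegularImmersion k (e ≫ i) := by
  haveI := h.1
  refine ⟨inferInstance, fun z => ?_⟩
  obtain ⟨U, hzU, hcl, rs, hrs, hker⟩ := h.2 (e z)
  refine ⟨U, by rw [Scheme.Hom.comp_apply]; exact hzU, ?_, rs, hrs, ?_⟩
  · rw [morphismRestrict_comp]
    haveI := hcl
    infer_instance
  · rw [Scheme.Hom.comp_app, CommRingCat.hom_comp, ← RingHom.comap_ker,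
      (RingHom.injective_iff_ker_eq_bot _).1 (ConcreteCategory.bijective_of_isIso (e.app (i ⁻¹ᵁ U.1))).1,
      ← RingHom.ker_eq_comap_bot]
    exact hker

variable {S : Scheme.{u}} {X Y : Sp S}

theorem isLCIMor_of_regImm {f : X ⟶ Y} (hf : IsRegImmMor RegImm.Kind.koszul f) : IsLCIMor f := by
  intro U V a b h ha hb e u
  obtain ⟨hrep, hP⟩ := hf
  let fst := hrep.fst b
  let snd := hrep.snd b
  have hreg : RegImm.IsRegularImmersion .koszul snd.left := hP b fst snd hb (hrep.isPullback b)
  haveI : IsImmersion snd.left := hreg.1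
  have hfst : RepWith @Etale fst := MorphismProperty.of_isPullback (hrep.isPullback b).flip hb
  let l : U ⟶ hrep.pullback b := hrep.lift a h e
  have hl : l ≫ snd = h := hrep.lift_snd _ _ _
  let g : EtOver.mk a ha ⟶ EtOver.mk fst hfst := EtOver.homMk l (hrep.lift_fst _ _ _)
  haveI : Etale l.left := EtOver.etale_left g
  let ι := snd.left.coborderRange.ι
  let c := snd.left.liftCoborder
  have hc : c ≫ ι = snd.left := snd.left.liftCoborder_ι
  obtain ⟨V', W', k, q, hk, hsq, u', hu'⟩ := EtPtsLib.exists_etale_isPullback c (Scheme.Etale.mk l.left) u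
  haveI := hk
  haveI : Etale V'.hom := V'.prop
  have hmono : IsPullback (𝟙 (hrep.pullback b).left) c snd.left ι := by
    refine ⟨⟨(Category.id_comp _).trans hc.symm⟩, ⟨PullbackCone.IsLimit.mk _ (fun s => s.fst)
      (fun s => Category.comp_id _) (fun s => ?_) (fun s m h₁ _ => (Category.comp_id m).symm.trans h₁)⟩⟩
    rw [← cancel_mono ι, Category.assoc, hc]
    exact s.condition
  have sq₁ : IsPullback (k ≫ l.left) q snd.left (V'.hom ≫ ι) := by
    have := hsq.flip.paste_horiz hmono.flip.flip
    exact (Category.comp_id (k ≫ l.left)) ▸ this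
  let W : Over S := Over.mk (k ≫ U.hom)
  let P : Over S := Over.mk ((V'.hom ≫ ι) ≫ V.hom)
  have hh : h.left ≫ V.hom = U.hom := Over.w h
  have hq : q ≫ V'.hom ≫ ι = k ≫ h.left := by
    rw [← sq₁.w, Category.assoc, ← Over.comp_left, hl]
  let kW : W ⟶ hrep.pullback b := Over.homMk (k ≫ l.left) (by
    show (k ≫ l.left) ≫ _ = k ≫ U.hom
    rw [Category.assoc, Over.w l])
  let qW : W ⟶ P := Over.homMk q (by
    show q ≫ (V'.hom ≫ ι) ≫ V.hom = k ≫ U.hom
    rw [← Category.assoc, hq, Category.assoc, hh])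
  let vW : P ⟶ V := Over.homMk (V'.hom ≫ ι) rfl
  have sqO : IsPullback kW qW snd vW :=
    IsPullback.of_map (Over.forget S) (Over.OverMorphism.ext sq₁.w) sq₁
  have hW : IsPullback ((yon S).map kW ≫ fst) ((yon S).map qW) f ((yon S).map vW ≫ b) :=
    (sqO.map (yon S)).paste_horiz (hrep.isPullback b)
  haveI : Etale (V'.hom ≫ ι) := inferInstance
  have hq' : RegImm.IsRegularImmersion .koszul q := hP _ _ qW
    ((repWith_isMultiplicative (S := S) @Etale).comp_mem _ _
      ((repWith_yon_map_iff _ vW).2 ‹Etale (V'.hom ≫ ι)›) hb) hW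
  let e₀ := k.isoOpensRange
  refine ⟨k.opensRange, V'.left, e₀.inv ≫ q, V'.hom ≫ ι, ⟨u', hu'⟩, ?_,
    isRegularImmersion_iso_comp _ _ hq', inferInstance, ?_⟩
  · haveI : LocallyOfFiniteType h.left := by
      rw [← hl, Over.comp_left]
      infer_instance
    infer_instance
  · rw [Category.assoc, hq, ← Category.assoc]
    exact congrArg (· ≫ h.left) k.isoOpensRange_inv_comp

end Groth.Agent.ASp
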