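import Groth.Prelude.Def_AlgSpRep
import Mathlib.CategoryTheory.Filtered.Final
import Mathlib.CategoryTheory.Limits.Types.Filtered
import Mathlib.CategoryTheory.Limits.Types.Pullbacks
/-!
An elementwise criterion for a map of presheaves to be relatively limit preserving.
-/

set_option backward.isDefEq.respectTransparency false
set_option backward.isDefEq.respectTransparency.types false

universe u

open CategoryTheory CategoryTheory.Limits AlgebraicGeometry Opposite

namespace Groth.Agent.ASp

open _root_.AlgSp

variable {S : Scheme.{u}}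

/-- Sections of the source over a limit, lying over a section of the target at a finite stage, come from a finite
stage, uniquely up to increasing the stage. -/
def RelLP {F G : PSp S} (a : F ⟶ G) : Prop :=
  ∀ ⦃I : Type u⦄ [SmallCategory I] [IsCofiltered I] (D : I ⥤ Over S) (c : Cone D),
    IsLimit ((Over.forget S).mapCone c) → (∀ i, IsAffine (D.obj i).left) → IsAffine c.pt.left →
      (∀ i (y : G.obj (op (D.obj i))) (x : F.obj (op c.pt)), a.app _ x = G.map (c.π.app i).op y →
        ∃ (j : I) (f : j ⟶ i) (x' : F.obj (op (D.obj j))),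
          F.map (c.π.app j).op x' = x ∧ a.app _ x' = G.map (D.map f).op y) ∧
      (∀ i (x x' : F.obj (op (D.obj i))), F.map (c.π.app i).op x = F.map (c.π.app i).op x' →
        a.app _ x = a.app _ x' → ∃ (j : I) (f : j ⟶ i), F.map (D.map f).op x = F.map (D.map f).op x')

theorem RelLP.isRelLimitPreserving {F G : PSp S} {a : F ⟶ G} (h : RelLP a) : IsRelLimitPreserving a := by
  intro T y I _ _ D c hc hD hT
  obtain ⟨hs, hi⟩ := h (D ⋙ Over.map T.hom) ((Over.map T.hom).mapCone c) hc hD hT
  refine ⟨Types.FilteredColimit.isColimitOf' _ _ (fun x => ?_) (fun i x x' e => ?_)⟩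
  · obtain ⟨i₀⟩ := IsCofiltered.nonempty (C := I)
    have hy : ∀ i, G.map (((Over.map T.hom).map (c.π.app i))).op (G.map (overHom T (D.obj i)).op y) =
        G.map (overHom T c.pt).op y := fun i => by
      rw [← Functor.map_comp_apply, ← op_comp, map_comp_overHom]
      rfl
    obtain ⟨j, f, x', hx', ha⟩ := hs i₀ (G.map (overHom T (D.obj i₀)).op y) x.1 (x.2.trans (hy i₀).symm)
    refine ⟨op j, ⟨x', ha.trans ?_⟩, Subtype.ext hx'.symm⟩
    change G.map ((Over.map T.hom).map (D.map f)).op (G.map (overHom T (D.obj i₀)).op y) = _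
    rw [← Functor.map_comp_apply, ← op_comp, map_comp_overHom]
    rfl
  · obtain ⟨j, f, hf⟩ := hi i.unop x.1 x'.1 (congrArg Subtype.val e) (x.2.trans x'.2.symm)
    exact ⟨op j, f.op, Subtype.ext hf⟩

theorem relLP_of_isRelLimitPreserving {F G : PSp S} {a : F ⟶ G} (h : IsRelLimitPreserving a) : RelLP a := by
  intro I _ _ D c hc hD hT
  suffices ∀ i (y : G.obj (op (D.obj i))),
      (∀ x : F.obj (op c.pt), a.app _ x = G.map (c.π.app i).op y →
        ∃ (j : I) (f : j ⟶ i) (x' : F.obj (op (D.obj j))),
          F.map (c.π.app j).op x' = x ∧ a.app _ x' = G.map (D.map f).op y) ∧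
      (∀ (x x' : F.obj (op (D.obj i))), F.map (c.π.app i).op x = F.map (c.π.app i).op x' →
        a.app _ x = y → a.app _ x' = y → ∃ (j : I) (f : j ⟶ i), F.map (D.map f).op x = F.map (D.map f).op x') from
    ⟨fun i y => (this i y).1, fun i x x' e ea => (this i _).2 x x' e ea rfl⟩
  intro i y
  let T := D.obj i
  let D' : CategoryTheory.Over i ⥤ Over T.left :=
    { obj := fun k => Over.mk (D.map k.hom).left
      map := fun {k l} g => Over.homMk (D.map g.left).left (by
        change (D.map g.left).left ≫ (D.map l.hom).left = (D.map k.hom).left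
        rw [← Over.comp_left, ← D.map_comp, Over.w])
      map_id := fun k => by ext; simp
      map_comp := fun g g' => by ext; simp }
  let c' : Cone D' :=
    { pt := Over.mk (c.π.app i).left
      π := { app := fun k => Over.homMk (c.π.app k.left).left (by
              change (c.π.app k.left).left ≫ (D.map k.hom).left = (c.π.app i).left
              rw [← Over.comp_left, c.w])
             naturality := fun k l g => by
              ext
              change 𝟙 _ ≫ (c.π.app l.left).left = (c.π.app k.left).left ≫ (D.map g.left).left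
              rw [Category.id_comp, ← Over.comp_left, c.w] } }
  have hc' : IsLimit ((Over.forget T.left).mapCone c') :=
    IsLimit.ofIsoLimit ((Functor.Initial.isLimitWhiskerEquiv (Over.forget i) ((Over.forget S).mapCone c)).symm hc)
      (Cone.ext (Iso.refl _) (fun k => (Category.id_comp _).symm))
  obtain ⟨hcol⟩ := h T y D' c' hc' (fun k => hD k.left) hT
  -- the comparison between `D' k` viewed over `S` and `D k.left`
  let e : ∀ k : CategoryTheory.Over i, (Over.map T.hom).obj (D'.obj k) ≅ D.obj k.left := fun k =>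
    Over.isoMk (Iso.refl _) (by
      change 𝟙 _ ≫ (D.obj k.left).hom = (D.map k.hom).left ≫ (D.obj i).hom
      rw [Category.id_comp, Over.w])
  let ec : (Over.map T.hom).obj c'.pt ≅ c.pt := Over.isoMk (Iso.refl _) (by
      change 𝟙 _ ≫ c.pt.hom = (c.π.app i).left ≫ (D.obj i).hom
      rw [Category.id_comp, Over.w]; rfl)
  have h₁ : ∀ k, overHom T (D'.obj k) = (e k).hom ≫ D.map k.hom := fun k => by
    ext; exact (Category.id_comp _).symm
  have h₂ : overHom T c'.pt = ec.hom ≫ c.π.app i := by ext; exact (Category.id_comp _).symm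
  have h₃ : ∀ k, (Over.map T.hom).map (c'.π.app k) ≫ (e k).hom = ec.hom ≫ c.π.app k.left := fun k => by
    ext; exact (Category.comp_id _).trans (Category.id_comp _).symm
  have h₄ : ∀ {k l} (g : k ⟶ l), (Over.map T.hom).map (D'.map g) ≫ (e l).hom = (e k).hom ≫ D.map g.left :=
    fun g => by ext; exact (Category.comp_id _).trans (Category.id_comp _).symm
  refine ⟨fun x hx => ?_, fun x x' hxx hax hax' => ?_⟩
  · obtain ⟨k, z, hz⟩ := Types.jointly_surjective_of_isColimit hcol (⟨F.map ec.hom.op x, by
      erw [NatTrans.naturality_apply, hx, ← Functor.map_comp_apply, ← op_comp, h₂]⟩ :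
        (fiberFun a T y).obj (op c'.pt))
    have hz' : F.map ((Over.map T.hom).map (c'.π.app k.unop)).op z.1 = F.map ec.hom.op x :=
      congrArg Subtype.val hz
    refine ⟨k.unop.left, k.unop.hom, F.map (e k.unop).inv.op z.1, ?_, ?_⟩
    · have := congrArg (F.map ec.inv.op) hz'
      erw [← Functor.map_comp_apply, ← Functor.map_comp_apply] at this
      rw [← Functor.map_comp_apply, ← op_comp,
        show c.π.app k.unop.left ≫ (e k.unop).inv = ec.inv ≫ (Over.map T.hom).map (c'.π.app k.unop) by
          rw [Iso.eq_inv_comp, ← Category.assoc, ← h₃, Category.assoc, Iso.hom_inv_id, Category.comp_id]]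
      rw [← op_comp, ← op_comp, Iso.inv_hom_id, op_id, Functor.map_id_apply] at this
      exact this
    · erw [NatTrans.naturality_apply, z.2, ← Functor.map_comp_apply, ← op_comp, h₁, Iso.inv_hom_id_assoc]
  · let k₀ : CategoryTheory.Over i := Over.mk (𝟙 i)
    have hmem : ∀ x, a.app _ x = y → a.app _ (F.map (e k₀).hom.op x) = G.map (overHom T (D'.obj k₀)).op y :=
      fun x hax => by
        erw [NatTrans.naturality_apply, hax, h₁, show D.map k₀.hom = 𝟙 _ from D.map_id i, Category.comp_id]
        rfl
    obtain ⟨l, g, hg⟩ := (Types.FilteredColimit.isColimit_eq_iff' hcol (i := op k₀)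
      (⟨_, hmem x hax⟩ : (fiberFun a T y).obj (op (D'.obj k₀))) ⟨_, hmem x' hax'⟩).1 (Subtype.ext (by
        change F.map ((Over.map T.hom).map (c'.π.app k₀)).op (F.map (e k₀).hom.op x) =
          F.map ((Over.map T.hom).map (c'.π.app k₀)).op (F.map (e k₀).hom.op x')
        rw [← Functor.map_comp_apply, ← Functor.map_comp_apply, ← op_comp, h₃, op_comp,
          Functor.map_comp_apply, Functor.map_comp_apply]
        exact congrArg _ hxx))
    refine ⟨l.unop.left, g.unop.left, ?_⟩
    have hg' : F.map ((Over.map T.hom).map (D'.map g.unop)).op (F.map (e k₀).hom.op x) =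
        F.map ((Over.map T.hom).map (D'.map g.unop)).op (F.map (e k₀).hom.op x') := congrArg Subtype.val hg
    rw [← Functor.map_comp_apply, ← Functor.map_comp_apply, ← op_comp, h₄, op_comp, Functor.map_comp_apply,
      Functor.map_comp_apply] at hg'
    have hinj : Function.Injective (F.map (e l.unop).hom.op) := fun u v huv => by
      simpa [← Functor.map_comp_apply, ← op_comp] using congrArg (F.map (e l.unop).inv.op) huv
    exact hinj hg'

theorem isRelLimitPreserving_iff {F G : PSp S} (a : F ⟶ G) : IsRelLimitPreserving a ↔ RelLP a :=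
  ⟨relLP_of_isRelLimitPreserving, RelLP.isRelLimitPreserving⟩

theorem RelLP.comp {F G H : PSp S} {a : F ⟶ G} {b : G ⟶ H} (ha : RelLP a) (hb : RelLP b) : RelLP (a ≫ b) := by
  intro I _ _ D c hc hD hT
  obtain ⟨as, ai⟩ := ha D c hc hD hT
  obtain ⟨bs, bi⟩ := hb D c hc hD hT
  refine ⟨fun i z x hx => ?_, fun i x x' e he => ?_⟩
  · obtain ⟨j, f, g, hg, hg'⟩ := bs i z (a.app _ x) hx
    obtain ⟨k, f', x', h1, h2⟩ := as j g x hg.symm
    refine ⟨k, f' ≫ f, x', h1, ?_⟩
    rw [NatTrans.comp_app, CategoryTheory.comp_apply, h2, NatTrans.naturality_apply, hg',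
      ← Functor.map_comp_apply, ← op_comp, D.map_comp]
  · obtain ⟨j, f, hf⟩ := bi i (a.app _ x) (a.app _ x')
      (by rw [← NatTrans.naturality_apply, ← NatTrans.naturality_apply, e]) he
    obtain ⟨k, f', hf'⟩ := ai j (F.map (D.map f).op x) (F.map (D.map f).op x')
      (by erw [← Functor.map_comp_apply, ← Functor.map_comp_apply, ← op_comp, c.w]; exact e)
      (by rw [NatTrans.naturality_apply, NatTrans.naturality_apply, hf])
    exact ⟨k, f' ≫ f, by rw [D.map_comp, op_comp, Functor.map_comp_apply, Functor.map_comp_apply, hf']⟩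

theorem RelLP.of_comp {F G H : PSp S} {a : F ⟶ G} {b : G ⟶ H} (hab : RelLP (a ≫ b)) (hb : RelLP b) :
    RelLP a := by
  intro I _ _ D c hc hD hT
  obtain ⟨cs, ci⟩ := hab D c hc hD hT
  obtain ⟨bs, bi⟩ := hb D c hc hD hT
  refine ⟨fun i y x hx => ?_, fun i x x' e he => ci i x x' e (by
    rw [NatTrans.comp_app, CategoryTheory.comp_apply, CategoryTheory.comp_apply, he])⟩
  obtain ⟨j, f, x', h1, h2⟩ := cs i (b.app _ y) x (by
    change b.app _ (a.app _ x) = _; rw [hx]; exact NatTrans.naturality_apply b _ _)
  obtain ⟨k, f', hk⟩ := bi j (a.app _ x') (G.map (D.map f).op y)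
    (by erw [← NatTrans.naturality_apply, h1, hx, ← Functor.map_comp_apply, ← op_comp, c.w]; rfl)
    (by rw [NatTrans.naturality_apply]; exact h2)
  refine ⟨k, f' ≫ f, F.map (D.map f').op x', ?_, ?_⟩
  · erw [← Functor.map_comp_apply, ← op_comp, c.w]; exact h1
  · rw [NatTrans.naturality_apply, hk, ← Functor.map_comp_apply, ← op_comp, D.map_comp]

theorem RelLP.of_isPullback {F G H P : PSp S} {a : F ⟶ G} {b : H ⟶ G} {fst : P ⟶ F} {snd : P ⟶ H}
    (h : IsPullback fst snd a b) (ha : RelLP a) : RelLP snd := by
  intro I _ _ D c hc hD hT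
  obtain ⟨as, ai⟩ := ha D c hc hD hT
  have sq : ∀ T, IsPullback (fst.app T) (snd.app T) (a.app T) (b.app T) := fun T =>
    h.map ((evaluation _ _).obj T)
  refine ⟨fun i y p hp => ?_, fun i p p' e he => ?_⟩
  · obtain ⟨j, f, x', h1, h2⟩ := as i (b.app _ y) (fst.app _ p) (by
      rw [← NatTrans.naturality_apply, ← hp]
      exact ConcreteCategory.congr_hom (sq _).w p)
    obtain ⟨p', h3, h4⟩ := Types.exists_of_isPullback (sq (op (D.obj j))) x' (H.map (D.map f).op y)
      (by rw [h2, NatTrans.naturality_apply])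
    refine ⟨j, f, p', Types.ext_of_isPullback (sq _) ?_ ?_, h4⟩
    · erw [NatTrans.naturality_apply, h3, h1]; rfl
    · erw [NatTrans.naturality_apply, h4, hp, ← Functor.map_comp_apply, ← op_comp, c.w]; rfl
  · obtain ⟨j, f, hf⟩ := ai i (fst.app _ p) (fst.app _ p')
      (by rw [← NatTrans.naturality_apply, ← NatTrans.naturality_apply, e]) (by
        have h1 := ConcreteCategory.congr_hom (sq (op (D.obj i))).w p
        have h2 := ConcreteCategory.congr_hom (sq (op (D.obj i))).w p'
        simp only [CategoryTheory.comp_apply] at h1 h2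
        rw [h1, h2, he])
    exact ⟨j, f, Types.ext_of_isPullback (sq _)
      (by rw [NatTrans.naturality_apply, NatTrans.naturality_apply, hf])
      (by rw [NatTrans.naturality_apply, NatTrans.naturality_apply, he])⟩

end Groth.Agent.ASp
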