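import Groth.Agent.ASp.EtLocW
import Groth.Agent.ASp.Fpqc
import Groth.Agent.ASp.FlatLocusSp
import Groth.Agent.CancelLib.Mor
import Groth.Agent.CILib.KoszulSchemeBC
import Groth.Agent.CILib.Scheme
import Groth.Agent.S9730
import Groth.Agent.S1494

/-!
Local complete intersection morphisms of algebraic spaces: flat base change, fpqc descent on the base,
and base change of the Koszul locus.
-/

set_option autoImplicit false
set_option backward.isDefEq.respectTransparency false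
set_option backward.isDefEq.respectTransparency.types false
set_option linter.style.haveILetI false
set_option maxHeartbeats 1000000

universe u

open CategoryTheory CategoryTheory.Limits AlgebraicGeometry Opposite

namespace Groth.Agent.ASp.Lci

open _root_.AlgSp Groth.Agent.ASp Groth.Agent.CILib Groth.Agent.Inf

theorem lci_eq : (AlgSp.lci : MorphismProperty Scheme.{u}) = LCIMorP := by
  ext X Y f
  exact forall_isKoszulAt_iff f

instance : EtW.IsEtLocW LCIMorP.{u} where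
  etale_le f hf := by haveI : Etale f := hf; exact lciMorP_of_smooth f
  of_precomp f g hf hs h := by
    haveI : Etale f := hf
    haveI : Surjective f := hs
    exact lciMorP_of_forall_isKoszulAt _
      ((S9730.result f (isSyntomicMor_of_smooth f) g).1 (isKoszulAt_of_lciMorP _ h))
  of_postcomp f g hg h := by haveI : Etale g := hg; exact lciMorP_of_comp_smooth f g h
  flat_baseChange hc _ h := lciMorP_baseChange hc h

variable {S : Scheme.{u}}

/-- Over a flat test scheme an fpqc covering refines to one with flat structure maps. -/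
theorem exists_flat_refinement {ι : Type u} {Y : Sp S} {Yi : ι → Sp S} {g : ∀ i, Yi i ⟶ Y}
    (hY : IsAlgSpace Y) (hYi : ∀ i, IsAlgSpace (Yi i)) (hτ : IsFpqcCover Yi g) (Z : Over S) (hZ : IsAffine Z.left)
    (h : (yon S).obj Z ⟶ Y) (hh : LocP @Flat h) :
    ∃ (m : ℕ) (W : Fin m → Over S) (c : ∀ j, W j ⟶ Z),
      (∀ j, IsAffine (W j).left) ∧ (∀ j, Flat (c j).left) ∧
      (∀ z : ↥Z.left, ∃ j, z ∈ Set.range (c j).left) ∧
      ∀ j, ∃ (i : ι) (l : (yon S).obj (W j) ⟶ Yi i), LocP @Flat l ∧ l ≫ g i = (yon S).map (c j) ≫ h := by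
  classical
  obtain ⟨m, W, c, hWa, -, hcs, hl⟩ := hτ.2 Z hZ h
  have key : ∀ j, ∃ (T : Over S) (r : T ⟶ Z), Flat r.left ∧
      (∃ (i : ι) (l : (yon S).obj T ⟶ Yi i), LocP @Flat l ∧ l ≫ g i = (yon S).map r ≫ h) ∧
      ∃ (W' : Over S) (w : W' ⟶ W j) (v : W' ⟶ T), Etale w.left ∧ Surjective w.left ∧ v ≫ r = w ≫ c j := fun j => by
    obtain ⟨i, l, hl⟩ := hl j
    have hP : IsAlgSpace (pullback h (g i)) := isAlgSpace_pullback hY.diag (IsAlgSpace.yon_obj Z) (hYi i) h (g i)
    obtain ⟨T, τ, hτe, hτs⟩ := hP.atlas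
    obtain ⟨W', w, v, hwe, hws, hv, -⟩ := exists_etale_cover hτe hτs
      (pullback.lift ((yon S).map (c j)) l hl.symm)
    obtain ⟨r, hr⟩ := (yon S).map_surjective (τ ≫ pullback.fst h (g i))
    have hτf : LocP @Flat τ := locP_of_repWith (repWith_mono (fun _ _ g (hg : Etale g) => (inferInstance : Flat g)) hτe)
    have h1 : LocP @Flat (pullback.fst h (g i)) :=
      ASp.locP_of_isPullback (IsPullback.of_hasPullback h (g i)) (hYi i) hY (IsAlgSpace.yon_obj Z) (hτ.1 i)
    have h2 : LocP @Flat (pullback.snd h (g i)) :=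
      ASp.locP_of_isPullback (IsPullback.of_hasPullback h (g i)).flip (IsAlgSpace.yon_obj Z) hY (hYi i) hh
    refine ⟨T, r, ?_, ⟨i, τ ≫ pullback.snd h (g i), ASp.locP_comp hP hτf h2, ?_⟩, W', w, v, hwe, hws, ?_⟩
    · exact ASp.locP_comp hP hτf h1 (𝟙 _) (𝟙 _) r (repWith_id _ T) (repWith_id _ Z)
        (by rw [Category.id_comp, Category.comp_id, hr])
    · rw [Category.assoc, ← pullback.condition, hr, Category.assoc]
    · refine (yon S).map_injective ?_
      rw [Functor.map_comp, Functor.map_comp, hr, reassoc_of% hv, pullback.lift_fst]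
  choose T r hrf hTl W' w v hwe hws hv using key
  have cover : ∀ (j : Fin m) (x : ↥(W j).left), ∃ A : (T j).left.Opens, IsAffineOpen A ∧
      x ∈ (w j).left '' ((v j).left ⁻¹' (A : Set (T j).left)) := fun j x => by
    obtain ⟨y, rfl⟩ := (hws j).surj x
    obtain ⟨A, hA, hyA, -⟩ := exists_isAffineOpen_mem_and_subset (x := (v j).left y) (U := (⊤ : (T j).left.Opens)) trivial
    exact ⟨A, hA, y, hyA, rfl⟩
  choose A hA hxA using cover
  have fin : ∀ j, ∃ t : Finset ↥(W j).left, ∀ x, ∃ a ∈ t, x ∈ (w j).left '' ((v j).left ⁻¹' (A j a : Set (T j).left)) := fun j => by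
    haveI : IsAffine (W j).left := hWa j
    haveI : Etale (w j).left := hwe j
    obtain ⟨t, ht⟩ := isCompact_univ.elim_finite_subcover
      (fun a => (w j).left '' ((v j).left ⁻¹' (A j a : Set (T j).left)))
      (fun a => (w j).left.isOpenMap _ ((A j a).2.preimage (v j).left.continuous))
      (fun x _ => Set.mem_iUnion.2 ⟨x, hxA j x⟩)
    exact ⟨t, fun x => by simpa using ht (Set.mem_univ x)⟩
  choose t ht using fin
  let e := Fintype.equivFin (Σ j : Fin m, (t j : Finset ↥(W j).left))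
  let B : ∀ q : Σ j : Fin m, (t j : Finset ↥(W j).left), Over S := fun q =>
    Over.mk ((A q.1 q.2.1).ι ≫ (T q.1).hom)
  let ιB : ∀ q, B q ⟶ T q.1 := fun q => Over.homMk (A q.1 q.2.1).ι rfl
  refine ⟨_, fun k => B (e.symm k), fun k => ιB _ ≫ r _, fun k => hA _ _, fun k => ?_, fun z => ?_, fun k => ?_⟩
  · haveI := hrf (e.symm k).1
    rw [Over.comp_left]
    exact inferInstanceAs (Flat ((A _ _).ι ≫ _))
  · obtain ⟨j, x, rfl⟩ := hcs z
    obtain ⟨a, ha, y, hy, rfl⟩ := ht j x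
    obtain ⟨k, hk⟩ := e.symm.surjective ⟨j, a, ha⟩
    refine ⟨k, ?_⟩
    show _ ∈ Set.range (ιB (e.symm k) ≫ r (e.symm k).1).left
    generalize e.symm k = q at hk ⊢
    subst hk
    refine ⟨⟨(v j).left y, hy⟩, ?_⟩
    show (r j).left ((v j).left y) = (c j).left ((w j).left y)
    rw [← Scheme.Hom.comp_apply, ← Scheme.Hom.comp_apply, ← Over.comp_left, hv, Over.comp_left]
  · obtain ⟨i, l, hlf, hl'⟩ := hTl (e.symm k).1
    refine ⟨i, (yon S).map (ιB _) ≫ l, ASp.locP_comp (IsAlgSpace.yon_obj _)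
      (locP_of_repWith (repWith_yon_map (inferInstanceAs (Flat (A _ _).ι)))) hlf, ?_⟩
    rw [Category.assoc, hl', Functor.map_comp, Category.assoc]

/-- An fpqc local property of schemes can be tested on the members of an fpqc covering. -/
theorem prop_of_fpqc_flat {P : MorphismProperty Scheme.{u}}
    [P.DescendsAlong (@Surjective ⊓ @Flat ⊓ @QuasiCompact)] [IsZariskiLocalAtTarget P]
    {ι : Type u} {Y : Sp S} {Yi : ι → Sp S} {g : ∀ i, Yi i ⟶ Y} (hτ : IsFpqcCover Yi g)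
    (hY : IsAlgSpace Y) (hYi : ∀ i, IsAlgSpace (Yi i)) {U V : Over S} (b : (yon S).obj V ⟶ Y) (hb : RepWith @Etale b) (h : U ⟶ V)
    (H : ∀ (W T : Over S) (c : W ⟶ V) (t : T ⟶ U) (r : T ⟶ W), IsPullback t r h c →
      ∀ (i : ι) (l : (yon S).obj W ⟶ Yi i), l ≫ g i = (yon S).map c ≫ b → LocP @Flat l → P r.left) :
    P h.left := by
  rw [IsZariskiLocalAtTarget.iff_of_iSup_eq_top (P := P) _ (iSup_affineOpens_eq_top V.left)]
  intro Z
  let Z₁ : Over S := Over.mk (Z.1.ι ≫ V.hom)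
  let z : Z₁ ⟶ V := Over.homMk Z.1.ι rfl
  obtain ⟨m, W, c, hWa, hcf, hcs, hl⟩ := exists_flat_refinement hY hYi hτ Z₁ Z.2 ((yon S).map z ≫ b)
    (locP_of_repWith (repWith_mono (fun _ _ g (hg : Etale g) => (inferInstance : Flat g))
      (repWith_comp (repWith_yon_map (inferInstanceAs (Etale Z.1.ι))) hb)))
  let C : (∐ fun j => (W j).left) ⟶ Z₁.left := Limits.Sigma.desc fun j => (c j).left
  have hWaff : ∀ j, IsAffine (W j).left := hWa
  have : IsAffine Z₁.left := Z.2
  have h1 : Surjective C := ⟨fun x => by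
    obtain ⟨j, w, rfl⟩ := hcs x
    refine ⟨Sigma.ι (fun j => (W j).left) j w, ?_⟩
    rw [← Scheme.Hom.comp_apply]
    simp only [C, Sigma.ι_desc]⟩
  have h2 : Flat C := by
    rw [IsZariskiLocalAtSource.iff_of_openCover (P := @Flat) (sigmaOpenCover fun j => (W j).left)]
    intro j
    have e : (sigmaOpenCover fun j => (W j).left).f j ≫ C = (c j).left := Sigma.ι_desc _ _
    rw [e]
    exact hcf j
  have h3 : QuasiCompact C := inferInstance
  refine MorphismProperty.of_pullback_snd_of_descendsAlong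
    (Q := @Surjective ⊓ @Flat ⊓ @QuasiCompact) (f := (h.left ∣_ Z.1)) (g := C) ⟨⟨h1, h2⟩, h3⟩ ?_
  rw [IsZariskiLocalAtTarget.iff_of_openCover (P := P) (sigmaOpenCover fun j => (W j).left)]
  intro j
  obtain ⟨i, l, hlf, hli⟩ := hl j
  have hT : IsPullback (pullback.fst h (c j ≫ z)) (pullback.snd h (c j ≫ z)) h (c j ≫ z) :=
    IsPullback.of_hasPullback _ _
  have hr := H (W j) _ (c j ≫ z) _ _ hT i l (by rw [hli, Functor.map_comp, Category.assoc]) hlf
  have e : (sigmaOpenCover fun j => (W j).left).f j ≫ C = (c j).left := Sigma.ι_desc _ _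
  have big := (((IsPullback.of_hasPullback (pullback.snd (h.left ∣_ Z.1) C)
    ((sigmaOpenCover fun j => (W j).left).f j)).paste_horiz
    (IsPullback.of_hasPullback (h.left ∣_ Z.1) C)).paste_horiz
    (isPullback_morphismRestrict h.left Z.1).flip)
  rw [e] at big
  have hT' : IsPullback (pullback.fst h (c j ≫ z)).left (pullback.snd h (c j ≫ z)).left h.left
      ((c j).left ≫ Z.1.ι) := isPullback_left hT
  have : P.RespectsIso := inferInstance
  change P (pullback.snd (pullback.snd (h.left ∣_ Z.1) C) _)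
  rw [← hT'.isoIsPullback_inv_snd _ _ big]
  exact (P.cancel_left_of_respectsIso _ _).2 hr

variable {P : MorphismProperty Scheme.{u}} [EtW.IsEtLocW P]

/-- Being locally on charts of type `P` descends along fpqc coverings of the base. -/
theorem locP_of_fpqc_flat [P.DescendsAlong (@Surjective ⊓ @Flat ⊓ @QuasiCompact)] [IsZariskiLocalAtTarget P]
    {ι : Type u} {X Y : Sp S} {f : X ⟶ Y} {Yi Xi : ι → Sp S} {g : ∀ i, Yi i ⟶ Y}
    {p : ∀ i, Xi i ⟶ Yi i} {q : ∀ i, Xi i ⟶ X} (hX : IsAlgSpace X) (hY : IsAlgSpace Y)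
    (hXi : ∀ i, IsAlgSpace (Xi i)) (hYi : ∀ i, IsAlgSpace (Yi i))
    (hsq : ∀ i, IsPullback (q i) (p i) f (g i)) (hτ : IsFpqcCover Yi g)
    (h : ∀ i, LocP P (p i)) : LocP P f := by
  intro U V a b k ha hb e
  refine prop_of_fpqc_flat hτ hY hYi b hb k fun W T c t r sq i l hl hlf => ?_
  obtain ⟨X', π, j, hX'⟩ : ∃ (X' : Sp S) (π : X' ⟶ X) (j : X' ⟶ (yon S).obj V),
      IsPullback π j f b := ⟨_, _, _, IsPullback.of_hasPullback f b⟩
  have hX'a : IsAlgSpace X' := isAlgSpace_of_isPullback hY.diag hX (IsAlgSpace.yon_obj V) hX'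
  have hπ : RepWith @Etale π := repWith_of_isPullback hX'.flip hb
  obtain ⟨k₀, hk₀π, hk₀j⟩ : ∃ l' : (yon S).obj U ⟶ X', l' ≫ π = a ∧ l' ≫ j = (yon S).map k :=
    ⟨hX'.lift a _ e, hX'.lift_fst _ _ _, hX'.lift_snd _ _ _⟩
  have hk₀ : RepWith @Etale k₀ := repWith_of_locP hX'a (hX'a.representable_from_yon _)
    (locP_of_comp (Q := @Etale) (fun u v h1 h2 => MorphismProperty.of_postcomp @Etale u v h2 h1) hX
      (g := π) (by rw [hk₀π]; exact locP_of_repWith ha) (locP_of_repWith hπ))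
  obtain ⟨T', π', j', hT'⟩ : ∃ (T' : Sp S) (π' : T' ⟶ X') (j' : T' ⟶ (yon S).obj W),
      IsPullback π' j' j ((yon S).map c) := ⟨_, _, _, IsPullback.of_hasPullback _ _⟩
  have hbig : IsPullback (π' ≫ π) j' f (l ≫ g i) := by
    rw [hl]
    exact hT'.paste_horiz hX'
  obtain ⟨m, hmq, hmp⟩ : ∃ m : T' ⟶ Xi i, m ≫ q i = π' ≫ π ∧ m ≫ p i = j' ≫ l :=
    ⟨(hsq i).lift _ _ (by rw [hbig.w, Category.assoc]), (hsq i).lift_fst _ _ _, (hsq i).lift_snd _ _ _⟩
  have hm : IsPullback m j' (p i) l := by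
    refine IsPullback.of_right ?_ hmp (hsq i)
    rw [hmq]
    exact hbig
  have hj' : LocP P j' := EtW.locP_of_isPullback hm.flip (hXi i) (hYi i) (IsAlgSpace.yon_obj W) hlf (h i)
  obtain ⟨k₁, hk₁π, hk₁j⟩ : ∃ l' : (yon S).obj T ⟶ T', l' ≫ π' = (yon S).map t ≫ k₀ ∧
      l' ≫ j' = (yon S).map r :=
    ⟨hT'.lift _ _ (by rw [Category.assoc, hk₀j, ← Functor.map_comp, sq.w, Functor.map_comp]),
      hT'.lift_fst _ _ _, hT'.lift_snd _ _ _⟩
  have hk₁ : IsPullback ((yon S).map t) k₁ k₀ π' := by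
    refine IsPullback.of_bot (h₃₁ := (yon S).map c) (v₂₁ := j') (v₂₂ := j) ?_ hk₁π.symm hT'
    rw [hk₁j, hk₀j]
    exact isPullback_yon_map sq
  exact hj' k₁ (𝟙 _) r (repWith_of_isPullback hk₁ hk₀) (repWith_id _ W)
    (by rw [hk₁j, Category.comp_id])

theorem isLocalOnBase_lci : IsLocalOnBase (IsFpqcCover (S := S)) (LocP LCIMorP) :=
  fun _ _ _ _ hY hYi hτ _ _ hX _ _ _ hXi hsq =>
    ⟨fun h i => EtW.locP_of_isPullback (hsq i).flip hX hY (hYi i) (hτ.1 i) h,
      fun h => locP_of_fpqc_flat hX hY hXi hYi hsq hτ h⟩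

/-- The affine description of the points near which a morphism is lci. -/
theorem exists_affine_isLCI_iff {X Y : Scheme.{u}} (f : X ⟶ Y) (x : X) :
    (∃ (U : X.Opens) (V : Y.Opens) (hU : IsAffineOpen U) (hV : IsAffineOpen V) (hUV : U ≤ f ⁻¹ᵁ V), x ∈ U ∧
      letI := (f.appLE V U hUV).hom.toAlgebra
      LCI.IsLCI Γ(Y, V) Γ(X, U)) ↔ ∃ W : X.Opens, x ∈ W ∧ LCIMorP (W.ι ≫ f) := by
  constructor
  · rintro ⟨U, V, hU, hV, e, hxU, h⟩
    letI := (f.appLE V U e).hom.toAlgebra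
    exact ⟨U, hxU, CancelLib.lciMorP_of_affine_comp_ι f hV hU e (isLCIHom_algebraMap.2 h)⟩
  · rintro ⟨W, hxW, hW⟩
    obtain ⟨V, hV, hxV, -⟩ := exists_isAffineOpen_mem_and_subset (x := f x) (U := (⊤ : Y.Opens)) trivial
    obtain ⟨E, hE, hxE, hEW⟩ := exists_isAffineOpen_mem_and_subset (x := x) (U := W ⊓ f ⁻¹ᵁ V) ⟨hxW, hxV⟩
    have hEV : E ≤ f ⁻¹ᵁ V := fun y hy => (hEW hy).2
    refine ⟨E, V, hE, hV, hEV, hxE, ?_⟩
    letI := (f.appLE V E hEV).hom.toAlgebra
    haveI : IsAffine E.toScheme := hE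
    have h2 : LCIMorP (E.ι ≫ f) := by
      rw [← Scheme.homOfLE_ι X (show E ≤ W from fun y hy => (hEW hy).1), Category.assoc]
      exact LCIMorP.comp_mem _ _ (lciMorP_of_smooth _) hW
    have h3 := (lciMorP_iff _).1 h2 ⟨⊤, isAffineOpen_top _⟩ ⟨V, hV⟩ (fun y _ => hEV y.2)
    dsimp only at h3
    have e4 : (E.ι ≫ f).appLE V ⊤ (fun y _ => hEV y.2) =
        f.appLE V E hEV ≫ E.ι.appLE E ⊤ (fun y _ => y.2) :=
      (Scheme.Hom.appLE_comp_appLE E.ι f V E ⊤ _ _).symm
    rw [e4, CommRingCat.hom_comp] at h3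
    haveI : IsIso (E.ι.appLE E ⊤ (fun y _ => y.2)) := by
      rw [Scheme.Opens.ι_appLE, Subsingleton.elim (homOfLE _) (eqToHom E.ι_image_top)]
      infer_instance
    have h5 := isLCIHom_stableUnderComposition _ _ h3
      (isLCIHom_of_bijective (inv (E.ι.appLE E ⊤ (fun y _ => y.2))).hom (ConcreteCategory.bijective_of_isIso _))
    rw [← RingHom.comp_assoc, ← CommRingCat.hom_comp, IsIso.hom_inv_id, CommRingCat.hom_id, RingHom.id_comp] at h5
    exact isLCIHom_algebraMap.1 h5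

/-- Being lci near a point commutes with base change for flat families. -/
theorem exists_open_lci_baseChange_iff {X Y S X' Y' S' : Scheme.{u}} (f : X ⟶ Y) (g : Y ⟶ S)
    [Flat (f ≫ g)] [LocallyOfFinitePresentation (f ≫ g)] [Flat g] [LocallyOfFinitePresentation g]
    {h : S' ⟶ S} {gY : Y' ⟶ Y} {g' : Y' ⟶ S'} (hY : IsPullback gY g' g h)
    {gX : X' ⟶ X} {f' : X' ⟶ Y'} (hX : IsPullback gX f' f gY) (x' : X') :
    (∃ W : X'.Opens, x' ∈ W ∧ LCIMorP (W.ι ≫ f')) ↔ ∃ W : X.Opens, gX x' ∈ W ∧ LCIMorP (W.ι ≫ f) := by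
  have h1 := Set.ext_iff.1 ((S1494.result f g).2 h gY g' hY gX f' (hX.paste_vert hY) hX.w) x'
  simp only [Set.mem_setOf_eq, Set.mem_preimage] at h1
  exact (exists_affine_isLCI_iff f' x').symm.trans (h1.trans (exists_affine_isLCI_iff f (gX x')))

variable {X Y Z : Sp S} {f : X ⟶ Y} {g : Y ⟶ Z}

/-- The points near which a morphism is lci commute with base change for flat families. -/
theorem locPNear_lci_baseChange_iff (hX : IsAlgSpace X) (hY : IsAlgSpace Y) (hZ : IsAlgSpace Z)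
    {X' Y' Z' : Sp S} (hX' : IsAlgSpace X') (hZ' : IsAlgSpace Z')
    (hfgp : LocP @LocallyOfFinitePresentation (f ≫ g)) (hfgf : LocP @Flat (f ≫ g))
    (hgf : LocP @Flat g) (hgp : LocP @LocallyOfFinitePresentation g)
    {pX : X' ⟶ X} {pY : Y' ⟶ Y} {pZ : Z' ⟶ Z} {f' : X' ⟶ Y'} {g' : Y' ⟶ Z'}
    (hcY : IsPullback pY g' g pZ) (hcX : IsPullback pX f' f pY)
    (x' : Points X') : LocPNear LCIMorP f' x' ↔ LocPNear LCIMorP f (Points.map pX x') := by
  obtain ⟨V, W, b, c, r, hb, hbs, hc, hcs, e₂⟩ := exists_chart (f := g) hY hZ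
  obtain ⟨U₀, p, hpe, hps⟩ := hX.atlas
  obtain ⟨U, w, k, hwe, hws, hk, -⟩ := exists_etale_cover hb hbs (p ≫ f)
  set a := (yon S).map w ≫ p
  have ha : RepWith @Etale a := repWith_comp (repWith_yon_map hwe) hpe
  have has : RepWith @Surjective a := repWith_comp (repWith_yon_map hws) hps
  have e₁ : a ≫ f = (yon S).map k ≫ b := by rw [hk, Category.assoc]
  obtain ⟨u, hu⟩ := surjective_ofPt has (Points.map pX x')
  -- a point over `x'` and `u`
  have hQ : IsAlgSpace (pullback pX a) := isAlgSpace_pullback hX.diag hX' (IsAlgSpace.yon_obj U) pX a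
  obtain ⟨q, hq₁, hq₂⟩ := points_exists_of_isPullback (IsPullback.of_hasPullback pX a) x'
    (Points.ofScheme U u) (by rw [← Points.ofPt_eq_map_ofScheme, hu])
  obtain ⟨U₁, p₁, -, hp₁s⟩ := hQ.atlas
  obtain ⟨u₁, rfl⟩ := surjective_ofPt hp₁s q
  obtain ⟨z₁, hz₁⟩ := (yon S).map_surjective (p₁ ≫ pullback.snd pX a)
  -- an atlas of the new base over the old one
  have hZ₁ : IsAlgSpace (pullback c pZ) := isAlgSpace_pullback hZ.diag (IsAlgSpace.yon_obj W) hZ' c pZ
  obtain ⟨W', ω, hωe, hωs⟩ := hZ₁.atlas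
  obtain ⟨j, hj⟩ := (yon S).map_surjective (ω ≫ pullback.fst c pZ)
  set c' := ω ≫ pullback.snd c pZ
  have hc' : RepWith @Etale c' := repWith_comp hωe (repWith_of_isPullback (IsPullback.of_hasPullback c pZ) hc)
  have ej : (yon S).map j ≫ c = c' ≫ pZ := by
    rw [hj, Category.assoc, pullback.condition, Category.assoc]
  let σ : (yon S).obj U₁ ⟶ pullback c pZ :=
    pullback.lift ((yon S).map (z₁ ≫ k ≫ r)) (p₁ ≫ pullback.fst pX a ≫ f' ≫ g') (by
      simp only [Functor.map_comp, Category.assoc, ← e₂, ← reassoc_of% e₁, hz₁]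
      rw [← hcY.w, ← reassoc_of% hcX.w, pullback.condition_assoc])
  obtain ⟨U₂, w₂, v₂, -, hw₂s, hv₂, -⟩ := exists_etale_cover hωe hωs σ
  obtain ⟨u₂, rfl⟩ := hw₂s.surj u₁
  -- charts of the base change
  have e₁₂ : a ≫ f ≫ g = (yon S).map (k ≫ r) ≫ c := by
    rw [reassoc_of% e₁, e₂, Functor.map_comp, Category.assoc]
  obtain ⟨b', hb', hb'₁, hb'₂⟩ := exists_baseChange_chart hcY hb hc hc' e₂ ej
  obtain ⟨a', ha', ha'₁, ha'₂⟩ := exists_baseChange_chart (hcX.paste_vert hcY) ha hc hc' e₁₂ ej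
  let k' : pullback (k ≫ r) j ⟶ pullback r j :=
    pullback.lift (pullback.fst (k ≫ r) j ≫ k) (pullback.snd (k ≫ r) j)
      (by rw [Category.assoc, pullback.condition])
  have sqk : IsPullback (pullback.fst (k ≫ r) j) k' k (pullback.fst r j) :=
    IsPullback.of_bot (v₂₁ := pullback.snd r j) (v₂₂ := r) (h₃₁ := j)
      (by simpa [k'] using IsPullback.of_hasPullback (k ≫ r) j) (pullback.lift_fst _ _ _).symm
      (IsPullback.of_hasPullback r j)
  have e' : a' ≫ f' = (yon S).map k' ≫ b' := by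
    refine hcY.hom_ext ?_ ?_
    · rw [Category.assoc, ← hcX.w, reassoc_of% ha'₁, e₁, Category.assoc, hb'₁, ← Functor.map_comp_assoc,
        ← Functor.map_comp_assoc]
      simp [k']
    · rw [Category.assoc, ha'₂, Category.assoc, hb'₂, ← Functor.map_comp_assoc]
      simp [k']
  -- the point in the chart of the base change
  obtain ⟨l, hl₁, hl₂⟩ : ∃ l : U₂ ⟶ pullback (k ≫ r) j,
      l ≫ pullback.fst _ _ = w₂ ≫ z₁ ∧ l ≫ pullback.snd _ _ = v₂ :=
    ⟨pullback.lift (w₂ ≫ z₁) v₂ ((yon S).map_injective (by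
        have := hv₂ =≫ pullback.fst c pZ
        simp only [Category.assoc, σ, pullback.lift_fst, ← hj] at this
        simp only [Functor.map_comp, Category.assoc] at this ⊢
        rw [this])),
      pullback.lift_fst _ _ _, pullback.lift_snd _ _ _⟩
  have hla : (yon S).map l ≫ a' = (yon S).map w₂ ≫ p₁ ≫ pullback.fst pX a := by
    refine (hcX.paste_vert hcY).hom_ext ?_ ?_
    · rw [Category.assoc, ha'₁, ← Functor.map_comp_assoc, hl₁, Functor.map_comp_assoc, hz₁]
      simp only [Category.assoc, pullback.condition]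
    · have := hv₂ =≫ pullback.snd c pZ
      simp only [Category.assoc, σ, pullback.lift_snd] at this
      rw [Category.assoc, ha'₂, ← Functor.map_comp_assoc, hl₂]
      simp only [c', Category.assoc, this]
  have hx : Points.ofPt a' (l.left u₂) = x' := by
    rw [← ofPt_yon_map_comp, hla, ofPt_yon_map_comp, ofPt_comp_eq_map, ← hq₁, ofPt_comp_eq_map]
    exact Points.map_comp _ _ _
  have hxu : Points.map pX x' = Points.ofPt a ((pullback.fst (k ≫ r) j).left (l.left u₂)) := by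
    rw [← ofPt_yon_map_comp (pullback.fst (k ≫ r) j) a, ← ha'₁, ← hx, ofPt_comp_eq_map, ofPt_comp_eq_map]
    exact (Points.map_comp _ _ _).symm
  rw [hxu, EtW.locPNear_iff_of_chart hX ha hb e₁, ← hx, EtW.locPNear_iff_of_chart hX' ha' hb' e']
  haveI : LocallyOfFinitePresentation (k.left ≫ r.left) := by
    rw [← Over.comp_left]; exact hfgp a c (k ≫ r) ha hc e₁₂
  haveI : Flat (k.left ≫ r.left) := by
    rw [← Over.comp_left]; exact hfgf a c (k ≫ r) ha hc e₁₂
  haveI : Flat r.left := hgf b c r hb hc e₂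
  haveI : LocallyOfFinitePresentation r.left := hgp b c r hb hc e₂
  exact exists_open_lci_baseChange_iff k.left r.left (isPullback_left (IsPullback.of_hasPullback r j))
    (isPullback_left sqk) _

/-- An lci morphism followed by a smooth one cancels. -/
theorem lci_of_comp_smooth (hZ : IsAlgSpace Z) (h : LocP LCIMorP (f ≫ g)) (hg : LocP @Smooth g) :
    LocP LCIMorP f :=
  EtW.locP_of_comp (Q := @Smooth) (fun u v h₁ h₂ => by
    haveI : Smooth v := h₂
    exact lciMorP_of_comp_smooth u v h₁) hZ h hg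

end Groth.Agent.ASp.Lci
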