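import Groth.Agent.ASp.LciLib
import Groth.Agent.ASp.SmST

/-!
Being a local complete intersection morphism of algebraic spaces is smooth local on source and target.
-/

set_option autoImplicit false
set_option backward.isDefEq.respectTransparency false
set_option backward.isDefEq.respectTransparency.types false
set_option linter.style.haveILetI false

universe u

open CategoryTheory CategoryTheory.Limits AlgebraicGeometry Opposite

namespace Groth.Agent.ASp.Lci

open _root_.AlgSp Groth.Agent.ASp Groth.Agent.CILib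

variable {S : Scheme.{u}}

section

variable {P : MorphismProperty Scheme.{u}} [EtW.IsEtLocW P]

theorem locP_comp {F G H : Sp S} {f : F ⟶ G} {g : G ⟶ H} (hG : IsAlgSpace G)
    (hf : LocP P f) (hg : LocP P g) : LocP P (f ≫ g) := by
  intro U W a c h ha hc e
  obtain ⟨V₀, y, hye, hys⟩ := hG.atlas
  obtain ⟨U₁, p, q, hpe, hps, hq, -⟩ := exists_etale_cover hye hys (a ≫ f)
  obtain ⟨V, w, v₀, hV⟩ := exists_isPullback_yon hc.1 (y ≫ g)
  have hv₀ : Etale v₀.left := hc.2 _ _ _ hV
  obtain ⟨l, hl⟩ := (yon S).map_surjective (hV.lift ((yon S).map (p ≫ h)) ((yon S).map q) (by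
    rw [Functor.map_comp, Category.assoc, ← e, reassoc_of% hq]))
  have h1 : l ≫ w = p ≫ h := (yon S).map_injective (by simp [hl])
  have h2 : l ≫ v₀ = q := (yon S).map_injective (by simp [hl])
  have hPq : P q.left := hf ((yon S).map p ≫ a) y q (repWith_comp (repWith_yon_map hpe) ha) hye
    (by rw [Category.assoc, hq])
  have hPl : P l.left := EtW.IsEtLocW.of_postcomp _ v₀.left hv₀ (by rwa [← Over.comp_left, h2])
  have hPw : P w.left := hg ((yon S).map v₀ ≫ y) c w (repWith_comp (repWith_yon_map hv₀) hye) hc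
    (by rw [Category.assoc]; exact hV.w.symm)
  refine EtW.IsEtLocW.of_precomp p.left h.left hpe hps ?_
  rw [← Over.comp_left, ← h1, Over.comp_left]
  exact P.comp_mem _ _ hPl hPw

theorem exists_source_cover {P Q : MorphismProperty Scheme.{u}}
    [IsZariskiLocalAtSource P] [IsZariskiLocalAtSource Q]
    {ι : Type u} {X Y : Sp S} {Xi : ι → Sp S} {g : ∀ i, Xi i ⟶ X} {f : X ⟶ Y}
    (hXi : ∀ i, IsAlgSpace (Xi i)) (hsurj : ∀ x : Points X, ∃ i, x ∈ Set.range (Points.map (g i)))
    (hg : ∀ i, LocP Q (g i)) (h : ∀ i, LocP P (g i ≫ f))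
    {U V : Over S} {a : (yon S).obj U ⟶ X} {b : (yon S).obj V ⟶ Y} {k : U ⟶ V}
    (ha : RepWith @Etale a) (hb : RepWith @Etale b) (e : a ≫ f = (yon S).map k ≫ b) :
    ∃ (T : Scheme.{u}) (t : T ⟶ U.left), Q t ∧ Surjective t ∧ P (t ≫ k.left) := by
  choose A p hpe hps using fun i => (hXi i).atlas
  choose B t b₁ hB using fun i => exists_isPullback_yon ha.1 (p i ≫ g i)
  have hb₁ : ∀ i, Etale (b₁ i).left := fun i => ha.2 _ _ _ (hB i)
  have hBp : ∀ i, RepWith @Etale ((yon S).map (b₁ i) ≫ p i) := fun i =>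
    repWith_comp (repWith_yon_map (hb₁ i)) (hpe i)
  refine ⟨∐ fun i => (B i).left, Limits.Sigma.desc fun i => (t i).left, ?_, ⟨fun u => ?_⟩, ?_⟩
  · rw [IsZariskiLocalAtSource.iff_of_openCover (P := Q) (sigmaOpenCover fun i => (B i).left)]
    intro i
    have e' : (sigmaOpenCover fun i => (B i).left).f i ≫ (Limits.Sigma.desc fun i => (t i).left) =
        (t i).left := Sigma.ι_desc _ _
    rw [e']
    exact hg i ((yon S).map (b₁ i) ≫ p i) a (t i) (hBp i) ha
      (by rw [Category.assoc]; exact (hB i).w.symm)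
  · obtain ⟨i, x, hx⟩ := hsurj (Points.ofPt a u)
    obtain ⟨v, rfl⟩ := surjective_ofPt (hps i) x
    rw [Points.map_ofPt] at hx
    obtain ⟨w, hw, -⟩ := (ofPt_eq_ofPt_iff (hB i) u v).1 hx.symm
    refine ⟨Sigma.ι (fun i => (B i).left) i w, ?_⟩
    rw [← Scheme.Hom.comp_apply, Sigma.ι_desc]
    exact hw
  · rw [IsZariskiLocalAtSource.iff_of_openCover (P := P) (sigmaOpenCover fun i => (B i).left)]
    intro i
    have e' : (sigmaOpenCover fun i => (B i).left).f i ≫ (Limits.Sigma.desc fun i => (t i).left) =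
        (t i).left := Sigma.ι_desc _ _
    rw [← Category.assoc, e']
    change P (t i ≫ k).left
    exact h i ((yon S).map (b₁ i) ≫ p i) b (t i ≫ k) (hBp i) hb
      (by rw [Functor.map_comp, Category.assoc, Category.assoc, ← e]
          simpa using ((hB i).w =≫ f).symm)

theorem locP_yon_map {A B : Over S} {k : A ⟶ B} (h : P k.left) : LocP P ((yon S).map k) :=
  EtW.locP_of_chart (repWith_id _ A) (repWith_id _ A) (repWith_id _ B) (h := k) (by simp) h

end

theorem isSmoothLocalST_lci : IsSmoothLocalST (LocP LCIMorP : MorphismProperty (Sp S)) where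
  precomp _ _ _ _ hY _ _ _ hf hg :=
    locP_comp hY (fun _ _ a b k ha hb e => by
      haveI : Smooth k.left := hf a b k ha hb e
      exact lciMorP_of_smooth _) hg
  baseChange _ _ _ _ hX hY _ hY' _ _ _ _ sq hg hf :=
    EtW.locP_of_isPullback sq.flip hX hY hY' (ASp.locP_of_smooth hg) hf
  locality X Y hX hY f := by
    have hid : ∀ {Z : Sp S}, IsAlgSpace Z → LocP @Smooth (𝟙 Z) := fun hZ => ASp.locP_id_of_isAlgSpace hZ
    refine ⟨fun h x => ⟨X, Y, 𝟙 X, 𝟙 Y, f, x, hX, hY, hid hX, hid hY, by simp, Points.map_id x, h⟩, fun H => ?_⟩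
    obtain ⟨X₀, p, hpe, hps⟩ := hX.atlas
    choose U V a b h v hU hV ha hb e hv hh using fun t : ↥X₀.left => H (Points.ofPt p t)
    intro U' V' a' b' k ha' hb' e'
    obtain ⟨T, t, ht, hts, htk⟩ := exists_source_cover (P := LCIMorP) (Q := @Smooth) (g := a) hU
      (fun x => by
        obtain ⟨t, rfl⟩ := surjective_ofPt hps x
        exact ⟨t, v t, hv t⟩) ha
      (fun i => by
        rw [e i]
        refine locP_comp (hV i) (hh i) fun _ _ a₁ b₁ k₁ h₁ h₂ e₁ => ?_
        haveI : Smooth k₁.left := hb i a₁ b₁ k₁ h₁ h₂ e₁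
        exact lciMorP_of_smooth _) ha' hb' e'
    haveI : Smooth t := ht
    haveI : Surjective t := hts
    exact lciMorP_of_forall_isKoszulAt _
      ((S9730.result t (isSyntomicMor_of_smooth t) k.left).1 (isKoszulAt_of_lciMorP _ htk))

end Groth.Agent.ASp.Lci
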