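import Groth.Agent.ASp.DecentEtale

/-!
Quasi-compact field-valued points and monomorphic representatives.
-/

set_option backward.isDefEq.respectTransparency false
set_option backward.isDefEq.respectTransparency.types false

universe u

open CategoryTheory CategoryTheory.Limits AlgebraicGeometry Opposite

namespace Groth.Agent.ASp

open _root_.AlgSp

variable {S : Scheme.{u}}

/-- Quasi-compactness of a map from a scheme can be tested after a surjective map from a scheme. -/
theorem repWith_qc_of_comp_surjective {X : Sp S} (hX : IsAlgSpace X) {A B : Over S} (r : A ⟶ B)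
    [Surjective r.left] {p : (yon S).obj B ⟶ X} (h : RepWith @QuasiCompact ((yon S).map r ≫ p)) :
    RepWith @QuasiCompact p := by
  refine ⟨hX.representable_from_yon _, fun {V E} g c d sqd => ?_⟩
  change QuasiCompact d.left
  have sqq := h.1.isPullback g
  haveI : QuasiCompact (h.1.snd g).left := h.2 _ _ _ sqq
  obtain ⟨k, hk⟩ := (yon S).map_surjective (sqd.lift (h.1.fst g ≫ (yon S).map r) ((yon S).map (h.1.snd g))
    (by rw [Category.assoc]; exact sqq.w))
  have hk1 : (yon S).map k ≫ c = h.1.fst g ≫ (yon S).map r := by rw [hk, sqd.lift_fst]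
  have hk2 : k ≫ d = h.1.snd g := (yon S).map_injective (by rw [(yon S).map_comp, hk, sqd.lift_snd])
  haveI : Surjective k.left := by
    have sqk : IsPullback (h.1.fst g) ((yon S).map k) ((yon S).map r) c := by
      refine IsPullback.of_bot ?_ hk1.symm sqd
      rw [← (yon S).map_comp, hk2]
      exact sqq
    exact surjective_snd_of_surjective_map
      (surjective_map_of_repWith (repWith_yon_map (P := @Surjective) (g := r) ‹_›)) sqk
  rw [quasiCompact_iff_forall_isAffineOpen]
  intro W hW
  have h1 : IsCompact (k.left ⁻¹' (d.left ⁻¹' (W : Set ↥V.left))) := by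
    have e2 : k.left ⁻¹' (d.left ⁻¹' (W : Set ↥V.left)) = (h.1.snd g).left ⁻¹' (W : Set ↥V.left) := by
      rw [← hk2]; rfl
    rw [e2]
    exact (h.1.snd g).left.isCompact_preimage hW.isCompact
  have h2 := h1.image k.left.continuous
  rwa [Set.image_preimage_eq _ k.left.surjective] at h2

/-- Two field-valued maps with the same point agree on a common extension. -/
theorem exists_common_extension {X : Sp S} {K : Type u} [Field K] {str : Spec (CommRingCat.of K) ⟶ S}
    (g : (yon S).obj (Over.mk str) ⟶ X) (q : FieldPt X)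
    (h : ∀ t, Points.ofPt g t = Points.mk q) :
    ∃ (Ω : Type u) (_ : Field Ω) (w : Spec (CommRingCat.of Ω) ⟶ S) (c : Over.mk w ⟶ Over.mk str)
      (d : Over.mk w ⟶ q.pt), (yon S).map c ≫ g = (yon S).map d ≫ q.toHom := by
  obtain ⟨Ω, _, w, c, d, hcd⟩ := Points.mk_eq_mk_iff.1
    (show Points.mk (⟨_, str, (J S).uliftYonedaEquiv.{u+1} g⟩ : FieldPt X) = Points.mk q by
      rw [← ofPt_yon_mk g (IsLocalRing.closedPoint _), h])
  refine ⟨Ω, inferInstance, w, c, d, ?_⟩
  apply (J S).uliftYonedaEquiv.{u+1}.injective
  rw [← GrothendieckTopology.uliftYonedaEquiv_naturality.{u+1},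
    ← GrothendieckTopology.uliftYonedaEquiv_naturality.{u+1}, FieldPt.uliftYonedaEquiv_toHom]
  exact hcd

/-- A point with a quasi-compact representative has a monomorphic quasi-compact representative. -/
theorem exists_mono_qc_of_qc {X : Sp S} (hX : IsAlgSpace X) (q : FieldPt X)
    (hq : RepWith @QuasiCompact q.toHom) :
    ∃ p : FieldPt X, Points.mk p = Points.mk q ∧ Mono p.toHom ∧ RepWith @QuasiCompact p.toHom := by
  obtain ⟨U, a, hae, has⟩ := hX.atlas
  obtain ⟨u, hu⟩ := surjective_ofPt has (Points.mk q)
  let str : Spec (CommRingCat.of (U.left.residueField u)) ⟶ S := U.left.fromSpecResidueField u ≫ U.hom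
  let ι : Over.mk str ⟶ U := Over.homMk (U.left.fromSpecResidueField u) rfl
  let qu : (yon S).obj (Over.mk str) ⟶ X := (yon S).map ι ≫ a
  have hpu : ∀ t, Points.ofPt qu t = Points.mk q := fun t => by
    rw [ofPt_yon_map_comp]
    change Points.ofPt a (U.left.fromSpecResidueField u t) = _
    rw [Scheme.fromSpecResidueField_apply, hu]
  -- a common extension with `q`
  obtain ⟨Ω, _, w, c, d, e⟩ := exists_common_extension qu q hpu
  haveI : Subsingleton ↥(Over.mk w).left := inferInstanceAs (Subsingleton ↥(Spec (CommRingCat.of Ω)))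
  haveI : Subsingleton ↥(Over.mk str).left :=
    inferInstanceAs (Subsingleton ↥(Spec (CommRingCat.of (U.left.residueField u))))
  haveI : Surjective c.left := ⟨fun x => ⟨IsLocalRing.closedPoint Ω, Subsingleton.elim _ _⟩⟩
  have hquq : RepWith @QuasiCompact qu := by
    refine repWith_qc_of_comp_surjective hX c ?_
    change RepWith @QuasiCompact ((yon S).map c ≫ qu)
    rw [e]
    exact repWith_comp (repWith_yon_map (P := @QuasiCompact) (quasiCompact_of_subsingleton d.left)) hq
  obtain ⟨P, s', t', sq⟩ : ∃ (P : Over S) (s' t' : P ⟶ Over.mk str),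
      IsPullback ((yon S).map s') ((yon S).map t') qu qu := by
    obtain ⟨t, ht⟩ := (yon S).map_surjective (hquq.1.fst qu)
    exact ⟨_, t, _, ht ▸ hquq.1.isPullback qu⟩
  haveI : QuasiCompact s'.left := hquq.2 _ _ _ sq.flip
  -- the fibre of the chart over `Spec κ(u)`
  obtain ⟨E, v, w', sqE⟩ : ∃ (E : Over S) (v : E ⟶ U) (w' : E ⟶ Over.mk str),
      IsPullback ((yon S).map v) ((yon S).map w') a qu := by
    obtain ⟨t, ht⟩ := (yon S).map_surjective (hae.1.fst qu)
    exact ⟨_, t, _, ht ▸ hae.1.isPullback qu⟩
  haveI : Etale w'.left := hae.2 _ _ _ sqE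
  haveI := Groth.Agent.Unibranch.locallyQuasiFinite_of_etale w'.left
  obtain ⟨m, hm⟩ := (yon S).map_surjective (sqE.lift ((yon S).map (t' ≫ ι)) ((yon S).map s')
    (by rw [(yon S).map_comp, Category.assoc]; exact sq.w.symm))
  have hm1 : m ≫ v = t' ≫ ι := (yon S).map_injective (by rw [(yon S).map_comp, hm, sqE.lift_fst])
  have hm2 : m ≫ w' = s' := (yon S).map_injective (by rw [(yon S).map_comp, hm, sqE.lift_snd])
  haveI : Mono ι := Over.mono_of_mono_left (hk := (inferInstance : Mono (U.left.fromSpecResidueField u)))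
  haveI : Mono m := ⟨fun g h e' => (yon S).map_injective (sq.hom_ext
    (by rw [← (yon S).map_comp, ← (yon S).map_comp, ← hm2, reassoc_of% e'])
    (by
      rw [← (yon S).map_comp, ← (yon S).map_comp]
      congr 1
      rw [← cancel_mono ι, Category.assoc, Category.assoc, ← hm1, reassoc_of% e']))⟩
  haveI : Mono m.left := Over.mono_left_of_mono m
  haveI : LocallyQuasiFinite s'.left := by
    rw [← hm2]; exact inferInstanceAs (LocallyQuasiFinite (m.left ≫ w'.left))
  haveI : IsLocallyArtinian (Over.mk str).left :=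
    inferInstanceAs (IsLocallyArtinian (Spec (CommRingCat.of (U.left.residueField u))))
  haveI : IsFinite s'.left := IsFinite.of_locallyQuasiFinite _
  obtain ⟨p, r, hr, hmono⟩ := exists_mono_of_finite (L := U.left.residueField u) qu sq
  refine ⟨p, ?_, hmono, ?_⟩
  · rw [← hpu (IsLocalRing.closedPoint (U.left.residueField u)), ← hr, ofPt_yon_map_comp, Points.ofPt_toHom]
  · haveI : Subsingleton ↥p.pt.left := inferInstanceAs (Subsingleton ↥(Spec (CommRingCat.of p.K)))
    haveI : Surjective r.left := ⟨fun x => ⟨IsLocalRing.closedPoint _, Subsingleton.elim _ _⟩⟩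
    exact repWith_qc_of_comp_surjective hX r (hr ▸ hquq)

end Groth.Agent.ASp
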