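import Groth.Agent.ASp.LimFrame
import Groth.Agent.ASp.OneChart
import Groth.Agent.ASp.Diag
import Groth.Agent.ASp.Morph
import Groth.Agent.ASp.OpenImm
import Groth.Agent.ASp.SepDiag
import Groth.Agent.ASp.QCPoint
import Groth.Agent.FlatStage.Smooth
import Groth.Agent.S9938
/-!
# Etale, smooth, flat, surjective morphisms and isomorphisms descend along limits of algebraic spaces
-/

set_option autoImplicit false
set_option backward.isDefEq.respectTransparency false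
set_option backward.isDefEq.respectTransparency.types false

universe u

open CategoryTheory CategoryTheory.Limits AlgebraicGeometry Opposite

noncomputable section

namespace Groth.Agent.ASp

open _root_.AlgSp

variable {S : Scheme.{u}}

theorem descendsLim_etale : DescendsLim.{u} @Etale @LocallyOfFinitePresentation := by
  intro I _ _ D _ c hc i₀ X₀ Y₀ X Y _ _ f₀ g₀ f g qY qX hQ hY hX hP
  haveI : LocallyOfFinitePresentation f₀ := hQ
  haveI : Etale f := hP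
  exact FlatStage.exists_etale D c i₀ f₀ g₀ hY hX hc

theorem descendsLim_smooth : DescendsLim.{u} @Smooth @LocallyOfFinitePresentation := by
  intro I _ _ D _ c hc i₀ X₀ Y₀ X Y _ _ f₀ g₀ f g qY qX hQ hY hX hP
  haveI : LocallyOfFinitePresentation f₀ := hQ
  haveI : Smooth f := hP
  exact FlatStage.exists_smooth D c i₀ f₀ g₀ hY hX hc

theorem descendsLim_flat : DescendsLim.{u} @Flat @LocallyOfFinitePresentation := by
  intro I _ _ D _ c hc i₀ X₀ Y₀ X Y _ _ f₀ g₀ f g qY qX hQ hY hX hP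
  haveI : LocallyOfFinitePresentation f₀ := hQ
  haveI : Flat f := hP
  exact FlatStage.exists_flat D c i₀ f₀ g₀ hY hX hc

theorem descendsLim_surjective : DescendsLim.{u} @Surjective @LocallyOfFinitePresentation := by
  intro I _ _ D _ c hc i₀ X₀ Y₀ X Y _ _ f₀ g₀ f g qY qX hQ hY hX hP
  haveI : LocallyOfFinitePresentation f₀ := hQ
  haveI : Surjective f := hP
  exact AffLim.exists_surjective_baseChange D c hc i₀ f₀ g₀ hY hX

variable [QuasiSeparatedSpace ↥S] {I : Type u} [SmallCategory I] [IsCofiltered I]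
  (D : I ⥤ Sp S) (hD : ∀ i, IsAlgSpace (D.obj i))
  (hDa : ∀ (i j : I) (φ : i ⟶ j), IsAffineMor (D.map φ)) (c : Cone D) (hc : IsLimit c) (i₀ : I)
  {X₀ Y₀ : Sp S} (hXa : IsAlgSpace X₀) (hYa : IsAlgSpace Y₀) (f₀ : X₀ ⟶ Y₀) (b₀ : Y₀ ⟶ D.obj i₀)
  (hXqc : IsQuasiCompactSp X₀) (hYqc : IsQuasiCompactSp Y₀) (hYqs : IsQuasiSeparatedSp Y₀)
  {X Y : Sp S} {f : X ⟶ Y} {pY : Y ⟶ Y₀} {qY : Y ⟶ c.pt}
  (hY : IsPullback pY qY b₀ (c.π.app i₀)) {pX : X ⟶ X₀} (hX : IsPullback pX f f₀ pY)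
  (hf₀ : LocP @LocallyOfFinitePresentation f₀)

include hD hDa hc hYa hY in
omit [QuasiSeparatedSpace ↥S] in
theorem isAlgSpace_limit_baseChange : IsAlgSpace Y :=
  isAlgSpace_of_isPullback (hD i₀).diag hYa (isAlgSpace_limit_and_isAffineMor D hD hDa c hc).1 hY

include hD hDa hc hXa hYa hXqc hYqc hYqs hY hX hf₀

theorem exists_stage_etale (hf : IsEtaleMor f) :
    ∃ (i : I) (φ : i ⟶ i₀), ∀ (Xi Yi : Sp S) (fi : Xi ⟶ Yi) (pYi : Yi ⟶ Y₀) (qYi : Yi ⟶ D.obj i)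
      (_ : IsPullback pYi qYi b₀ (D.map φ)) (pXi : Xi ⟶ X₀) (_ : IsPullback pXi fi f₀ pYi),
      IsEtaleMor fi := by
  have hYc := isAlgSpace_limit_baseChange D hD hDa c hc i₀ hYa b₀ hY
  obtain ⟨h1, h2⟩ := isEtLocal_of_list @Etale (.inr <| .inr <| .inr <| .inr <| .inl rfl)
  obtain ⟨i, φ, h⟩ := exists_stage_locP descendsLim_etale D hD hDa c hc i₀ hXa hYa f₀ b₀ hXqc hYqc hYqs hY hX
    hf₀ hYc ((isEtaleMor_iff_locP hYc).1 hf)
  exact ⟨i, φ, fun Xi Yi fi pYi qYi hYi pXi hXi =>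
    (isEtaleMor_iff_locP (isAlgSpace_of_isPullback (hD i₀).diag hYa (hD i) hYi)).2 (h _ _ _ _ _ hYi _ hXi)⟩

theorem exists_stage_smooth (hf : LocP @Smooth f) :
    ∃ (i : I) (φ : i ⟶ i₀), ∀ (Xi Yi : Sp S) (fi : Xi ⟶ Yi) (pYi : Yi ⟶ Y₀) (qYi : Yi ⟶ D.obj i)
      (_ : IsPullback pYi qYi b₀ (D.map φ)) (pXi : Xi ⟶ X₀) (_ : IsPullback pXi fi f₀ pYi),
      LocP @Smooth fi := by
  obtain ⟨h1, h2⟩ := isEtLocal_of_list @Smooth (.inr <| .inr <| .inr <| .inl rfl)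
  exact exists_stage_locP descendsLim_smooth D hD hDa c hc i₀ hXa hYa f₀ b₀ hXqc hYqc hYqs hY hX
    hf₀ (isAlgSpace_limit_baseChange D hD hDa c hc i₀ hYa b₀ hY) hf

theorem exists_stage_flat (hf : LocP @Flat f) :
    ∃ (i : I) (φ : i ⟶ i₀), ∀ (Xi Yi : Sp S) (fi : Xi ⟶ Yi) (pYi : Yi ⟶ Y₀) (qYi : Yi ⟶ D.obj i)
      (_ : IsPullback pYi qYi b₀ (D.map φ)) (pXi : Xi ⟶ X₀) (_ : IsPullback pXi fi f₀ pYi),
      LocP @Flat fi := by
  obtain ⟨h1, h2⟩ := isEtLocal_of_list @Flat (.inr <| .inr <| .inl rfl)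
  exact exists_stage_locP descendsLim_flat D hD hDa c hc i₀ hXa hYa f₀ b₀ hXqc hYqc hYqs hY hX
    hf₀ (isAlgSpace_limit_baseChange D hD hDa c hc i₀ hYa b₀ hY) hf

theorem exists_stage_surjective (hf : IsSurjectiveMor f) :
    ∃ (i : I) (φ : i ⟶ i₀), ∀ (Xi Yi : Sp S) (fi : Xi ⟶ Yi) (pYi : Yi ⟶ Y₀) (qYi : Yi ⟶ D.obj i)
      (_ : IsPullback pYi qYi b₀ (D.map φ)) (pXi : Xi ⟶ X₀) (_ : IsPullback pXi fi f₀ pYi),
      IsSurjectiveMor fi := by
  refine exists_stage_chart (R := IsSurjectiveMor) (R' := IsSurjectiveMor) descendsLim_surjective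
    ?_ ?_ D hD hDa c hc i₀ hXa hYa f₀ b₀ hXqc hYqc hYqs hY hX
    (isAlgSpace_limit_baseChange D hD hDa c hc i₀ hYa b₀ hY) hf₀ hf
  · intro A B U V g n h m r _ _ _ _ _ hr hrs hg
    refine ⟨fun v => ?_⟩
    have h1 : Function.Surjective (Points.map ((yon S).map h)) := by
      rw [← hrs]
      intro z
      obtain ⟨t, rfl⟩ := surjective_map_of_isPullback (IsPullback.of_hasPullback g m) hg z
      obtain ⟨w, rfl⟩ := surjective_map_of_repWith hr t
      exact ⟨w, Points.map_comp _ _ _⟩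
    obtain ⟨z, hz⟩ := h1 (Points.schemeHomeo V v)
    obtain ⟨u, rfl⟩ := (Points.schemeHomeo U).surjective z
    rw [Points.map_yon_map_apply] at hz
    exact ⟨u, (Points.schemeHomeo V).injective hz⟩
  · intro A B U V g n h m _ _ _ _ _ hms e hP y
    obtain ⟨z, rfl⟩ := surjective_map_of_repWith hms y
    obtain ⟨v, rfl⟩ := (Points.schemeHomeo V).surjective z
    obtain ⟨u, rfl⟩ := hP.surj v
    refine ⟨Points.map n (Points.schemeHomeo U u), ?_⟩
    rw [← Points.map_yon_map_apply, ← Points.map_comp, ← Points.map_comp, e]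

end Groth.Agent.ASp
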