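import Groth.Agent.ASp.LimEventually
/-!
# Separatedness, monomorphisms and closed immersions at a late stage of a limit of algebraic spaces
-/

set_option autoImplicit false
set_option backward.isDefEq.respectTransparency false
set_option backward.isDefEq.respectTransparency.types false

universe u

open CategoryTheory CategoryTheory.Limits AlgebraicGeometry Opposite

noncomputable section

namespace Groth.Agent.ASp

open _root_.AlgSp

variable {S : Scheme.{u}}

theorem qcqs_yon_of_affine (V : Over S) [IsAffine V.left] : IsQuasiCompactSp ((yon S).obj V) :=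
  ⟨V, 𝟙 _, repWith_of_isIso _, repWith_of_isIso _, inferInstance⟩

/-- A cartesian square over a cartesian base, lifted. -/
theorem isPullback_frames {A B A' B' Z W : Sp S} {δ : A ⟶ B} {δ' : A' ⟶ B'} {p : A' ⟶ A} {q : B' ⟶ B}
    (e : p ≫ δ = δ' ≫ q) {a : Z ⟶ B} {Z₀ : Sp S} {a₀ : Z₀ ⟶ A} {z₀ : Z₀ ⟶ Z} (h₀ : IsPullback a₀ z₀ δ a)
    {qA : W ⟶ A'} {wA : W ⟶ Z₀} (hA : IsPullback qA wA p a₀) {V : Sp S} {qB : V ⟶ B'} {wB : V ⟶ Z}
    (hB : IsPullback qB wB q a) {h : W ⟶ V} (h1 : h ≫ qB = qA ≫ δ') (h2 : h ≫ wB = wA ≫ z₀) :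
    IsPullback qA h δ' qB := by
  refine IsPullback.of_bot ?_ h1.symm hB
  rw [h2, ← e]
  exact hA.paste_vert h₀

/-- A section of an affine morphism is a closed immersion. -/
theorem isClosedImmersion_comparison {Z P T : Scheme.{u}} (κ : Z ⟶ P) (r : P ⟶ Z) (e : κ ≫ r = 𝟙 Z)
    (a : P ⟶ T) (b : Z ⟶ T) (hr : r ≫ b = a) [IsSeparated a] : IsClosedImmersion κ := by
  haveI : IsSeparated (r ≫ b) := by rw [hr]; infer_instance
  haveI : IsSeparated r := IsSeparated.of_comp r b
  haveI : IsClosedImmersion (κ ≫ r) := by rw [e]; infer_instance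
  exact IsClosedImmersion.of_comp κ r

variable [QuasiSeparatedSpace ↥S] {I : Type u} [SmallCategory I] [IsCofiltered I]
  (D : I ⥤ Sp S) (hD : ∀ i, IsAlgSpace (D.obj i)) (hDa : ∀ (i j : I) (φ : i ⟶ j), IsAffineMor (D.map φ))
  (hqc : ∀ i, IsQuasiCompactSp (D.obj i)) (hqs : ∀ i, IsQuasiSeparatedSp (D.obj i))
  {Y : Sp S} (hY : IsAlgSpace Y) (hYqs : IsQuasiSeparatedSp Y) (t : D ⟶ (Functor.const I).obj Y)
  (c : Cone D) (hc : IsLimit c) (g : c.pt ⟶ Y) (hg : ∀ i, c.π.app i ≫ t.app i = g)

include hD hDa hqc hqs hY hYqs hc hg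

/-- A limit separated over `Y` has a member separated over `Y`. -/
theorem exists_isSeparatedMor (hX : IsSeparatedMor g) : ∃ i : I, IsSeparatedMor (t.app i) := by
  obtain ⟨i₀⟩ := IsCofiltered.nonempty (C := I)
  have hD2 : ∀ i, IsAlgSpace ((pairs D t).obj i) := fun i => isAlgSpace_pairs D hD t hY i
  have hD2a : ∀ (i j : I) (φ : i ⟶ j), IsAffineMor ((pairs D t).map φ) :=
    isAffineMor_pairs D t (P := @IsAffineHom) (fun _ h => h)
      (fun i j φ => repWith_isAffineHom_of_isAffineMor (hD i) (hD j) (hDa i j φ))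
  have hq2 : ∀ i, IsQuasiCompactSp ((pairs D t).obj i) ∧ IsQuasiSeparatedSp ((pairs D t).obj i) := fun i =>
    qcqs_pullback (IsPullback.of_hasPullback _ _) (hqc i) (hqs i) hYqs (hqc i) (hqs i)
  have hΔ := fun i => repWith_diagonal_locallyOfFiniteType (hD i) (t.app i)
  haveI := compactSpace_of_isQuasiCompactSp (hq2 i₀).1
  obtain ⟨A, a, hA, ha, has⟩ := exists_affine_chart (hD2 i₀)
  haveI := hA
  let z₀ := (hΔ i₀).1.snd a
  let a₀ : (yon S).obj ((hΔ i₀).1.pullback a) ⟶ D.obj i₀ := (hΔ i₀).1.fst a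
  have h₀ : IsPullback a₀ ((yon S).map z₀) (pullback.diagonal (t.app i₀)) a := (hΔ i₀).1.isPullback a
  haveI : LocallyOfFiniteType z₀.left := (hΔ i₀).2 a _ _ h₀
  haveI : QuasiCompact z₀.left :=
    (repWith_quasiCompact_of_qc (hD i₀) (hD2 i₀) _ (hΔ i₀).1 (hqc i₀) (hq2 i₀).2).2 a _ _ h₀
  haveI : Mono ((yon S).map z₀) :=
    MorphismProperty.of_isPullback (P := MorphismProperty.monomorphisms (Sp S)) h₀
      (inferInstanceAs (Mono (pullback.diagonal (t.app i₀))))
  haveI : Mono z₀ := (yon S).mono_of_mono_map inferInstance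
  haveI : IsSeparated z₀.left := inferInstance
  obtain ⟨F⟩ := exists_frame D hD hDa c hc i₀ a₀
  obtain ⟨G⟩ := exists_frame (pairs D t) hD2 hD2a (pairsCone D t c g hg) (isLimitPairsCone D t c hc g hg) i₀ a
  have hnat : ∀ {i j : I} (φ : i ⟶ j), D.map φ ≫ pullback.diagonal (t.app j) =
      pullback.diagonal (t.app i) ≫ (pairs D t).map φ := fun {i j} φ => by
    apply pullback.hom_ext <;> simp [pairs]
  -- the morphism of systems
  have eh : ∀ k : CategoryTheory.Over i₀, (F.q k ≫ pullback.diagonal (t.app k.left)) ≫ (pairs D t).map k.hom =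
      ((yon S).map (F.w k) ≫ (yon S).map z₀) ≫ a := fun k => by
    rw [Category.assoc, ← hnat, ← Category.assoc, (F.sq k).w, Category.assoc, Category.assoc, h₀.w]
  have hh : ∀ k : CategoryTheory.Over i₀, ∃ h : F.E.obj k ⟶ G.E.obj k,
      (yon S).map h ≫ G.q k = F.q k ≫ pullback.diagonal (t.app k.left) ∧ h ≫ G.w k = F.w k ≫ z₀ := fun k => by
    obtain ⟨h, hh⟩ := (yon S).map_surjective ((G.sq k).lift _ _ (eh k))
    refine ⟨h, by rw [hh, (G.sq k).lift_fst], (yon S).map_injective ?_⟩
    rw [Functor.map_comp, hh, (G.sq k).lift_snd, Functor.map_comp]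
  choose h hh1 hh2 using hh
  have sqh : ∀ k, IsPullback (F.q k) ((yon S).map (h k)) (pullback.diagonal (t.app k.left)) (G.q k) := fun k =>
    isPullback_frames (hnat k.hom) h₀ (F.sq k) (G.sq k) (hh1 k)
      (by rw [← Functor.map_comp, hh2, Functor.map_comp])
  have hext : ∀ {k : CategoryTheory.Over i₀} {W : Over S} (x y : W ⟶ G.E.obj k),
      (yon S).map x ≫ G.q k = (yon S).map y ≫ G.q k → x ≫ G.w k = y ≫ G.w k → x = y := fun {k W} x y h1 h2 =>
    (yon S).map_injective ((G.sq k).hom_ext h1 (by rw [← Functor.map_comp, ← Functor.map_comp, h2]))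
  let η : F.E ⋙ Over.forget S ⟶ G.E ⋙ Over.forget S :=
    { app := fun k => (h k).left
      naturality := fun k l φ => by
        change (F.E.map φ).left ≫ (h l).left = (h k).left ≫ (G.E.map φ).left
        rw [← Over.comp_left, ← Over.comp_left]
        refine congrArg CommaMorphism.left (hext _ _ ?_ ?_)
        · rw [Functor.map_comp, Functor.map_comp, Category.assoc, hh1, Category.assoc, G.map_q, ← Category.assoc,
            F.map_q, ← Category.assoc, hh1, Category.assoc, Category.assoc, hnat]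
        · rw [Category.assoc, hh2, Category.assoc, G.map_w, hh2, ← Category.assoc, F.map_w] }
  -- over the limit
  have hX' : RepWith @IsClosedImmersion (pullback.diagonal g) := hX
  let hπ : c.π.app i₀ ≫ pullback.diagonal (t.app i₀) =
      pullback.diagonal g ≫ (pairsCone D t c g hg).π.app i₀ := by
    apply pullback.hom_ext <;> simp [pairsCone]
  have eL : (F.qLim ≫ pullback.diagonal g) ≫ (pairsCone D t c g hg).π.app i₀ =
      ((yon S).map F.wLim ≫ (yon S).map z₀) ≫ a := by
    rw [Category.assoc, ← hπ, ← Category.assoc, F.sqLim.w, Category.assoc, Category.assoc, h₀.w]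
  obtain ⟨hinf, hinf'⟩ := (yon S).map_surjective (G.sqLim.lift _ _ eL)
  have hi1 : (yon S).map hinf ≫ G.qLim = F.qLim ≫ pullback.diagonal g := by rw [hinf', G.sqLim.lift_fst]
  have hi2 : hinf ≫ G.wLim = F.wLim ≫ z₀ := (yon S).map_injective (by
    rw [Functor.map_comp, hinf', G.sqLim.lift_snd, Functor.map_comp])
  haveI : IsClosedImmersion hinf.left := hX'.2 _ _ _ (isPullback_frames hπ h₀ F.sqLim G.sqLim hi1
    (by rw [← Functor.map_comp, hi2, Functor.map_comp]))
  have hw : ∀ k, hinf ≫ G.cone.π.app k = F.cone.π.app k ≫ h k := fun k => hext _ _ (by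
      rw [Functor.map_comp, Category.assoc, ← G.qLim_π, ← Category.assoc, hi1, Functor.map_comp, Category.assoc,
        Category.assoc, hh1, ← Category.assoc ((yon S).map _), ← F.qLim_π, Category.assoc]
      congr 1
      apply pullback.hom_ext <;> simp [pairsCone])
    (by rw [Category.assoc, G.π_w, hi2, Category.assoc, hh2, ← Category.assoc, F.π_w])
  haveI : ∀ {k l : CategoryTheory.Over i₀} (φ : k ⟶ l), IsAffineHom ((F.E ⋙ Over.forget S).map φ) :=
    fun φ => F.affine φ
  haveI : ∀ {k l : CategoryTheory.Over i₀} (φ : k ⟶ l), IsAffineHom ((G.E ⋙ Over.forget S).map φ) :=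
    fun φ => G.affine φ
  haveI hGa : ∀ k, IsAffine (G.E.obj k).left := fun k =>
    haveI := G.affine_w k
    isAffine_of_isAffineHom (G.w k).left
  haveI : CompactSpace ↥((hΔ i₀).1.pullback a).left := QuasiCompact.compactSpace_of_compactSpace z₀.left
  haveI : QuasiSeparatedSpace ↥((hΔ i₀).1.pullback a).left := quasiSeparatedSpace_of_quasiSeparated z₀.left
  haveI : ∀ k, QuasiSeparatedSpace ↥((F.E ⋙ Over.forget S).obj k) := fun k =>
    haveI := F.affine_w k
    quasiSeparatedSpace_of_quasiSeparated (F.w k).left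
  haveI : ∀ k, QuasiCompact (η.app k) := fun k =>
    (repWith_quasiCompact_of_qc (hD _) (hD2 _) _ (hΔ k.left).1 (hqc _) (hq2 _).2).2 _ _ _ (sqh k)
  haveI : ∀ k, LocallyOfFiniteType (η.app k) := fun k => (hΔ k.left).2 _ _ _ (sqh k)
  let o : CategoryTheory.Over i₀ := CategoryTheory.Over.mk (𝟙 i₀)
  haveI : CompactSpace ↥((G.E ⋙ Over.forget S).obj o) := inferInstanceAs (CompactSpace ↥(G.E.obj o).left)
  have hcomp : ∀ {l k : CategoryTheory.Over i₀} (φ : l ⟶ k),
      IsClosedImmersion (AffLim.comparison (G.E ⋙ Over.forget S) (F.E ⋙ Over.forget S) η φ) := by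
    intro l k φ
    have sP := IsPullback.of_hasPullback (h k) (G.E.map φ)
    have sP' := isPullback_left sP
    -- the retraction
    let fu : pullback (h k) (G.E.map φ) ⟶ (hΔ i₀).1.pullback a := pullback.fst _ _ ≫ F.w k
    have er : ((yon S).map (pullback.snd (h k) (G.E.map φ)) ≫ G.q l ≫ pullback.fst _ _) ≫ D.map l.hom =
        (yon S).map fu ≫ a₀ := by
      have h1 : G.q l ≫ pullback.fst _ _ ≫ D.map φ.left = (yon S).map (G.E.map φ) ≫ G.q k ≫ pullback.fst _ _ := by
        rw [← Category.assoc ((yon S).map _), G.map_q]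
        simp [pairs]
      rw [← Over.w φ, D.map_comp, Category.assoc, Category.assoc, reassoc_of% h1, ← Category.assoc,
        ← Functor.map_comp, ← sP.w, Functor.map_comp, Category.assoc, reassoc_of% (hh1 k)]
      simp only [pullback.diagonal_fst_assoc, fu, Functor.map_comp, Category.assoc]
      exact congrArg _ (F.sq k).w
    obtain ⟨r, hr⟩ := (yon S).map_surjective ((F.sq l).lift _ _ er)
    have hr1 : (yon S).map r ≫ F.q l =
        (yon S).map (pullback.snd (h k) (G.E.map φ)) ≫ G.q l ≫ pullback.fst _ _ := by rw [hr, (F.sq l).lift_fst]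
    have hr2 : r ≫ F.w l = fu := (yon S).map_injective (by rw [Functor.map_comp, hr, (F.sq l).lift_snd])
    have enat : F.E.map φ ≫ h k = h l ≫ G.E.map φ := Over.OverMorphism.ext (η.naturality φ)
    let κ := sP.lift _ _ enat
    have hκ : κ ≫ r = 𝟙 _ := (yon S).map_injective ((F.sq l).hom_ext
      (by
        rw [Functor.map_comp, Category.assoc, hr1, ← Category.assoc, ← Functor.map_comp, sP.lift_snd,
          ← Category.assoc, hh1, CategoryTheory.Functor.map_id, Category.id_comp, Category.assoc,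
          pullback.diagonal_fst, Category.comp_id])
      (by
        rw [← Functor.map_comp, ← Functor.map_comp, Category.assoc, hr2, Category.id_comp]
        refine congrArg _ ?_
        simp only [fu, κ, ← Category.assoc, sP.lift_fst, F.map_w]))
    haveI : IsAffineHom (F.w k).left := F.affine_w k
    haveI : IsAffineHom (pullback.fst (h k) (G.E.map φ)).left :=
      MorphismProperty.of_isPullback (P := @IsAffineHom) sP'.flip (G.affine φ)
    haveI : IsSeparated fu.left := inferInstanceAs (IsSeparated ((pullback.fst (h k) (G.E.map φ)).left ≫ (F.w k).left))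
    haveI : IsClosedImmersion κ.left := isClosedImmersion_comparison κ.left r.left
      (by rw [← Over.comp_left, hκ, Over.id_left]) fu.left (F.w l).left (by rw [← Over.comp_left, hr2])
    have : AffLim.comparison (G.E ⋙ Over.forget S) (F.E ⋙ Over.forget S) η φ = κ.left ≫ sP'.isoPullback.hom := by
      refine pullback.hom_ext ?_ ?_
      · refine (AffLim.comparison_fst _ _ _ _).trans (Eq.symm ?_)
        refine ((Category.assoc _ _ _).trans (congrArg (κ.left ≫ ·) sP'.isoPullback_hom_fst)).trans ?_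
        exact congrArg CommaMorphism.left (sP.lift_fst _ _ enat)
      · refine (AffLim.comparison_snd _ _ _ _).trans (Eq.symm ?_)
        refine ((Category.assoc _ _ _).trans (congrArg (κ.left ≫ ·) sP'.isoPullback_hom_snd)).trans ?_
        exact congrArg CommaMorphism.left (sP.lift_snd _ _ enat)
    rw [this]
    infer_instance
  obtain ⟨k, -, hk⟩ := AffLim.exists_isClosedImmersion (G.E ⋙ Over.forget S) _ G.isLimit
    (F.E ⋙ Over.forget S) _ F.isLimit η hinf.left (fun k => congrArg CommaMorphism.left (hw k)) hcomp (i := o)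
  haveI := FpqcDesc.isClosedImmersion_descends.{u}
  haveI : IsClosedImmersion (h k).left := hk k (𝟙 k)
  exact ⟨k.left, repWith_of_fpqc (hΔ k.left).1 (fun _ : PUnit.{u+1} => sqh k)
    (isFpqcCover_of_chart (hD2 _) (repWith_of_isPullback (G.sq k).flip ha) (repWith_of_isPullback (G.sq k).flip has))
    (fun _ => repWith_yon_map ‹IsClosedImmersion (h k).left›)⟩

end Groth.Agent.ASp

namespace Groth.Agent.ASp

open _root_.AlgSp

variable {S : Scheme.{u}}

theorem isSeparatedMor_toBase_iff {X : Sp S} (π : X ⟶ (yon S).obj (Over.mk (𝟙 S))) :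
    IsSeparatedMor π ↔ IsSeparatedSp X := by
  let m : X ⨯ X ⟶ pullback π π :=
    pullback.lift (f := π) (g := π) prod.fst prod.snd (isTerminalYonBase.hom_ext _ _)
  let m' : pullback π π ⟶ X ⨯ X := prod.lift (pullback.fst π π) (pullback.snd π π)
  haveI : IsIso m := ⟨m', by ext <;> simp [m, m'], by ext <;> simp [m, m']⟩
  haveI : IsIso m' := ⟨m, by ext <;> simp [m, m'], by ext <;> simp [m, m']⟩
  have e : pullback.diagonal π = Limits.diag X ≫ m := by ext <;> simp [Limits.diag, m]
  have e' : Limits.diag X = pullback.diagonal π ≫ m' := by ext <;> simp [Limits.diag, m']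
  exact ⟨fun h => by change RepWith @IsClosedImmersion (Limits.diag X); rw [e']; exact repWith_comp h (repWith_of_isIso _),
    fun h => by change RepWith @IsClosedImmersion (pullback.diagonal π); rw [e]; exact repWith_comp h (repWith_of_isIso _)⟩

end Groth.Agent.ASp
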