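import Groth.Agent.ASp.LimFrame
import Groth.Agent.ASp.Morph
import Groth.Agent.AffLim.Points
import Groth.Prelude.Def_AlgSpDec
/-!
# Points of limits of algebraic spaces
-/

set_option autoImplicit false
set_option backward.isDefEq.respectTransparency false
set_option backward.isDefEq.respectTransparency.types false

universe u

open CategoryTheory CategoryTheory.Limits AlgebraicGeometry Opposite

noncomputable section

namespace Groth.Agent.ASp

open _root_.AlgSp

variable {S : Scheme.{u}} {I : Type u} [SmallCategory I] [IsCofiltered I] (D : I ⥤ Sp S)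
  (hD : ∀ i, IsAlgSpace (D.obj i)) (hDa : ∀ (i j : I) (φ : i ⟶ j), IsAffineMor (D.map φ))
  (c : Cone D) (hc : IsLimit c)

include hD hDa hc

/-- Over the point of a quasi-compact monomorphism from a field, the points of the system are those of
a system of affine schemes. -/
theorem exists_fibre_system (hdec : ∀ i, IsDecent (D.obj i)) (i₀ : I) (x₀ : Points (D.obj i₀)) :
    ∃ (T : Over S) (p : (yon S).obj T ⟶ D.obj i₀) (F : Frame D c i₀ p),
      Subsingleton ↥T.left ∧ (∀ t, Points.map p (Points.schemeHomeo T t) = x₀) ∧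
      (∀ k, IsAffine (F.E.obj k).left) ∧ Nonempty ↥T.left ∧
      (∀ k, Function.Injective (Points.map (F.q k))) := by
  obtain ⟨p, hp, hm, -⟩ := hdec i₀ x₀
  obtain ⟨F⟩ := exists_frame D hD hDa c hc i₀ p.toHom
  haveI : IsAffine p.pt.left := inferInstanceAs (IsAffine (Spec _))
  haveI hsub : Subsingleton ↥p.pt.left := inferInstanceAs (Subsingleton ↥(Spec (CommRingCat.of p.K)))
  have hne : Nonempty ↥p.pt.left := inferInstanceAs (Nonempty ↥(Spec (CommRingCat.of p.K)))
  refine ⟨p.pt, p.toHom, F, hsub, fun t => ?_, fun k => ?_, hne, fun k => ?_⟩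
  · have h := Points.ofPt_toHom p t
    rw [Points.ofPt_eq_map_ofScheme] at h
    exact h.trans hp
  · haveI := F.affine_w k
    exact isAffine_of_isAffineHom (F.w k).left
  · haveI : Mono (F.q k) :=
      MorphismProperty.of_isPullback (P := MorphismProperty.monomorphisms (Sp S)) (F.sq k).flip hm
    have hR : Representable (F.q k) := by
      refine representable_of_isPullback (F.sq k).flip ?_
      exact (hD i₀).representable_from_yon p.toHom
    refine injective_map_of_repWith (P := MorphismProperty.monomorphisms Scheme.{u})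
      (fun g (hg : Mono g) => Scheme.Hom.injective g) ⟨hR, fun {W U} g fst snd sq => ?_⟩
    haveI : Mono ((yon S).map snd) :=
      MorphismProperty.of_isPullback (P := MorphismProperty.monomorphisms (Sp S)) sq ‹Mono (F.q k)›
    haveI : Mono snd := (yon S).mono_of_mono_map inferInstance
    exact inferInstanceAs (Mono snd.left)

theorem points_limit (hdec : ∀ i, IsDecent (D.obj i)) :
    (∀ x x' : Points c.pt, (∀ i, Points.map (c.π.app i) x = Points.map (c.π.app i) x') → x = x') ∧
    (∀ s : ∀ i, Points (D.obj i), (∀ (i j : I) (φ : i ⟶ j), Points.map (D.map φ) (s i) = s j) →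
      ∃ x : Points c.pt, ∀ i, Points.map (c.π.app i) x = s i) := by
  obtain ⟨i₀⟩ := IsCofiltered.nonempty (C := I)
  refine ⟨fun x x' h => ?_, fun s hs => ?_⟩
  · obtain ⟨T, p, F, -, hT, hA, ⟨t⟩, hinj⟩ := exists_fibre_system D hD hDa c hc hdec i₀ (Points.map (c.π.app i₀) x)
    haveI : ∀ {k l : CategoryTheory.Over i₀} (φ : k ⟶ l), IsAffineHom ((F.E ⋙ Over.forget S).map φ) :=
      fun φ => F.affine φ
    obtain ⟨z, hz, -⟩ := points_exists_of_isPullback F.sqLim x (Points.schemeHomeo T t) (hT t).symm
    obtain ⟨z', hz', -⟩ := points_exists_of_isPullback F.sqLim x' (Points.schemeHomeo T t) ((h i₀).symm.trans (hT t).symm)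
    obtain ⟨e, rfl⟩ := (Points.schemeHomeo _).surjective z
    obtain ⟨e', rfl⟩ := (Points.schemeHomeo _).surjective z'
    rw [← hz, ← hz']
    suffices e = e' by rw [this]
    refine AffLim.eq_of_π_eq (F.E ⋙ Over.forget S) _ F.isLimit fun k => (Points.schemeHomeo _).injective (hinj k ?_)
    change Points.map (F.q k) (Points.schemeHomeo _ ((F.cone.π.app k).left e)) =
      Points.map (F.q k) (Points.schemeHomeo _ ((F.cone.π.app k).left e'))
    rw [← Points.map_yon_map_apply, ← Points.map_yon_map_apply, ← Points.map_comp, ← Points.map_comp,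
      ← F.qLim_π]
    erw [Points.map_comp, Points.map_comp, hz, hz']
    exact h _
  · obtain ⟨T, p, F, -, hT, hA, ⟨t⟩, hinj⟩ := exists_fibre_system D hD hDa c hc hdec i₀ (s i₀)
    haveI : ∀ {k l : CategoryTheory.Over i₀} (φ : k ⟶ l), IsAffineHom ((F.E ⋙ Over.forget S).map φ) :=
      fun φ => F.affine φ
    have hex : ∀ k : CategoryTheory.Over i₀, ∃ e : ↥(F.E.obj k).left,
        Points.map (F.q k) (Points.schemeHomeo _ e) = s k.left := fun k => by
      obtain ⟨z, hz, -⟩ := points_exists_of_isPullback (F.sq k) (s k.left) (Points.schemeHomeo T t)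
        ((hs _ _ k.hom).trans (hT t).symm)
      obtain ⟨e, rfl⟩ := (Points.schemeHomeo _).surjective z
      exact ⟨e, hz⟩
    choose e he using hex
    obtain ⟨x, hx⟩ := AffLim.exists_point (F.E ⋙ Over.forget S) _ F.isLimit e (fun {k l} φ => by
      apply (Points.schemeHomeo _).injective
      apply hinj l
      change Points.map (F.q l) (Points.schemeHomeo _ ((F.E.map φ).left (e k))) = _
      rw [← Points.map_yon_map_apply, ← Points.map_comp, F.map_q, Points.map_comp, he, he]
      exact hs _ _ φ.left)
    refine ⟨Points.map F.qLim (Points.schemeHomeo _ x), fun i => ?_⟩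
    have hk : ∀ k : CategoryTheory.Over i₀,
        Points.map (c.π.app k.left) (Points.map F.qLim (Points.schemeHomeo _ x)) = s k.left := fun k => by
      rw [← Points.map_comp, F.qLim_π, Points.map_comp]
      erw [Points.map_yon_map_apply]
      rw [← he k, ← hx k]
      rfl
    let k : CategoryTheory.Over i₀ := CategoryTheory.Over.mk (IsCofiltered.minToRight i i₀)
    rw [← c.w (IsCofiltered.minToLeft i i₀), Points.map_comp]
    erw [hk k]
    exact hs _ _ _

/-- The topology of the points of the limit is the induced one. -/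
theorem points_limit_topology :
    Points.topologicalSpace c.pt =
      ⨅ i, TopologicalSpace.induced (Points.map (c.π.app i)) (Points.topologicalSpace (D.obj i)) := by
  obtain ⟨i₀⟩ := IsCofiltered.nonempty (C := I)
  refine le_antisymm (le_iInf fun i => continuous_iff_le_induced.mp (Points.continuous_map _)) ?_
  intro W hW
  refine (@isOpen_iff_forall_mem_open _ (⨅ i, TopologicalSpace.induced (Points.map (c.π.app i))
    (Points.topologicalSpace (D.obj i))) W).mpr fun x hx => ?_
  obtain ⟨U, v, hv, hvs⟩ := (hD i₀).atlas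
  obtain ⟨F⟩ := exists_frame D hD hDa c hc i₀ v
  haveI : ∀ {k l : CategoryTheory.Over i₀} (φ : k ⟶ l), IsAffineHom ((F.E ⋙ Over.forget S).map φ) :=
    fun φ => F.affine φ
  obtain ⟨z, rfl⟩ := surjective_map_of_repWith (repWith_of_isPullback F.sqLim.flip hvs) x
  obtain ⟨e, rfl⟩ := (Points.schemeHomeo _).surjective z
  let φ : ↥F.cone.pt.left → Points c.pt := fun e => Points.map F.qLim (Points.schemeHomeo _ e)
  obtain ⟨k, O, -, heO, hO⟩ := AffLim.exists_affine_preimage_subset (F.E ⋙ Over.forget S) _ F.isLimit
    (U := φ ⁻¹' W) (hW.preimage ((Points.continuous_map _).comp (Points.schemeHomeo _).continuous)) (x := e) hx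
  let f : ↥(F.E.obj k).left → Points (D.obj k.left) := fun e => Points.map (F.q k) (Points.schemeHomeo _ e)
  have hfo : IsOpenMap f := (isOpenMap_map_of_etale (repWith_of_isPullback (F.sq k).flip hv)).comp
    (Points.schemeHomeo _).isOpenMap
  have hle : (⨅ i, TopologicalSpace.induced (Points.map (c.π.app i)) (Points.topologicalSpace (D.obj i))) ≤
      TopologicalSpace.induced (Points.map (c.π.app k.left)) (Points.topologicalSpace (D.obj k.left)) :=
    iInf_le _ k.left
  refine ⟨Points.map (c.π.app k.left) ⁻¹' (f '' (O : Set ↥((F.E ⋙ Over.forget S).obj k))), ?_,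
    hle _ (isOpen_induced (hfo _ O.2)), ?_⟩
  · rintro y ⟨e', he', hy⟩
    have sLk : IsPullback F.qLim ((yon S).map (F.cone.π.app k)) (c.π.app k.left) (F.q k) :=
      IsPullback.of_bot (by rw [← Functor.map_comp, F.π_w, c.w]; exact F.sqLim) (F.qLim_π k) (F.sq k)
    obtain ⟨z, hz1, hz2⟩ := points_exists_of_isPullback sLk y (Points.schemeHomeo _ e') hy.symm
    obtain ⟨e'', rfl⟩ := (Points.schemeHomeo _).surjective z
    rw [Points.map_yon_map_apply] at hz2
    rw [← hz1]
    refine hO (a := e'') ?_
    exact (congrArg (· ∈ (O : Set ↥((F.E ⋙ Over.forget S).obj k))) ((Points.schemeHomeo _).injective hz2)).mpr he'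
  · refine ⟨(F.cone.π.app k).left e, heO, ?_⟩
    change Points.map (F.q k) (Points.schemeHomeo _ ((F.cone.π.app k).left e)) = _
    rw [← Points.map_yon_map_apply, ← Points.map_comp, ← F.qLim_π]
    exact Points.map_comp _ _ _

end Groth.Agent.ASp
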