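import Groth.Agent.ASp.SchemeLim
/-!
# Quasi-affine opens of a limit of algebraic spaces come from a quasi-affine open of a member
-/

set_option autoImplicit false
set_option backward.isDefEq.respectTransparency false
set_option backward.isDefEq.respectTransparency.types false

universe u

open CategoryTheory CategoryTheory.Limits AlgebraicGeometry Opposite

noncomputable section

namespace Groth.Agent.ASp

open _root_.AlgSp

attribute [local instance] CategoryTheory.isConnected_of_hasTerminal

variable {S : Scheme.{u}}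

theorem quasiSeparatedSpace_of_isQuasiSeparatedSp [QuasiSeparatedSpace ↥S] {U : Over S}
    (h : IsQuasiSeparatedSp ((yon S).obj U)) : QuasiSeparatedSpace ↥U.left := by
  haveI : QuasiSeparated U.hom := ⟨(repWith_diag_yon_iff @QuasiCompact U).1 h⟩
  exact quasiSeparatedSpace_of_quasiSeparated U.hom

variable [QuasiSeparatedSpace ↥S] {I : Type u} [SmallCategory I] [IsCofiltered I] {D : I ⥤ Sp S}

/-- If the limit is a quasi-affine scheme then so is a member. -/
theorem exists_qa_member (hD : ∀ i, IsAlgSpace (D.obj i)) (hDa : ∀ (i j : I) (φ : i ⟶ j), IsAffineMor (D.map φ))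
    (hqc : ∀ i, IsQuasiCompactSp (D.obj i)) (hqs : ∀ i, IsQuasiSeparatedSp (D.obj i)) (c : Cone D) (hc : IsLimit c)
    (O : Over S) [O.left.IsQuasiAffine] (e : (yon S).obj O ≅ c.pt) :
    ∃ (i : I) (Q : Over S), Q.left.IsQuasiAffine ∧ Nonempty ((yon S).obj Q ≅ D.obj i) := by
  obtain ⟨i₀, Q₀, ⟨e₀⟩⟩ := exists_scheme_member hD hDa hqc hqs c hc O e
  have hrep : ∀ m : CategoryTheory.Over i₀, ∃ Q : Over S, Nonempty ((yon S).obj Q ≅ D.obj m.left) := fun m => by
    obtain ⟨V, v, fst, hV⟩ := representable_of_isAffineMor (hD m.left) (hD i₀) (hDa _ _ m.hom) e₀.hom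
    exact ⟨V, ⟨@asIso _ _ _ _ fst hV.isIso_fst_of_isIso⟩⟩
  choose Q eQ using hrep
  let d : ∀ m, (yon S).obj (Q m) ≅ D.obj m.left := fun m => (eQ m).some
  let E : CategoryTheory.Over i₀ ⥤ Over S :=
    { obj := Q
      map := fun {m n} φ => (yon S).preimage ((d m).hom ≫ D.map φ.left ≫ (d n).inv)
      map_id := fun m => (yon S).map_injective (by simp)
      map_comp := fun φ ψ => (yon S).map_injective (by simp) }
  let cE : Cone E :=
    { pt := O
      π :=
        { app := fun m => (yon S).preimage (e.hom ≫ c.π.app m.left ≫ (d m).inv)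
          naturality := fun m n φ => (yon S).map_injective (by
            simp only [E, Functor.const_obj_map, Functor.map_comp, Functor.map_preimage, CategoryTheory.Functor.map_id,
              Category.id_comp, Category.assoc, Iso.inv_hom_id_assoc]
            rw [← c.w φ.left, Category.assoc]
            erw [CategoryTheory.Functor.map_id, Category.id_comp]) } }
  let α : E ⋙ yon S ≅ CategoryTheory.Over.forget i₀ ⋙ D := NatIso.ofComponents d (fun φ => by simp [E])
  have hl : IsLimit (c.whisker (CategoryTheory.Over.forget i₀)) := (Functor.Initial.isLimitWhiskerEquiv _ c).symm hc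
  have hy : IsLimit ((yon S).mapCone cE) :=
    ((IsLimit.postcomposeInvEquiv α _).symm hl).ofIsoLimit (Cone.ext e.symm (fun m => by simp [α, cE]))
  have hE : IsLimit cE := isLimitOfReflects (yon S) hy
  let F := E ⋙ Over.forget S
  have hF : IsLimit ((Over.forget S).mapCone cE) := isLimitOfPreserves _ hE
  haveI : ∀ {m n : CategoryTheory.Over i₀} (φ : m ⟶ n), IsAffineHom (F.map φ) := fun {m n} φ =>
    (repWith_yon_map_iff @IsAffineHom (E.map φ)).1 (by
      rw [Functor.map_preimage]
      exact repWith_comp (repWith_of_isIso _)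
        (repWith_comp (repWith_isAffineHom_of_isAffineMor (hD _) (hD _) (hDa _ _ φ.left)) (repWith_of_isIso _)))
  haveI : ∀ m, CompactSpace ↥(F.obj m) := fun m => by
    haveI := compactSpace_of_isQuasiCompactSp (hqc m.left)
    haveI : CompactSpace (Points ((yon S).obj (Q m))) :=
      (Function.RightInverse.surjective (g := Points.map (d m).hom) (fun x => by
        rw [← Points.map_comp, Iso.hom_inv_id, Points.map_id])).compactSpace (Points.continuous_map (d m).inv)
    exact (Points.schemeHomeo (Q m)).symm.compactSpace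
  haveI : ∀ m, QuasiSeparatedSpace ↥(F.obj m) := fun m => quasiSeparatedSpace_of_isQuasiSeparatedSp (by
    haveI : Mono (d m).hom := inferInstance
    exact isQuasiSeparatedSp_of_mor (f := (d m).hom) (hqs m.left)
      (repWith_of_isIso (P := @QuasiCompact) (pullback.diagonal (d m).hom)))
  haveI : ((Over.forget S).mapCone cE).pt.IsQuasiAffine := ‹O.left.IsQuasiAffine›
  obtain ⟨m, hm⟩ := Scheme.exists_isQuasiAffine_of_isLimit F _ hF
  exact ⟨m.left, Q m, hm, ⟨d m⟩⟩

/-- A quasi-affine open of the limit comes from a quasi-affine open of a member. -/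
theorem exists_qa_open_member (hD : ∀ i, IsAlgSpace (D.obj i)) (hDa : ∀ (i j : I) (φ : i ⟶ j), IsAffineMor (D.map φ))
    (hqc : ∀ i, IsQuasiCompactSp (D.obj i)) (hqs : ∀ i, IsQuasiSeparatedSp (D.obj i)) (c : Cone D) (hc : IsLimit c)
    (O : Over S) [O.left.IsQuasiAffine] (j : (yon S).obj O ⟶ c.pt) (hj : RepWith @IsOpenImmersion j) :
    ∃ (i : I) (P : Over S) (ji : (yon S).obj P ⟶ D.obj i) (q : O ⟶ P), P.left.IsQuasiAffine ∧
      RepWith @IsOpenImmersion ji ∧ j ≫ c.π.app i = (yon S).map q ≫ ji := by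
  obtain ⟨i, U, ji, q, hji, hUqc, hsq⟩ := exists_open_stage D hD hDa hqc hqs c hc _ j hj isQuasiCompactSp_yon
  haveI := IsCofiltered.isConnected (CategoryTheory.Over i)
  let D' := CategoryTheory.Over.forget i ⋙ D
  let t : D' ⟶ (Functor.const _).obj (D.obj i) :=
    { app := fun k => D.map k.hom
      naturality := fun k l ψ => by
        change D.map ψ.left ≫ D.map l.hom = D.map k.hom ≫ 𝟙 _
        rw [Category.comp_id, ← D.map_comp, Over.w ψ] }
  obtain ⟨P, pr, sn, π, hP, ⟨hl⟩, hmap, -, -, hπ⟩ := exists_pullback_system D' t ji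
    (c.whisker (CategoryTheory.Over.forget i)) ((Functor.Initial.isLimitWhiskerEquiv _ c).symm hc)
    (c.π.app i) (fun k => c.w k.hom) j q hsq
  have hUa : IsAlgSpace U := by
    obtain ⟨A, a, ha, has, -⟩ := hUqc
    exact ⟨(haveI : Mono ji := mono_of_repWith (fun g (hg : IsOpenImmersion g) => inferInstance) hji
      representable_diag_of_mono ji (hD _).diag), A, a, ha, has⟩
  have hPa : ∀ k, IsAlgSpace (P.obj k) := fun k => isAlgSpace_of_isPullback (hD _).diag (hD k.left) hUa (hP k)
  have hPq := fun k => qcqs_of_isAffineMor (hPa k) hUa (isAffineMor_baseChange (hP k) (hDa _ _ k.hom))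
    hUqc (qcqs_of_openImmersion hji (hqs _))
  have hPda : ∀ k l (ψ : k ⟶ l), IsAffineMor (P.map ψ) := fun k l ψ =>
    isAffineMor_baseChange (hmap ψ).flip (hDa _ _ _)
  obtain ⟨k, Q, hQ, ⟨eQ⟩⟩ := exists_qa_member hPa hPda (fun k => (hPq k).1) (fun k => (hPq k).2) ⟨_, π⟩ hl O
    (Iso.refl _)
  obtain ⟨q', hq'⟩ := (yon S).map_surjective (π.app k ≫ eQ.inv)
  refine ⟨k.left, Q, eQ.hom ≫ pr.app k, q', hQ,
    repWith_comp (repWith_of_isIso eQ.hom) (repWith_of_isPullback (hP k).flip hji), ?_⟩
  rw [hq', Category.assoc, Iso.inv_hom_id_assoc, hπ]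
  rfl

end Groth.Agent.ASp
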