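import Groth.Agent.ASp.GenFinite
import Groth.Agent.ASp.FinFibre
import Groth.Agent.ASp.EtLocal
/-!
Locally finitely many irreducible components.
-/

set_option autoImplicit false
set_option backward.isDefEq.respectTransparency false
set_option backward.isDefEq.respectTransparency.types false
set_option linter.style.haveILetI false

universe u

open CategoryTheory CategoryTheory.Limits AlgebraicGeometry Opposite TopologicalSpace Topology

namespace Groth.Agent.ASp

open _root_.AlgSp

/-- The points of codimension zero. -/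
def codimZeroSet (U : Scheme.{u}) : Set ↥U := {u | ringKrullDim ↥(U.presheaf.stalk u) = 0}

theorem mem_codimZeroSet_iff {U : Scheme.{u}} (u : ↥U) : u ∈ codimZeroSet U ↔ ∀ v, v ⤳ u → v = u :=
  ⟨fun h _ hv => eq_of_ringKrullDim_stalk_eq_zero h hv, ringKrullDim_stalk_eq_zero⟩

theorem finite_components_iff (U : Scheme.{u}) (W : U.Opens) :
    (irreducibleComponents ↥W).Finite ↔ (codimZeroSet U ∩ (W : Set ↥U)).Finite := by
  have hmem : ∀ w : ↥W, w.1 ∈ codimZeroSet U ↔ ∀ v : ↥W, v ⤳ w → v = w := fun w => by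
    rw [mem_codimZeroSet_iff]
    exact ⟨fun h v hv => Subtype.ext (h v.1 ((subtype_specializes_iff v w).1 hv)),
      fun h v hv => congrArg Subtype.val (h ⟨v, hv.mem_open W.2 w.2⟩ ((subtype_specializes_iff _ _).2 hv))⟩
  haveI : QuasiSober ↥W := W.2.isOpenEmbedding_subtypeVal.quasiSober
  haveI : T0Space ↥W := inferInstanceAs (T0Space ↥(W : Set ↥U))
  constructor
  · intro h
    haveI := h.to_subtype
    let φ : ↥(codimZeroSet U ∩ (W : Set ↥U)) → irreducibleComponents ↥W := fun w =>
      ⟨closure {(⟨w.1, w.2.2⟩ : ↥W)}, isIrreducible_singleton.closure, fun Z hZ hle => by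
        obtain ⟨g, hg⟩ := QuasiSober.sober hZ.closure isClosed_closure
        have hgw : g = ⟨w.1, w.2.2⟩ := (hmem _).1 w.2.1 g (hg.specializes (subset_closure (hle (subset_closure rfl))))
        subst hgw
        exact subset_closure.trans hg.def.ge⟩
    have hφ : Function.Injective φ := fun a b e => Subtype.ext (congrArg (Subtype.val : ↥W → ↥U)
      (inseparable_iff_closure_eq.2 (congrArg Subtype.val e : closure {(⟨a.1, a.2.2⟩ : ↥W)} = closure {(⟨b.1, b.2.2⟩ : ↥W)})).eq)
    exact Set.finite_coe_iff.1 (Finite.of_injective φ hφ)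
  · intro h
    refine (h.preimage (Subtype.val_injective.injOn (s := _)) |>.image fun w : ↥W => closure {w}).subset fun Z hZ => ?_
    obtain ⟨g, hg⟩ := QuasiSober.sober hZ.1 (isClosed_of_mem_irreducibleComponents Z hZ)
    exact ⟨g, ⟨(hmem g).2 ((exists_component_iff g).1 ⟨Z, hZ, hg⟩), g.2⟩, hg.def⟩

/-- Transfer along flat maps locally of finite type. -/
theorem finite_codimZero_of_flat {P U V : Scheme.{u}} (s : P ⟶ U) [Etale s] [Surjective s] (t : P ⟶ V) [Flat t]
    [LocallyOfFiniteType t] (hV : ∀ W : V.Opens, IsCompact (W : Set ↥V) → (irreducibleComponents ↥W).Finite)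
    (W : U.Opens) (hW : IsCompact (W : Set ↥U)) : (irreducibleComponents ↥W).Finite := by
  rw [finite_components_iff]
  choose A hA hxA _hle using fun x : ↥P => exists_isAffineOpen_mem_and_subset (x := x) (U := (⊤ : P.Opens)) trivial
  obtain ⟨l, hl⟩ := hW.elim_finite_subcover (fun x => s '' (A x : Set ↥P))
    (fun x => s.isOpenMap _ (A x).isOpen) (fun y _ => by
      obtain ⟨x, rfl⟩ := s.surjective y
      exact Set.mem_iUnion.2 ⟨x, x, hxA x, rfl⟩)
  refine ((l.finite_toSet.biUnion fun x _ => (?_ : (codimZeroSet P ∩ (A x : Set ↥P)).Finite).image s)).subset ?_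
  · choose B hB hvB _hle using fun v : ↥V => exists_isAffineOpen_mem_and_subset (x := v) (U := (⊤ : V.Opens)) trivial
    obtain ⟨m, hm⟩ := ((hA x).isCompact.image t.continuous).elim_finite_subcover (fun v => (B v : Set ↥V))
      (fun v => (B v).2) (fun v _ => Set.mem_iUnion.2 ⟨v, hvB v⟩)
    let W' : V.Opens := ⟨⋃ v ∈ m, (B v : Set ↥V), isOpen_biUnion fun v _ => (B v).2⟩
    have hfin := (finite_components_iff V W').1 (hV W' (m.isCompact_biUnion fun v _ => (hB v).isCompact))
    refine (hfin.biUnion fun v _ => (?_ : ((codimZeroSet P ∩ (A x : Set ↥P)) ∩ t ⁻¹' {v}).Finite)).subset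
      fun p hp => Set.mem_iUnion₂.2 ⟨t p, ⟨(mem_codimZeroSet_iff _).2 fun w hw => ?_, hm ⟨p, hp.2, rfl⟩⟩, hp, rfl⟩
    · let k := (A x).ι ≫ t
      haveI : LocallyOfFiniteType (k.fiberToSpecResidueField v) :=
        MorphismProperty.pullback_snd _ _ (inferInstanceAs (LocallyOfFiniteType k))
      haveI : IsLocallyNoetherian (k.fiber v) := LocallyOfFiniteType.isLocallyNoetherian (k.fiberToSpecResidueField v)
      haveI : QuasiCompact (k.fiberToSpecResidueField v) := by
        haveI : IsAffine (A x).toScheme := hA x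
        haveI : QuasiCompact (V.fromSpecResidueField v) := quasiCompact_of_subsingleton _
        haveI : CompactSpace ↥(k.fiber v) :=
          QuasiCompact.compactSpace_of_compactSpace (pullback.fst k (V.fromSpecResidueField v))
        exact quasiCompact_of_compactSpace _
      haveI : CompactSpace ↥(k.fiber v) := QuasiCompact.compactSpace_of_compactSpace (k.fiberToSpecResidueField v)
      haveI : AlgebraicGeometry.IsNoetherian (k.fiber v) := {}
      have hfc : (codimZeroSet (k.fiber v) ∩ ((⊤ : (k.fiber v).Opens) : Set ↥(k.fiber v))).Finite := by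
        rw [← finite_components_iff]
        haveI : NoetherianSpace ↥(⊤ : (k.fiber v).Opens) :=
          inferInstanceAs (NoetherianSpace ↥((⊤ : (k.fiber v).Opens) : Set ↥(k.fiber v)))
        exact NoetherianSpace.finite_irreducibleComponents
      refine (hfc.image fun z => (A x).ι (k.fiberι v z)).subset ?_
      rintro p ⟨⟨hp0, hpA⟩, hpv⟩
      obtain ⟨z, hz⟩ : (⟨p, hpA⟩ : ↥(A x).toScheme) ∈ Set.range (k.fiberι v) := by
        rw [Scheme.Hom.range_fiberι]; exact hpv
      refine ⟨z, ⟨(mem_codimZeroSet_iff _).2 fun w hw => (k.fiberι v).isEmbedding.injective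
        ((A x).ι.isOpenEmbedding.injective ?_), trivial⟩,
        show (A x).ι (k.fiberι v z) = p by rw [hz]; rfl⟩
      exact ((mem_codimZeroSet_iff _).1 hp0 _ (by
        have := (hw.map (k.fiberι v).continuous).map (A x).ι.continuous
        rwa [hz] at this)).trans (by rw [hz]; rfl)
    · obtain ⟨w', hw', rfl⟩ := Flat.generalizingMap t hw
      rw [(mem_codimZeroSet_iff _).1 hp.1 w' hw']
  · rintro u ⟨hu, huW⟩
    obtain ⟨x, hx, p, hp, rfl⟩ := Set.mem_iUnion₂.1 (hl huW)
    refine Set.mem_iUnion₂.2 ⟨x, hx, p, ⟨(mem_codimZeroSet_iff _).2 fun w hw => ?_, hp⟩, rfl⟩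
    exact (isGenLift_of_etale s).eq_of_specializes ((mem_codimZeroSet_iff _).1 hu _ (hw.map s.continuous)).symm hw |>.symm

variable {S : Scheme.{u}}

/-- The property does not depend on the etale chart. -/
theorem locFinComp_of_etale {X : Sp S} {V : Over S} {b : (yon S).obj V ⟶ X} (hb : RepWith @Etale b)
    (hbs : RepWith @Surjective b) (hV : ∀ W : V.left.Opens, IsCompact (W : Set ↥V.left) → (irreducibleComponents ↥W).Finite)
    {U : Over S} {a : (yon S).obj U ⟶ X} (ha : RepWith @Etale a) (W : U.left.Opens)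
    (hW : IsCompact (W : Set ↥U.left)) : (irreducibleComponents ↥W).Finite := by
  obtain ⟨P, s, t, hse, hss, -, hsq⟩ := exists_etale_cover hb hbs a
  haveI : Etale t.left := ha.2 _ _ _ hsq.flip
  haveI := hse
  haveI := hss
  exact finite_codimZero_of_flat s.left t.left hV W hW

end Groth.Agent.ASp
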