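import Mathlib

/-!
Limit points of a family of points of an algebra.
-/

universe u

open TensorProduct

namespace Groth.Agent.ASp

variable {O B k : Type u} [CommRing O] [CommRing B] [Algebra O B] [Field k] [Algebra O k] {ι : Type u}
  (φ : ι → (B →ₐ[O] k)) (M : Ideal (ι → k))

/-- The limit point of a family of points. -/
noncomputable def limPt : B →ₐ[O] (ι → k) ⧸ M :=
  (Ideal.Quotient.mkₐ O M).comp (AlgHom.pi φ)

/-- The constants. -/
noncomputable def constEmb : k →ₐ[O] (ι → k) ⧸ M :=
  (Ideal.Quotient.mkₐ O M).comp (Pi.constAlgHom O ι k)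

theorem limPt_apply (b : B) : limPt φ M b = Ideal.Quotient.mk M (fun i => φ i b) := rfl

theorem constEmb_apply (x : k) : constEmb (O := O) M x = Ideal.Quotient.mk M (fun _ => x) := rfl

theorem lift_limPt_const (ψ : B →ₐ[O] k) (z : B ⊗[O] B) :
    Algebra.TensorProduct.lift (limPt φ M) ((constEmb M).comp ψ) (fun _ _ => Commute.all _ _) z =
      Ideal.Quotient.mk M (fun i => Algebra.TensorProduct.lift (φ i) ψ (fun _ _ => Commute.all _ _) z) := by
  induction z with
  | zero => simp only [map_zero]; exact (map_zero (Ideal.Quotient.mk M)).symm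
  | add a b ha hb => simp only [map_add, ha, hb]; exact (map_add (Ideal.Quotient.mk M) _ _).symm
  | tmul a b =>
    simp only [Algebra.TensorProduct.lift_tmul, AlgHom.comp_apply, limPt_apply, constEmb_apply, ← map_mul]
    rfl

theorem lift_const_limPt (ψ : B →ₐ[O] k) (z : B ⊗[O] B) :
    Algebra.TensorProduct.lift ((constEmb M).comp ψ) (limPt φ M) (fun _ _ => Commute.all _ _) z =
      Ideal.Quotient.mk M (fun i => Algebra.TensorProduct.lift ψ (φ i) (fun _ _ => Commute.all _ _) z) := by
  induction z with
  | zero => simp only [map_zero]; exact (map_zero (Ideal.Quotient.mk M)).symm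
  | add a b ha hb => simp only [map_add, ha, hb]; exact (map_add (Ideal.Quotient.mk M) _ _).symm
  | tmul a b =>
    simp only [Algebra.TensorProduct.lift_tmul, AlgHom.comp_apply, limPt_apply, constEmb_apply, ← map_mul]
    rfl

/-- A function nonvanishing at the diagonal of the limit is nonvanishing at the limit paired with some member. -/
theorem exists_lift_ne_zero (z : B ⊗[O] B)
    (hz : Algebra.TensorProduct.lift (limPt φ M) (limPt φ M) (fun _ _ => Commute.all _ _) z ≠ 0) :
    ∃ i, Algebra.TensorProduct.lift (limPt φ M) ((constEmb M).comp (φ i)) (fun _ _ => Commute.all _ _) z ≠ 0 := by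
  classical
  by_contra hcon
  simp only [not_exists, not_not] at hcon
  obtain ⟨s, rfl⟩ := TensorProduct.exists_finset z
  apply hz
  let v : ι → (s → k) := fun i p => φ i p.1.2
  let V : Submodule k (s → k) := Submodule.span k (Set.range v)
  have hv : ∀ i, v i ∈ V := fun i => Submodule.subset_span ⟨i, rfl⟩
  have horth : ∀ w ∈ V, ∑ p : s, limPt φ M p.1.1 * constEmb (O := O) M (w p) = 0 := by
    intro w hw
    induction hw using Submodule.span_induction with
    | mem w hw =>
      obtain ⟨i, rfl⟩ := hw
      have h := hcon i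
      rw [map_sum] at h
      simp only [Algebra.TensorProduct.lift_tmul, AlgHom.comp_apply] at h
      rw [← Finset.sum_coe_sort] at h
      exact h
    | zero => simp
    | add a b _ _ ha hb => simp only [Pi.add_apply, map_add, mul_add, Finset.sum_add_distrib, ha, hb, add_zero]
    | smul r a _ ha =>
      simp only [Pi.smul_apply, smul_eq_mul, map_mul, mul_left_comm _ (constEmb (O := O) M r), ← Finset.mul_sum,
        ha, mul_zero]
  let b := Module.finBasis k V
  let γ : Fin (Module.finrank k V) → ι → k := fun m i => b.repr ⟨v i, hv i⟩ m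
  have hexp : ∀ p : s, limPt φ M p.1.2 = ∑ m, Ideal.Quotient.mk M (γ m) * constEmb (O := O) M ((b m).1 p) := by
    intro p
    simp only [limPt_apply, constEmb_apply, ← map_mul, ← map_sum]
    congr 1
    funext i
    have h := congrArg (fun w : V => w.1 p) (b.sum_repr ⟨v i, hv i⟩)
    simp only [Submodule.coe_sum, Submodule.coe_smul, Finset.sum_apply, Pi.smul_apply, smul_eq_mul] at h
    simp only [Finset.sum_apply, Pi.mul_apply]
    exact h.symm
  rw [map_sum, ← Finset.sum_coe_sort]
  simp only [Algebra.TensorProduct.lift_tmul, hexp, Finset.mul_sum]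
  rw [Finset.sum_comm]
  refine Finset.sum_eq_zero fun m _ => ?_
  simp only [mul_left_comm _ (Ideal.Quotient.mk M (γ m)), ← Finset.mul_sum, horth _ (b m).2, mul_zero]

end Groth.Agent.ASp
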