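import Groth.Agent.ASp.LocSepFib
import Groth.Agent.ASp.QCPoint
import Groth.Agent.ASp.Univ
import Groth.Agent.ASp.Diag

/-!
Locally separated algebraic spaces are decent.
-/

set_option backward.isDefEq.respectTransparency false
set_option backward.isDefEq.respectTransparency.types false

universe u

open CategoryTheory CategoryTheory.Limits AlgebraicGeometry Opposite

namespace Groth.Agent.ASp

open _root_.AlgSp

variable {S : Scheme.{u}}

/-- A geometric point meets a small affine chart in a finite scheme. -/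
theorem finite_fibre_affine {X : Sp S} (hls : RepWith @IsImmersion (Limits.diag X)) {k : Type u} [Field k]
    [IsAlgClosed k] {str : Spec (CommRingCat.of k) ⟶ S} (q : (yon S).obj (Over.mk str) ⟶ X) {E : Over S}
    [IsAffine E.left] {W : S.Opens} (hW : IsAffineOpen W) (hEW : ∀ e : ↥E.left, E.hom e ∈ W)
    (p : (yon S).obj E ⟶ X) (hp : RepWith @Etale p) {F : Over S} {s : F ⟶ E} {w : F ⟶ Over.mk str}
    (sq : IsPullback ((yon S).map s) ((yon S).map w) p q) : Finite ↥F.left := by
  rcases isEmpty_or_nonempty ↥F.left with h | h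
  · infer_instance
  obtain ⟨z⟩ := h
  let O : CommRingCat.{u} := Γ(S, W)
  let aE : E.left ⟶ Spec O := IsOpenImmersion.lift hW.fromSpec E.hom (by
    rw [hW.range_fromSpec]
    rintro _ ⟨e, rfl⟩
    exact hEW e)
  haveI : Subsingleton ↥(Over.mk str).left := inferInstanceAs (Subsingleton ↥(Spec (CommRingCat.of k)))
  let ak : Spec (CommRingCat.of k) ⟶ Spec O := IsOpenImmersion.lift hW.fromSpec str (by
    rw [hW.range_fromSpec]
    rintro _ ⟨y, rfl⟩
    have e : (Over.mk str).hom (w.left z) = E.hom (s.left z) := by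
      rw [← Scheme.Hom.comp_apply, ← Scheme.Hom.comp_apply, Over.w, Over.w]
    rw [Subsingleton.elim (α := ↥(Over.mk str).left) y (w.left z), show str (w.left z) = E.hom (s.left z) from e]
    exact hEW _)
  let B : CommRingCat.{u} := Γ(E.left, ⊤)
  obtain ⟨α, hα⟩ := Spec.map_surjective (E.left.isoSpec.inv ≫ aE)
  obtain ⟨β, hβ⟩ := Spec.map_surjective ak
  letI : Algebra ↥O ↥B := α.hom.toAlgebra
  letI : Algebra ↥O k := β.hom.toAlgebra
  let iE : spO (O := ↥O) hW.fromSpec ↥B ≅ E := Over.isoMk E.left.isoSpec.symm (by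
    change E.left.isoSpec.inv ≫ E.hom = Spec.map α ≫ hW.fromSpec
    rw [hα, Category.assoc, IsOpenImmersion.lift_fac])
  let iK : spO (O := ↥O) hW.fromSpec k ≅ Over.mk str := Over.isoMk (Iso.refl _) (by
    change 𝟙 _ ≫ str = Spec.map β ≫ hW.fromSpec
    rw [hβ, IsOpenImmersion.lift_fac, Category.id_comp])
  refine finite_fibre_of_locallySeparated (O := ↥O) hW.fromSpec hls ((yon S).map iE.hom ≫ p)
    (repWith_comp (repWith_of_isIso _) hp) ((yon S).map iK.hom ≫ q) (s := s ≫ iE.inv) (w := w ≫ iK.inv) ?_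
  refine IsPullback.of_iso sq (Iso.refl _) ((yon S).mapIso iE.symm) ((yon S).mapIso iK.symm) (Iso.refl _)
    ?_ ?_ ?_ ?_
  · simp
  · simp
  · simp
  · simp

/-- A locally separated algebraic space is decent. -/
theorem isDecent_of_isLocallySeparated {X : Sp S} (hX : IsAlgSpace X) (hls : IsLocallySeparatedSp X) :
    IsDecent X := by
  intro x
  obtain ⟨A, a, hae, has⟩ := hX.atlas
  obtain ⟨u, hu⟩ := surjective_ofPt has x
  let k : Type u := AlgebraicClosure (A.left.residueField u)
  let g : Spec (CommRingCat.of k) ⟶ A.left :=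
    Spec.map (CommRingCat.ofHom (algebraMap (A.left.residueField u) k)) ≫ A.left.fromSpecResidueField u
  let str : Spec (CommRingCat.of k) ⟶ S := g ≫ A.hom
  let q : (yon S).obj (Over.mk str) ⟶ X := (yon S).map (Over.homMk g rfl : Over.mk str ⟶ A) ≫ a
  let qp : FieldPt X := ⟨k, str, (J S).uliftYonedaEquiv.{u+1} q⟩
  have hqp : qp.toHom = q := by rw [FieldPt.toHom]; exact Equiv.symm_apply_apply _ _
  have hx : Points.mk qp = x := by
    rw [← Points.ofPt_toHom qp, hqp, ofPt_yon_map_comp, ← hu]
    change Points.ofPt a (g (IsLocalRing.closedPoint k)) = _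
    simp only [g, Scheme.Hom.comp_apply]
    exact congrArg (Points.ofPt a) (Scheme.fromSpecResidueField_apply _ _)
  have hq : RepWith @QuasiCompact q := by
    haveI := FpqcDesc.quasiCompact_descends.{u}
    have hloc : ∀ v : ↥A.left, ∃ (W : S.Opens) (V : A.left.Opens), IsAffineOpen W ∧ IsAffineOpen V ∧ v ∈ V ∧
        ∀ z ∈ V, A.hom z ∈ W := by
      intro v
      obtain ⟨W, hW, hvW, -⟩ := exists_isAffineOpen_mem_and_subset (x := A.hom v) (U := (⊤ : S.Opens)) (by simp)
      obtain ⟨V, hV, hvV, hVW⟩ := exists_isAffineOpen_mem_and_subset (x := v) (U := A.hom ⁻¹ᵁ W) hvW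
      exact ⟨W, V, hW, hV, hvV, fun z hz => hVW hz⟩
    choose W V hW hV hvV hVW using hloc
    let E : ↥A.left → Over S := fun v => Over.mk ((V v).ι ≫ A.hom)
    let ι : ∀ v, E v ⟶ A := fun v => Over.homMk (V v).ι rfl
    have he : ∀ v, RepWith @Etale ((yon S).map (ι v) ≫ a) := fun v =>
      repWith_comp (repWith_yon_map (inferInstanceAs (Etale (V v).ι))) hae
    choose F w s sq using fun v => exists_isPullback_yon (hX.representable_from_yon q) ((yon S).map (ι v) ≫ a)
    have hcov : IsFpqcCover (fun v => (yon S).obj (E v)) (fun v => (yon S).map (ι v) ≫ a) := by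
      refine isFpqcCover_of_fppf hX (fun v => IsAlgSpace.yon_obj _)
        (fun v => locP_of_repWith (repWith_mono (fun _ _ g (hg : Etale g) => inferInstanceAs (Flat g)) (he v)))
        (fun v => locP_of_repWith (repWith_mono
          (fun _ _ g (hg : Etale g) => inferInstanceAs (LocallyOfFinitePresentation g)) (he v))) fun y => ?_
      obtain ⟨v, rfl⟩ := surjective_ofPt has y
      refine ⟨v, Points.ofScheme (E v) (⟨v, hvV v⟩ : (V v).toScheme), ?_⟩
      rw [← Points.ofPt_eq_map_ofScheme, ofPt_yon_map_comp]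
      rfl
    refine repWith_of_fpqc (hX.representable_from_yon q) sq hcov fun v =>
      repWith_yon_map (P := @QuasiCompact) ?_
    haveI : IsAffine (E v).left := hV v
    haveI : Finite ↥(F v).left := finite_fibre_affine (E := E v) hls q (hW v) (fun e => hVW v _ (show (V v).toScheme from e).2)
      ((yon S).map (ι v) ≫ a) (he v) (sq v).flip
    exact ⟨fun _ _ _ => (Set.toFinite _).isCompact⟩
  obtain ⟨p, hp, hm, hpq⟩ := exists_mono_qc_of_qc hX qp (hqp ▸ hq)
  exact ⟨p, hp.trans hx, hm, hpq⟩

end Groth.Agent.ASp
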