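import Groth.Agent.ASp.LocSepAlg
import Groth.Agent.ASp.Morph
import Groth.Agent.ASp.Residual
import Groth.Agent.Unibranch.Open
import Groth.Agent.WLocalLib.WeakEtaleScheme

/-!
Finiteness of the geometric fibres of affine charts of locally separated spaces.
-/

set_option backward.isDefEq.respectTransparency false
set_option backward.isDefEq.respectTransparency.types false

universe u

open CategoryTheory CategoryTheory.Limits AlgebraicGeometry Opposite TensorProduct

namespace Groth.Agent.ASp

/-- A field-valued point in the image of a morphism surjective on stalks factors through it. -/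
theorem exists_lift_field_surjectiveOnStalks {K : Type u} [Field K] {R T : Scheme.{u}} (j : R ⟶ T)
    [SurjectiveOnStalks j] (g : Spec (CommRingCat.of K) ⟶ T)
    (hg : g (IsLocalRing.closedPoint K) ∈ Set.range j) : ∃ l : Spec (CommRingCat.of K) ⟶ R, l ≫ j = g := by
  obtain ⟨z, hz⟩ := hg
  let d : T.residueField (g (IsLocalRing.closedPoint K)) ⟶ CommRingCat.of K :=
    T.descResidueField (Scheme.stalkClosedPointTo g)
  have hd : Spec.map d ≫ T.fromSpecResidueField _ = g :=
    Scheme.descResidueField_stalkClosedPointTo_fromSpecResidueField K T g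
  suffices ∀ (pt : ↥T) (d' : T.residueField pt ⟶ CommRingCat.of K), j z = pt →
      ∃ l, l ≫ j = Spec.map d' ≫ T.fromSpecResidueField pt by rw [← hd]; exact this _ d hz
  intro pt d' e
  subst e
  haveI : IsIso (j.residueFieldMap z) := by
    refine (ConcreteCategory.isIso_iff_bijective _).2 ⟨(j.residueFieldMap z).hom.injective, fun y => ?_⟩
    obtain ⟨w, rfl⟩ := R.residue_surjective z y
    obtain ⟨w', rfl⟩ := j.stalkMap_surjective z w
    exact ⟨(T.residue (j z)).hom w',
      congrArg (fun g : T.presheaf.stalk (j z) ⟶ R.residueField z => g.hom w') (Scheme.residue_residueFieldMap j z)⟩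
  refine ⟨Spec.map (inv (j.residueFieldMap z) ≫ d') ≫ R.fromSpecResidueField z, ?_⟩
  rw [Category.assoc, ← Scheme.Hom.SpecMap_residueFieldMap_fromSpecResidueField, ← Spec.map_comp_assoc,
    IsIso.hom_inv_id_assoc]

open _root_.AlgSp

variable {S : Scheme.{u}} {O : Type u} [CommRing O] (oS : Spec (CommRingCat.of O) ⟶ S) [IsOpenImmersion oS]

/-- The affine scheme of an algebra over an affine open of the base. -/
noncomputable abbrev spO (B : Type u) [CommRing B] [Algebra O B] : Over S :=
  Over.mk (Spec.map (CommRingCat.ofHom (algebraMap O B)) ≫ oS)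

/-- The morphism of affine schemes of an algebra map. -/
noncomputable def spMap {A B : Type u} [CommRing A] [Algebra O A] [CommRing B] [Algebra O B] (f : A →ₐ[O] B) :
    spO oS B ⟶ spO oS A :=
  Over.homMk (Spec.map (CommRingCat.ofHom f.toRingHom)) (by
    change Spec.map _ ≫ Spec.map _ ≫ oS = Spec.map _ ≫ oS
    rw [← Spec.map_comp_assoc]
    congr 2
    ext r
    exact f.commutes r)

theorem spMap_comp {A B C : Type u} [CommRing A] [Algebra O A] [CommRing B] [Algebra O B] [CommRing C]
    [Algebra O C] (f : A →ₐ[O] B) (g : B →ₐ[O] C) : spMap oS g ≫ spMap oS f = spMap oS (g.comp f) :=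
  Over.OverMorphism.ext (by
    change Spec.map _ ≫ Spec.map _ = Spec.map _
    rw [← Spec.map_comp]
    rfl)

theorem spMap_surjective {A B : Type u} [CommRing A] [Algebra O A] [CommRing B] [Algebra O B]
    (g : spO oS B ⟶ spO oS A) : ∃ f : A →ₐ[O] B, spMap oS f = g := by
  obtain ⟨ψ, hψ⟩ : ∃ ψ : CommRingCat.of A ⟶ CommRingCat.of B, Spec.map ψ = g.left := ⟨Spec.preimage _, Spec.map_preimage _⟩
  have hc : CommRingCat.ofHom (algebraMap O A) ≫ ψ = CommRingCat.ofHom (algebraMap O B) :=
    Spec.map_injective ((cancel_mono oS).1 (by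
      rw [Spec.map_comp, hψ, Category.assoc]
      exact Over.w g))
  refine ⟨{ ψ.hom with commutes' := fun r => congrArg (fun q : CommRingCat.of O ⟶ CommRingCat.of B => q.hom r) hc },
    Over.OverMorphism.ext ?_⟩
  exact hψ

theorem spMap_injective {A B : Type u} [CommRing A] [Algebra O A] [CommRing B] [Algebra O B] {f g : A →ₐ[O] B}
    (h : spMap oS f = spMap oS g) : f = g := by
  have := congrArg CommRingCat.Hom.hom (Spec.map_injective (congrArg CommaMorphism.left h))
  exact AlgHom.ext fun x => RingHom.congr_fun this x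

variable {B : Type u} [CommRing B] [Algebra O B]

theorem lift_comp_inclRight {A : Type u} [CommRing A] [Algebra O A] (x y : B →ₐ[O] A) :
    (Algebra.TensorProduct.lift x y (fun _ _ => Commute.all _ _)).comp Algebra.TensorProduct.includeRight = y :=
  AlgHom.ext fun b => by simp

theorem lift_comp_inclLeft {A : Type u} [CommRing A] [Algebra O A] (x y : B →ₐ[O] A) :
    (Algebra.TensorProduct.lift x y (fun _ _ => Commute.all _ _)).comp
      (Algebra.TensorProduct.includeLeft (R := O) (S := O) (A := B) (B := B)) = x :=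
  AlgHom.ext fun b => by simp

theorem hom_ext_spTensor {Z : Over S} {a b : Z ⟶ spO oS (B ⊗[O] B)}
    (h1 : a ≫ spMap oS (Algebra.TensorProduct.includeLeft (R := O) (S := O) (A := B) (B := B)) =
      b ≫ spMap oS (Algebra.TensorProduct.includeLeft (R := O) (S := O) (A := B) (B := B)))
    (h2 : a ≫ spMap oS (Algebra.TensorProduct.includeRight (R := O) (A := B) (B := B)) =
      b ≫ spMap oS (Algebra.TensorProduct.includeRight (R := O) (A := B) (B := B))) : a = b := by
  apply Over.OverMorphism.ext
  rw [← cancel_mono (pullbackSpecIso O B B).inv]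
  apply pullback.hom_ext
  · rw [Category.assoc, Category.assoc, pullbackSpecIso_inv_fst]
    exact congrArg CommaMorphism.left h1
  · rw [Category.assoc, Category.assoc, pullbackSpecIso_inv_snd]
    exact congrArg CommaMorphism.left h2

theorem exists_lift_spTensor {Z : Over S} (a b : Z ⟶ spO oS B) :
    ∃ l : Z ⟶ spO oS (B ⊗[O] B),
      l ≫ spMap oS (Algebra.TensorProduct.includeLeft (R := O) (S := O) (A := B) (B := B)) = a ∧
      l ≫ spMap oS (Algebra.TensorProduct.includeRight (R := O) (A := B) (B := B)) = b := by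
  let al : Z.left ⟶ Spec (CommRingCat.of B) := a.left
  let bl : Z.left ⟶ Spec (CommRingCat.of B) := b.left
  have haw : al ≫ Spec.map (CommRingCat.ofHom (algebraMap O B)) ≫ oS = Z.hom := Over.w a
  have hbw : bl ≫ Spec.map (CommRingCat.ofHom (algebraMap O B)) ≫ oS = Z.hom := Over.w b
  let l₀ : Z.left ⟶ Spec (CommRingCat.of (B ⊗[O] B)) := pullback.lift al bl
    (by rw [← cancel_mono oS, Category.assoc, Category.assoc, haw, hbw]) ≫ (pullbackSpecIso O B B).hom
  have h1 : l₀ ≫ Spec.map (CommRingCat.ofHom (Algebra.TensorProduct.includeLeft (R := O) (S := O) (A := B)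
      (B := B)).toRingHom) = al := by
    simp only [l₀, Category.assoc]
    erw [pullbackSpecIso_hom_fst]
    rw [pullback.lift_fst]
  have h2 : l₀ ≫ Spec.map (CommRingCat.ofHom (Algebra.TensorProduct.includeRight (R := O) (A := B)
      (B := B)).toRingHom) = bl := by
    simp only [l₀, Category.assoc]
    erw [pullbackSpecIso_hom_snd]
    rw [pullback.lift_snd]
  refine ⟨Over.homMk l₀ ?_, Over.OverMorphism.ext h1, Over.OverMorphism.ext h2⟩
  have heq : Spec.map (CommRingCat.ofHom (algebraMap O (B ⊗[O] B))) ≫ oS =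
      Spec.map (CommRingCat.ofHom (Algebra.TensorProduct.includeLeft (R := O) (S := O) (A := B) (B := B)).toRingHom) ≫
        Spec.map (CommRingCat.ofHom (algebraMap O B)) ≫ oS := by
    rw [← Spec.map_comp_assoc]
    congr 2
  exact (congrArg (l₀ ≫ ·) heq).trans ((Category.assoc _ _ _).symm.trans ((congrArg (· ≫ _) h1).trans haw))

set_option maxHeartbeats 1000000 in
/-- The geometric fibres of an affine chart of a locally separated space are finite. -/
theorem finite_fibre_of_locallySeparated {X : Sp S} (hls : RepWith @IsImmersion (Limits.diag X))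
    {k : Type u} [Field k] [IsAlgClosed k] [Algebra O k]
    (p : (yon S).obj (spO oS B) ⟶ X) (hp : RepWith @Etale p) (q : (yon S).obj (spO oS k) ⟶ X)
    {F : Over S} {s : F ⟶ spO oS B} {w : F ⟶ spO oS k} (sq : IsPullback ((yon S).map s) ((yon S).map w) p q) :
    Finite ↥F.left := by
  classical
  by_contra hinf
  rw [not_finite_iff_infinite] at hinf
  haveI : Etale w.left := hp.2 _ _ _ sq
  haveI : IsReduced (spO oS k).left := inferInstanceAs (IsReduced (Spec (CommRingCat.of k)))
  haveI : IsReduced F.left := Groth.Agent.WLocalLib.isReduced_of_weaklyEtale_scheme w.left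
  haveI := Groth.Agent.Unibranch.locallyQuasiFinite_of_etale w.left
  haveI : Subsingleton ↥(spO oS k).left := inferInstanceAs (Subsingleton ↥(Spec (CommRingCat.of k)))
  haveI : DiscreteTopology ↥F.left := isDiscrete_univ_iff.1
    ((w.left.isDiscrete_preimage_singleton (IsLocalRing.closedPoint k)).mono
      fun x _ => Subsingleton.elim (α := ↥(spO oS k).left) _ _)
  -- the sections at the points of the fibre
  let wl : F.left ⟶ Spec (CommRingCat.of k) := w.left
  have hwl : LocallyOfFiniteType wl := inferInstanceAs (LocallyOfFiniteType w.left)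
  have hsec : ∀ z : ↥F.left, ∃ σ : spO oS k ⟶ F, σ ≫ w = 𝟙 _ ∧ σ.left (IsLocalRing.closedPoint k) = z := by
    intro z
    let σ := pointOfClosedPoint wl z (isClosed_discrete _)
    have hσ : σ ≫ wl = 𝟙 _ := pointOfClosedPoint_comp wl z _
    have hw : wl ≫ (spO oS k).hom = F.hom := Over.w w
    refine ⟨Over.homMk σ (by rw [← hw, reassoc_of% hσ]), Over.OverMorphism.ext hσ, ?_⟩
    exact pointOfClosedPoint_apply wl z _ _
  choose σ hσw hσz using hsec
  choose φ hφ using fun z => spMap_surjective oS (σ z ≫ s)
  have hφq : ∀ z, (yon S).map (spMap oS (φ z)) ≫ p = q := fun z => by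
    rw [hφ, Functor.map_comp, Category.assoc, sq.w, ← Category.assoc, ← Functor.map_comp, hσw,
      CategoryTheory.Functor.map_id, Category.id_comp]
  -- the equivalence relation and its immersion
  obtain ⟨R, r₁, r₂, sqR⟩ := exists_isPullback_yon hp.1 p
  obtain ⟨j, hj1, hj2⟩ := exists_lift_spTensor oS r₁ r₂
  let π₁ := spMap oS (Algebra.TensorProduct.includeLeft (R := O) (S := O) (A := B) (B := B))
  let π₂ := spMap oS (Algebra.TensorProduct.includeRight (R := O) (A := B) (B := B))
  haveI : IsImmersion j.left := by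
    let g : (yon S).obj (spO oS (B ⊗[O] B)) ⟶ X ⨯ X :=
      prod.lift ((yon S).map π₁ ≫ p) ((yon S).map π₂ ≫ p)
    have hlim : IsPullback ((yon S).map r₁ ≫ p) ((yon S).map j) (Limits.diag X) g := by
      refine IsPullback.of_isLimit' ⟨?_⟩ ?_
      · apply prod.hom_ext
        · simp only [g, Category.assoc, prod.lift_fst, Category.comp_id]
          rw [← Category.assoc ((yon S).map j), ← Functor.map_comp, hj1]
        · simp only [g, Category.assoc, prod.lift_snd, Category.comp_id]
          rw [← Category.assoc ((yon S).map j), ← Functor.map_comp, hj2, sqR.w]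
      · have e : ∀ c : PullbackCone (Limits.diag X) g, (c.snd ≫ (yon S).map π₁) ≫ p = c.fst ∧
            (c.snd ≫ (yon S).map π₂) ≫ p = c.fst := fun c => by
          have h1 := congrArg (· ≫ prod.fst) c.condition
          have h2 := congrArg (· ≫ prod.snd) c.condition
          simp only [g, Category.assoc, prod.lift_fst, prod.lift_snd, Category.comp_id] at h1 h2
          exact ⟨(Category.assoc _ _ _).trans h1.symm, (Category.assoc _ _ _).trans h2.symm⟩
        refine PullbackCone.IsLimit.mk _
          (fun c => sqR.lift (c.snd ≫ (yon S).map π₁) (c.snd ≫ (yon S).map π₂) ((e c).1.trans (e c).2.symm))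
          (fun c => ?_) (fun c => ?_) (fun c m h1 h2 => ?_)
        · rw [sqR.lift_fst_assoc, (e c).1]
        · refine hom_ext_yon fun V v => ?_
          have k1 := sqR.lift_fst (c.snd ≫ (yon S).map π₁) (c.snd ≫ (yon S).map π₂) ((e c).1.trans (e c).2.symm)
          have k2 := sqR.lift_snd (c.snd ≫ (yon S).map π₁) (c.snd ≫ (yon S).map π₂) ((e c).1.trans (e c).2.symm)
          obtain ⟨a, ha⟩ := (yon S).map_surjective (v ≫ sqR.lift (c.snd ≫ (yon S).map π₁) (c.snd ≫ (yon S).map π₂)
            ((e c).1.trans (e c).2.symm))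
          obtain ⟨b, hb⟩ := (yon S).map_surjective (v ≫ c.snd)
          have hab : a ≫ j = b := by
            refine hom_ext_spTensor oS ?_ ?_
            · apply (yon S).map_injective
              rw [Category.assoc, hj1, Functor.map_comp, Functor.map_comp, ha, hb]
              exact (Category.assoc _ _ _).trans ((congrArg (v ≫ ·) k1).trans (Category.assoc _ _ _).symm)
            · apply (yon S).map_injective
              rw [Category.assoc, hj2, Functor.map_comp, Functor.map_comp, ha, hb]
              exact (Category.assoc _ _ _).trans ((congrArg (v ≫ ·) k2).trans (Category.assoc _ _ _).symm)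
          rw [← Category.assoc, ← ha, ← Functor.map_comp, hab, hb]
        · apply sqR.hom_ext
          · rw [sqR.lift_fst, ← h2, Category.assoc, ← Functor.map_comp, hj1]
          · rw [sqR.lift_snd, ← h2, Category.assoc, ← Functor.map_comp, hj2]
    exact (repWith_yon_map_iff _ j).1 (repWith_of_isPullback hlim hls)
  obtain ⟨δ, hδ⟩ := (yon S).map_surjective (sqR.lift (𝟙 _) (𝟙 _) rfl)
  have hδj : ∀ {A : Type u} [CommRing A] [Algebra O A] (x : B →ₐ[O] A),
      spMap oS x ≫ δ ≫ j = spMap oS (Algebra.TensorProduct.lift x x (fun _ _ => Commute.all _ _)) := by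
    intro A _ _ x
    refine hom_ext_spTensor oS ?_ ?_ <;> apply (yon S).map_injective
    · rw [Category.assoc, Category.assoc, hj1, Functor.map_comp, Functor.map_comp, hδ, sqR.lift_fst,
        Category.comp_id, spMap_comp, lift_comp_inclLeft]
    · rw [Category.assoc, Category.assoc, hj2, Functor.map_comp, Functor.map_comp, hδ, sqR.lift_snd,
        Category.comp_id, spMap_comp, lift_comp_inclRight]
  have hpair : ∀ {A : Type u} [CommRing A] [Algebra O A] (x y : B →ₐ[O] A),
      (yon S).map (spMap oS x) ≫ p = (yon S).map (spMap oS y) ≫ p →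
      ∃ l : spO oS A ⟶ R, l ≫ r₁ = spMap oS x ∧ l ≫ r₂ = spMap oS y ∧
        l ≫ j = spMap oS (Algebra.TensorProduct.lift x y (fun _ _ => Commute.all _ _)) := by
    intro A _ _ x y h
    obtain ⟨l, hl⟩ := (yon S).map_surjective (sqR.lift _ _ h)
    have hl1 : l ≫ r₁ = spMap oS x := (yon S).map_injective (by rw [Functor.map_comp, hl, sqR.lift_fst])
    have hl2 : l ≫ r₂ = spMap oS y := (yon S).map_injective (by rw [Functor.map_comp, hl, sqR.lift_snd])
    refine ⟨l, hl1, hl2, hom_ext_spTensor oS ?_ ?_⟩
    · rw [Category.assoc, hj1, hl1, spMap_comp, lift_comp_inclLeft]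
    · rw [Category.assoc, hj2, hl2, spMap_comp, lift_comp_inclRight]
  -- the limit point
  let I₀ : Ideal (↥F.left → k) :=
    { carrier := {f | (Function.support f).Finite}
      zero_mem' := by simp
      add_mem' := fun {f g} hf hg => (hf.union hg).subset (Function.support_add f g)
      smul_mem' := fun c f hf => hf.subset (by
        intro x hx
        simp only [Function.mem_support, smul_eq_mul, Pi.mul_apply] at hx
        exact right_ne_zero_of_mul hx) }
  have hI₀ : I₀ ≠ ⊤ := by
    intro h
    have h1 : (Function.support (1 : ↥F.left → k)).Finite := (Ideal.eq_top_iff_one _).1 h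
    simp [Set.infinite_univ.not_finite] at h1
  obtain ⟨M, hM, hIM⟩ := Ideal.exists_le_maximal I₀ hI₀
  letI : Field ((↥F.left → k) ⧸ M) := Ideal.Quotient.field M
  let t := limPt φ M
  let c := constEmb (O := O) (k := k) M
  have htt : (spMap oS (Algebra.TensorProduct.lift t t (fun _ _ => Commute.all _ _))).left
      (IsLocalRing.closedPoint _) ∈ Set.range j.left :=
    ⟨(spMap oS t ≫ δ).left (IsLocalRing.closedPoint _), by
      rw [← hδj t, ← Category.assoc, Over.comp_left _ _ _ (spMap oS t ≫ δ) j, Scheme.Hom.comp_apply]⟩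
  obtain ⟨Ao, Cl, hAo, hCl, hAC⟩ := j.left.isLocallyClosed_range
  change Set (PrimeSpectrum (B ⊗[O] B)) at Ao Cl
  obtain ⟨I, hI⟩ : ∃ I : Ideal (B ⊗[O] B), Cl = PrimeSpectrum.zeroLocus (I : Set (B ⊗[O] B)) :=
    (PrimeSpectrum.isClosed_iff_zeroLocus_ideal Cl).1 hCl
  obtain ⟨_, ⟨h, rfl⟩, hth, hhA⟩ := PrimeSpectrum.isTopologicalBasis_basic_opens.exists_subset_of_mem_open
    (hAC.le htt).1 hAo
  have hth' : Algebra.TensorProduct.lift t t (fun _ _ => Commute.all _ _) h ≠ 0 := by
    intro h0
    apply hth
    change Algebra.TensorProduct.lift t t (fun _ _ => Commute.all _ _) h ∈ IsLocalRing.maximalIdeal _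
    rw [h0]; exact Ideal.zero_mem _
  obtain ⟨f, hf⟩ := exists_lift_ne_zero φ M h hth'
  have hmem : (spMap oS (Algebra.TensorProduct.lift t (c.comp (φ f)) (fun _ _ => Commute.all _ _))).left
      (IsLocalRing.closedPoint _) ∈ Set.range j.left := by
    rw [hAC]
    refine ⟨hhA fun hh => hf ?_, ?_⟩
    · change Algebra.TensorProduct.lift t (c.comp (φ f)) (fun _ _ => Commute.all _ _) h ∈
        IsLocalRing.maximalIdeal _ at hh
      rwa [IsLocalRing.maximalIdeal_eq_bot, Ideal.mem_bot] at hh
    · rw [hI]
      intro x hx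
      change Algebra.TensorProduct.lift t (c.comp (φ f)) (fun _ _ => Commute.all _ _) x ∈
        IsLocalRing.maximalIdeal _
      have h0 : ∀ g, Algebra.TensorProduct.lift (φ g) (φ f) (fun _ _ => Commute.all _ _) x = 0 := by
        intro g
        obtain ⟨l, -, -, hl⟩ := hpair (φ g) (φ f) ((hφq g).trans (hφq f).symm)
        have hC : (spMap oS (Algebra.TensorProduct.lift (φ g) (φ f) (fun _ _ => Commute.all _ _))).left
            (IsLocalRing.closedPoint k) ∈ Set.range j.left :=
          ⟨l.left (IsLocalRing.closedPoint k), by rw [← hl]; rfl⟩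
        have hx' := hI.le (hAC.le hC).2 hx
        change Algebra.TensorProduct.lift (φ g) (φ f) (fun _ _ => Commute.all _ _) x ∈ IsLocalRing.maximalIdeal k at hx'
        rwa [IsLocalRing.maximalIdeal_eq_bot, Ideal.mem_bot] at hx'
      rw [lift_limPt_const, show (fun i => Algebra.TensorProduct.lift (φ i) (φ f) (fun _ _ => Commute.all _ _) x) = 0
        from funext h0, map_zero]
      exact Ideal.zero_mem _
  obtain ⟨l₀, hl₀⟩ := exists_lift_field_surjectiveOnStalks (K := (↥F.left → k) ⧸ M) j.left _ hmem
  let l : spO oS ((↥F.left → k) ⧸ M) ⟶ R := Over.homMk l₀ (by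
    rw [← Over.w j, reassoc_of% hl₀]
    exact Over.w (spMap oS (Algebra.TensorProduct.lift t (c.comp (φ f)) (fun _ _ => Commute.all _ _))))
  have hl : l ≫ j = spMap oS (Algebra.TensorProduct.lift t (c.comp (φ f)) (fun _ _ => Commute.all _ _)) :=
    Over.OverMorphism.ext hl₀
  have htq : (yon S).map (spMap oS t) ≫ p = (yon S).map (spMap oS c) ≫ q := by
    have e1 : spMap oS t = l ≫ r₁ := by
      rw [← hj1, ← Category.assoc, hl, spMap_comp, lift_comp_inclLeft]
    have e2 : spMap oS (c.comp (φ f)) = l ≫ r₂ := by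
      rw [← hj2, ← Category.assoc, hl, spMap_comp, lift_comp_inclRight]
    rw [e1, Functor.map_comp, Category.assoc, sqR.w, ← Category.assoc, ← Functor.map_comp, ← e2, ← spMap_comp,
      Functor.map_comp, Category.assoc, hφq]
  obtain ⟨lam, hlam⟩ := (yon S).map_surjective (sq.lift _ _ htq)
  have hlam1 : lam ≫ s = spMap oS t := (yon S).map_injective (by rw [Functor.map_comp, hlam, sq.lift_fst])
  have hlam2 : lam ≫ w = spMap oS c := (yon S).map_injective (by rw [Functor.map_comp, hlam, sq.lift_snd])
  -- the limit point is constant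
  let g := lam.left (IsLocalRing.closedPoint ((↥F.left → k) ⧸ M))
  have hconst : t = c.comp (φ g) := by
    let E : F.left.Opens := ⟨{g}, isOpen_discrete _⟩
    haveI : Subsingleton ↥E.toScheme := inferInstanceAs (Subsingleton ↥({g} : Set ↥F.left))
    have hE1 : Set.range (σ g).left ⊆ Set.range E.ι := by
      rintro _ ⟨y, rfl⟩
      rw [E.range_ι]
      change (σ g).left y ∈ ({g} : Set ↥F.left)
      rw [Subsingleton.elim (α := ↥(spO oS k).left) y (IsLocalRing.closedPoint k)]
      exact hσz g
    have hE2 : Set.range lam.left ⊆ Set.range E.ι := by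
      rintro _ ⟨y, rfl⟩
      rw [E.range_ι]
      change lam.left y ∈ ({g} : Set ↥F.left)
      rw [Subsingleton.elim (α := ↥(Spec (CommRingCat.of ((↥F.left → k) ⧸ M)))) y (IsLocalRing.closedPoint _)]
      rfl
    let σ₁ : Spec (CommRingCat.of k) ⟶ E.toScheme := IsOpenImmersion.lift E.ι (σ g).left hE1
    have hs1 : σ₁ ≫ E.ι ≫ wl = 𝟙 _ := by
      rw [IsOpenImmersion.lift_fac_assoc]
      exact congrArg CommaMorphism.left (hσw g)
    haveI : IsClosedImmersion σ₁ := isClosedImmersion_of_comp_eq_id (E.ι ≫ wl) σ₁ hs1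
    haveI : Surjective σ₁ := ⟨fun y => ⟨IsLocalRing.closedPoint k, Subsingleton.elim _ _⟩⟩
    haveI : IsIso σ₁ := isIso_of_isClosedImmersion_of_surjective σ₁
    have hinv : E.ι ≫ wl = inv σ₁ := by
      rw [← cancel_epi σ₁, IsIso.hom_inv_id]
      exact hs1
    let lam₁ := IsOpenImmersion.lift E.ι lam.left hE2
    have hlam₁ : lam₁ ≫ E.ι = lam.left := IsOpenImmersion.lift_fac _ _ _
    have e : lam = spMap oS c ≫ σ g := by
      apply Over.OverMorphism.ext
      have h2 : lam.left ≫ wl = (spMap oS c).left := congrArg CommaMorphism.left hlam2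
      change lam.left = (spMap oS c).left ≫ (σ g).left
      rw [← h2, ← hlam₁, Category.assoc lam₁ E.ι wl, hinv,
        show (σ g).left = σ₁ ≫ E.ι from (IsOpenImmersion.lift_fac _ _ _).symm, Category.assoc,
        IsIso.inv_hom_id_assoc]
    refine spMap_injective oS ?_
    rw [← hlam1, e, Category.assoc, ← hφ, spMap_comp]
  -- contradiction with finiteness near a diagonal point
  obtain ⟨mf, hm⟩ := (yon S).map_surjective (sqR.lift ((yon S).map (w ≫ spMap oS (φ g))) ((yon S).map s)
    (by rw [Functor.map_comp, Category.assoc, hφq, sq.w]))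
  have hm1 : mf ≫ r₁ = w ≫ spMap oS (φ g) := (yon S).map_injective (by rw [Functor.map_comp, hm, sqR.lift_fst])
  have hm2 : mf ≫ r₂ = s := (yon S).map_injective (by rw [Functor.map_comp, hm, sqR.lift_snd])
  have sqm : IsPullback ((yon S).map mf) ((yon S).map w) ((yon S).map r₁) ((yon S).map (spMap oS (φ g))) := by
    refine IsPullback.of_right ?_ (by rw [← Functor.map_comp, hm1, Functor.map_comp]) sqR.flip
    rw [← Functor.map_comp, hm2, hφq]
    exact sq
  haveI : IsAffine (spO oS k).left := inferInstanceAs (IsAffine (Spec (CommRingCat.of k)))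
  haveI : IsAffine (spO oS B).left := inferInstanceAs (IsAffine (Spec (CommRingCat.of B)))
  haveI : IsAffineHom (spMap oS (φ g)).left := inferInstanceAs (IsAffineHom (Spec.map _))
  haveI : IsAffineHom mf.left :=
    MorphismProperty.of_isPullback (P := @IsAffineHom) (isPullback_left (isPullback_of_yon_map sqm)).flip ‹_›
  obtain ⟨l₁, -, -, hl₁⟩ := hpair (φ g) (φ g) rfl
  let z₀ : ↥R.left := l₁.left (IsLocalRing.closedPoint k)
  obtain ⟨V, hV, hzV, -⟩ := exists_isAffineOpen_mem_and_subset (x := z₀) (U := (⊤ : R.left.Opens)) (by simp)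
  have hfinV : (mf.left ⁻¹' (V : Set ↥R.left)).Finite :=
    (hV.preimage mf.left).isCompact.finite_of_discrete
  obtain ⟨W, hW, hWV⟩ := j.left.isEmbedding.isInducing.isOpen_iff.1 V.isOpen
  change Set (PrimeSpectrum (B ⊗[O] B)) at W
  obtain ⟨_, ⟨h', rfl⟩, hzh, hhW⟩ := PrimeSpectrum.isTopologicalBasis_basic_opens.exists_subset_of_mem_open
    ((Set.ext_iff.1 hWV z₀).2 hzV) hW
  have hne : Algebra.TensorProduct.lift (φ g) (φ g) (fun _ _ => Commute.all _ _) h' ≠ 0 := by
    intro h0
    apply hzh
    rw [show j.left z₀ = (l₁ ≫ j).left (IsLocalRing.closedPoint k) from rfl, hl₁]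
    change Algebra.TensorProduct.lift (φ g) (φ g) (fun _ _ => Commute.all _ _) h' ∈ IsLocalRing.maximalIdeal k
    rw [h0]; exact Ideal.zero_mem _
  have hsupp : (Function.support fun z =>
      Algebra.TensorProduct.lift (φ g) (φ z) (fun _ _ => Commute.all _ _) h').Finite := by
    refine hfinV.subset fun z hz => ?_
    change mf.left z ∈ V
    refine (Set.ext_iff.1 hWV _).1 (hhW ?_)
    intro hmem'
    apply hz
    have e : σ z ≫ mf ≫ j = spMap oS (Algebra.TensorProduct.lift (φ g) (φ z) (fun _ _ => Commute.all _ _)) := by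
      refine hom_ext_spTensor oS ?_ ?_
      · rw [Category.assoc, Category.assoc, hj1, hm1, reassoc_of% (hσw z), spMap_comp,
          lift_comp_inclLeft]
      · rw [Category.assoc, Category.assoc, hj2, hm2, ← hφ, spMap_comp, lift_comp_inclRight]
    rw [← hσz z, show j.left (mf.left ((σ z).left (IsLocalRing.closedPoint k))) =
      (σ z ≫ mf ≫ j).left (IsLocalRing.closedPoint k) from rfl, e] at hmem'
    change Algebra.TensorProduct.lift (φ g) (φ z) (fun _ _ => Commute.all _ _) h' ∈ IsLocalRing.maximalIdeal k at hmem'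
    rwa [IsLocalRing.maximalIdeal_eq_bot, Ideal.mem_bot] at hmem'
  have h0 : Ideal.Quotient.mk M (fun z => Algebra.TensorProduct.lift (φ g) (φ z) (fun _ _ => Commute.all _ _) h') = 0 :=
    Ideal.Quotient.eq_zero_iff_mem.2 (hIM hsupp)
  rw [← lift_const_limPt] at h0
  have e : Algebra.TensorProduct.lift (c.comp (φ g)) t (fun _ _ => Commute.all _ _) h' =
      c (Algebra.TensorProduct.lift (φ g) (φ g) (fun _ _ => Commute.all _ _) h') := by
    rw [hconst, ← AlgHom.comp_apply]
    congr 1
    ext <;> simp
  exact hne (c.toRingHom.injective ((e.symm.trans h0).trans (map_zero c).symm))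

end Groth.Agent.ASp
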