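import Groth.Agent.ASp.Affine
import Groth.Agent.ASp.Diag
import Groth.Agent.ASp.SchDesc

/-!
An etale neighbourhood over which a space is the neighbourhood itself gives an open scheme.
-/

set_option backward.isDefEq.respectTransparency false
set_option backward.isDefEq.respectTransparency.types false

universe u

open CategoryTheory CategoryTheory.Limits AlgebraicGeometry Opposite TensorProduct

namespace Groth.Agent.ASp

open _root_.AlgSp

variable {S : Scheme.{u}}

set_option maxHeartbeats 1600000 in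
theorem exists_open_scheme_of_etale_piece {X : Sp S} (hX : IsAlgSpace X) {T' V : Over S} (g : X ⟶ (yon S).obj T')
    (cV : V ⟶ T') [Etale cV.left] (jX : (yon S).obj V ⟶ X)
    (sqV : IsPullback jX (𝟙 ((yon S).obj V)) g ((yon S).map cV)) (v₀ : ↥V.left) :
    ∃ (P : Over S) (f : (yon S).obj P ⟶ X), RepWith @IsOpenImmersion f ∧
      Points.ofPt jX v₀ ∈ Set.range (Points.map f) := by
  let O₀ : T'.left.Opens := ⟨Set.range cV.left, cV.left.isOpenMap.isOpen_range⟩
  let To : Over S := Over.mk (O₀.ι ≫ T'.hom)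
  let uo : To ⟶ T' := Over.homMk O₀.ι rfl
  let c' : V ⟶ To := Over.homMk (IsOpenImmersion.lift O₀.ι cV.left (Scheme.Opens.range_ι O₀).ge)
    (by
      change _ ≫ O₀.ι ≫ T'.hom = V.hom
      rw [← Category.assoc, IsOpenImmersion.lift_fac, Over.w])
  have hc' : c' ≫ uo = cV := Over.OverMorphism.ext (IsOpenImmersion.lift_fac _ _ _)
  haveI : Surjective c'.left := ⟨fun z => by
    obtain ⟨v, hv⟩ := z.2
    refine ⟨v, O₀.ι.isOpenEmbedding.injective ?_⟩
    refine (Scheme.Hom.comp_apply c'.left O₀.ι v).symm.trans ?_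
    exact (congrArg (fun f : V.left ⟶ T'.left => f v) (IsOpenImmersion.lift_fac _ _ _)).trans hv⟩
  haveI : Etale c'.left := by
    haveI : Etale (c'.left ≫ O₀.ι) := by
      rw [show c'.left ≫ O₀.ι = cV.left from congrArg CommaMorphism.left hc']; infer_instance
    exact IsEtLocal.of_postcomp (P := @Etale) c'.left O₀.ι inferInstance ‹_›
  have sqΩ := IsPullback.of_hasPullback g ((yon S).map uo)
  have hΩsp := isAlgSpace_pullback (IsAlgSpace.yon_obj T').diag hX (IsAlgSpace.yon_obj To) g ((yon S).map uo)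
  obtain ⟨fst, hfst1, hfst2⟩ : ∃ fst : (yon S).obj V ⟶ pullback g ((yon S).map uo),
      fst ≫ pullback.fst g ((yon S).map uo) = jX ∧ fst ≫ pullback.snd g ((yon S).map uo) = (yon S).map c' :=
    ⟨pullback.lift _ _ (by rw [sqV.w, Category.id_comp, ← Functor.map_comp, hc']), pullback.lift_fst _ _ _,
      pullback.lift_snd _ _ _⟩
  have sq : IsPullback fst ((yon S).map (𝟙 V)) (pullback.snd g ((yon S).map uo)) ((yon S).map c') := by
    rw [CategoryTheory.Functor.map_id]
    refine IsPullback.of_right (h₁₂ := pullback.fst g ((yon S).map uo)) (v₁₃ := g) (h₂₂ := (yon S).map uo) ?_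
      (by rw [hfst2, Category.id_comp]) sqΩ
    rw [hfst1, ← Functor.map_comp, hc']
    exact sqV
  obtain ⟨P, ⟨eP⟩⟩ := exists_scheme_of_lqf hΩsp (pullback.snd g ((yon S).map uo)) c' (𝟙 V) fst sq
  refine ⟨P, eP.hom ≫ pullback.fst g ((yon S).map uo), repWith_comp (repWith_of_isIso eP.hom)
    (repWith_of_isPullback sqΩ.flip (repWith_yon_map (P := @IsOpenImmersion) (g := uo)
      (inferInstanceAs (IsOpenImmersion O₀.ι)))), ?_⟩
  refine ⟨Points.map eP.inv (Points.map fst (Points.ofScheme V v₀)), ?_⟩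
  rw [← Points.map_comp, Iso.inv_hom_id_assoc, ← Points.map_comp, hfst1, ← Points.ofPt_eq_map_ofScheme]

end Groth.Agent.ASp
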