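import Mathlib.RingTheory.Smooth.IntegralClosure
import Mathlib.RingTheory.Localization.Away.Basic
import Groth.Agent.ASp.AffineRing

/-!
An idempotent of a flat base change of an equalizer cutting out a finite algebra comes from the integral closure.
-/

universe u

open TensorProduct

namespace Groth.Agent.ASp

variable {O B C O' D : Type u} [CommRing O] [CommRing B] [CommRing C] [CommRing O'] [CommRing D] [Algebra O B]
  [Algebra O C] [Algebra O O'] (e₁ e₂ : B →ₐ[O] C)

/-- The map from the base change of the integral closure of the base in an equalizer. -/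
noncomputable def fromIntClosure : O' ⊗[O] integralClosure O (AlgHom.equalizer e₁ e₂) →ₐ[O'] O' ⊗[O] B :=
  (Algebra.TensorProduct.map (AlgHom.id O' O') (AlgHom.equalizer e₁ e₂).val).comp
    ((integralClosure O' (O' ⊗[O] AlgHom.equalizer e₁ e₂)).val.comp
      (TensorProduct.toIntegralClosure O O' (AlgHom.equalizer e₁ e₂)))

theorem fromIntClosure_tmul (a : O') (r : integralClosure O (AlgHom.equalizer e₁ e₂)) :
    fromIntClosure e₁ e₂ (a ⊗ₜ r) = a ⊗ₜ (r.1.1 : B) := by
  simp [fromIntClosure, TensorProduct.toIntegralClosure]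

theorem injective_fromIntClosure [Module.Flat O O'] : Function.Injective (fromIntClosure (O' := O') e₁ e₂) :=
  (injective_map_equalizer e₁ e₂).comp (Subtype.val_injective.comp TensorProduct.toIntegralClosure_injective_of_flat)

theorem exists_fromIntClosure [Algebra.Smooth O O'] {z : O' ⊗[O] B} (hz : IsIntegral O' z)
    (h : Algebra.TensorProduct.map (AlgHom.id O O') e₁ z = Algebra.TensorProduct.map (AlgHom.id O O') e₂ z) :
    ∃ w, fromIntClosure e₁ e₂ w = z := by
  haveI : Module.Flat O O' := inferInstance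
  obtain ⟨y, hy⟩ := exists_map_equalizer e₁ e₂ h
  let θ := Algebra.TensorProduct.map (AlgHom.id O' O') (AlgHom.equalizer e₁ e₂).val
  have hθ : Function.Injective θ := injective_map_equalizer e₁ e₂
  have hy' : IsIntegral O' y := (isIntegral_algHom_iff θ hθ).1 (by rw [show θ y = z from hy]; exact hz)
  obtain ⟨w, hw⟩ := TensorProduct.toIntegralClosure_bijective_of_smooth.2
    (⟨y, hy'⟩ : integralClosure O' (O' ⊗[O] AlgHom.equalizer e₁ e₂))
  exact ⟨w, by rw [← hy]; exact congrArg θ (congrArg Subtype.val hw)⟩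

theorem isLocalization_away_fromIntClosure [Algebra.Smooth O O'] {ε : O' ⊗[O] B} (hε : IsIdempotentElem ε)
    (hεe : Algebra.TensorProduct.map (AlgHom.id O O') e₁ ε = Algebra.TensorProduct.map (AlgHom.id O O') e₂ ε)
    (π : O' ⊗[O] B →+* D) (hπε : π ε = 1) (hπi : (π.comp (algebraMap O' (O' ⊗[O] B))).IsIntegral)
    (h0 : ∀ z, Algebra.TensorProduct.map (AlgHom.id O O') e₁ z = Algebra.TensorProduct.map (AlgHom.id O O') e₂ z →
      ε * z = z → π z = 0 → z = 0)
    (hex : ∀ b, ∃ z, Algebra.TensorProduct.map (AlgHom.id O O') e₁ z = Algebra.TensorProduct.map (AlgHom.id O O') e₂ z ∧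
      ε * z = z ∧ π z = b) :
    ∃ y, fromIntClosure e₁ e₂ y = ε ∧
      letI := (π.comp (fromIntClosure (O' := O') e₁ e₂).toRingHom).toAlgebra
      IsLocalization.Away y D := by
  classical
  haveI : Module.Flat O O' := inferInstance
  set m₁ := Algebra.TensorProduct.map (AlgHom.id O' O') e₁
  set m₂ := Algebra.TensorProduct.map (AlgHom.id O' O') e₂
  have hint : IsIntegral O' ε := ⟨Polynomial.X ^ 2 - Polynomial.X,
    Polynomial.monic_X_pow_sub (lt_of_le_of_lt Polynomial.degree_X_le (by norm_num)), by simp [pow_two, hε.eq]⟩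
  obtain ⟨y, hy⟩ := exists_fromIntClosure e₁ e₂ hint hεe
  refine ⟨y, hy, ?_⟩
  letI := (π.comp (fromIntClosure (O' := O') e₁ e₂).toRingHom).toAlgebra
  have hinj := injective_fromIntClosure (O' := O') e₁ e₂
  have heq : ∀ w, m₁ (fromIntClosure e₁ e₂ w) = m₂ (fromIntClosure e₁ e₂ w) := by
    intro w
    induction w with
    | zero => simp
    | add a b ha hb => simp [ha, hb]
    | tmul a r =>
      simp only [fromIntClosure_tmul, m₁, m₂, Algebra.TensorProduct.map_tmul, AlgHom.id_apply]
      exact congrArg (a ⊗ₜ[O] ·) r.1.2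
  have hy2 : IsIdempotentElem y := hinj (by rw [map_mul, hy, hε.eq])
  refine IsLocalization.away_of_isIdempotentElem_of_mul hy2 (fun a b => ⟨fun h => ?_, fun h => ?_⟩) fun d => ?_
  · change π (fromIntClosure e₁ e₂ a) = π (fromIntClosure e₁ e₂ b) at h
    refine hinj (sub_eq_zero.1 ?_)
    rw [map_mul, map_mul, hy, ← mul_sub]
    refine h0 _ ?_ (by rw [← mul_assoc, hε.eq]) (by rw [map_mul, map_sub, h, sub_self, mul_zero])
    change m₁ _ = m₂ _
    rw [map_mul, map_mul, map_sub, map_sub, heq, heq, show m₁ ε = m₂ ε from hεe]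
  · change π (fromIntClosure e₁ e₂ a) = π (fromIntClosure e₁ e₂ b)
    have := congrArg (fun t => π (fromIntClosure e₁ e₂ t)) h
    simpa [hy, hπε] using this
  · obtain ⟨z, hze, hεz, hzd⟩ := hex d
    obtain ⟨p, hp, hp0⟩ := hπi d
    have hz : IsIntegral O' z := by
      refine ⟨Polynomial.X * p, Polynomial.monic_X.mul hp, ?_⟩
      have hq : ε * Polynomial.aeval z p = 0 := by
        refine h0 _ ?_ (by rw [← mul_assoc, hε.eq]) ?_
        · change m₁ _ = m₂ _
          rw [map_mul, map_mul, ← Polynomial.aeval_algHom_apply, ← Polynomial.aeval_algHom_apply,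
            show m₁ ε = m₂ ε from hεe, show m₁ z = m₂ z from hze]
        · rw [map_mul, hπε, one_mul, Polynomial.aeval_def, Polynomial.hom_eval₂, hzd]
          exact hp0
      rw [← Polynomial.aeval_def, map_mul, Polynomial.aeval_X]
      calc z * Polynomial.aeval z p = z * (ε * Polynomial.aeval z p) := by
            rw [← mul_assoc, mul_comm z ε, hεz]
        _ = 0 := by rw [hq, mul_zero]
    obtain ⟨w, hw⟩ := exists_fromIntClosure e₁ e₂ hz hze
    exact ⟨w, by change π (fromIntClosure e₁ e₂ w) = d; rw [hw, hzd]⟩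

end Groth.Agent.ASp
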