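import Groth.Agent.ASp.Morph
import Groth.Agent.ASp.Points

/-!
Fibre products of schemes over a space separated over a scheme are closed in the products over the scheme.
-/

set_option backward.isDefEq.respectTransparency.types false

universe u

open CategoryTheory CategoryTheory.Limits AlgebraicGeometry Opposite

namespace Groth.Agent.ASp

open _root_.AlgSp

variable {S : Scheme.{u}}

theorem isClosedImmersion_lift_of_separated {X : Sp S} {T : Over S} (x : X ⟶ (yon S).obj T)
    (hx : RepWith @IsClosedImmersion (pullback.diagonal x)) {A B Q : Over S} {a : (yon S).obj A ⟶ X}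
    {b : (yon S).obj B ⟶ X} {q₁ : Q ⟶ A} {q₂ : Q ⟶ B}
    (hR : IsPullback ((yon S).map q₁) ((yon S).map q₂) a b) {a' : A ⟶ T} {b' : B ⟶ T}
    (ha : a ≫ x = (yon S).map a') (hb : b ≫ x = (yon S).map b')
    (w : q₁.left ≫ a'.left = q₂.left ≫ b'.left) :
    IsClosedImmersion (pullback.lift q₁.left q₂.left w : Q.left ⟶ pullback a'.left b'.left) := by
  have hq : q₁ ≫ a' = q₂ ≫ b' := (yon S).map_injective (by
    simp only [Functor.map_comp, ← ha, ← hb, reassoc_of% hR.w])
  have hM := IsPullback.of_hasPullback a' b'
  have hMy := isPullback_yon_map hM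
  obtain ⟨k, hk⟩ : ∃ k : (yon S).obj (pullback a' b') ⟶ pullback x x,
      k ≫ pullback.fst x x = (yon S).map (pullback.fst a' b') ≫ a ∧
      k ≫ pullback.snd x x = (yon S).map (pullback.snd a' b') ≫ b :=
    ⟨pullback.lift _ _ (by simp only [Category.assoc, ha, hb, hMy.w]), pullback.lift_fst _ _ _,
      pullback.lift_snd _ _ _⟩
  obtain ⟨m, hm1, hm2⟩ : ∃ m : Q ⟶ pullback a' b', m ≫ pullback.fst a' b' = q₁ ∧ m ≫ pullback.snd a' b' = q₂ :=
    ⟨pullback.lift q₁ q₂ hq, pullback.lift_fst _ _ _, pullback.lift_snd _ _ _⟩
  have hsq : IsPullback ((yon S).map q₁ ≫ a) ((yon S).map m) (pullback.diagonal x) k := by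
    refine IsPullback.of_isLimit' ⟨?_⟩ ?_
    · apply pullback.hom_ext
      · simp only [Category.assoc, pullback.diagonal_fst, Category.comp_id, hk.1,
          ← Functor.map_comp_assoc, hm1]
      · simp only [Category.assoc, pullback.diagonal_snd, Category.comp_id, hk.2,
          ← Functor.map_comp_assoc, hm2, hR.w]
    · refine PullbackCone.IsLimit.mk _
        (fun s => hR.lift (s.snd ≫ (yon S).map (pullback.fst a' b')) (s.snd ≫ (yon S).map (pullback.snd a' b')) ?_)
        (fun s => ?_) (fun s => ?_) (fun s l h1 h2 => ?_)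
      · have h1 := s.condition =≫ pullback.fst x x
        have h2 := s.condition =≫ pullback.snd x x
        simp only [Category.assoc, pullback.diagonal_fst, pullback.diagonal_snd, Category.comp_id, hk.1, hk.2] at h1 h2
        simp only [Category.assoc, ← h1, ← h2]
      · have h1 := s.condition =≫ pullback.fst x x
        simp only [Category.assoc, pullback.diagonal_fst, Category.comp_id, hk.1] at h1
        rw [← Category.assoc, hR.lift_fst, Category.assoc, ← h1]
      · apply hMy.hom_ext
        · rw [Category.assoc, ← Functor.map_comp, hm1, hR.lift_fst]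
        · rw [Category.assoc, ← Functor.map_comp, hm2, hR.lift_snd]
      · apply hR.hom_ext
        · rw [hR.lift_fst, ← h2, Category.assoc, ← Functor.map_comp, hm1]
        · rw [hR.lift_snd, ← h2, Category.assoc, ← Functor.map_comp, hm2]
  have h1 : IsClosedImmersion m.left := hx.2 k _ m hsq
  have e1 : pullback.lift q₁.left q₂.left w = m.left ≫ (isPullback_left hM).isoPullback.hom := by
    apply pullback.hom_ext
    · rw [pullback.lift_fst, Category.assoc, IsPullback.isoPullback_hom_fst]
      exact (congrArg CommaMorphism.left hm1).symm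
    · rw [pullback.lift_snd, Category.assoc, IsPullback.isoPullback_hom_snd]
      exact (congrArg CommaMorphism.left hm2).symm
  rw [e1]
  exact IsClosedImmersion.comp _ _

end Groth.Agent.ASp
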