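import Groth.Agent.ASp.Affine
import Groth.Agent.ASp.LocP
import Groth.Agent.ASp.SepLift
import Groth.Agent.ASp.Diag
import Groth.Agent.ASp.SchDesc

/-!
The saturation of a finite monomorphic piece of a chart is cut out by an idempotent.
-/

set_option backward.isDefEq.respectTransparency false
set_option backward.isDefEq.respectTransparency.types false

universe u

open CategoryTheory CategoryTheory.Limits AlgebraicGeometry Opposite TensorProduct

namespace Groth.Agent.ASp

open _root_.AlgSp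

variable {S : Scheme.{u}}

set_option maxHeartbeats 1600000 in
theorem ofPt_eq_of_comp_eq {F : Sp S} {A B : Over S} (f g : A ⟶ B) (p : (yon S).obj B ⟶ F)
    (h : (yon S).map f ≫ p = (yon S).map g ≫ p) (z : ↥A.left) :
    Points.ofPt p (f.left z) = Points.ofPt p (g.left z) := by
  rw [← ofPt_yon_map_comp, h, ofPt_yon_map_comp]

set_option maxHeartbeats 1000000 in
theorem exists_saturation_idempotent {AWr CWr O' : CommRingCat.{u}} (strA : Spec AWr ⟶ S) (strC : Spec CWr ⟶ S)
    {strW : Spec O' ⟶ S} {XW : Sp S} {V : Over S} (wX : XW ⟶ (yon S).obj (Over.mk strW))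
    (hwXd : RepWith @IsClosedImmersion (pullback.diagonal wX))
    (aw : Over.mk strA ⟶ Over.mk strW) (awr : O' ⟶ AWr) (haw : aw.left = Spec.map awr)
    (pW : (yon S).obj (Over.mk strA) ⟶ XW) (hpW2 : pW ≫ wX = (yon S).map aw)
    (hpWe : RepWith @Etale pW) (ι : V ⟶ Over.mk strA) [IsOpenImmersion ι.left] [IsFinite (ι ≫ aw).left]
    (hjmono : ∀ {Z : Over S} (g h : Z ⟶ V), (yon S).map g ≫ (yon S).map ι ≫ pW =
      (yon S).map h ≫ (yon S).map ι ≫ pW → g = h)
    (m₁ m₂ : Over.mk strC ⟶ Over.mk strA) (mr₁ mr₂ : AWr ⟶ CWr) (hmr₁ : m₁.left = Spec.map mr₁)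
    (hmr₂ : m₂.left = Spec.map mr₂) (hmpW : (yon S).map m₁ ≫ pW = (yon S).map m₂ ≫ pW)
    (hlift : ∀ {Z : Over S} (a b : Z ⟶ Over.mk strA), (yon S).map a ≫ pW = (yon S).map b ≫ pW →
      ∃ Λ : Z ⟶ Over.mk strC, Λ ≫ m₁ = a ∧ Λ ≫ m₂ = b)
    (πι : AWr ⟶ Γ(V.left, ⊤)) (hπι : V.left.toSpecΓ ≫ Spec.map πι = ι.left) :
    (awr ≫ πι).hom.IsIntegral ∧ ∃ εW : AWr, IsIdempotentElem εW ∧ πι.hom εW = 1 ∧ mr₁.hom εW = mr₂.hom εW ∧
      (∀ z : AWr, mr₁.hom z = mr₂.hom z → εW * z = z → πι.hom z = 0 → z = 0) ∧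
      (∀ d : Γ(V.left, ⊤), ∃ z : AWr, mr₁.hom z = mr₂.hom z ∧ εW * z = z ∧ πι.hom z = d) ∧
      ∀ z : ↥(Spec AWr), z ∈ PrimeSpectrum.basicOpen εW →
        Points.ofPt pW z ∈ Set.range (Points.ofPt ((yon S).map ι ≫ pW)) := by
  classical
  haveI : IsAffine (Over.mk strW).left := inferInstanceAs (IsAffine (Spec O'))
  let AW : Over S := Over.mk strA
  let CW : Over S := Over.mk strC
  set j : (yon S).obj V ⟶ XW := (yon S).map ι ≫ pW with hj
  have hje : RepWith @Etale j :=
    repWith_comp (repWith_yon_map (P := @Etale) (inferInstanceAs (Etale ι.left))) hpWe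
  -- the saturation of `V` in the chart
  obtain ⟨Q₀, q₂₀, q₁₀, sqQ₀⟩ := exists_isPullback_yon hpWe.1 j
  haveI : Etale q₂₀.left := hje.2 _ _ _ sqQ₀.flip
  haveI : Mono q₂₀ := ⟨fun {Z} g h e => (yon S).map_injective (sqQ₀.hom_ext
    (by rw [← Functor.map_comp, ← Functor.map_comp, e])
    (congrArg _ (hjmono (g ≫ q₁₀) (h ≫ q₁₀) (by
      simp only [Functor.map_comp, Category.assoc, ← sqQ₀.w]
      rw [← Functor.map_comp_assoc, e, Functor.map_comp_assoc])) |> fun e' => by
      rw [← Functor.map_comp, ← Functor.map_comp]; exact e'))⟩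
  haveI : Mono q₂₀.left := Over.mono_left_of_mono q₂₀
  haveI : IsOpenImmersion q₂₀.left := IsOpenImmersion.of_flat_of_mono _
  haveI : IsFinite q₂₀.left := by
    have w : q₁₀.left ≫ (ι ≫ aw).left = q₂₀.left ≫ aw.left := by
      rw [← Over.comp_left, ← Over.comp_left]
      refine congrArg _ ((yon S).map_injective ?_)
      have := congrArg (· ≫ wX) sqQ₀.w
      simp only [Category.assoc, hpW2, j, ← Functor.map_comp] at this
      simpa using this.symm
    haveI : IsClosedImmersion (pullback.lift q₁₀.left q₂₀.left w : Q₀.left ⟶ pullback (ι ≫ aw).left aw.left) :=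
      isClosedImmersion_lift_of_separated wX hwXd sqQ₀.flip
        (by simp only [j, Category.assoc, hpW2, Functor.map_comp]) hpW2 w
    rw [← pullback.lift_snd q₁₀.left q₂₀.left w]
    infer_instance
  haveI : IsAffine AW.left := inferInstanceAs (IsAffine (Spec AWr))
  obtain ⟨εW, hεi, hεr⟩ := PrimeSpectrum.exists_idempotent_basicOpen_eq_of_isClopen
    (R := AWr) (s := Set.range q₂₀.left)
    ⟨q₂₀.left.isClosedMap.isClosed_range, q₂₀.left.isOpenEmbedding.isOpen_range⟩
  let Qr : CommRingCat.{u} := CommRingCat.of (Localization.Away εW)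
  let κ : AWr ⟶ Qr := CommRingCat.ofHom (algebraMap AWr (Localization.Away εW))
  haveI hκo : IsOpenImmersion (Spec.map κ) := IsOpenImmersion.of_isLocalization εW
  have hκr : Set.range (Spec.map κ) = Set.range q₂₀.left := by
    rw [hεr]
    exact PrimeSpectrum.localization_away_comap_range _ εW
  let Q : Over S := Over.mk (Spec.map κ ≫ AW.hom)
  let iq : Q ≅ Q₀ := Over.isoMk (IsOpenImmersion.isoOfRangeEq (Spec.map κ) q₂₀.left hκr) (by
    change (IsOpenImmersion.isoOfRangeEq (Spec.map κ) q₂₀.left hκr).hom ≫ Q₀.hom = Spec.map κ ≫ AW.hom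
    rw [← Over.w q₂₀, ← Category.assoc, IsOpenImmersion.isoOfRangeEq_hom_fac])
  let q₂ : Q ⟶ AW := Over.homMk (Spec.map κ) rfl
  have hq₂ : iq.hom ≫ q₂₀ = q₂ := Over.OverMorphism.ext (IsOpenImmersion.isoOfRangeEq_hom_fac _ _ hκr)
  let q₁ : Q ⟶ V := iq.hom ≫ q₁₀
  have sqQ : IsPullback ((yon S).map q₂) ((yon S).map q₁) pW j :=
    IsPullback.of_iso sqQ₀ ((yon S).mapIso iq.symm) (Iso.refl _) (Iso.refl _) (Iso.refl _)
      (by simp [← hq₂]) (by simp [q₁]) (by simp) (by simp)
  have hrange : ∀ z : ↥AW.left, z ∈ Set.range (Spec.map κ) ↔ Points.ofPt pW z ∈ Set.range (Points.ofPt j) := by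
    intro z
    constructor
    · rintro ⟨q, rfl⟩
      exact ⟨q₁.left q, by rw [← ofPt_yon_map_comp, ← sqQ.w, ofPt_yon_map_comp]; rfl⟩
    · rintro ⟨v, hv⟩
      obtain ⟨w, hw, -⟩ := points_exists_of_isPullback sqQ (Points.ofScheme AW z) (Points.ofScheme V v)
        (by rw [← Points.ofPt_eq_map_ofScheme, ← Points.ofPt_eq_map_ofScheme, hv])
      obtain ⟨q, rfl⟩ := (Points.schemeHomeo Q).surjective w
      rw [Points.map_yon_map_apply] at hw
      exact ⟨q, (Points.schemeHomeo AW).injective hw⟩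
  -- rings of `V` and of the maps out of `Q`
  haveI : IsAffine V.left := isAffine_of_isAffineHom (ι ≫ aw).left
  have hπι : V.left.isoSpec.hom ≫ Spec.map πι = ι.left := hπι
  let BV : CommRingCat.{u} := Γ(V.left, ⊤)
  obtain ⟨κ₁, hκ₁⟩ : ∃ κ₁ : BV ⟶ Qr, Spec.map κ₁ ≫ V.left.isoSpec.inv = q₁.left :=
    ⟨Spec.preimage (q₁.left ≫ V.left.isoSpec.hom), by
      rw [Spec.map_preimage, Category.assoc, Iso.hom_inv_id]; exact Category.comp_id _⟩
  have hπε : πι.hom εW = 1 := by
    obtain ⟨δ, hδ⟩ := (yon S).map_surjective (sqQ.lift ((yon S).map ι) (𝟙 _) (by rw [Category.id_comp]))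
    have hδ2 : δ ≫ q₂ = ι := (yon S).map_injective (by rw [Functor.map_comp, hδ, sqQ.lift_fst])
    obtain ⟨δr, hδr⟩ : ∃ δr : Qr ⟶ BV, V.left.isoSpec.hom ≫ Spec.map δr = δ.left :=
      ⟨Spec.preimage (V.left.isoSpec.inv ≫ δ.left), by rw [Spec.map_preimage, Iso.hom_inv_id_assoc]⟩
    have e : κ ≫ δr = πι := Spec.map_injective ((cancel_epi V.left.isoSpec.hom).1 (by
      rw [Spec.map_comp, ← Category.assoc, hδr, hπι]
      exact congrArg CommaMorphism.left hδ2))
    have hu : IsUnit (πι.hom εW) := by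
      rw [← e]
      exact (IsLocalization.Away.algebraMap_isUnit (S := Localization.Away εW) εW).map δr.hom
    exact (IsIdempotentElem.iff_eq_one_of_isUnit hu).1 (hεi.map πι.hom)
  have hπi : (awr ≫ πι).hom.IsIntegral := by
    have h : IsIntegralHom (Spec.map (awr ≫ πι)) := by
      have e : Spec.map (awr ≫ πι) = V.left.isoSpec.inv ≫ (ι ≫ aw).left := by
        rw [Over.comp_left, haw, Spec.map_comp, ← Category.assoc V.left.isoSpec.inv, ← hπι,
          Iso.inv_hom_id_assoc]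
      rw [e]
      infer_instance
    exact IsIntegralHom.SpecMap_iff.1 h
  have hεe : mr₁.hom εW = mr₂.hom εW := by
    refine PrimeSpectrum.basicOpen_injOn_isIdempotentElem (hεi.map mr₁.hom) (hεi.map mr₂.hom)
      (TopologicalSpace.Opens.ext (Set.ext fun z => ?_))
    change Spec.map mr₁ z ∈ (PrimeSpectrum.basicOpen εW : Set (PrimeSpectrum AWr)) ↔
      Spec.map mr₂ z ∈ (PrimeSpectrum.basicOpen εW : Set (PrimeSpectrum AWr))
    rw [← hεr, ← hκr]
    refine (hrange _).trans (Iff.trans ?_ (hrange _).symm)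
    have e : Points.ofPt pW (Spec.map mr₁ z) = Points.ofPt pW (Spec.map mr₂ z) := by
      rw [← hmr₁, ← hmr₂]
      exact ofPt_eq_of_comp_eq m₁ m₂ pW hmpW z
    exact Iff.of_eq (congrArg (· ∈ Set.range (Points.ofPt j)) e)
  have hzero : ∀ z : AWr, mr₁.hom z = mr₂.hom z → εW * z = z → πι.hom z = 0 → z = 0 := by
    intro z hz hεz hπz
    obtain ⟨Λ, hΛ1, hΛ2⟩ := hlift q₂ (q₁ ≫ ι) (by
      rw [sqQ.w, hj, ← Category.assoc, ← (yon S).map_comp])
    obtain ⟨lr, hlr⟩ : ∃ lr : CWr ⟶ Qr, Spec.map lr = Λ.left := ⟨Spec.preimage _, Spec.map_preimage _⟩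
    have h1 : mr₁ ≫ lr = κ := Spec.map_injective (by
      rw [Spec.map_comp, hlr, ← hmr₁]; exact congrArg CommaMorphism.left hΛ1)
    have h2 : mr₂ ≫ lr = πι ≫ κ₁ := Spec.map_injective (by
      rw [Spec.map_comp, Spec.map_comp, hlr, ← hmr₂]
      refine (congrArg CommaMorphism.left hΛ2).trans ?_
      change q₁.left ≫ ι.left = _
      rw [← hκ₁, ← hπι, Category.assoc, Iso.inv_hom_id_assoc])
    have hk : algebraMap AWr (Localization.Away εW) z = 0 := by
      calc algebraMap AWr (Localization.Away εW) z = (mr₁ ≫ lr).hom z := by rw [h1]; rfl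
        _ = (mr₂ ≫ lr).hom z := congrArg lr.hom hz
        _ = 0 := by rw [h2]; change κ₁.hom (πι.hom z) = 0; rw [hπz, map_zero]
    obtain ⟨⟨e, n, rfl⟩, he⟩ := (IsLocalization.map_eq_zero_iff (Submonoid.powers εW) _ z).1 hk
    cases n with
    | zero => simpa using he
    | succ n =>
      change εW ^ (n + 1) * z = 0 at he
      rwa [hεi.pow_succ_eq n, hεz] at he
  have hex : ∀ d : BV, ∃ z : AWr, mr₁.hom z = mr₂.hom z ∧ εW * z = z ∧ πι.hom z = d := by
    intro d
    obtain ⟨⟨a', ⟨e, n, rfl⟩⟩, ha'⟩ := IsLocalization.surj (Submonoid.powers εW) (κ₁.hom d : Localization.Away εW)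
    have hκε : algebraMap AWr (Localization.Away εW) εW = 1 :=
      (IsIdempotentElem.iff_eq_one_of_isUnit (IsLocalization.Away.algebraMap_isUnit εW)).1
        (hεi.map (algebraMap AWr (Localization.Away εW)))
    change _ * algebraMap AWr (Localization.Away εW) (εW ^ n) = algebraMap AWr (Localization.Away εW) a' at ha'
    rw [map_pow, hκε, one_pow, mul_one] at ha'
    refine ⟨εW * a', ?_, by rw [← mul_assoc, hεi.eq], ?_⟩
    · -- agreement on the saturation
      let δ : CWr := mr₁.hom εW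
      have hδi : IsIdempotentElem δ := hεi.map mr₁.hom
      let L : CommRingCat.{u} := CommRingCat.of (Localization.Away δ)
      let incl : CWr ⟶ L := CommRingCat.ofHom (algebraMap CWr (Localization.Away δ))
      have hu1 : IsUnit ((mr₁ ≫ incl).hom εW) :=
        IsLocalization.Away.algebraMap_isUnit (S := Localization.Away δ) δ
      have hu2 : IsUnit ((mr₂ ≫ incl).hom εW) := by
        change IsUnit (incl.hom (mr₂.hom εW))
        rw [← hεe]
        exact hu1
      let ψ₁ : Qr ⟶ L := CommRingCat.ofHom (IsLocalization.Away.lift εW hu1)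
      let ψ₂ : Qr ⟶ L := CommRingCat.ofHom (IsLocalization.Away.lift εW hu2)
      have hψ₁ : κ ≫ ψ₁ = mr₁ ≫ incl := CommRingCat.hom_ext (IsLocalization.Away.lift_comp εW hu1)
      have hψ₂ : κ ≫ ψ₂ = mr₂ ≫ incl := CommRingCat.hom_ext (IsLocalization.Away.lift_comp εW hu2)
      let RL : Over S := Over.mk (Spec.map incl ≫ CW.hom)
      let inL : RL ⟶ CW := Over.homMk (Spec.map incl) rfl
      let n₁ : RL ⟶ Q := Over.homMk (Spec.map ψ₁) (by
        change Spec.map ψ₁ ≫ Spec.map κ ≫ AW.hom = Spec.map incl ≫ CW.hom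
        rw [← Over.w m₁, hmr₁, ← Category.assoc, ← Spec.map_comp, hψ₁, Spec.map_comp, Category.assoc])
      let n₂ : RL ⟶ Q := Over.homMk (Spec.map ψ₂) (by
        change Spec.map ψ₂ ≫ Spec.map κ ≫ AW.hom = Spec.map incl ≫ CW.hom
        rw [← Over.w m₂, hmr₂, ← Category.assoc, ← Spec.map_comp, hψ₂, Spec.map_comp, Category.assoc])
      have hn₁ : n₁ ≫ q₂ = inL ≫ m₁ := Over.OverMorphism.ext (by
        change Spec.map ψ₁ ≫ Spec.map κ = Spec.map incl ≫ m₁.left
        rw [hmr₁]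
        rw [← Spec.map_comp, ← Spec.map_comp, hψ₁])
      have hn₂ : n₂ ≫ q₂ = inL ≫ m₂ := Over.OverMorphism.ext (by
        change Spec.map ψ₂ ≫ Spec.map κ = Spec.map incl ≫ m₂.left
        rw [hmr₂]
        rw [← Spec.map_comp, ← Spec.map_comp, hψ₂])
      have hn : n₁ ≫ q₁ = n₂ ≫ q₁ := by
        refine hjmono _ _ ?_
        simp only [Functor.map_comp, Category.assoc, ← sqQ.w]
        rw [← Functor.map_comp_assoc, ← Functor.map_comp_assoc, hn₁, hn₂, Functor.map_comp_assoc,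
          Functor.map_comp_assoc, hmpW]
      have hκψ : κ₁ ≫ ψ₁ = κ₁ ≫ ψ₂ := Spec.map_injective ((cancel_mono V.left.isoSpec.inv).1 (by
        rw [Spec.map_comp, Spec.map_comp, Category.assoc, Category.assoc, hκ₁]
        exact congrArg CommaMorphism.left hn))
      have h' : incl.hom (mr₁.hom a') = incl.hom (mr₂.hom a') := by
        calc incl.hom (mr₁.hom a') = ψ₁.hom (κ.hom a') := congrArg (fun f : AWr ⟶ L => f.hom a') hψ₁.symm
          _ = (κ₁ ≫ ψ₁).hom d := congrArg ψ₁.hom ha'.symm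
          _ = (κ₁ ≫ ψ₂).hom d := by rw [hκψ]
          _ = ψ₂.hom (κ.hom a') := congrArg ψ₂.hom ha'
          _ = incl.hom (mr₂.hom a') := congrArg (fun f : AWr ⟶ L => f.hom a') hψ₂
      obtain ⟨⟨e, n, rfl⟩, he⟩ := IsLocalization.exists_of_eq (M := Submonoid.powers δ)
        (S := Localization.Away δ) h'
      have he' : δ ^ (n + 1) * mr₁.hom a' = δ ^ (n + 1) * mr₂.hom a' := by
        rw [pow_succ', mul_assoc, mul_assoc]; exact congrArg (δ * ·) he
      rw [hδi.pow_succ_eq n] at he'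
      rw [map_mul, map_mul, ← hεe]
      exact he'
    · -- restriction to `V`
      obtain ⟨δ, hδ⟩ := (yon S).map_surjective (sqQ.lift ((yon S).map ι) (𝟙 _) (by rw [Category.id_comp]))
      have hδ2 : δ ≫ q₂ = ι := (yon S).map_injective (by rw [Functor.map_comp, hδ, sqQ.lift_fst])
      have hδ1 : δ ≫ q₁ = 𝟙 V := (yon S).map_injective (by
        rw [Functor.map_comp, hδ, sqQ.lift_snd, CategoryTheory.Functor.map_id])
      obtain ⟨δr, hδr⟩ : ∃ δr : Qr ⟶ BV, V.left.isoSpec.hom ≫ Spec.map δr = δ.left :=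
        ⟨Spec.preimage (V.left.isoSpec.inv ≫ δ.left), by rw [Spec.map_preimage, Iso.hom_inv_id_assoc]⟩
      have e2 : κ ≫ δr = πι := Spec.map_injective ((cancel_epi V.left.isoSpec.hom).1 (by
        rw [Spec.map_comp, ← Category.assoc, hδr, hπι]
        exact congrArg CommaMorphism.left hδ2))
      have e1 : κ₁ ≫ δr = 𝟙 BV := Spec.map_injective ((cancel_epi V.left.isoSpec.hom).1
        ((cancel_mono V.left.isoSpec.inv).1 (by
        rw [Spec.map_comp, Spec.map_id, Category.comp_id, Category.assoc, Category.assoc, hκ₁, ← Category.assoc,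
          hδr, Iso.hom_inv_id]
        exact congrArg CommaMorphism.left hδ1)))
      calc πι.hom (εW * a') = πι.hom a' := by rw [map_mul, hπε, one_mul]
        _ = δr.hom (κ.hom a') := congrArg (fun f : AWr ⟶ BV => f.hom a') e2.symm
        _ = (κ₁ ≫ δr).hom d := congrArg δr.hom ha'.symm
        _ = d := by rw [e1]; rfl
  exact ⟨hπi, εW, hεi, hπε, hεe, hzero, hex, fun z hz => (hrange z).1 (by rw [hκr, hεr]; exact hz)⟩

end Groth.Agent.ASp
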