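import Groth.Agent.ASp.Affine
import Groth.Agent.ASp.LqfRing
import Groth.Agent.ASp.LqfSat
import Groth.Agent.ASp.LqfOpen
import Groth.Agent.ASp.Diag
import Groth.Agent.ASp.SchDesc

/-!
An etale neighbourhood splitting off a finite part of a separated space gives an open subspace which is a scheme.
-/

set_option backward.isDefEq.respectTransparency false
set_option backward.isDefEq.respectTransparency.types false

universe u

open CategoryTheory CategoryTheory.Limits AlgebraicGeometry Opposite TensorProduct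

namespace Groth.Agent.ASp

open _root_.AlgSp

variable {S : Scheme.{u}}

set_option maxHeartbeats 1600000 in
theorem exists_open_scheme_of_split (O : CommRingCat.{u}) (oS : Spec O ⟶ S) {X : Sp S} (hX : IsAlgSpace X)
    (x : X ⟶ (yon S).obj (Over.mk oS)) (hx : RepWith @IsClosedImmersion (pullback.diagonal x))
    {A₀ : Over S} [IsAffine A₀.left] (p₀ : (yon S).obj A₀ ⟶ X) (hpe₀ : RepWith @Etale p₀)
    (hps₀ : RepWith @Surjective p₀) (a₀ : A₀ ⟶ Over.mk oS) (ha₀ : p₀ ≫ x = (yon S).map a₀)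
    (O' : CommRingCat.{u}) (c : O ⟶ O') [Etale (Spec.map c)]
    (cW : Over.mk (Spec.map c ≫ oS) ⟶ Over.mk oS) (hcW : cW.left = Spec.map c)
    {A₁ : Over S} (ac₀ : A₁ ⟶ A₀) (aw₀ : A₁ ⟶ Over.mk (Spec.map c ≫ oS)) (hA₁ : IsPullback ac₀ aw₀ a₀ cW)
    {V : Over S} (ι₀ : V ⟶ A₁) [IsOpenImmersion ι₀.left] [IsFinite (ι₀ ≫ aw₀).left]
    (hmono : ∀ {Z : Over S} (g h : Z ⟶ V), (yon S).map (g ≫ ι₀ ≫ ac₀) ≫ p₀ = (yon S).map (h ≫ ι₀ ≫ ac₀) ≫ p₀ →
      g ≫ ι₀ ≫ aw₀ = h ≫ ι₀ ≫ aw₀ → g = h)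
    (v₀ : ↥V.left) :
    ∃ (P : Over S) (f : (yon S).obj P ⟶ X), RepWith @IsOpenImmersion f ∧
      Points.ofPt ((yon S).map (ι₀ ≫ ac₀) ≫ p₀) v₀ ∈ Set.range (Points.map f) := by
  classical
  let T : Over S := Over.mk oS
  let W : Over S := Over.mk (Spec.map c ≫ oS)
  algebraize [c.hom]
  haveI : Algebra.Etale O O' := by
    have h : RingHom.Etale c.hom := HasRingHomProperty.Spec_iff (P := @Etale).1 ‹_›
    exact RingHom.etale_algebraMap.1 h
  haveI : Algebra.Smooth O O' := inferInstance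
  haveI : Module.Flat O O' := inferInstance
  -- the chart as a spectrum
  let B : CommRingCat.{u} := Γ(A₀.left, ⊤)
  obtain ⟨αr, hαr⟩ : ∃ αr : O ⟶ B, Spec.map αr = A₀.left.isoSpec.inv ≫ a₀.left :=
    ⟨Spec.preimage _, Spec.map_preimage _⟩
  let A : Over S := Over.mk (Spec.map αr ≫ oS)
  let iA : A ≅ A₀ := Over.isoMk A₀.left.isoSpec.symm (by
    change A₀.left.isoSpec.inv ≫ A₀.hom = Spec.map αr ≫ oS
    rw [hαr, Category.assoc]
    exact congrArg _ (Over.w a₀).symm)
  let p : (yon S).obj A ⟶ X := (yon S).map iA.hom ≫ p₀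
  let a : A ⟶ T := Over.homMk (Spec.map αr) rfl
  have hia : iA.hom ≫ a₀ = a := Over.OverMorphism.ext hαr.symm
  have hpe : RepWith @Etale p :=
    repWith_comp (repWith_yon_map (inferInstanceAs (Etale A₀.left.isoSpec.inv))) hpe₀
  have hps : RepWith @Surjective p :=
    repWith_comp (repWith_yon_map (inferInstanceAs (Surjective A₀.left.isoSpec.inv))) hps₀
  have hpx : p ≫ x = (yon S).map a := by rw [← hia, Functor.map_comp, Category.assoc, ha₀]
  haveI : IsAffine A.left := inferInstanceAs (IsAffine (Spec B))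
  haveI : IsAffine T.left := inferInstanceAs (IsAffine (Spec O))
  haveI : IsAffine W.left := inferInstanceAs (IsAffine (Spec O'))
  -- the kernel pair
  obtain ⟨R₀, r₁, r₂, hR⟩ := exists_isPullback_yon hpe.1 p
  have hR₁x : r₁ ≫ a = r₂ ≫ a := (yon S).map_injective (by
    simp only [Functor.map_comp, ← hpx, reassoc_of% hR.w])
  haveI hCI : IsClosedImmersion (pullback.lift r₁.left r₂.left
      (by rw [← Over.comp_left, hR₁x, Over.comp_left]) : R₀.left ⟶ pullback a.left a.left) :=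
    isClosedImmersion_lift_of_separated x hx hR hpx hpx _
  haveI : IsAffine R₀.left := isAffine_of_isAffineHom (pullback.lift r₁.left r₂.left
    (by rw [← Over.comp_left, hR₁x, Over.comp_left]) : R₀.left ⟶ pullback a.left a.left)
  let C : CommRingCat.{u} := Γ(R₀.left, ⊤)
  obtain ⟨ε₁, hε₁⟩ : ∃ ε : B ⟶ C, R₀.left.isoSpec.hom ≫ Spec.map ε = r₁.left :=
    ⟨Spec.preimage (R₀.left.isoSpec.inv ≫ r₁.left), by rw [Spec.map_preimage, Iso.hom_inv_id_assoc]⟩
  obtain ⟨ε₂, hε₂⟩ : ∃ ε : B ⟶ C, R₀.left.isoSpec.hom ≫ Spec.map ε = r₂.left :=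
    ⟨Spec.preimage (R₀.left.isoSpec.inv ≫ r₂.left), by rw [Spec.map_preimage, Iso.hom_inv_id_assoc]⟩
  have hε : αr ≫ ε₁ = αr ≫ ε₂ := Spec.map_injective ((cancel_epi R₀.left.isoSpec.hom).1 (by
    rw [Spec.map_comp, Spec.map_comp, reassoc_of% hε₁, reassoc_of% hε₂]
    exact congrArg CommaMorphism.left hR₁x))
  algebraize [αr.hom, (αr ≫ ε₁).hom]
  let e₁ : B →ₐ[O] C := { ε₁.hom with commutes' := fun _ => rfl }
  let e₂ : B →ₐ[O] C := { ε₂.hom with commutes' := fun r =>
    (congrArg (fun φ : O ⟶ C => φ.hom r) hε).symm }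
  let E := AlgHom.equalizer e₁ e₂
  let R' := integralClosure O E
  -- the integral closure and the map to its spectrum
  let β : O ⟶ CommRingCat.of R' := CommRingCat.ofHom (algebraMap O R')
  let T' : Over S := Over.mk (Spec.map β ≫ oS)
  let b : T' ⟶ T := Over.homMk (Spec.map β) rfl
  let ιR : CommRingCat.of R' ⟶ B := CommRingCat.ofHom (E.val.toRingHom.comp R'.val.toRingHom)
  have hιβ : β ≫ ιR = αr := rfl
  let π : A ⟶ T' := Over.homMk (Spec.map ιR) (by
    change Spec.map ιR ≫ Spec.map β ≫ oS = Spec.map αr ≫ oS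
    rw [← Category.assoc, ← Spec.map_comp, hιβ])
  have hπb : π ≫ b = a := Over.OverMorphism.ext (by
    change Spec.map ιR ≫ Spec.map β = Spec.map αr
    rw [← Spec.map_comp, hιβ])
  have hrπ : r₁ ≫ π = r₂ ≫ π := by
    apply Over.OverMorphism.ext
    change r₁.left ≫ Spec.map ιR = r₂.left ≫ Spec.map ιR
    rw [← hε₁, ← hε₂, Category.assoc, Category.assoc, ← Spec.map_comp, ← Spec.map_comp]
    congr 2
    exact CommRingCat.hom_ext (RingHom.ext fun y => y.1.2)
  have hls : Sheaf.IsLocallySurjective p := isLocallySurjective_of_repWith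
    (repWith_mono (fun _ _ g (hg : Etale g) => inferInstanceAs (Flat g)) hpe)
    (repWith_mono (fun _ _ g (hg : Etale g) => inferInstanceAs (LocallyOfFinitePresentation g)) hpe) hps
  have : Epi p := inferInstance
  obtain ⟨g, hg⟩ := exists_desc_of_epi p hR ((yon S).map π) (by
    rw [← Functor.map_comp, hrπ, Functor.map_comp])
  have hgb : g ≫ (yon S).map b = x := by
    rw [← cancel_epi p, reassoc_of% hg, ← Functor.map_comp, hπb, hpx]
  -- base changes along `cW`
  let AWr : CommRingCat.{u} := CommRingCat.of (O' ⊗[O] B)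
  let CWr : CommRingCat.{u} := CommRingCat.of (O' ⊗[O] C)
  let AW : Over S := Over.mk (Spec.map (CommRingCat.ofHom (algebraMap O' (O' ⊗[O] B))) ≫ W.hom)
  let CW : Over S := Over.mk (Spec.map (CommRingCat.ofHom (algebraMap O' (O' ⊗[O] C))) ≫ W.hom)
  let W' : Over S := Over.mk (Spec.map (CommRingCat.ofHom (algebraMap O' (O' ⊗[O] R'))) ≫ W.hom)
  have hA0 := isPullback_SpecMap_of_isPushout _ _ _ _ (CommRingCat.isPushout_tensorProduct O O' B).flip
  have hC0 := isPullback_SpecMap_of_isPushout _ _ _ _ (CommRingCat.isPushout_tensorProduct O O' C).flip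
  have hW0 := isPullback_SpecMap_of_isPushout _ _ _ _ (CommRingCat.isPushout_tensorProduct O O' R').flip
  let aw : AW ⟶ W := Over.homMk (Spec.map (CommRingCat.ofHom (algebraMap O' (O' ⊗[O] B)))) rfl
  let rw' : CW ⟶ W := Over.homMk (Spec.map (CommRingCat.ofHom (algebraMap O' (O' ⊗[O] C)))) rfl
  let ww : W' ⟶ W := Over.homMk (Spec.map (CommRingCat.ofHom (algebraMap O' (O' ⊗[O] R')))) rfl
  let ac : AW ⟶ A := Over.homMk (Spec.map (CommRingCat.ofHom
      (Algebra.TensorProduct.includeRight (R := O) (A := O') (B := B)).toRingHom)) (by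
    change _ ≫ Spec.map αr ≫ oS = _ ≫ Spec.map c ≫ oS
    rw [← Category.assoc, ← Category.assoc]
    exact congrArg (· ≫ oS) hA0.w)
  let cc : CW ⟶ R₀ := Over.homMk (Spec.map (CommRingCat.ofHom
      (Algebra.TensorProduct.includeRight (R := O) (A := O') (B := C)).toRingHom) ≫ R₀.left.isoSpec.inv) (by
    change (_ ≫ _) ≫ R₀.hom = _ ≫ Spec.map c ≫ oS
    rw [← Over.w r₁, ← hε₁, Category.assoc, Category.assoc, Iso.inv_hom_id_assoc]
    change _ ≫ Spec.map ε₁ ≫ Spec.map αr ≫ oS = _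
    rw [← Category.assoc (Spec.map ε₁), ← Spec.map_comp, ← Category.assoc, ← Category.assoc]
    exact congrArg (· ≫ oS) hC0.w)
  let wc : W' ⟶ T' := Over.homMk (Spec.map (CommRingCat.ofHom
      (Algebra.TensorProduct.includeRight (R := O) (A := O') (B := R')).toRingHom)) (by
    change _ ≫ Spec.map β ≫ oS = _ ≫ Spec.map c ≫ oS
    rw [← Category.assoc, ← Category.assoc]
    exact congrArg (· ≫ oS) hW0.w)
  have hA : IsPullback ac aw a cW := IsPullback.of_map (Over.forget S)
    (Over.OverMorphism.ext (by rw [Over.comp_left, Over.comp_left, hcW]; exact hA0.w))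
    (by
      change IsPullback _ _ (Spec.map αr) cW.left
      rw [hcW]
      exact hA0)
  have hW' : IsPullback wc ww b cW := IsPullback.of_map (Over.forget S)
    (Over.OverMorphism.ext (by rw [Over.comp_left, Over.comp_left, hcW]; exact hW0.w))
    (by
      change IsPullback _ _ (Spec.map β) cW.left
      rw [hcW]
      exact hW0)
  have hC : IsPullback cc rw' (r₁ ≫ a) cW := IsPullback.of_map (Over.forget S)
    (Over.OverMorphism.ext (by
      change (Spec.map _ ≫ R₀.left.isoSpec.inv) ≫ r₁.left ≫ Spec.map αr = _ ≫ cW.left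
      rw [← hε₁, hcW, Category.assoc, Category.assoc, Iso.inv_hom_id_assoc, ← Spec.map_comp]
      exact hC0.w))
    (by
      change IsPullback (Spec.map _ ≫ R₀.left.isoSpec.inv) _ (r₁.left ≫ Spec.map αr) cW.left
      rw [← hε₁, hcW, Category.assoc, ← Spec.map_comp]
      exact IsPullback.of_iso hC0 (Iso.refl _) R₀.left.isoSpec.symm (Iso.refl _) (Iso.refl _)
        (by simp) (by simp [rw']; rfl) (by simp [Spec.map_comp]; rw [← Spec.map_comp]; rfl) (by simp; rfl))
  let mr₁ : AWr ⟶ CWr := CommRingCat.ofHom (Algebra.TensorProduct.map (AlgHom.id O O') e₁).toRingHom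
  let mr₂ : AWr ⟶ CWr := CommRingCat.ofHom (Algebra.TensorProduct.map (AlgHom.id O O') e₂).toRingHom
  let m₁ : CW ⟶ AW := Over.homMk (Spec.map mr₁) (by
    change Spec.map mr₁ ≫ Spec.map _ ≫ W.hom = Spec.map _ ≫ W.hom
    rw [← Category.assoc, ← Spec.map_comp]
    congr 2
    exact CommRingCat.hom_ext (RingHom.ext fun r => by
      change Algebra.TensorProduct.map (AlgHom.id O O') e₁ (r ⊗ₜ 1) = r ⊗ₜ 1
      simp))
  let m₂ : CW ⟶ AW := Over.homMk (Spec.map mr₂) (by
    change Spec.map mr₂ ≫ Spec.map _ ≫ W.hom = Spec.map _ ≫ W.hom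
    rw [← Category.assoc, ← Spec.map_comp]
    congr 2
    exact CommRingCat.hom_ext (RingHom.ext fun r => by
      change Algebra.TensorProduct.map (AlgHom.id O O') e₂ (r ⊗ₜ 1) = r ⊗ₜ 1
      simp))
  have hm₁ : m₁ ≫ ac = cc ≫ r₁ := Over.OverMorphism.ext (by
    change Spec.map mr₁ ≫ Spec.map _ = (Spec.map _ ≫ R₀.left.isoSpec.inv) ≫ r₁.left
    rw [← hε₁, Category.assoc, Iso.inv_hom_id_assoc, ← Spec.map_comp, ← Spec.map_comp]
    congr 1)
  have hm₂ : m₂ ≫ ac = cc ≫ r₂ := Over.OverMorphism.ext (by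
    change Spec.map mr₂ ≫ Spec.map _ = (Spec.map _ ≫ R₀.left.isoSpec.inv) ≫ r₂.left
    rw [← hε₂, Category.assoc, Iso.inv_hom_id_assoc, ← Spec.map_comp, ← Spec.map_comp]
    congr 1)
  have hm₁w : m₁ ≫ aw = rw' := Over.OverMorphism.ext (by
    change Spec.map mr₁ ≫ Spec.map _ = Spec.map _
    rw [← Spec.map_comp]
    congr 1
    exact CommRingCat.hom_ext (RingHom.ext fun r => by
      change Algebra.TensorProduct.map (AlgHom.id O O') e₁ (r ⊗ₜ 1) = r ⊗ₜ 1
      simp))
  have hm₂w : m₂ ≫ aw = rw' := Over.OverMorphism.ext (by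
    change Spec.map mr₂ ≫ Spec.map _ = Spec.map _
    rw [← Spec.map_comp]
    congr 1
    exact CommRingCat.hom_ext (RingHom.ext fun r => by
      change Algebra.TensorProduct.map (AlgHom.id O O') e₂ (r ⊗ₜ 1) = r ⊗ₜ 1
      simp))
  -- transport `V` to the tensor product
  have hA₁' : IsPullback (ac₀ ≫ iA.inv) aw₀ a cW :=
    IsPullback.of_iso hA₁ (Iso.refl _) iA.symm (Iso.refl _) (Iso.refl _) (by simp) (by simp)
      (by rw [← hia]; simp) (by simp)
  let i₁ : A₁ ≅ AW := hA₁'.isoIsPullback _ _ hA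
  let ι : V ⟶ AW := ι₀ ≫ i₁.hom
  have hιac : ι ≫ ac = ι₀ ≫ ac₀ ≫ iA.inv := by simp [ι, i₁]
  have hιaw : ι ≫ aw = ι₀ ≫ aw₀ := by
    rw [show ι = ι₀ ≫ i₁.hom from rfl, Category.assoc]
    exact congrArg (ι₀ ≫ ·) (IsPullback.isoIsPullback_hom_snd _ _ _ _)
  haveI : IsOpenImmersion ι.left := inferInstanceAs (IsOpenImmersion (ι₀.left ≫ i₁.hom.left))
  haveI : IsFinite (ι ≫ aw).left := hιaw ▸ inferInstance
  -- the base change of `X`
  obtain ⟨XW, fX, wX, hXW⟩ : ∃ (XW : Sp S) (fX : XW ⟶ X) (wX : XW ⟶ (yon S).obj W),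
      IsPullback fX wX x ((yon S).map cW) := ⟨_, _, _, IsPullback.of_hasPullback _ _⟩
  have hXWsp : IsAlgSpace XW := isAlgSpace_of_isPullback (IsAlgSpace.yon_obj T).diag hX (IsAlgSpace.yon_obj W) hXW
  have hwXd : RepWith @IsClosedImmersion (pullback.diagonal wX) := by
    obtain ⟨s, h1, -⟩ := isPullback_diagonal_baseChange hXW
    exact repWith_of_isPullback h1 hx
  obtain ⟨pW, hpW1, hpW2⟩ : ∃ pW : (yon S).obj AW ⟶ XW, pW ≫ fX = (yon S).map ac ≫ p ∧ pW ≫ wX = (yon S).map aw :=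
    ⟨hXW.lift _ _ (by rw [Category.assoc, hpx]; exact (isPullback_yon_map hA).w), hXW.lift_fst _ _ _,
      hXW.lift_snd _ _ _⟩
  have sqAW : IsPullback ((yon S).map ac) pW p fX := by
    refine IsPullback.of_bot (h₃₁ := (yon S).map cW) (v₂₁ := wX) (v₂₂ := x) ?_ hpW1.symm hXW
    rw [hpW2, hpx]
    exact isPullback_yon_map hA
  have hpWe : RepWith @Etale pW := repWith_of_isPullback sqAW hpe
  have hpWs : RepWith @Surjective pW := repWith_of_isPullback sqAW hps
  have hmpW : (yon S).map m₁ ≫ pW = (yon S).map m₂ ≫ pW := by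
    apply hXW.hom_ext
    · simp only [Category.assoc, hpW1, ← Functor.map_comp_assoc, hm₁, hm₂]
      simp only [Functor.map_comp, Category.assoc, hR.w]
    · simp only [Category.assoc, hpW2, ← Functor.map_comp, hm₁w, hm₂w]
  let j : (yon S).obj V ⟶ XW := (yon S).map ι ≫ pW
  have hje : RepWith @Etale j :=
    repWith_comp (repWith_yon_map (P := @Etale) (inferInstanceAs (Etale ι.left))) hpWe
  have hjmono : ∀ {Z : Over S} (g h : Z ⟶ V), (yon S).map g ≫ j = (yon S).map h ≫ j → g = h := by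
    intro Z g h e
    have e1 := congrArg (· ≫ fX) e
    have e2 := congrArg (· ≫ wX) e
    simp only [j, Category.assoc, hpW1, hpW2, ← Functor.map_comp_assoc, ← Functor.map_comp, hιac, hιaw] at e1 e2
    refine hmono g h ?_ ((yon S).map_injective e2)
    simpa [p] using e1
  haveI : IsAffine V.left := isAffine_of_isAffineHom (ι ≫ aw).left
  have hlift : ∀ {Z : Over S} (a' b' : Z ⟶ AW), (yon S).map a' ≫ pW = (yon S).map b' ≫ pW →
      ∃ Λ : Z ⟶ CW, Λ ≫ m₁ = a' ∧ Λ ≫ m₂ = b' := by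
    intro Z a' b' e
    obtain ⟨l₀, hl₀⟩ := (yon S).map_surjective (hR.lift ((yon S).map (a' ≫ ac)) ((yon S).map (b' ≫ ac)) (by
      simp only [Functor.map_comp, Category.assoc, ← hpW1]
      exact congrArg (· ≫ fX) e |> fun h => by simpa [Category.assoc] using h))
    have hl1 : l₀ ≫ r₁ = a' ≫ ac := (yon S).map_injective (by rw [Functor.map_comp, hl₀, hR.lift_fst])
    have hl2 : l₀ ≫ r₂ = b' ≫ ac := (yon S).map_injective (by rw [Functor.map_comp, hl₀, hR.lift_snd])
    have hw : a' ≫ aw = b' ≫ aw := (yon S).map_injective (by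
      simp only [Functor.map_comp, ← hpW2]
      rw [reassoc_of% e])
    exact ⟨hC.lift l₀ (a' ≫ aw) (by rw [reassoc_of% hl1, Category.assoc, hA.w]),
      hA.hom_ext (by rw [Category.assoc, hm₁, ← Category.assoc, hC.lift_fst, hl1])
        (by rw [Category.assoc, hm₁w, hC.lift_snd]),
      hA.hom_ext (by rw [Category.assoc, hm₂, ← Category.assoc, hC.lift_fst, hl2])
        (by rw [Category.assoc, hm₂w, hC.lift_snd, hw])⟩
  obtain ⟨πι, hπι⟩ : ∃ πι : AWr ⟶ Γ(V.left, ⊤), V.left.isoSpec.hom ≫ Spec.map πι = ι.left :=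
    ⟨Spec.preimage (V.left.isoSpec.inv ≫ ι.left), by rw [Spec.map_preimage, Iso.hom_inv_id_assoc]⟩
  obtain ⟨hπi, εW, hεi, hπε, hεe, hzero, hex, hrange⟩ :=
    exists_saturation_idempotent (strW := Spec.map c ≫ oS) _ _ wX hwXd aw
      (CommRingCat.ofHom (algebraMap O' (O' ⊗[O] B))) rfl pW hpW2 hpWe ι hjmono m₁ m₂ mr₁ mr₂
      rfl rfl hmpW hlift πι hπι
  obtain ⟨y, hy, hyloc⟩ := isLocalization_away_fromIntClosure (O' := O') e₁ e₂ hεi hεe πι.hom hπε hπi hzero hex
  -- the comparison with the base change of the integral closure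
  let lr : CommRingCat.of (O' ⊗[O] R') ⟶ AWr := CommRingCat.ofHom (fromIntClosure (O' := O') e₁ e₂).toRingHom
  let l : AW ⟶ W' := Over.homMk (Spec.map lr) (by
    change Spec.map lr ≫ Spec.map _ ≫ W.hom = Spec.map _ ≫ W.hom
    rw [← Category.assoc, ← Spec.map_comp]
    congr 2
    all_goals exact CommRingCat.hom_ext (RingHom.ext fun r => (fromIntClosure e₁ e₂).commutes r))
  have hlw : l ≫ ww = aw := Over.OverMorphism.ext (by
    change Spec.map lr ≫ Spec.map _ = Spec.map _
    rw [← Spec.map_comp]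
    congr 1
    all_goals exact CommRingCat.hom_ext (RingHom.ext fun r => (fromIntClosure e₁ e₂).commutes r))
  have hlc : l ≫ wc = ac ≫ π := Over.OverMorphism.ext (by
    change Spec.map lr ≫ Spec.map _ = Spec.map _ ≫ Spec.map ιR
    rw [← Spec.map_comp, ← Spec.map_comp]
    congr 1
    all_goals exact CommRingCat.hom_ext (RingHom.ext fun r => fromIntClosure_tmul e₁ e₂ 1 r))
  haveI hko : IsOpenImmersion (ι ≫ l).left := by
    letI := (πι.hom.comp (fromIntClosure (O' := O') e₁ e₂).toRingHom).toAlgebra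
    haveI := hyloc
    have h := IsOpenImmersion.of_isLocalization (R := O' ⊗[O] R') (S := Γ(V.left, ⊤)) y
    change IsOpenImmersion (ι.left ≫ Spec.map lr)
    rw [← hπι, Category.assoc, ← Spec.map_comp]
    haveI : IsOpenImmersion (Spec.map (lr ≫ πι)) := h
    infer_instance
  obtain ⟨gW, hgW1, hgW2⟩ : ∃ gW : XW ⟶ (yon S).obj W', gW ≫ (yon S).map wc = fX ≫ g ∧
      gW ≫ (yon S).map ww = wX :=
    ⟨(isPullback_yon_map hW').lift (fX ≫ g) wX (by rw [Category.assoc, hgb]; exact hXW.w),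
      IsPullback.lift_fst _ _ _ _, IsPullback.lift_snd _ _ _ _⟩
  have hpgW : pW ≫ gW = (yon S).map l := by
    refine (isPullback_yon_map hW').hom_ext ?_ ?_
    · rw [Category.assoc, hgW1, reassoc_of% hpW1, hg, ← Functor.map_comp, ← Functor.map_comp, hlc]
    · rw [Category.assoc, hgW2, hpW2, ← Functor.map_comp, hlw]
  have sqG : IsPullback fX gW g ((yon S).map wc) := by
    refine IsPullback.of_bot (h₃₁ := (yon S).map cW) (v₂₁ := (yon S).map ww) (v₂₂ := (yon S).map b) ?_
      hgW1.symm (isPullback_yon_map hW')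
    rw [hgW2, hgb]
    exact hXW
  let k : V ⟶ W' := ι ≫ l
  have hjk : j ≫ gW = (yon S).map k := by
    rw [Category.assoc, hpgW, ← Functor.map_comp]
  obtain ⟨F, fF, sF, sqF⟩ : ∃ (F : Sp S) (fF : F ⟶ XW) (sF : F ⟶ (yon S).obj V),
      IsPullback fF sF gW ((yon S).map k) := ⟨_, _, _, IsPullback.of_hasPullback _ _⟩
  have hFsp : IsAlgSpace F :=
    isAlgSpace_of_isPullback (IsAlgSpace.yon_obj W').diag hXWsp (IsAlgSpace.yon_obj V) sqF
  have hfFo : RepWith @IsOpenImmersion fF :=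
    repWith_of_isPullback sqF.flip (repWith_yon_map (P := @IsOpenImmersion) (g := k) hko)
  obtain ⟨φ, hφ1, hφ2⟩ : ∃ φ : (yon S).obj V ⟶ F, φ ≫ fF = j ∧ φ ≫ sF = 𝟙 _ :=
    ⟨sqF.lift j (𝟙 _) (by rw [hjk, Category.id_comp]), sqF.lift_fst _ _ _, sqF.lift_snd _ _ _⟩
  haveI : IsIso φ := by
    haveI : Mono φ := ⟨fun a b e => by simpa [Category.assoc, hφ2] using congrArg (· ≫ sF) e⟩
    refine isIso_of_mono_etale_surjective (IsAlgSpace.yon_obj V) hFsp φ
      (locP_of_comp (P := @Etale) (Q := @Etale) (fun f g h hg => IsEtLocal.of_postcomp f g hg h) hXWsp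
        (by rw [hφ1]; exact locP_of_repWith hje)
        (locP_of_repWith (repWith_mono (fun _ _ f (hf : IsOpenImmersion f) => (inferInstance : Etale f)) hfFo)))
      fun ξ => ?_
    obtain ⟨z, hz⟩ := surjective_ofPt hpWs (Points.map fF ξ)
    obtain ⟨v', hv'⟩ := (Points.schemeHomeo V).surjective (Points.map sF ξ)
    have hkl : k.left v' = l.left z := by
      apply (Points.schemeHomeo W').injective
      rw [← Points.map_yon_map_apply, ← Points.map_yon_map_apply, hv', ← hpgW, Points.map_comp,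
        ← Points.map_comp, ← sqF.w, Points.map_comp, ← hz]
      rfl
    have hzr : z ∈ PrimeSpectrum.basicOpen εW := by
      have h1 : k.left v' ∈ PrimeSpectrum.basicOpen y := by
        have e : k.left v' = Spec.map (lr ≫ πι) (V.left.isoSpec.hom v') := by
          rw [Spec.map_comp]
          change (ι.left ≫ Spec.map lr) v' = _
          rw [← hπι]
          rfl
        rw [e]
        letI := (πι.hom.comp (fromIntClosure (O' := O') e₁ e₂).toRingHom).toAlgebra
        haveI := hyloc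
        exact (PrimeSpectrum.localization_away_comap_range Γ(V.left, ⊤) y).le ⟨_, rfl⟩
      rw [hkl] at h1
      change y ∉ (PrimeSpectrum.comap lr.hom z).asIdeal at h1
      intro hh
      exact h1 (show lr.hom y ∈ z.asIdeal by rw [show lr.hom y = εW from hy]; exact hh)
    obtain ⟨v, hv⟩ := hrange z hzr
    refine ⟨Points.ofScheme V v, injective_map_of_repWith (P := @IsOpenImmersion)
      (fun h (hh : IsOpenImmersion h) => h.isOpenEmbedding.injective) hfFo ?_⟩
    rw [← Points.map_comp, hφ1, ← Points.ofPt_eq_map_ofScheme, hv, hz]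
  let cV : V ⟶ T' := k ≫ wc
  have sqV : IsPullback (j ≫ fX) (𝟙 ((yon S).obj V)) g ((yon S).map cV) := by
    rw [Functor.map_comp]
    exact IsPullback.of_iso (sqF.paste_horiz sqG) (asIso φ).symm (Iso.refl _) (Iso.refl _) (Iso.refl _)
      (by simp [← hφ1]) (by simp [← cancel_epi φ, hφ2]) (by simp) (by simp)
  haveI : Etale cW.left := by rw [hcW]; infer_instance
  haveI : Etale wc.left := MorphismProperty.of_isPullback (isPullback_left hW').flip ‹Etale cW.left›
  haveI : Etale cV.left := inferInstanceAs (Etale (k.left ≫ wc.left))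
  obtain ⟨P, f, hf, hP⟩ := exists_open_scheme_of_etale_piece hX g cV (j ≫ fX) sqV v₀
  refine ⟨P, f, hf, ?_⟩
  convert hP using 2
  simp only [j, Category.assoc, hpW1, p]
  rw [← Functor.map_comp_assoc, hιac, ← Functor.map_comp_assoc]
  simp

end Groth.Agent.ASp
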