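import Groth.Agent.ASp.ChartDim
import Groth.Agent.ASp.EtDim
import Groth.Agent.ASp.LocP
import Groth.Agent.ASp.LiftDim
import Groth.Prelude.Def_AlgSpDec
/-!
Dimension along locally quasi-finite morphisms.
-/

set_option autoImplicit false
set_option backward.isDefEq.respectTransparency false
set_option backward.isDefEq.respectTransparency.types false

universe u

open CategoryTheory CategoryTheory.Limits AlgebraicGeometry TopologicalSpace Topology

namespace Groth.Agent.ASp

open _root_.AlgSp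

theorem strictMono_of_locallyQuasiFinite {A B : Scheme.{u}} (t : A ⟶ B) [LocallyQuasiFinite t] :
    StrictMono (fun a : ↥A => t a) := fun a b hab => by
  have hs : b ⤳ a := hab.le
  refine lt_iff_le_not_ge.2 ⟨(hs.map t.continuous :), fun h => ?_⟩
  have e : t b = t a := (hs.map t.continuous).antisymm (h : t a ⤳ t b) |>.eq
  haveI := (t.isDiscrete_preimage_singleton (t a)).to_subtype
  have e' : b = a := congrArg Subtype.val
    ((subtype_specializes_iff (⟨b, e⟩ : ↥(t ⁻¹' {t a})) ⟨a, rfl⟩).2 hs).eq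
  exact lt_irrefl a (e' ▸ hab)

variable {S : Scheme.{u}} {X Y : Sp S} {f : X ⟶ Y}

theorem ringKrullDim_stalk_le_of_locallyQuasiFinite (hX : IsAlgSpace X) (hY : IsAlgSpace Y)
    (hf : LocP (@LocallyQuasiFinite ⊓ @LocallyOfFiniteType) f) (x : Points X) {d e : WithBot ℕ∞}
    (hx : HasAt (fun U u => ringKrullDim ↥(U.presheaf.stalk u) = d) X x)
    (hy : HasAt (fun V v => ringKrullDim ↥(V.presheaf.stalk v) = e) Y (Points.map f x)) : d ≤ e := by
  obtain ⟨U₀, a₀, u₀, ha₀, rfl, rfl⟩ := hx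
  obtain ⟨V, b, v, hb, hbv, rfl⟩ := hy
  obtain ⟨V₁, q, hq, hqs⟩ := hY.atlas
  obtain ⟨U, w, k, hwe, hws, hk, -⟩ := exists_etale_cover hq hqs (a₀ ≫ f)
  obtain ⟨u, rfl⟩ := hws.surj u₀
  haveI : Etale w.left := hwe
  haveI : LocallyQuasiFinite k.left :=
    (hf ((yon S).map w ≫ a₀) q k (repWith_comp (repWith_yon_map hwe) ha₀) hq (by rw [Category.assoc, hk])).1
  have e1 : Points.ofPt q (k.left u) = Points.ofPt b v := by
    rw [hbv, ← ofPt_yon_map_comp, hk, ofPt_yon_map_comp, Points.map_ofPt]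
  show ringKrullDim ↥(U₀.left.presheaf.stalk (w.left u)) ≤ ringKrullDim ↥(V.left.presheaf.stalk v)
  rw [← ringKrullDim_stalk_eq_of_charts hq hb e1, ringKrullDim_stalk_eq_of_etale, ringKrullDim_stalk_eq_coheight,
    ringKrullDim_stalk_eq_coheight]
  exact_mod_cast Order.coheight_le_coheight_apply_of_strictMono _ (strictMono_of_locallyQuasiFinite k.left) u

theorem dim_le_of_locallyQuasiFinite (hY : IsAlgSpace Y)
    (hf : LocP (@LocallyQuasiFinite ⊓ @LocallyOfFiniteType) f) : dim X ≤ dim Y := by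
  refine iSup_le fun U₀ => iSup₂_le fun a₀ ha₀ => ?_
  obtain ⟨V, q, hq, hqs⟩ := hY.atlas
  obtain ⟨U, w, k, hwe, hws, hk, -⟩ := exists_etale_cover hq hqs (a₀ ≫ f)
  haveI : Etale w.left := hwe
  haveI : LocallyQuasiFinite k.left :=
    (hf ((yon S).map w ≫ a₀) q k (repWith_comp (repWith_yon_map hwe) ha₀) hq (by rw [Category.assoc, hk])).1
  have h1 : topologicalKrullDim ↥U₀.left = topologicalKrullDim ↥U.left :=
    ((isGenLift_of_etale w.left).topologicalKrullDim_eq hws.surj).symm
  refine h1.trans_le (le_trans ?_ (le_iSup_of_le V (le_iSup₂_of_le q hq le_rfl)))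
  rw [topologicalKrullDim_eq_krullDim, topologicalKrullDim_eq_krullDim]
  exact Order.krullDim_le_of_strictMono _ (strictMono_of_locallyQuasiFinite k.left)

end Groth.Agent.ASp
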