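import Groth.Agent.ASp.DecentPoint
import Groth.Agent.ASp.FieldMono
import Groth.Agent.ASp.Glue

/-!
A subspace of a discrete scheme is a scheme.
-/

set_option backward.isDefEq.respectTransparency false
set_option backward.isDefEq.respectTransparency.types false

universe u

open CategoryTheory CategoryTheory.Limits AlgebraicGeometry Opposite

namespace Groth.Agent.ASp

open _root_.AlgSp

variable {S : Scheme.{u}}

/-- A space with a monomorphism to a scheme is decent. -/
theorem isDecent_of_mono {X : Sp S} (hX : IsAlgSpace X) {T : Over S} (x : X ⟶ (yon S).obj T) [Mono x] :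
    IsDecent X := by
  refine isDecent_of_fibres x (isDecent_yon T) fun p P fst snd _ _ sq => ?_
  haveI : Mono snd := ⟨fun a b e => sq.hom_ext ((cancel_mono x).1 (by simp [sq.w, reassoc_of% e])) e⟩
  intro y
  obtain ⟨q, rfl⟩ := Quotient.exists_rep y
  obtain ⟨r, hr⟩ := (yon S).map_surjective (q.toHom ≫ snd)
  have hP : IsAlgSpace P := isAlgSpace_of_isPullback (IsAlgSpace.yon_obj T).diag hX (IsAlgSpace.yon_obj p.pt) sq
  haveI := isIso_of_mono_field hP snd r q.toHom hr.symm
  exact isDecent_of_iso_yon (asIso snd).symm _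

/-- An algebraic space with a monomorphism to a scheme with discrete space is a scheme. -/
theorem exists_scheme_of_mono_discrete {X : Sp S} (hX : IsAlgSpace X) {Y : Over S} [DiscreteTopology ↥Y.left]
    (x : X ⟶ (yon S).obj Y) [Mono x] : ∃ P : Over S, Nonempty ((yon S).obj P ≅ X) := by
  have key : ∀ y : Points X, ∃ (P : Over S) (f : (yon S).obj P ⟶ X),
      RepWith @IsOpenImmersion f ∧ y ∈ Set.range (Points.map f) := by
    intro y
    obtain ⟨y₀, hy₀⟩ := (Points.schemeHomeo Y).surjective (Points.map x y)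
    let V : Y.left.Opens := ⟨{y₀}, isOpen_discrete _⟩
    let V' : Over S := Over.mk (V.ι ≫ Y.hom)
    haveI : Subsingleton ↥V'.left := inferInstanceAs (Subsingleton ↥({y₀} : Set ↥Y.left))
    let ι : V' ⟶ Y := Over.homMk V.ι rfl
    obtain ⟨P, fst, snd, sq⟩ : ∃ (P : Sp S) (fst : P ⟶ X) (snd : P ⟶ (yon S).obj V'),
        IsPullback fst snd x ((yon S).map ι) := ⟨_, _, _, IsPullback.of_hasPullback _ _⟩
    have hP : IsAlgSpace P := isAlgSpace_of_isPullback (IsAlgSpace.yon_obj Y).diag hX (IsAlgSpace.yon_obj V') sq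
    have hfst : RepWith @IsOpenImmersion fst :=
      repWith_of_isPullback sq.flip (repWith_yon_map (inferInstanceAs (IsOpenImmersion V.ι)))
    obtain ⟨w, hw, -⟩ := points_exists_of_isPullback sq y (Points.schemeHomeo V' (⟨y₀, rfl⟩ : V.toScheme)) (by
      rw [Points.map_yon_map_apply]; exact hy₀.symm)
    haveI : Mono snd := ⟨fun a b e => sq.hom_ext ((cancel_mono x).1 (by simp [sq.w, reassoc_of% e])) e⟩
    haveI : Nonempty (Points P) := ⟨w⟩
    haveI : Subsingleton (Points P) := ⟨fun a b => by
      obtain ⟨c, hc1, hc2⟩ := points_exists_of_isPullback (IsPullback.of_vert_isIso_mono (f := snd) (g := snd)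
        (fst := 𝟙 P) (snd := 𝟙 P) ⟨rfl⟩) a b ((Points.schemeHomeo V').symm.injective (Subsingleton.elim _ _))
      rw [← hc1, ← hc2]⟩
    obtain ⟨Q, -, ⟨e⟩⟩ := exists_affine_of_subsingleton hP (isDecent_of_mono hP snd)
    refine ⟨Q, e.hom ≫ fst, repWith_comp (repWith_of_isIso _) hfst, Points.map e.inv w, ?_⟩
    rw [← Points.map_comp, e.inv_hom_id_assoc, hw]
  obtain ⟨A, p, hpe, hps⟩ := hX.atlas
  choose P f hf hm using fun t : ↥A.left => key (Points.ofPt p t)
  exact exists_scheme_of_openCover hX P f hf fun y => by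
    obtain ⟨t, rfl⟩ := surjective_ofPt hps y
    exact ⟨t, hm t⟩

end Groth.Agent.ASp
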