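import Groth.Agent.ASp.ZeroDim
import Groth.Agent.ASp.MonoLQF
import Groth.Agent.ASp.MonoDiscrete
import Groth.Agent.ASp.LqfDim
import Groth.Agent.EtDescent.Scheme
import Groth.Prelude.Def_AlgSpEt
/-!
Algebraic spaces locally quasi-finite over a field.
-/

set_option autoImplicit false
set_option backward.isDefEq.respectTransparency false
set_option backward.isDefEq.respectTransparency.types false

universe u

open CategoryTheory CategoryTheory.Limits AlgebraicGeometry Opposite Topology TensorProduct

namespace Groth.Agent.ASp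

open _root_.AlgSp

/-- An epimorphism out of an artinian local ring is finite. -/
theorem finite_of_epi_artinian_local {A B : Type u} [CommRing A] [IsLocalRing A] [IsArtinianRing A] [CommRing B]
    [Algebra A B] (h : ∀ b : B, b ⊗ₜ[A] (1 : B) = 1 ⊗ₜ[A] b) : Module.Finite A B := by
  let m := IsLocalRing.maximalIdeal A
  let κ := A ⧸ m
  let C := κ ⊗[A] B
  haveI : Module.Finite κ C := by
    letI : Field κ := Ideal.Quotient.field m
    refine finite_of_epi_field (K := κ) (B := C) fun c => ?_
    let L : B →ₐ[A] C ⊗[κ] C :=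
      ((Algebra.TensorProduct.includeLeft (R := κ) (S := κ) (A := C) (B := C)).restrictScalars A).comp
        Algebra.TensorProduct.includeRight
    let R : B →ₐ[A] C ⊗[κ] C :=
      ((Algebra.TensorProduct.includeRight (R := κ) (A := C) (B := C)).restrictScalars A).comp
        Algebra.TensorProduct.includeRight
    induction c using TensorProduct.induction_on with
    | zero => simp
    | tmul x b =>
      have e : L b = R b := by
        have h' := congrArg (Algebra.TensorProduct.lift L R fun a b => Commute.all (L a) (R b)) (h b)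
        simp only [Algebra.TensorProduct.lift_tmul] at h'
        have hL : L 1 = 1 := L.map_one'
        have hR : R 1 = 1 := R.map_one'
        rw [hL, hR] at h'
        exact (@mul_one (C ⊗[κ] C) _ (L b)).symm.trans (h'.trans (@one_mul (C ⊗[κ] C) _ (R b)))
      have hx : (x ⊗ₜ[A] b : C) = x • ((1 : κ) ⊗ₜ[A] b) := by
        rw [TensorProduct.smul_tmul', smul_eq_mul, mul_one]
      have e' : ((1 : κ) ⊗ₜ[A] b) ⊗ₜ[κ] (1 : C) = (1 : C) ⊗ₜ[κ] ((1 : κ) ⊗ₜ[A] b) := e
      rw [hx, ← TensorProduct.smul_tmul', TensorProduct.tmul_smul, e']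
    | add x y hx hy => rw [TensorProduct.add_tmul, TensorProduct.tmul_add, hx, hy]
  haveI : Module.Finite A C := Module.Finite.trans κ C
  haveI : Module.Finite A (B ⧸ (m • ⊤ : Submodule A B)) :=
    Module.Finite.equiv (TensorProduct.quotTensorEquivQuotSMul B m)
  obtain ⟨N, hN, hNtop⟩ : ∃ N : Submodule A B, N.FG ∧ N ⊔ m • ⊤ = ⊤ := by
    obtain ⟨s, hs⟩ := (Module.Finite.fg_top : (⊤ : Submodule A (B ⧸ (m • ⊤ : Submodule A B))).FG)
    choose l hl using fun z : B ⧸ (m • ⊤ : Submodule A B) => Submodule.Quotient.mk_surjective _ z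
    refine ⟨Submodule.span A (l '' (s : Set _)), Submodule.fg_span (s.finite_toSet.image _), ?_⟩
    have h' : Submodule.map (m • ⊤ : Submodule A B).mkQ (Submodule.span A (l '' (s : Set _))) = ⊤ := by
      rw [Submodule.map_span, Set.image_image]
      simpa [hl] using hs
    rw [sup_comm, ← Submodule.comap_map_mkQ, h', Submodule.comap_top]
  have hk : ∀ k : ℕ, N ⊔ m ^ k • ⊤ = ⊤ := fun k => by
    induction k with
    | zero => rw [pow_zero, Ideal.one_eq_top, Submodule.top_smul, sup_top_eq]
    | succ k ih =>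
      refine le_antisymm le_top ?_
      calc (⊤ : Submodule A B) = N ⊔ m • (N ⊔ m ^ k • ⊤) := by rw [ih, hNtop]
        _ ≤ N ⊔ m ^ (k + 1) • ⊤ := by
          rw [Submodule.smul_sup, ← sup_assoc, pow_succ', Submodule.mul_smul]
          exact sup_le_sup_right (sup_le le_rfl Submodule.smul_le_right) _
  obtain ⟨n, hn⟩ := IsArtinianRing.isNilpotent_jacobson_bot (R := A)
  rw [IsLocalRing.jacobson_eq_maximalIdeal ⊥ bot_ne_top] at hn
  have := hk n
  rw [show m ^ n = ⊥ from hn, Submodule.bot_smul, sup_bot_eq] at this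
  exact ⟨this ▸ hN⟩

theorem epi_condition_of_mono {A B : CommRingCat.{u}} (φ : A ⟶ B) [Mono (Spec.map φ)] :
    letI := φ.hom.toAlgebra
    ∀ b : B, b ⊗ₜ[A] (1 : B) = 1 ⊗ₜ[A] b := by
  letI := φ.hom.toAlgebra
  intro b
  have e : CommRingCat.ofHom (Algebra.TensorProduct.includeLeftRingHom (R := A) (A := B) (B := B)) =
      CommRingCat.ofHom (Algebra.TensorProduct.includeRight (R := A) (A := B) (B := B)).toRingHom := by
    refine Spec.map_injective ((cancel_mono (Spec.map φ)).1 ?_)
    rw [← Spec.map_comp, ← Spec.map_comp]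
    congr 1
    ext r
    exact ((Algebra.TensorProduct.includeLeft (R := A) (S := A) (A := B) (B := B)).commutes r).trans
      ((Algebra.TensorProduct.includeRight (R := A) (A := B) (B := B)).commutes r).symm
  exact congrArg (fun ψ => ψ.hom b) e

/-- Monomorphisms into locally artinian schemes are locally of finite type. -/
theorem locallyOfFiniteType_of_mono_artinian {W V : Scheme.{u}} (w : W ⟶ V) [Mono w] [IsLocallyArtinian V] :
    LocallyOfFiniteType w := by
  rw [HasRingHomProperty.iff_exists_appLE (P := @LocallyOfFiniteType)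
    (RingHom.finiteType_stableUnderComposition.stableUnderCompositionWithLocalizationAway
      RingHom.finiteType_holdsForLocalizationAway).left]
  intro x
  let O : V.Opens := ⟨{w x}, isOpen_discrete _⟩
  haveI : Subsingleton ↥O.toScheme := inferInstanceAs (Subsingleton ↥({w x} : Set ↥V))
  haveI : Nonempty ↥O.toScheme := ⟨⟨w x, rfl⟩⟩
  obtain ⟨_, ⟨A, hA, rfl⟩, hxA, hAO⟩ := V.isBasis_affineOpens.exists_subset_of_mem_open (Set.mem_singleton (w x)) O.2
  obtain ⟨B, hB, hxB, hBA⟩ := exists_isAffineOpen_mem_and_subset (x := x) (U := w ⁻¹ᵁ A) hxA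
  refine ⟨⟨A, hA⟩, ⟨B, hB⟩, hxB, hBA, ?_⟩
  haveI : IsArtinianRing Γ(V, A) := IsLocallyArtinian.isArtinianRing_presheaf_obj ⟨A, hA⟩
  haveI : IsLocalRing Γ(V, A) := by
    haveI : Subsingleton (PrimeSpectrum Γ(V, A)) := ⟨fun p q => hA.fromSpec.isOpenEmbedding.injective (by
      have key : ∀ z, hA.fromSpec z = w x := fun z => by
        have h1 : hA.fromSpec z ∈ (A : Set ↥V) := by rw [← hA.range_fromSpec]; exact ⟨z, rfl⟩
        exact hAO h1
      rw [key, key])⟩
    haveI : Nontrivial Γ(V, A) := by
      by_contra hn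
      haveI := not_nontrivial_iff_subsingleton.1 hn
      obtain ⟨z, -⟩ : w x ∈ Set.range hA.fromSpec := by rw [hA.range_fromSpec]; exact hxA
      exact IsEmpty.false (α := PrimeSpectrum Γ(V, A)) z
    refine IsLocalRing.of_unique_max_ideal ?_
    obtain ⟨I, hI⟩ := Ideal.exists_maximal Γ(V, A)
    exact ⟨I, hI, fun J hJ =>
      congrArg PrimeSpectrum.asIdeal (Subsingleton.elim (⟨J, hJ.isPrime⟩ : PrimeSpectrum Γ(V, A)) ⟨I, hI.isPrime⟩)⟩
  haveI : Mono (Spec.map (w.appLE A B hBA)) := by
    haveI : Mono (Spec.map (w.appLE A B hBA) ≫ hA.fromSpec) := by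
      rw [IsAffineOpen.SpecMap_appLE_fromSpec w hA hB hBA]
      infer_instance
    exact mono_of_mono _ hA.fromSpec
  letI := (w.appLE A B hBA).hom.toAlgebra
  haveI := finite_of_epi_artinian_local (epi_condition_of_mono (w.appLE A B hBA))
  exact RingHom.Finite.finiteType (RingHom.finite_algebraMap.2 ‹_›)

variable {k : Type u} [Field k] {X : Sp (Spec (CommRingCat.of k))}
  {p : X ⟶ (yon (Spec (CommRingCat.of k))).obj (Over.mk (𝟙 _))}

/-- Over a field, a morphism property that can be cancelled is tested on the structure maps of charts. -/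
theorem locP_field_iff {P : MorphismProperty Scheme.{u}}
    (hP : ∀ {A B C : Scheme.{u}} (f : A ⟶ B) (g : B ⟶ C), Etale g → P (f ≫ g) → P f)
    (p : X ⟶ (yon (Spec (CommRingCat.of k))).obj (Over.mk (𝟙 _))) :
    LocP P p ↔ ∀ (U : Over (Spec (CommRingCat.of k))) (a : (yon (Spec (CommRingCat.of k))).obj U ⟶ X),
      RepWith @Etale a → P U.hom := by
  constructor
  · intro h U a ha
    obtain ⟨c, hc⟩ := (yon (Spec (CommRingCat.of k))).map_surjective (a ≫ p)
    have h' : P c.left := h a (𝟙 _) c ha (repWith_id _ _) (by rw [Category.comp_id]; exact hc.symm)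
    rwa [show c.left = U.hom from (Category.comp_id _).symm.trans (Over.w c)] at h'
  · intro h U V a b c ha hb e
    obtain ⟨b₀, rfl⟩ := (yon (Spec (CommRingCat.of k))).map_surjective b
    have hb₀ : Etale b₀.left := (repWith_yon_map_iff _ _).1 hb
    have e₀ : b₀.left = V.hom := (Category.comp_id _).symm.trans (Over.w b₀)
    refine hP c.left V.hom (e₀ ▸ hb₀) ?_
    rw [Over.w c]
    exact h U a ha

theorem lqf_lft_cancel {A B C : Scheme.{u}} (f : A ⟶ B) (g : B ⟶ C) (_ : Etale g)
    (h : (@LocallyQuasiFinite ⊓ @LocallyOfFiniteType : MorphismProperty Scheme.{u}) (f ≫ g)) :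
    (@LocallyQuasiFinite ⊓ @LocallyOfFiniteType : MorphismProperty Scheme.{u}) f := by
  haveI : LocallyQuasiFinite (f ≫ g) := h.1
  haveI : LocallyOfFiniteType (f ≫ g) := h.2
  exact ⟨LocallyQuasiFinite.of_comp f g, locallyOfFiniteType_of_comp f g⟩

theorem discreteTopology_of_lqf_field {U : Scheme.{u}} (s : U ⟶ Spec (CommRingCat.of k)) [LocallyQuasiFinite s]
    [LocallyOfFiniteType s] :
    DiscreteTopology ↥U := by
  haveI : Subsingleton ↥(Spec (CommRingCat.of k)) := inferInstanceAs (Subsingleton (PrimeSpectrum k))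
  refine discreteTopology_iff_isOpen_singleton.2 fun z => ?_
  have h := (locallyQuasiFinite_iff_isDiscrete_preimage_singleton.1 ‹LocallyQuasiFinite s›) (s z)
  rw [show s ⁻¹' {s z} = Set.univ from Set.eq_univ_of_forall fun _ => Subsingleton.elim _ _] at h
  haveI := h.to_subtype
  have h' := isOpen_univ.isOpenMap_subtype_val _ (isOpen_discrete ({⟨z, trivial⟩} : Set (Set.univ : Set ↥U)))
  rwa [Set.image_singleton] at h'

theorem lqf_field_iff_lft_dim :
    LocP (@LocallyQuasiFinite ⊓ @LocallyOfFiniteType : MorphismProperty Scheme.{u}) p ↔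
      LocP @LocallyOfFiniteType p ∧ AlgSp.dim X ≤ 0 := by
  rw [locP_field_iff (fun f g hg h => lqf_lft_cancel f g hg h) p,
    locP_field_iff (P := @LocallyOfFiniteType) (fun f g _ h => @locallyOfFiniteType_of_comp _ _ _ f g h) p]
  constructor
  · intro h
    refine ⟨fun U a ha => (h U a ha).2, iSup_le fun U => iSup_le fun a => iSup_le fun ha => ?_⟩
    haveI : LocallyQuasiFinite U.hom := (h U a ha).1
    haveI : LocallyOfFiniteType U.hom := (h U a ha).2
    haveI := discreteTopology_of_lqf_field U.hom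
    rcases isEmpty_or_nonempty ↥U.left with hU | hU
    · rw [topologicalKrullDim_eq_krullDim, Order.krullDim_eq_bot]
      exact bot_le
    · exact (topologicalKrullDim_eq_zero_of_discrete ↥U.left).le
  · rintro ⟨h, hd⟩ U a ha
    haveI := h U a ha
    refine ⟨?_, h U a ha⟩
    haveI : IsLocallyNoetherian U.left := LocallyOfFiniteType.isLocallyNoetherian U.hom
    haveI := IsLocallyArtinian.of_topologicalKrullDim_le_zero
      (le_trans (le_iSup_of_le U (le_iSup_of_le a (le_iSup_of_le (f := fun _ => topologicalKrullDim ↥U.left) ha le_rfl))) hd)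
    rw [locallyQuasiFinite_iff_isDiscrete_preimage_singleton]
    exact fun _ => ⟨inferInstance⟩

theorem lqf_field_of_mono {Y : Sp (Spec (CommRingCat.of k))} (hX : IsAlgSpace X) (hY : IsAlgSpace Y) (f : X ⟶ Y)
    [Mono f] {q : Y ⟶ (yon (Spec (CommRingCat.of k))).obj (Over.mk (𝟙 _))}
    (hq : LocP (@LocallyQuasiFinite ⊓ @LocallyOfFiniteType : MorphismProperty Scheme.{u}) q) :
    LocP (@LocallyQuasiFinite ⊓ @LocallyOfFiniteType : MorphismProperty Scheme.{u}) (f ≫ q) := by
  rw [locP_field_iff (fun f g hg h => lqf_lft_cancel f g hg h)] at hq ⊢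
  intro U a ha
  obtain ⟨V, b, hb, hbs⟩ := hY.atlas
  haveI : LocallyQuasiFinite V.hom := (hq V b hb).1
  haveI : LocallyOfFiniteType V.hom := (hq V b hb).2
  haveI := discreteTopology_of_lqf_field V.hom
  haveI : IsLocallyNoetherian V.left := LocallyOfFiniteType.isLocallyNoetherian V.hom
  haveI : IsLocallyArtinian V.left :=
    IsLocallyArtinian.iff_isLocallyNoetherian_and_discreteTopology.2 ⟨inferInstance, inferInstance⟩
  have sq := IsPullback.of_hasPullback f b
  obtain ⟨W, ⟨e⟩⟩ := exists_scheme_of_mono_discrete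
    (isAlgSpace_pullback hY.diag hX (IsAlgSpace.yon_obj V) f b) (pullback.snd f b)
  obtain ⟨w, hw⟩ := (yon (Spec (CommRingCat.of k))).map_surjective (e.hom ≫ pullback.snd f b)
  haveI : Mono w := (yon (Spec (CommRingCat.of k))).mono_of_mono_map (by rw [hw]; infer_instance)
  haveI : Mono w.left := ((Over.forget _).map_mono w)
  haveI := locallyOfFiniteType_of_mono_artinian w.left
  have hW : RepWith @Etale (e.hom ≫ pullback.fst f b) := repWith_comp (repWith_of_isIso _)
    ((repWith_isStableUnderBaseChange (S := Spec (CommRingCat.of k)) @Etale).of_isPullback sq.flip hb)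
  have hWs : RepWith @Surjective (e.hom ≫ pullback.fst f b) := repWith_comp (repWith_of_isIso _)
    ((repWith_isStableUnderBaseChange (S := Spec (CommRingCat.of k)) @Surjective).of_isPullback sq.flip hbs)
  obtain ⟨T, t, s, hte, hts, hs, hse⟩ := exists_etale_cover hW hWs a
  haveI := hte
  haveI := hts
  haveI hse' : Etale s.left := by
    haveI : Etale t.left := hte
    exact EtOver.etale_left (X := X)
      (E := EtOver.mk ((yon _).map t ≫ a) (repWith_comp (repWith_yon_map hte) ha))
      (E' := EtOver.mk (e.hom ≫ pullback.fst f b) hW) (EtOver.homMk s hs)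
  have hT : (@LocallyQuasiFinite ⊓ @LocallyOfFiniteType : MorphismProperty Scheme.{u}) (t.left ≫ U.hom) := by
    rw [Over.w t, ← Over.w s, ← Over.w w, ← Category.assoc]
    haveI := locallyQuasiFinite_of_mono' w.left
    haveI : LocallyQuasiFinite s.left := Unibranch.locallyQuasiFinite_of_etale s.left
    exact ⟨inferInstance, inferInstance⟩
  haveI : LocallyQuasiFinite (t.left ≫ U.hom) := hT.1
  haveI : LocallyOfFiniteType (t.left ≫ U.hom) := hT.2
  haveI := discreteTopology_of_lqf_field (t.left ≫ U.hom)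
  haveI : LocallyOfFiniteType U.hom := EtDescent.locallyOfFiniteType_of_precomp t.left U.hom
  refine ⟨?_, inferInstance⟩
  rw [locallyQuasiFinite_iff_isDiscrete_preimage_singleton]
  haveI : DiscreteTopology ↥U.left := discreteTopology_iff_isOpen_singleton.2 fun z => by
    obtain ⟨r, rfl⟩ := t.left.surjective z
    have := t.left.isOpenMap _ (isOpen_discrete {r})
    rwa [Set.image_singleton] at this
  exact fun _ => ⟨inferInstance⟩

end Groth.Agent.ASp
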