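import Groth.Agent.ASp.FlatLocusSp
import Groth.Agent.ASp.OneChart
import Groth.Agent.ASp.GoodAt
import Groth.Agent.ASp.ZeroDim
import Groth.Agent.QFinLib
import Groth.Prelude.Def_Flat
/-!
The locus where a morphism of algebraic spaces is locally quasi-finite.
-/

set_option autoImplicit false
set_option backward.isDefEq.respectTransparency false
set_option backward.isDefEq.respectTransparency.types false

universe u

open CategoryTheory CategoryTheory.Limits AlgebraicGeometry Opposite TopologicalSpace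

namespace Groth.Agent.ASp

open _root_.AlgSp Groth.Agent.Inf

variable {S : Scheme.{u}}

/-- Neighbourhood form of quasi-finiteness at a point. -/
abbrev IsQfNbhd {X Y : Sp S} (f : X ⟶ Y) (x : Points X) : Prop :=
  HasAtMor (fun U _ h u => ∃ W : U.Opens, u ∈ W ∧ LocallyQuasiFinite (W.ι ≫ h) ∧ LocallyOfFiniteType (W.ι ≫ h)) f x

/-- Quasi-finiteness at a point is read on any chart. -/
theorem isQfNbhd_iff_of_chart {X Y : Space S} {f : X ⟶ Y} (hf : LocP @LocallyOfFiniteType f.hom) {U V : Over S}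
    {a : (yon S).obj U ⟶ X.obj} {b : (yon S).obj V ⟶ Y.obj} {k : U ⟶ V} (ha : RepWith @Etale a)
    (hb : RepWith @Etale b) (e : a ≫ f.hom = (yon S).map k ≫ b) (u : ↥U.left) :
    IsQfNbhd f.hom (Points.ofPt a u) ↔ k.left.QuasiFiniteAt u := by
  haveI : LocallyOfFiniteType k.left := hf a b k ha hb e
  constructor
  · intro h
    obtain ⟨X', j, hj, ⟨x', hx'⟩, hP⟩ :=
      (hasAtMor_nbhd_iff (P := (@LocallyQuasiFinite ⊓ @LocallyOfFiniteType : MorphismProperty Scheme.{u})) f _).1 h
    let s := hj.1.snd a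
    have sqj := hj.1.isPullback a
    haveI : IsOpenImmersion s.left := hj.2 _ _ _ sqj
    obtain ⟨w, -, hw⟩ := points_exists_of_isPullback sqj x' (Points.ofScheme U u)
      (by rw [← Points.ofPt_eq_map_ofScheme]; exact hx')
    obtain ⟨w, rfl⟩ := (Points.schemeHomeo _).surjective w
    rw [Points.map_yon_map_apply] at hw
    have hw : s.left w = u := (Points.schemeHomeo U).injective hw
    have hlq : LocallyQuasiFinite (s ≫ k).left :=
      (hP (hj.1.fst a) b (s ≫ k) (repWith_of_isPullback sqj.flip ha) hb (by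
        show hj.1.fst a ≫ j.hom ≫ f.hom = _
        rw [reassoc_of% sqj.w, e, ← Functor.map_comp_assoc])).1
    haveI := hlq
    rw [← hw]
    exact Scheme.Hom.quasiFiniteAt_comp_iff_of_isOpenImmersion.1 (Scheme.Hom.quasiFiniteAt (s ≫ k).left w)
  · intro h
    let W : U.left.Opens := ⟨_, k.left.isOpen_quasiFiniteAt⟩
    exact ⟨U, V, a, b, k, u, ha, hb, e, rfl, W, h, locallyQuasiFinite_of_forall_quasiFiniteAt _ fun w =>
      Scheme.Hom.quasiFiniteAt_comp_iff_of_isOpenImmersion.2 w.2, inferInstance⟩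

/-- Quasi-finiteness at a point commutes with base change. -/
theorem isQfNbhd_baseChange_iff {X Y X' Y' : Space S} {f : X ⟶ Y} (hf : LocP @LocallyOfFiniteType f.hom)
    {g : Y' ⟶ Y} {p : X' ⟶ X} {f' : X' ⟶ Y'} (sq : IsPullback p.hom f'.hom f.hom g.hom) (x' : Points X'.obj) :
    IsQfNbhd f'.hom x' ↔ IsQfNbhd f.hom (Points.map p.hom x') := by
  obtain ⟨U, V, a, b, k, ha, has, hb, -, e⟩ := exists_chart (f := f.hom) X.property Y.property
  obtain ⟨u, hu⟩ := surjective_ofPt has (Points.map p.hom x')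
  have hf' : LocP @LocallyOfFiniteType f'.hom := locP_of_isPullback sq.flip X.property Y.property Y'.property hf
  have hQ : IsAlgSpace (pullback p.hom a) := isAlgSpace_pullback X.property.diag X'.property (IsAlgSpace.yon_obj U) _ _
  obtain ⟨q, hq₁, hq₂⟩ := points_exists_of_isPullback (IsPullback.of_hasPullback p.hom a) x'
    (Points.ofScheme U u) (by rw [← Points.ofPt_eq_map_ofScheme, hu])
  obtain ⟨U₁, p₁, -, hp₁s⟩ := hQ.atlas
  obtain ⟨u₁, rfl⟩ := surjective_ofPt hp₁s q
  obtain ⟨z₁, hz₁⟩ := (yon S).map_surjective (p₁ ≫ pullback.snd p.hom a)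
  have hZ₁ : IsAlgSpace (pullback b g.hom) := isAlgSpace_pullback Y.property.diag (IsAlgSpace.yon_obj V) Y'.property _ _
  obtain ⟨W', ω, hωe, hωs⟩ := hZ₁.atlas
  obtain ⟨j, hj⟩ := (yon S).map_surjective (ω ≫ pullback.fst b g.hom)
  set c' := ω ≫ pullback.snd b g.hom
  have hc' : RepWith @Etale c' := repWith_comp hωe (repWith_of_isPullback (IsPullback.of_hasPullback b g.hom) hb)
  have ej : (yon S).map j ≫ b = c' ≫ g.hom := by
    rw [hj, Category.assoc, pullback.condition, Category.assoc]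
  let σ : (yon S).obj U₁ ⟶ pullback b g.hom :=
    pullback.lift ((yon S).map (z₁ ≫ k)) (p₁ ≫ pullback.fst p.hom a ≫ f'.hom) (by
      simp only [Functor.map_comp, Category.assoc, ← e, hz₁, reassoc_of% hz₁]
      rw [← sq.w, pullback.condition_assoc])
  obtain ⟨U₂, w₂, v₂, -, hw₂s, hv₂, -⟩ := exists_etale_cover hωe hωs σ
  obtain ⟨u₂, rfl⟩ := hw₂s.surj u₁
  obtain ⟨a', ha', ha'₁, ha'₂⟩ := exists_baseChange_chart sq ha hb hc' e ej
  obtain ⟨l, hl₁, hl₂⟩ : ∃ l : U₂ ⟶ pullback k j,
      l ≫ pullback.fst _ _ = w₂ ≫ z₁ ∧ l ≫ pullback.snd _ _ = v₂ :=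
    ⟨pullback.lift (w₂ ≫ z₁) v₂ ((yon S).map_injective (by
        have := hv₂ =≫ pullback.fst b g.hom
        simp only [Category.assoc, σ, pullback.lift_fst, ← hj] at this
        simp only [Functor.map_comp, Category.assoc] at this ⊢
        rw [this])),
      pullback.lift_fst _ _ _, pullback.lift_snd _ _ _⟩
  have hla : (yon S).map l ≫ a' = (yon S).map w₂ ≫ p₁ ≫ pullback.fst p.hom a := by
    refine sq.hom_ext ?_ ?_
    · rw [Category.assoc, ha'₁, ← Functor.map_comp_assoc, hl₁, Functor.map_comp_assoc, reassoc_of% hz₁]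
      simp only [Category.assoc, pullback.condition]
    · have := hv₂ =≫ pullback.snd b g.hom
      simp only [Category.assoc, σ, pullback.lift_snd] at this
      rw [Category.assoc, ha'₂, ← Functor.map_comp_assoc, hl₂]
      simp only [c', Category.assoc, this]
  have hx : Points.ofPt a' (l.left u₂) = x' := by
    rw [← ofPt_yon_map_comp, hla, ofPt_yon_map_comp, ofPt_comp_eq_map, ← hq₁, ofPt_comp_eq_map]
    exact Points.map_comp _ _ _
  have hxu : Points.map p.hom x' = Points.ofPt a ((pullback.fst k j).left (l.left u₂)) := by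
    rw [← ofPt_yon_map_comp (pullback.fst k j) a, ← ha'₁, ← hx, Points.map_ofPt]
  haveI : LocallyOfFiniteType k.left := hf a b k ha hb e
  rw [hxu, isQfNbhd_iff_of_chart hf ha hb e, ← hx, isQfNbhd_iff_of_chart hf' ha' hc' ha'₂]
  exact QFinLib.quasiFiniteAt_baseChange_iff k.left (isPullback_left (IsPullback.of_hasPullback k j)) _

/-- Away from the quasi-finite locus the fibre has positive dimension. -/
theorem one_le_fibreDimAt {U V : Scheme.{u}} (h : U ⟶ V) [LocallyOfFiniteType h] (u : ↥U) (hu : ¬ h.QuasiFiniteAt u) :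
    1 ≤ FlatMor.fibreDimAt h u := by
  haveI : LocallyOfFiniteType (h.fiberToSpecResidueField (h u)) :=
    MorphismProperty.pullback_snd _ _ ‹LocallyOfFiniteType h›
  haveI : IsLocallyNoetherian (h.fiber (h u)) :=
    LocallyOfFiniteType.isLocallyNoetherian (h.fiberToSpecResidueField (h u))
  by_contra hn
  obtain ⟨⟨W₀, hW⟩, hlt⟩ := iInf_lt_iff.1 (not_le.1 hn)
  let W : (h.fiber (h u)).Opens := W₀
  haveI : T1Space ↥W.toScheme := t1Space_of_topologicalKrullDim_le_zero _ (le_zero_of_lt_one hlt)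
  haveI := discreteTopology_of_t1 W.toScheme
  refine hu (Scheme.Hom.quasiFiniteAt_iff_isOpen_singleton_asFiber.2 ?_)
  have := W.ι.isOpenEmbedding.isOpenMap _ (isOpen_discrete ({⟨h.asFiber u, hW⟩} : Set ↥W.toScheme))
  rwa [Set.image_singleton] at this

/-- The locally quasi-finite locus. -/
theorem exists_lqf_locus {X Y : Space S} (f : X ⟶ Y) (hf : LocP @LocallyOfFiniteType f.hom) :
    ∃ (X' : Space S) (j : X' ⟶ X), RepWith @IsOpenImmersion j.hom ∧
      LocP (@LocallyQuasiFinite ⊓ @LocallyOfFiniteType) (j ≫ f).hom ∧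
      (∀ x, x ∈ Set.range (Points.map j.hom) ↔ IsQfNbhd f.hom x) := by
  let Ω : Set (Points X.obj) := {x | IsQfNbhd f.hom x}
  have hΩ : IsOpen Ω := by
    obtain ⟨U, V, a, b, k, ha, has, hb, -, e⟩ := exists_chart (f := f.hom) X.property Y.property
    haveI : LocallyOfFiniteType k.left := hf a b k ha hb e
    rw [isOpen_iff_chart ha has]
    convert k.left.isOpen_quasiFiniteAt using 1
    exact Set.ext fun u => isQfNbhd_iff_of_chart hf ha hb e u
  have hsub := repWith_subι X.obj Ω hΩ
  refine ⟨⟨subSp X.obj Ω, isAlgSpace_subSp X.property hΩ⟩, ObjectProperty.homMk (subι X.obj Ω), hsub,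
    fun U V a b k ha hb e => ?_, fun x => Set.ext_iff.1 (range_map_subι X.obj Ω) x⟩
  have ha' : RepWith @Etale (a ≫ subι X.obj Ω) :=
    repWith_comp ha (repWith_mono (fun _ _ g (hg : IsOpenImmersion g) => (inferInstance : Etale g)) hsub)
  have e' : (a ≫ subι X.obj Ω) ≫ f.hom = (yon S).map k ≫ b := by rw [Category.assoc]; exact e
  haveI : LocallyOfFiniteType k.left := hf _ b k ha' hb e'
  refine ⟨locallyQuasiFinite_of_forall_quasiFiniteAt _ fun u => (isQfNbhd_iff_of_chart hf ha' hb e' u).1 ?_,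
    inferInstance⟩
  rw [← Points.map_ofPt]
  exact (range_map_subι X.obj Ω).le ⟨_, rfl⟩

end Groth.Agent.ASp
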