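import Groth.Agent.ASp.LqfChart
import Groth.Agent.EtaleSplit.Split
import Groth.Agent.Unibranch.Open

/-!
Etale neighbourhoods splitting off a finite monomorphic piece of a chart of a separated space.
-/

set_option backward.isDefEq.respectTransparency false
set_option backward.isDefEq.respectTransparency.types false

universe u

open CategoryTheory CategoryTheory.Limits AlgebraicGeometry Opposite

namespace Groth.Agent.ASp

open _root_.AlgSp

variable {S : Scheme.{u}}

set_option maxHeartbeats 1000000 in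
/-- Etale locally on the base a chart of a separated space has a finite monomorphic open piece through any point. -/
theorem exists_finite_mono_piece (O : CommRingCat.{u}) (oS : Spec O ⟶ S) {X : Sp S} (hX : IsAlgSpace X)
    (x : X ⟶ (yon S).obj (Over.mk oS)) (hx : RepWith @IsClosedImmersion (pullback.diagonal x))
    {A₀ : Over S} (p₀ : (yon S).obj A₀ ⟶ X) (hpe₀ : RepWith @Etale p₀) (a₀ : A₀ ⟶ Over.mk oS)
    (ha₀ : p₀ ≫ x = (yon S).map a₀) [LocallyQuasiFinite a₀.left] [LocallyOfFiniteType a₀.left] (u₀ : ↥A₀.left) :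
    ∃ (O' : CommRingCat.{u}) (c : O ⟶ O') (_ : Etale (Spec.map c))
      (cW : Over.mk (Spec.map c ≫ oS) ⟶ Over.mk oS) (_ : cW.left = Spec.map c)
      (A₁ : Over S) (ac₀ : A₁ ⟶ A₀) (aw₀ : A₁ ⟶ Over.mk (Spec.map c ≫ oS)) (_ : IsPullback ac₀ aw₀ a₀ cW)
      (V : Over S) (ι₀ : V ⟶ A₁) (_ : IsOpenImmersion ι₀.left) (_ : IsFinite (ι₀ ≫ aw₀).left)
      (v₀ : ↥V.left), (ι₀ ≫ ac₀).left v₀ = u₀ ∧
      ∀ {Z : Over S} (g h : Z ⟶ V), (yon S).map (g ≫ ι₀ ≫ ac₀) ≫ p₀ = (yon S).map (h ≫ ι₀ ≫ ac₀) ≫ p₀ →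
        g ≫ ι₀ ≫ aw₀ = h ≫ ι₀ ≫ aw₀ → g = h := by
  classical
  let K : Type u := AlgebraicClosure (A₀.left.residueField u₀)
  let pK : Spec (CommRingCat.of K) ⟶ A₀.left :=
    Spec.map (CommRingCat.ofHom (algebraMap (A₀.left.residueField u₀) K)) ≫ A₀.left.fromSpecResidueField u₀
  have hpK : ∀ t, pK t = u₀ := fun t => by
    simp only [pK, Scheme.Hom.comp_apply]
    exact Scheme.fromSpecResidueField_apply _ _
  obtain ⟨T₁, g₁, qT, hq, V₁, hg₁, hfin₁, -, hmem, huniq⟩ :=
    Groth.Agent.EtaleSplit.exists_split_one a₀.left (pK ≫ a₀.left) ⟨pK, rfl⟩ ⊤ trivial (a₀.left.quasiFiniteAt _)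
  haveI := hg₁
  haveI := hfin₁
  let P : Scheme.{u} := pullback a₀.left g₁
  let W : Over S := Over.mk (g₁ ≫ oS)
  let gW : W ⟶ Over.mk oS := Over.homMk g₁ rfl
  let A₂ : Over S := Over.mk (pullback.fst a₀.left g₁ ≫ A₀.hom)
  let ac₂ : A₂ ⟶ A₀ := Over.homMk (pullback.fst a₀.left g₁) rfl
  let aw₂ : A₂ ⟶ W := Over.homMk (pullback.snd a₀.left g₁) (by
    change pullback.snd a₀.left g₁ ≫ g₁ ≫ oS = pullback.fst a₀.left g₁ ≫ A₀.hom
    rw [← Over.w a₀, ← Category.assoc, ← Category.assoc, pullback.condition]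
    rfl)
  have hA₂ : IsPullback ac₂ aw₂ a₀ gW := IsPullback.of_map (Over.forget S)
    (Over.OverMorphism.ext pullback.condition) (IsPullback.of_hasPullback a₀.left g₁)
  obtain ⟨XW, fX, wX, hXW⟩ : ∃ (XW : Sp S) (fX : XW ⟶ X) (wX : XW ⟶ (yon S).obj W),
      IsPullback fX wX x ((yon S).map gW) := ⟨_, _, _, IsPullback.of_hasPullback _ _⟩
  have hXWsp : IsAlgSpace XW :=
    isAlgSpace_of_isPullback (IsAlgSpace.yon_obj _).diag hX (IsAlgSpace.yon_obj W) hXW
  have hwXd : RepWith @IsClosedImmersion (pullback.diagonal wX) := by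
    obtain ⟨s, h1, -⟩ := isPullback_diagonal_baseChange hXW
    exact repWith_of_isPullback h1 hx
  obtain ⟨pW, hpW1, hpW2⟩ : ∃ pW : (yon S).obj A₂ ⟶ XW, pW ≫ fX = (yon S).map ac₂ ≫ p₀ ∧
      pW ≫ wX = (yon S).map aw₂ :=
    ⟨hXW.lift _ _ (by rw [Category.assoc, ha₀]; exact (isPullback_yon_map hA₂).w), hXW.lift_fst _ _ _,
      hXW.lift_snd _ _ _⟩
  have sqA : IsPullback ((yon S).map ac₂) pW p₀ fX := by
    refine IsPullback.of_bot (h₃₁ := (yon S).map gW) (v₂₁ := wX) (v₂₂ := x) ?_ hpW1.symm hXW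
    rw [hpW2, ha₀]
    exact isPullback_yon_map hA₂
  let V' : Over S := Over.mk (V₁.ι ≫ A₂.hom)
  let ι : V' ⟶ A₂ := Over.homMk V₁.ι rfl
  let v : V' ⟶ W := ι ≫ aw₂
  haveI : IsFinite v.left := hfin₁
  let j : (yon S).obj V' ⟶ XW := (yon S).map ι ≫ pW
  have hje : RepWith @Etale j := repWith_comp
    (repWith_yon_map (P := @Etale) (g := ι) (inferInstanceAs (Etale V₁.ι))) (repWith_of_isPullback sqA hpe₀)
  have hjw : j ≫ wX = (yon S).map v := by
    simp only [j, v, Category.assoc, hpW2, Functor.map_comp]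
  obtain ⟨Q, q₁, q₂, sqQ⟩ := exists_isPullback_yon hje.1 j
  haveI : Etale q₂.left := hje.2 _ _ _ sqQ
  haveI : Etale q₁.left := hje.2 _ _ _ sqQ.flip
  have hqv : q₁ ≫ v = q₂ ≫ v := (yon S).map_injective (by
    have h := congrArg (· ≫ wX) sqQ.w
    simp only [Category.assoc, hjw, ← Functor.map_comp] at h
    exact h)
  have hw : q₁.left ≫ v.left = q₂.left ≫ v.left := congrArg CommaMorphism.left hqv
  haveI : IsClosedImmersion (pullback.lift q₁.left q₂.left hw : Q.left ⟶ pullback v.left v.left) :=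
    isClosedImmersion_lift_of_separated wX hwXd sqQ hjw hjw hw
  obtain ⟨δ, hδ⟩ := (yon S).map_surjective (sqQ.lift (𝟙 _) (𝟙 _) rfl)
  have hδ1 : δ ≫ q₁ = 𝟙 V' := (yon S).map_injective (by
    rw [Functor.map_comp, hδ, sqQ.lift_fst, CategoryTheory.Functor.map_id])
  have hδ2 : δ ≫ q₂ = 𝟙 V' := (yon S).map_injective (by
    rw [Functor.map_comp, hδ, sqQ.lift_snd, CategoryTheory.Functor.map_id])
  have hδl1 : δ.left ≫ q₁.left = 𝟙 _ := congrArg CommaMorphism.left hδ1
  have hδl2 : δ.left ≫ q₂.left = 𝟙 _ := congrArg CommaMorphism.left hδ2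
  haveI : Mono δ.left := ⟨fun a b e => by
    simpa [hδl1] using congrArg (· ≫ q₁.left) e⟩
  haveI : Etale δ.left := IsEtLocal.of_postcomp (P := @Etale) δ.left q₁.left inferInstance
    (by rw [hδl1]; infer_instance)
  haveI : IsOpenImmersion δ.left := IsOpenImmersion.of_flat_of_mono _
  let w : Q.left ⟶ T₁ := q₁.left ≫ v.left
  haveI : IsFinite w := by
    have e : w = pullback.lift q₁.left q₂.left hw ≫ pullback.fst v.left v.left ≫ v.left := by
      rw [pullback.lift_fst_assoc]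
    rw [e]
    infer_instance
  let bad : Set ↥T₁ := w '' (Set.range δ.left)ᶜ
  have hbad : IsClosed bad := w.isClosedMap _ δ.left.isOpenEmbedding.isOpen_range.isClosed_compl
  let t₀ : ↥T₁ := qT (IsLocalRing.closedPoint K)
  have ht₀ : t₀ ∉ bad := by
    rintro ⟨z, hz, hzt⟩
    haveI := Groth.Agent.Unibranch.locallyQuasiFinite_of_etale q₁.left
    haveI : DiscreteTopology ↥(pullback w qT) := by
      haveI : Subsingleton ↥(Spec (CommRingCat.of K)) := inferInstance
      have h := (pullback.snd w qT).isDiscrete_preimage_singleton (IsLocalRing.closedPoint K)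
      exact isDiscrete_univ_iff.1 (h.mono fun x _ => Subsingleton.elim (α := ↥(Spec (CommRingCat.of K))) _ _)
    obtain ⟨e, he, -⟩ := Scheme.Pullback.exists_preimage_pullback (f := w) (g := qT) z
      (IsLocalRing.closedPoint K) hzt
    let ψ : Spec (CommRingCat.of K) ⟶ Q.left :=
      pointOfClosedPoint (pullback.snd w qT) e (isClosed_discrete _) ≫ pullback.fst w qT
    have hψ : ψ ≫ w = qT := by
      rw [Category.assoc, pullback.condition, ← Category.assoc, pointOfClosedPoint_comp, Category.id_comp]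
    have hψz : ψ (IsLocalRing.closedPoint K) = z := by
      rw [Scheme.Hom.comp_apply, pointOfClosedPoint_apply, he]
    have key : ∀ q : Q.left ⟶ V'.left, q ≫ v.left = w →
        (ψ ≫ q) ≫ V₁.ι = pullback.lift pK qT hq.symm := by
      intro q hqw
      refine huniq ⟨(ψ ≫ q) ≫ V₁.ι, ?_⟩ ?_
      · rw [Category.assoc, Category.assoc]
        change ψ ≫ q ≫ v.left = qT
        rw [hqw, hψ]
      · change ((ψ ≫ q) ≫ V₁.ι) _ ∈ V₁
        rw [Scheme.Hom.comp_apply]
        exact ((ψ ≫ q) _).2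
    have e12 : ψ ≫ q₁.left = ψ ≫ q₂.left :=
      (cancel_mono V₁.ι).1 ((key q₁.left rfl).trans (key q₂.left hw.symm).symm)
    have : ψ = (ψ ≫ q₁.left) ≫ δ.left := by
      rw [← cancel_mono (pullback.lift q₁.left q₂.left hw)]
      apply pullback.hom_ext
      · simp only [Category.assoc, pullback.lift_fst, reassoc_of% hδl1]
        rw [hδl1]; exact congrArg (ψ ≫ ·) (Category.comp_id _).symm
      · simp only [Category.assoc, pullback.lift_snd]
        rw [hδl2]; exact e12.symm.trans (congrArg (ψ ≫ ·) (Category.comp_id _).symm)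
    refine hz ⟨(ψ ≫ q₁.left) (IsLocalRing.closedPoint K), ?_⟩
    rw [← hψz, ← Scheme.Hom.comp_apply, ← this]
  obtain ⟨W₀, hW₀, htW₀, hW₀le⟩ := exists_isAffineOpen_mem_and_subset (x := t₀)
    (U := ⟨badᶜ, hbad.isOpen_compl⟩) ht₀
  let O' : CommRingCat.{u} := Γ(T₁, W₀)
  obtain ⟨c, hc⟩ : ∃ c : O ⟶ O', Spec.map c = hW₀.fromSpec ≫ g₁ := ⟨Spec.preimage _, Spec.map_preimage _⟩
  haveI : Etale (Spec.map c) := by rw [hc]; infer_instance
  let cW : Over.mk (Spec.map c ≫ oS) ⟶ Over.mk oS := Over.homMk (Spec.map c) rfl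
  let A₁ : Over S := Over.mk (pullback.fst a₀.left (Spec.map c) ≫ A₀.hom)
  let ac₀ : A₁ ⟶ A₀ := Over.homMk (pullback.fst a₀.left (Spec.map c)) rfl
  let aw₀ : A₁ ⟶ Over.mk (Spec.map c ≫ oS) := Over.homMk (pullback.snd a₀.left (Spec.map c)) (by
    change pullback.snd a₀.left (Spec.map c) ≫ Spec.map c ≫ oS = pullback.fst a₀.left (Spec.map c) ≫ A₀.hom
    rw [← Over.w a₀, ← Category.assoc, ← Category.assoc, pullback.condition]
    rfl)
  have hA₁ : IsPullback ac₀ aw₀ a₀ cW := IsPullback.of_map (Over.forget S)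
    (Over.OverMorphism.ext pullback.condition) (IsPullback.of_hasPullback a₀.left (Spec.map c))
  let m : pullback a₀.left (Spec.map c) ⟶ pullback a₀.left g₁ :=
    pullback.map a₀.left (Spec.map c) a₀.left g₁ (𝟙 _) hW₀.fromSpec (𝟙 _) (by simp) (by simp [hc])
  have hm := Groth.Agent.EtaleSplit.isPullback_pullbackMap a₀.left g₁ (Spec.map c) hW₀.fromSpec hc.symm
  haveI : IsOpenImmersion m := MorphismProperty.of_isPullback hm.flip (inferInstanceAs (IsOpenImmersion hW₀.fromSpec))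
  let V : Over S := Over.mk ((m ⁻¹ᵁ V₁).ι ≫ A₁.hom)
  let ι₀ : V ⟶ A₁ := Over.homMk (m ⁻¹ᵁ V₁).ι rfl
  haveI hVfin : IsFinite ((m ⁻¹ᵁ V₁).ι ≫ pullback.snd a₀.left (Spec.map c)) :=
    Groth.Agent.EtaleSplit.isFinite_preimage hm V₁
  have hm1 : m ≫ pullback.fst a₀.left g₁ = pullback.fst a₀.left (Spec.map c) := by simp [m]
  have hm2 : m ≫ pullback.snd a₀.left g₁ = pullback.snd a₀.left (Spec.map c) ≫ hW₀.fromSpec := by simp [m]
  let μ : V ⟶ V' := Over.homMk (m ∣_ V₁) (by
    change (m ∣_ V₁) ≫ V₁.ι ≫ pullback.fst a₀.left g₁ ≫ A₀.hom =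
      (m ⁻¹ᵁ V₁).ι ≫ pullback.fst a₀.left (Spec.map c) ≫ A₀.hom
    rw [morphismRestrict_ι_assoc, reassoc_of% hm1])
  -- the distinguished point
  let qT' : Spec (CommRingCat.of K) ⟶ Spec O' := IsOpenImmersion.lift hW₀.fromSpec qT (by
    rw [hW₀.range_fromSpec]
    rintro _ ⟨t, rfl⟩
    rw [Subsingleton.elim t (IsLocalRing.closedPoint K)]
    exact htW₀)
  have hqT' : qT' ≫ hW₀.fromSpec = qT := IsOpenImmersion.lift_fac _ _ _
  let r : Spec (CommRingCat.of K) ⟶ pullback a₀.left (Spec.map c) :=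
    pullback.lift pK qT' (by rw [hc, ← Category.assoc, hqT', hq])
  have hr : r ≫ m = pullback.lift pK qT hq.symm := by
    apply pullback.hom_ext <;> simp [r, m, hqT']
  have hrV : r (IsLocalRing.closedPoint K) ∈ m ⁻¹ᵁ V₁ := by
    change m (r _) ∈ V₁
    rw [← Scheme.Hom.comp_apply, hr]
    exact hmem
  refine ⟨O', c, inferInstance, cW, rfl, A₁, ac₀, aw₀, hA₁, V, ι₀, inferInstanceAs (IsOpenImmersion (m ⁻¹ᵁ V₁).ι),
    hVfin, ⟨_, hrV⟩, ?_, fun {Z} g h e1 e2 => ?_⟩
  · change pullback.fst a₀.left (Spec.map c) (r (IsLocalRing.closedPoint K)) = u₀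
    rw [← Scheme.Hom.comp_apply, pullback.lift_fst, hpK]
  · have hμ1 : μ ≫ ι ≫ ac₂ = ι₀ ≫ ac₀ := Over.OverMorphism.ext (by
      change (m ∣_ V₁) ≫ V₁.ι ≫ pullback.fst a₀.left g₁ = (m ⁻¹ᵁ V₁).ι ≫ pullback.fst a₀.left (Spec.map c)
      rw [morphismRestrict_ι_assoc, hm1])
    have hμ2 : (μ ≫ v).left = ((m ⁻¹ᵁ V₁).ι ≫ pullback.snd a₀.left (Spec.map c)) ≫ hW₀.fromSpec := by
      change (m ∣_ V₁) ≫ V₁.ι ≫ pullback.snd a₀.left g₁ = _
      rw [morphismRestrict_ι_assoc, hm2, Category.assoc]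
    have e2' : (g ≫ μ) ≫ v = (h ≫ μ) ≫ v := Over.OverMorphism.ext (by
      simp only [Category.assoc]
      change g.left ≫ (μ ≫ v).left = h.left ≫ (μ ≫ v).left
      have e := congrArg CommaMorphism.left e2
      change g.left ≫ ((m ⁻¹ᵁ V₁).ι ≫ pullback.snd a₀.left (Spec.map c)) =
        h.left ≫ ((m ⁻¹ᵁ V₁).ι ≫ pullback.snd a₀.left (Spec.map c)) at e
      rw [hμ2, ← Category.assoc, e, Category.assoc])
    have ej : (yon S).map (g ≫ μ) ≫ j = (yon S).map (h ≫ μ) ≫ j := by
      apply hXW.hom_ext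
      · simp only [j, Category.assoc, hpW1, ← Functor.map_comp_assoc, hμ1]
        exact e1
      · have := fun k : Z ⟶ V => ((Category.assoc ((yon S).map (k ≫ μ)) j wX).trans
          (congrArg ((yon S).map (k ≫ μ) ≫ ·) hjw)).trans ((yon S).map_comp _ _).symm
        rw [this g, this h, e2']
    obtain ⟨Λ, hΛ⟩ := (yon S).map_surjective (sqQ.lift _ _ ej)
    have hΛ1 : Λ ≫ q₁ = g ≫ μ := (yon S).map_injective (by rw [Functor.map_comp, hΛ, sqQ.lift_fst])
    have hΛ2 : Λ ≫ q₂ = h ≫ μ := (yon S).map_injective (by rw [Functor.map_comp, hΛ, sqQ.lift_snd])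
    have hrange : Set.range Λ.left ⊆ Set.range δ.left := by
      rintro _ ⟨z, rfl⟩
      by_contra hc'
      have h1 : w (Λ.left z) ∈ bad := ⟨_, hc', rfl⟩
      have h2 : w (Λ.left z) ∈ (W₀ : Set ↥T₁) := by
        rw [← hW₀.range_fromSpec]
        refine ⟨((m ⁻¹ᵁ V₁).ι ≫ pullback.snd a₀.left (Spec.map c)) (g.left z), ?_⟩
        have e : Λ.left ≫ w = g.left ≫ (μ ≫ v).left := by
          rw [← Category.assoc, ← Over.comp_left, hΛ1, Over.comp_left, Category.assoc]
          rfl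
        rw [hμ2] at e
        exact (congrArg (fun f : Z.left ⟶ T₁ => f z) e).symm
      exact hW₀le h2 h1
    let k : Z.left ⟶ V'.left := IsOpenImmersion.lift δ.left Λ.left hrange
    have hk : k ≫ δ.left = Λ.left := IsOpenImmersion.lift_fac _ _ _
    have e12 : (g ≫ μ).left = (h ≫ μ).left := by
      rw [← hΛ1, ← hΛ2, Over.comp_left, Over.comp_left, ← hk, Category.assoc, Category.assoc, hδl1, hδl2]
    apply Over.OverMorphism.ext
    rw [← cancel_mono (m ∣_ V₁)]
    exact e12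

/-- A separated, locally quasi-finite algebraic space over a scheme is a scheme. -/
theorem exists_scheme_of_sep_lqf {X : Sp S} (hX : IsAlgSpace X) {T : Over S} (x : X ⟶ (yon S).obj T)
    (hsep : IsSeparatedMor x) (hqf : LocP (@LocallyQuasiFinite ⊓ @LocallyOfFiniteType) x) :
    ∃ P : Over S, Nonempty ((yon S).obj P ≅ X) := by
  obtain ⟨A, p, hpe, hps⟩ := hX.atlas
  obtain ⟨a, ha⟩ := (yon S).map_surjective (p ≫ x)
  have haQ : LocallyQuasiFinite a.left ∧ LocallyOfFiniteType a.left :=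
    hqf p (𝟙 _) a hpe (repWith_id _ T) (by rw [Category.comp_id, ha])
  haveI := haQ.1
  haveI := haQ.2
  have key : ∀ t : ↥A.left, ∃ (P : Over S) (f : (yon S).obj P ⟶ X),
      RepWith @IsOpenImmersion f ∧ Points.ofPt p t ∈ Set.range (Points.map f) := by
    intro t
    obtain ⟨U, hU, hxU, -⟩ := exists_isAffineOpen_mem_and_subset (x := a.left t) (U := (⊤ : T.left.Opens)) (by simp)
    obtain ⟨E, hE, htE, hEU⟩ := exists_isAffineOpen_mem_and_subset (x := t) (U := a.left ⁻¹ᵁ U) hxU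
    let Ω : Set (Points X) := Points.ofPt p '' E
    have hΩ : IsOpen Ω := isOpenMap_ofPt_of_etale hpe _ E.isOpen
    have hj := repWith_subι X Ω hΩ
    have hX' := isAlgSpace_subSp hX hΩ
    haveI hjm : Mono (subι X Ω) := mono_of_repWith (P := @IsOpenImmersion)
      (fun g hg => haveI : IsOpenImmersion g := hg; inferInstance) hj
    let O : CommRingCat.{u} := Γ(T.left, U)
    let oS : Spec O ⟶ S := hU.fromSpec ≫ T.hom
    let u : Over.mk oS ⟶ T := Over.homMk hU.fromSpec rfl
    have hu : RepWith @IsOpenImmersion ((yon S).map u) := repWith_yon_map (inferInstanceAs (IsOpenImmersion hU.fromSpec))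
    haveI hum : Mono ((yon S).map u) := mono_of_repWith (P := @IsOpenImmersion)
      (fun g hg => haveI : IsOpenImmersion g := hg; inferInstance) hu
    have hfac : ∀ y, Points.map (subι X Ω ≫ x) y ∈ Set.range (Points.map ((yon S).map u)) := by
      intro y
      obtain ⟨e', he', hye⟩ : Points.map (subι X Ω) y ∈ Ω := (range_map_subι X Ω).le ⟨y, rfl⟩
      obtain ⟨z, hz⟩ : a.left e' ∈ Set.range hU.fromSpec := by rw [hU.range_fromSpec]; exact hEU he'
      refine ⟨Points.schemeHomeo (Over.mk oS) z, ?_⟩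
      rw [Points.map_comp, ← hye, Points.map_ofPt, ← ha, Points.map_yon_map_apply]
      rw [show (yon S).map a = (yon S).map a ≫ 𝟙 _ from (Category.comp_id _).symm, ofPt_yon_map_comp,
        show u.left z = a.left e' from hz]
      rfl
    obtain ⟨x', hx'⟩ : ∃ x' : subSp X Ω ⟶ (yon S).obj (Over.mk oS), x' ≫ (yon S).map u = subι X Ω ≫ x := by
      have sq' := IsPullback.of_hasPullback (subι X Ω ≫ x) ((yon S).map u)
      have hopen : RepWith @IsOpenImmersion (pullback.fst (subι X Ω ≫ x) ((yon S).map u)) :=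
        repWith_of_isPullback sq'.flip hu
      have : Mono (pullback.fst (subι X Ω ≫ x) ((yon S).map u)) := mono_of_repWith (P := @IsOpenImmersion)
        (fun g hg => haveI : IsOpenImmersion g := hg; inferInstance) hopen
      have : IsIso (pullback.fst (subι X Ω ≫ x) ((yon S).map u)) :=
        isIso_of_mono_etale_surjective (isAlgSpace_of_isPullback (IsAlgSpace.yon_obj T).diag hX'
          (IsAlgSpace.yon_obj _) sq') hX' _ (locP_of_repWith (repWith_mono
          (fun _ _ g (hg : IsOpenImmersion g) => (inferInstance : Etale g)) hopen)) (fun y => by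
          obtain ⟨w, hw⟩ := hfac y
          obtain ⟨q, hq, -⟩ := points_exists_of_isPullback sq' y w hw.symm
          exact ⟨q, hq⟩)
      exact ⟨inv (pullback.fst (subι X Ω ≫ x) ((yon S).map u)) ≫ pullback.snd (subι X Ω ≫ x) ((yon S).map u), by
        rw [Category.assoc, ← pullback.condition, IsIso.inv_hom_id_assoc]⟩
    have hx'd : RepWith @IsClosedImmersion (pullback.diagonal x') := by
      have sqd : IsPullback (subι X Ω) (pullback.diagonal x') (pullback.diagonal x)
          (pullback.map x' x' x x (subι X Ω) (subι X Ω) ((yon S).map u) hx' hx') := by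
        refine IsPullback.of_isLimit' ⟨by apply pullback.hom_ext <;> simp⟩
          (PullbackCone.IsLimit.mk _ (fun s => s.snd ≫ pullback.fst x' x') (fun s => ?_) (fun s => ?_)
            (fun s n _ h2 => ?_))
        · simpa using (congrArg (· ≫ pullback.fst x x) s.condition).symm
        · have h1 := congrArg (· ≫ pullback.fst x x) s.condition
          have h2 := congrArg (· ≫ pullback.snd x x) s.condition
          simp at h1 h2
          apply pullback.hom_ext
          · simp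
          · rw [← cancel_mono (subι X Ω)]
            simp [← h1, ← h2]
        · simp [← h2]
      exact repWith_of_isPullback sqd hsep
    let A₀ : Over S := Over.mk (E.ι ≫ A.hom)
    haveI : IsAffine A₀.left := hE
    let ι : A₀ ⟶ A := Over.homMk E.ι rfl
    let g₀ : (yon S).obj A₀ ⟶ X := (yon S).map ι ≫ p
    have hg₀ : RepWith @Etale g₀ := repWith_comp (repWith_yon_map (P := @Etale) (g := ι) (inferInstanceAs (Etale E.ι))) hpe
    have hpt : ∀ e, Points.ofPt g₀ e ∈ Ω := fun e => by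
      rw [ofPt_yon_map_comp]
      exact ⟨_, e.2, rfl⟩
    obtain ⟨p₀, hp₀⟩ := exists_lift_subι X Ω g₀ hpt
    have hpe₀ : RepWith @Etale p₀ :=
      repWith_of_isPullback (f := g₀) (IsPullback.mk ⟨by rw [hp₀, Category.id_comp]⟩
        ⟨PullbackCone.IsLimit.mk _ (fun c => c.fst)
          (fun c => Category.comp_id _) (fun c => (cancel_mono (subι X Ω)).1 (by
            rw [Category.assoc, hp₀]; exact c.condition))
          (fun c m h1 _ => by rw [← h1, Category.comp_id])⟩) hg₀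
    have hps₀ : RepWith @Surjective p₀ := by
      rw [repWith_surjective_iff hpe₀.1]
      intro y
      obtain ⟨e', he', hye⟩ : Points.map (subι X Ω) y ∈ Ω := (range_map_subι X Ω).le ⟨y, rfl⟩
      refine ⟨Points.ofScheme A₀ (⟨e', he'⟩ : E.toScheme), ?_⟩
      apply injective_map_of_repWith (P := @IsOpenImmersion)
        (fun h (hh : IsOpenImmersion h) => h.isOpenEmbedding.injective) hj
      rw [← Points.map_comp, hp₀, ← Points.ofPt_eq_map_ofScheme, ofPt_yon_map_comp]
      exact hye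
    obtain ⟨a₀, ha₀⟩ := (yon S).map_surjective (p₀ ≫ x')
    have hau : a₀ ≫ u = ι ≫ a := (yon S).map_injective (by
      rw [Functor.map_comp, ha₀, Functor.map_comp, ha, Category.assoc, hx', reassoc_of% hp₀, Category.assoc])
    have hcomp : a₀.left ≫ hU.fromSpec = E.ι ≫ a.left := congrArg CommaMorphism.left hau
    haveI : LocallyQuasiFinite a₀.left := by
      haveI : LocallyQuasiFinite (a₀.left ≫ hU.fromSpec) := by rw [hcomp]; infer_instance
      exact LocallyQuasiFinite.of_comp a₀.left hU.fromSpec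
    haveI : LocallyOfFiniteType a₀.left := by
      haveI : LocallyOfFiniteType (a₀.left ≫ hU.fromSpec) := by rw [hcomp]; infer_instance
      exact locallyOfFiniteType_of_comp a₀.left hU.fromSpec
    obtain ⟨O', c, hc, cW, hcW, A₁, ac₀, aw₀, hA₁, V, ι₀, hι, hfin, v₀, hv₀, hmono⟩ :=
      exists_finite_mono_piece O oS hX' x' hx'd p₀ hpe₀ a₀ ha₀.symm (⟨t, htE⟩ : E.toScheme)
    obtain ⟨P, f, hf, hP⟩ := exists_open_scheme_of_split O oS hX' x' hx'd p₀ hpe₀ hps₀ a₀ ha₀.symm O' c cW hcW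
      ac₀ aw₀ hA₁ ι₀ hmono v₀
    refine ⟨P, f ≫ subι X Ω, repWith_comp hf hj, ?_⟩
    obtain ⟨y, hy⟩ := hP
    refine ⟨y, ?_⟩
    rw [Points.map_comp, hy, Points.map_ofPt, Category.assoc, hp₀, ofPt_yon_map_comp, hv₀, ofPt_yon_map_comp]
    rfl
  choose P f hf hfp using key
  exact exists_scheme_of_openCover hX P f hf fun y => by
    obtain ⟨t, rfl⟩ := surjective_ofPt hps y
    exact ⟨t, hfp t⟩

end Groth.Agent.ASp
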