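import Mathlib.CategoryTheory.Sites.RegularEpi
import Groth.Agent.ASp.TopFpqc
import Groth.Agent.ASp.Affine
import Groth.Agent.ASp.OpenImm
import Groth.Agent.ASp.Sub
import Groth.Agent.ASp.QAffine
/-!
Descent of quasi-affine subsheaves of affine schemes.
-/

set_option backward.isDefEq.respectTransparency.types false

universe u

open CategoryTheory CategoryTheory.Limits AlgebraicGeometry Opposite TensorProduct

namespace Groth.Agent.ASp

open _root_.AlgSp

variable {S : Scheme.{u}}

/-- A subsheaf of an affine scheme which becomes a quasi-affine scheme after an affine fppf base change is a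
quasi-affine scheme. -/
theorem exists_quasiAffine_of_mono (O O' : CommRingCat.{u}) (oS : Spec O ⟶ S) {X : Sp S}
    (x : X ⟶ (yon S).obj (Over.mk oS)) [Mono x] (c : O ⟶ O')
    (cS : Over.mk (Spec.map c ≫ oS) ⟶ Over.mk oS) (hcS : cS.left = Spec.map c) (hcf : Flat cS.left)
    (hcl : LocallyOfFinitePresentation cS.left) (hcsurj : Surjective cS.left)
    (V : Over S) (hV : V.left.IsQuasiAffine) (fst : (yon S).obj V ⟶ X)
    (v : V ⟶ Over.mk (Spec.map c ≫ oS))
    (sq : IsPullback fst ((yon S).map v) x ((yon S).map cS)) :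
    ∃ P : Over S, P.left.IsQuasiAffine ∧ Nonempty ((yon S).obj P ≅ X) := by
  let T : Over S := Over.mk oS
  let W₁ : Over S := Over.mk (Spec.map c ≫ oS)
  have : IsAffine T.left := inferInstanceAs (IsAffine (Spec O))
  have : IsAffine W₁.left := inferInstanceAs (IsAffine (Spec O'))
  -- an affine chart of the subsheaf
  obtain ⟨m, hVc⟩ : ∃ 𝒰 : V.left.OpenCover, Finite 𝒰.I₀ ∧ ∀ i, IsAffine (𝒰.X i) :=
    ⟨V.left.affineCover.finiteSubcover, inferInstance, fun i => inferInstance⟩
  have := hVc.1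
  have := hVc.2
  let A₀ : Over S := Over.mk (Limits.Sigma.desc m.f ≫ V.hom)
  let q₀ : A₀ ⟶ V := Over.homMk (Limits.Sigma.desc m.f) rfl
  have : IsAffine A₀.left := inferInstanceAs (IsAffine (∐ m.X))
  have hq₀e : Etale q₀.left := IsZariskiLocalAtSource.sigmaDesc fun i => (inferInstance : Etale (m.f i))
  have hq₀s : Surjective q₀.left := ⟨fun z => by
    obtain ⟨i, w, hw⟩ := m.exists_eq z
    refine ⟨Sigma.ι m.X i w, ?_⟩
    change (Sigma.ι m.X i ≫ Limits.Sigma.desc m.f) w = z
    rw [Sigma.ι_desc]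
    exact hw⟩
  let p₀ : (yon S).obj A₀ ⟶ X := (yon S).map q₀ ≫ fst
  let a₀ : A₀ ⟶ T := q₀ ≫ v ≫ cS
  have ha₀ : (yon S).map a₀ = p₀ ≫ x := by
    simp only [a₀, p₀, Functor.map_comp, Category.assoc]; rw [← sq.w]
  let B : CommRingCat.{u} := Γ(A₀.left, ⊤)
  obtain ⟨αr, hαr⟩ : ∃ αr : O ⟶ B, Spec.map αr = A₀.left.isoSpec.inv ≫ a₀.left :=
    ⟨Spec.preimage _, Spec.map_preimage _⟩
  let A : Over S := Over.mk (Spec.map αr ≫ oS)
  let iA : A ≅ A₀ := Over.isoMk A₀.left.isoSpec.symm (by
    change A₀.left.isoSpec.inv ≫ A₀.hom = Spec.map αr ≫ oS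
    rw [hαr, Category.assoc]
    exact congrArg _ (Over.w a₀).symm)
  let p : (yon S).obj A ⟶ X := (yon S).map iA.hom ≫ p₀
  let a : A ⟶ T := Over.homMk (Spec.map αr) rfl
  have hia : iA.hom ≫ a₀ = a := Over.OverMorphism.ext hαr.symm
  have hpf : RepWith @Flat p :=
    repWith_comp (repWith_yon_map (inferInstanceAs (Flat A₀.left.isoSpec.inv)))
      (repWith_comp (repWith_yon_map (inferInstance : Flat q₀.left)) (repWith_of_isPullback sq.flip (repWith_yon_map hcf)))
  have hpl : RepWith @LocallyOfFinitePresentation p :=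
    repWith_comp (repWith_yon_map (inferInstanceAs (LocallyOfFinitePresentation A₀.left.isoSpec.inv)))
      (repWith_comp (repWith_yon_map (inferInstance : LocallyOfFinitePresentation q₀.left))
        (repWith_of_isPullback sq.flip (repWith_yon_map hcl)))
  have hps : RepWith @Surjective p :=
    repWith_comp (repWith_yon_map (inferInstanceAs (Surjective A₀.left.isoSpec.inv)))
      (repWith_comp (repWith_yon_map hq₀s) (repWith_of_isPullback sq.flip (repWith_yon_map hcsurj)))
  have hpx : p ≫ x = (yon S).map a := by rw [← hia, Functor.map_comp, Category.assoc, ha₀]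
  -- the kernel pair of the chart is affine
  obtain ⟨R₀, r₁, r₂, hR⟩ := exists_isPullback_yon hpf.1 p
  have hR₁x : r₁ ≫ a = r₂ ≫ a := (yon S).map_injective (by
    simp only [Functor.map_comp, ← hpx, reassoc_of% hR.w])
  have hRa : IsPullback ((yon S).map r₁) ((yon S).map r₂) ((yon S).map a) ((yon S).map a) := by
    refine IsPullback.of_isLimit' ⟨by rw [← hpx, reassoc_of% hR.w]⟩ (PullbackCone.IsLimit.mk _
      (fun s => hR.lift s.fst s.snd ((cancel_mono x).1 (by
        rw [Category.assoc s.fst p x, Category.assoc s.snd p x, hpx]; exact s.condition)))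
      (fun s => hR.lift_fst _ _ _) (fun s => hR.lift_snd _ _ _)
      (fun s l h1 h2 => hR.hom_ext (by rw [hR.lift_fst, h1]) (by rw [hR.lift_snd, h2])))
  have : IsAffine A.left := inferInstanceAs (IsAffine (Spec B))
  have hR₀ : IsAffine R₀.left := IsAffine.of_isIso (isPullback_left (isPullback_of_yon_map hRa)).isoPullback.hom
  -- the equalizer algebra
  let C : CommRingCat.{u} := Γ(R₀.left, ⊤)
  obtain ⟨ε₁, hε₁⟩ : ∃ ε : B ⟶ C, R₀.left.isoSpec.hom ≫ Spec.map ε = r₁.left :=
    ⟨Spec.preimage (R₀.left.isoSpec.inv ≫ r₁.left), by rw [Spec.map_preimage, Iso.hom_inv_id_assoc]⟩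
  obtain ⟨ε₂, hε₂⟩ : ∃ ε : B ⟶ C, R₀.left.isoSpec.hom ≫ Spec.map ε = r₂.left :=
    ⟨Spec.preimage (R₀.left.isoSpec.inv ≫ r₂.left), by rw [Spec.map_preimage, Iso.hom_inv_id_assoc]⟩
  have hε : αr ≫ ε₁ = αr ≫ ε₂ := Spec.map_injective ((cancel_epi R₀.left.isoSpec.hom).1 (by
    rw [Spec.map_comp, Spec.map_comp, reassoc_of% hε₁, reassoc_of% hε₂]
    exact congrArg CommaMorphism.left hR₁x))
  algebraize [αr.hom, (αr ≫ ε₁).hom]
  let e₁ : B →ₐ[O] C := { ε₁.hom with commutes' := fun _ => rfl }
  let e₂ : B →ₐ[O] C := { ε₂.hom with commutes' := fun r =>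
    (congrArg (fun φ : O ⟶ C => φ.hom r) hε).symm }
  let E := AlgHom.equalizer e₁ e₂
  let β : O ⟶ CommRingCat.of E := CommRingCat.ofHom (algebraMap O E)
  let P : Over S := Over.mk (Spec.map β ≫ oS)
  let b : P ⟶ T := Over.homMk (Spec.map β) rfl
  let ιE : CommRingCat.of E ⟶ B := CommRingCat.ofHom E.val.toRingHom
  have hιβ : β ≫ ιE = αr := rfl
  let π : A ⟶ P := Over.homMk (Spec.map ιE) (by
    change Spec.map ιE ≫ Spec.map β ≫ oS = Spec.map αr ≫ oS
    rw [← Category.assoc, ← Spec.map_comp, hιβ])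
  have hπb : π ≫ b = a := Over.OverMorphism.ext (by
    change Spec.map ιE ≫ Spec.map β = Spec.map αr
    rw [← Spec.map_comp, hιβ])
  have hrπ : r₁ ≫ π = r₂ ≫ π := by
    apply Over.OverMorphism.ext
    change r₁.left ≫ Spec.map ιE = r₂.left ≫ Spec.map ιE
    rw [← hε₁, ← hε₂, Category.assoc, Category.assoc, ← Spec.map_comp, ← Spec.map_comp]
    congr 2
    exact CommRingCat.hom_ext (RingHom.ext fun y => y.2)
  -- the comparison map
  have hls : Sheaf.IsLocallySurjective p := isLocallySurjective_of_repWith hpf hpl hps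
  have : Epi p := inferInstance
  obtain ⟨φ, hφ⟩ := exists_desc_of_epi p hR ((yon S).map π) (by
    rw [← Functor.map_comp, hrπ, Functor.map_comp])
  have hφb : φ ≫ (yon S).map b = x := by
    rw [← cancel_epi p, reassoc_of% hφ, ← Functor.map_comp, hπb, hpx]
  -- base change of the comparison map
  obtain ⟨PW, pc, pw, ψ, hP, hψ, hψ1, hψ2⟩ : ∃ (PW : Over S) (pc : PW ⟶ P) (pw : PW ⟶ W₁) (ψ : V ⟶ PW),
      IsPullback pc pw b cS ∧ IsOpenImmersion ψ.left ∧ fst ≫ φ = (yon S).map (ψ ≫ pc) ∧ ψ ≫ pw = v := by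
    algebraize [c.hom]
    have : Module.Flat O O' := by
      have h2 : Flat cS.left := hcf
      rw [hcS, HasRingHomProperty.Spec_iff (P := @Flat)] at h2
      exact h2
    let PWr : CommRingCat.{u} := CommRingCat.of (O' ⊗[O] E)
    let AWr : CommRingCat.{u} := CommRingCat.of (O' ⊗[O] B)
    let CWr : CommRingCat.{u} := CommRingCat.of (O' ⊗[O] C)
    let PW : Over S := Over.mk (Spec.map (CommRingCat.ofHom (algebraMap O' (O' ⊗[O] E))) ≫ W₁.hom)
    let AW : Over S := Over.mk (Spec.map (CommRingCat.ofHom (algebraMap O' (O' ⊗[O] B))) ≫ W₁.hom)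
    have hP0 := isPullback_SpecMap_of_isPushout _ _ _ _ (CommRingCat.isPushout_tensorProduct O O' E).flip
    have hA0 := isPullback_SpecMap_of_isPushout _ _ _ _ (CommRingCat.isPushout_tensorProduct O O' B).flip
    let pw : PW ⟶ W₁ := Over.homMk (Spec.map (CommRingCat.ofHom (algebraMap O' (O' ⊗[O] E)))) rfl
    let aw : AW ⟶ W₁ := Over.homMk (Spec.map (CommRingCat.ofHom (algebraMap O' (O' ⊗[O] B)))) rfl
    let pc : PW ⟶ P := Over.homMk (Spec.map (CommRingCat.ofHom
      (Algebra.TensorProduct.includeRight (R := O) (A := O') (B := E)).toRingHom)) (by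
        change _ ≫ Spec.map β ≫ oS = _ ≫ Spec.map c ≫ oS
        rw [← Category.assoc, ← Category.assoc]
        exact congrArg (· ≫ oS) hP0.w)
    let ac : AW ⟶ A := Over.homMk (Spec.map (CommRingCat.ofHom
      (Algebra.TensorProduct.includeRight (R := O) (A := O') (B := B)).toRingHom)) (by
        change _ ≫ Spec.map αr ≫ oS = _ ≫ Spec.map c ≫ oS
        rw [← Category.assoc, ← Category.assoc]
        exact congrArg (· ≫ oS) hA0.w)
    have hP : IsPullback pc pw b cS := IsPullback.of_map (Over.forget S)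
      (Over.OverMorphism.ext (by rw [Over.comp_left, Over.comp_left, hcS]; exact hP0.w))
      (by
        change IsPullback _ _ (Spec.map β) (cS.left)
        rw [hcS]
        exact hP0)
    have hA : IsPullback ac aw a cS := IsPullback.of_map (Over.forget S)
      (Over.OverMorphism.ext (by rw [Over.comp_left, Over.comp_left, hcS]; exact hA0.w))
      (by
        change IsPullback _ _ (Spec.map αr) (cS.left)
        rw [hcS]
        exact hA0)
    let θ : PWr ⟶ AWr := CommRingCat.ofHom
      (Algebra.TensorProduct.map (AlgHom.id O O') E.val).toRingHom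
    let πW : AW ⟶ PW := Over.homMk (Spec.map θ) (by
      change Spec.map θ ≫ Spec.map _ ≫ W₁.hom = Spec.map _ ≫ W₁.hom
      rw [← Category.assoc, ← Spec.map_comp]
      congr 2)
    have hπW : πW ≫ pc = ac ≫ π := by
      apply Over.OverMorphism.ext
      change Spec.map θ ≫ Spec.map _ = Spec.map _ ≫ Spec.map ιE
      rw [← Spec.map_comp, ← Spec.map_comp]
      congr 1
    have hπW' : πW ≫ pw = aw := by
      apply Over.OverMorphism.ext
      change Spec.map θ ≫ Spec.map _ = Spec.map _
      rw [← Spec.map_comp]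
      congr 1
    -- the map to `PW`
    obtain ⟨ψ, hψ⟩ := (yon S).map_surjective ((isPullback_yon_map hP).lift (fst ≫ φ) ((yon S).map v)
      (by rw [Category.assoc, hφb, sq.w]))
    have hψ1 : fst ≫ φ = (yon S).map (ψ ≫ pc) := by
      rw [Functor.map_comp, hψ, IsPullback.lift_fst]
    have hψ2 : ψ ≫ pw = v := (yon S).map_injective (by rw [Functor.map_comp, hψ, IsPullback.lift_snd])
    refine ⟨PW, pc, pw, ψ, hP, ?_, hψ1, hψ2⟩
    -- the chart of `V`
    have hAy := isPullback_yon_map hA
    obtain ⟨α', hα'1, hα'2⟩ : ∃ l : AW ⟶ V, (yon S).map l ≫ fst = (yon S).map ac ≫ p ∧ l ≫ v = aw := by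
      obtain ⟨l, hl⟩ := (yon S).map_surjective (sq.lift ((yon S).map ac ≫ p) ((yon S).map aw)
        (by rw [Category.assoc, hpx, hAy.w]))
      exact ⟨l, by rw [hl, IsPullback.lift_fst],
        (yon S).map_injective (by rw [Functor.map_comp, hl, IsPullback.lift_snd])⟩
    have hα : IsPullback ((yon S).map ac) ((yon S).map α') p fst := by
      refine IsPullback.of_bot (h₃₁ := (yon S).map cS) (v₂₁ := (yon S).map v) (v₂₂ := x) ?_
        hα'1.symm sq
      rw [← Functor.map_comp, hα'2, hpx]
      exact hAy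
    have : Flat α'.left := hpf.2 _ _ _ hα
    have : LocallyOfFinitePresentation α'.left := hpl.2 _ _ _ hα
    have : Surjective α'.left := hps.2 _ _ _ hα
    have : Epi α'.left := by
      have := hV
      have : IsAffine AW.left := inferInstanceAs (IsAffine (Spec _))
      have : IsSeparated (α'.left ≫ terminal.from V.left) := by
        rw [terminal.comp_from]; infer_instance
      infer_instance
    have hαψ : α' ≫ ψ = πW := by
      apply hP.hom_ext
      · refine (yon S).map_injective ?_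
        rw [Category.assoc, Functor.map_comp, ← hψ1, reassoc_of% hα'1, hφ, hπW, Functor.map_comp]
      · rw [Category.assoc, hψ2, hα'2, hπW']
    -- the inverse
    let RW : Over S := Over.mk (Spec.map (CommRingCat.ofHom (algebraMap O' (O' ⊗[O] C))) ≫ W₁.hom)
    let u₁r : AWr ⟶ CWr := CommRingCat.ofHom (Algebra.TensorProduct.map (AlgHom.id O O') e₁).toRingHom
    let u₂r : AWr ⟶ CWr := CommRingCat.ofHom (Algebra.TensorProduct.map (AlgHom.id O O') e₂).toRingHom
    let u₁ : RW ⟶ AW := Over.homMk (Spec.map u₁r) (by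
      change Spec.map u₁r ≫ Spec.map _ ≫ W₁.hom = Spec.map _ ≫ W₁.hom
      rw [← Category.assoc, ← Spec.map_comp]
      congr 2
      exact CommRingCat.hom_ext (RingHom.ext fun r => by
        change Algebra.TensorProduct.map (AlgHom.id O O') e₁ (r ⊗ₜ 1) = r ⊗ₜ 1
        simp))
    let u₂ : RW ⟶ AW := Over.homMk (Spec.map u₂r) (by
      change Spec.map u₂r ≫ Spec.map _ ≫ W₁.hom = Spec.map _ ≫ W₁.hom
      rw [← Category.assoc, ← Spec.map_comp]
      congr 2
      exact CommRingCat.hom_ext (RingHom.ext fun r => by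
        change Algebra.TensorProduct.map (AlgHom.id O O') e₂ (r ⊗ₜ 1) = r ⊗ₜ 1
        simp))
    let incC : C ⟶ CWr := CommRingCat.ofHom
      (Algebra.TensorProduct.includeRight (R := O) (A := O') (B := C)).toRingHom
    obtain ⟨rc, hrc1, hrc2⟩ : ∃ rc : RW ⟶ R₀, rc ≫ r₁ = u₁ ≫ ac ∧ rc ≫ r₂ = u₂ ≫ ac := by
      have q1 : (Spec.map incC ≫ R₀.left.isoSpec.inv) ≫ r₁.left = (u₁ ≫ ac).left := by
        change _ = Spec.map u₁r ≫ Spec.map _
        rw [← hε₁, Category.assoc, Iso.inv_hom_id_assoc, ← Spec.map_comp, ← Spec.map_comp]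
        congr 1
      have q2 : (Spec.map incC ≫ R₀.left.isoSpec.inv) ≫ r₂.left = (u₂ ≫ ac).left := by
        change _ = Spec.map u₂r ≫ Spec.map _
        rw [← hε₂, Category.assoc, Iso.inv_hom_id_assoc, ← Spec.map_comp, ← Spec.map_comp]
        congr 1
      refine ⟨Over.homMk (Spec.map incC ≫ R₀.left.isoSpec.inv) ?_, Over.OverMorphism.ext q1,
        Over.OverMorphism.ext q2⟩
      rw [← Over.w r₁, ← Category.assoc, q1, Over.w (u₁ ≫ ac)]
    have hu : u₁ ≫ aw = u₂ ≫ aw := by
      apply Over.OverMorphism.ext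
      change Spec.map u₁r ≫ Spec.map _ = Spec.map u₂r ≫ Spec.map _
      rw [← Spec.map_comp, ← Spec.map_comp]
      congr 1
      exact CommRingCat.hom_ext (RingHom.ext fun r => by
        change Algebra.TensorProduct.map (AlgHom.id O O') e₁ (r ⊗ₜ 1) =
          Algebra.TensorProduct.map (AlgHom.id O O') e₂ (r ⊗ₜ 1)
        simp)
    have hcoeq : u₁ ≫ α' = u₂ ≫ α' := by
      refine (yon S).map_injective (sq.hom_ext ?_ ?_)
      · have e0 : (yon S).map (u₁ ≫ ac) ≫ p = (yon S).map (u₂ ≫ ac) ≫ p := by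
          rw [← hrc1, ← hrc2, Functor.map_comp, Functor.map_comp, Category.assoc, Category.assoc, hR.w]
        simp only [Functor.map_comp, Category.assoc, hα'1] at e0 ⊢
        exact e0
      · simp only [← Functor.map_comp, Category.assoc, hα'2, hu]
    have := hV
    obtain ⟨ar, har⟩ : ∃ ar : Γ(V.left, ⊤) ⟶ AWr, Spec.map ar = α'.left ≫ V.left.toSpecΓ :=
      ⟨Spec.preimage _, Spec.map_preimage _⟩
    have har' : ar ≫ u₁r = ar ≫ u₂r := Spec.map_injective (by
      rw [Spec.map_comp, Spec.map_comp, har, ← Category.assoc, ← Category.assoc]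
      exact congrArg (· ≫ V.left.toSpecΓ) (congrArg CommaMorphism.left hcoeq))
    have hinj : Function.Injective θ.hom := injective_map_equalizer e₁ e₂
    have hex : ∀ y, ∃ z, θ.hom z = ar.hom y := fun y =>
      exists_map_equalizer e₁ e₂ (congrArg (fun f : Γ(V.left, ⊤) ⟶ CWr => f.hom y) har')
    choose z hz using hex
    let ν : Γ(V.left, ⊤) ⟶ PWr := CommRingCat.ofHom
      { toFun := z
        map_one' := hinj (by rw [hz, map_one, map_one])
        map_mul' := fun y y' => hinj (by rw [map_mul, hz, hz, hz, map_mul])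
        map_zero' := hinj (by rw [hz, map_zero, map_zero])
        map_add' := fun y y' => hinj (by rw [map_add, hz, hz, hz, map_add]) }
    have hν : ν ≫ θ = ar := CommRingCat.hom_ext (RingHom.ext hz)
    have hmono : ∀ {D : CommRingCat.{u}} (f g : D ⟶ PWr), f ≫ θ = g ≫ θ → f = g := fun f g h =>
      CommRingCat.hom_ext (RingHom.ext fun y => hinj (congrArg (fun f : _ ⟶ AWr => f.hom y) h))
    let ψr : PWr ⟶ Γ(V.left, ⊤) := (Scheme.ΓSpecIso PWr).inv ≫ ψ.left.appTop
    have hψr : V.left.toSpecΓ ≫ Spec.map ψr = ψ.left := by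
      rw [Spec.map_comp, ← reassoc_of% (Scheme.toSpecΓ_naturality ψ.left)]
      exact (congrArg (ψ.left ≫ ·) (toSpecΓ_SpecMap_ΓSpecIso_inv PWr)).trans (Category.comp_id _)
    have hψl : α'.left ≫ ψ.left = Spec.map θ := congrArg CommaMorphism.left hαψ
    have e1 : ψr ≫ ar = θ := Spec.map_injective (by rw [Spec.map_comp, har, Category.assoc, hψr, hψl])
    have e2 : ψr ≫ ν = 𝟙 _ := hmono _ _ (by rw [Category.assoc, hν, e1, Category.id_comp])
    have e3 : V.left.toSpecΓ ≫ Spec.map (ν ≫ ψr) = V.left.toSpecΓ := by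
      rw [← cancel_epi α'.left, ← Category.assoc, ← har, ← Spec.map_comp, Category.assoc, e1, hν]
    have e4 : ν ≫ ψr = 𝟙 _ := by
      have h1 := congrArg Scheme.Hom.appTop e3
      simp only [Scheme.Hom.comp_appTop, Scheme.toSpecΓ_appTop, Scheme.ΓSpecIso_naturality] at h1
      exact (cancel_epi (Scheme.ΓSpecIso _).hom).1 (by rw [h1, Category.comp_id])
    have : IsIso ψr := ⟨ν, e2, e4⟩
    rw [← hψr]
    infer_instance
  -- the subsheaf is the open subscheme of image points
  have hbc : IsPullback fst ((yon S).map ψ) φ ((yon S).map pc) := by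
    refine IsPullback.of_bot (h₃₁ := (yon S).map cS) (v₂₁ := (yon S).map pw) (v₂₂ := (yon S).map b) ?_
      (by rw [hψ1, Functor.map_comp]) (isPullback_yon_map hP)
    rw [← Functor.map_comp, hψ2, hφb]
    exact sq
  have : Mono φ := mono_of_mono_fac hφb
  have hPl := isPullback_left hP
  have : Flat pc.left := MorphismProperty.of_isPullback hPl.flip hcf
  have : LocallyOfFinitePresentation pc.left := MorphismProperty.of_isPullback hPl.flip hcl
  have : Surjective pc.left := MorphismProperty.of_isPullback hPl.flip hcsurj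
  have := hψ
  let U : P.left.Opens := ⟨Set.range (ψ.left ≫ pc.left), by
    exact (ψ.left ≫ pc.left).isOpenMap.isOpen_range⟩
  let Q : Over S := Over.mk (U.ι ≫ P.hom)
  let z : Q ⟶ P := Over.homMk U.ι rfl
  have hU : pc.left ⁻¹ᵁ U = ψ.left.opensRange := by
    ext w
    constructor
    · rintro ⟨u, hu⟩
      have e1 : Points.map φ (Points.map fst (Points.schemeHomeo V u)) =
          Points.map ((yon S).map pc) (Points.schemeHomeo PW w) := by
        rw [← Points.map_comp, hψ1, Points.map_yon_map_apply, Points.map_yon_map_apply]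
        exact congrArg _ hu
      obtain ⟨y, -, hy⟩ := points_exists_of_isPullback hbc _ _ e1
      obtain ⟨u', rfl⟩ := (Points.schemeHomeo V).surjective y
      rw [Points.map_yon_map_apply] at hy
      exact ⟨u', (Points.schemeHomeo PW).injective hy⟩
    · rintro ⟨u, rfl⟩; exact ⟨u, rfl⟩
  let QW : Over S := Over.mk ((pc.left ⁻¹ᵁ U).ι ≫ PW.hom)
  let d : QW ⟶ Q := Over.homMk (pc.left ∣_ U) (by
    change pc.left ∣_ U ≫ U.ι ≫ P.hom = (pc.left ⁻¹ᵁ U).ι ≫ PW.hom
    rw [morphismRestrict_ι_assoc, Over.w pc])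
  let e : QW ⟶ V := Over.homMk (IsOpenImmersion.lift ψ.left (pc.left ⁻¹ᵁ U).ι (by
      rw [Scheme.Opens.range_ι, hU]; rfl)) (by
    change _ ≫ V.hom = (pc.left ⁻¹ᵁ U).ι ≫ PW.hom
    rw [← Over.w ψ, IsOpenImmersion.lift_fac_assoc])
  -- the map to the open subscheme
  let g : A ⟶ Q := Over.homMk (IsOpenImmersion.lift U.ι π.left (by
      rintro _ ⟨t, rfl⟩
      rw [Scheme.Opens.range_ι]
      obtain ⟨y, hy⟩ : ∃ y : ↥V.left, Points.map fst (Points.schemeHomeo V y) = Points.map p (Points.schemeHomeo A t) := by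
        obtain ⟨w, hw⟩ := (repWith_yon_map (P := @Surjective) hcsurj |> surjective_map_of_repWith)
          (Points.map x (Points.map p (Points.schemeHomeo A t)))
        obtain ⟨y, hy, -⟩ := points_exists_of_isPullback sq _ w hw.symm
        obtain ⟨y', rfl⟩ := (Points.schemeHomeo V).surjective y
        exact ⟨y', hy⟩
      refine ⟨y, (Points.schemeHomeo P).injective ?_⟩
      change Points.schemeHomeo P ((ψ ≫ pc).left y) = _
      rw [← Points.map_yon_map_apply, ← hψ1, Points.map_comp, hy, ← Points.map_comp, hφ, Points.map_yon_map_apply]))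
    (by
      change _ ≫ U.ι ≫ P.hom = A.hom
      rw [IsOpenImmersion.lift_fac_assoc, Over.w π])
  have hgz : g ≫ z = π := Over.OverMorphism.ext (IsOpenImmersion.lift_fac _ _ _)
  have hzm : Mono z := Over.mono_of_mono_left (hk := (inferInstance : Mono U.ι))
  obtain ⟨φ', hφ'⟩ := exists_desc_of_epi p hR ((yon S).map g) (by
    refine (cancel_mono ((yon S).map z)).1 ?_
    rw [Category.assoc, Category.assoc, ← Functor.map_comp, hgz, ← Functor.map_comp, hrπ, Functor.map_comp])
  have hφz : φ' ≫ (yon S).map z = φ := by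
    rw [← cancel_epi p, reassoc_of% hφ', hφ, ← Functor.map_comp, hgz]
  have : Mono φ' := mono_of_mono_fac hφz
  have he : ((yon S).map e ≫ fst) ≫ φ' = (yon S).map d := by
    rw [← cancel_mono ((yon S).map z), Category.assoc, Category.assoc, hφz, hψ1, ← Functor.map_comp,
      ← Functor.map_comp]
    congr 1
    apply Over.OverMorphism.ext
    change IsOpenImmersion.lift _ _ _ ≫ ψ.left ≫ pc.left = pc.left ∣_ U ≫ U.ι
    rw [IsOpenImmersion.lift_fac_assoc, morphismRestrict_ι]
  have hd : Sheaf.IsLocallySurjective ((yon S).map d) := isLocallySurjective_of_repWith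
    (repWith_yon_map (IsZariskiLocalAtTarget.restrict (P := @Flat) ‹Flat pc.left› U))
    (repWith_yon_map (IsZariskiLocalAtTarget.restrict (P := @LocallyOfFinitePresentation) ‹_› U))
    (repWith_yon_map (IsZariskiLocalAtTarget.restrict (P := @Surjective) ‹_› U))
  rw [← he] at hd
  haveI : Presheaf.IsLocallySurjective (J S) (((yon S).map e ≫ fst).hom ≫ φ'.hom) := hd
  have : IsIso φ' := isIso_of_mono_of_locallySurjective φ'
    (Presheaf.isLocallySurjective_of_isLocallySurjective (J S) ((yon S).map e ≫ fst).hom φ'.hom)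
  have : CompactSpace ↥Q.left := by
    have := hV.toCompactSpace
    exact isCompact_iff_compactSpace.1 (isCompact_range (ψ.left ≫ pc.left).continuous)
  have : IsAffine P.left := inferInstanceAs (IsAffine (Spec (CommRingCat.of E)))
  exact ⟨Q, Scheme.IsQuasiAffine.of_isImmersion U.ι, ⟨(asIso φ').symm⟩⟩

end Groth.Agent.ASp
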