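import Groth.Agent.ASp.FlatQuot
import Groth.Agent.ASp.Bootstrap
import Groth.Agent.ASp.FppfSrcLocal
import Groth.Agent.ASp.FppfGlue
import Groth.Agent.ASp.Coprod
/-!
Factorisation of a morphism with flat kernel pair as an fppf covering followed by a monomorphism.
-/

set_option backward.isDefEq.respectTransparency false
set_option backward.isDefEq.respectTransparency.types false

universe u

open CategoryTheory CategoryTheory.Limits AlgebraicGeometry Opposite

namespace Groth.Agent.ASp

open _root_.AlgSp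

/-- If the kernel pair of a locally finitely presented morphism is flat over the source, the morphism
is an fppf covering followed by a monomorphism. -/
theorem exists_mono_factor {X Y : Scheme.{u}} (f : X ⟶ Y) [LocallyOfFinitePresentation f]
    [Flat (pullback.fst f f)] :
    ∃ (X' : Scheme.{u}) (f' : X ⟶ X') (f'' : X' ⟶ Y),
      Surjective f' ∧ Flat f' ∧ LocallyOfFinitePresentation f' ∧ Mono f'' ∧ f' ≫ f'' = f := by
  let T : Over Y := Over.mk (𝟙 Y)
  let U : Over Y := Over.mk f
  let R : Over Y := Over.mk (pullback.fst f f ≫ f)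
  let t : R ⟶ U := Over.homMk (pullback.fst f f) rfl
  let s : R ⟶ U := Over.homMk (pullback.snd f f) pullback.condition.symm
  let pair : ∀ {W : Over Y} (a b : W ⟶ U), ∃ r : W ⟶ R, r ≫ t = a ∧ r ≫ s = b := fun {W} a b =>
    ⟨Over.homMk (pullback.lift a.left b.left ((Over.w a).trans (Over.w b).symm))
      ((pullback.lift_fst_assoc _ _ _ _).trans (Over.w a)),
      Over.OverMorphism.ext (pullback.lift_fst _ _ _), Over.OverMorphism.ext (pullback.lift_snd _ _ _)⟩
  have h : IsEqvRel s t :=
    { injective := fun W r r' h1 h2 => Over.OverMorphism.ext (pullback.hom_ext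
        (congrArg CommaMorphism.left h1) (congrArg CommaMorphism.left h2))
      equivalence := fun W => ⟨fun a => pair a a, fun {a b} _ => pair b a, fun {a b c} _ _ => pair a c⟩ }
  haveI : Flat t.left := ‹Flat (pullback.fst f f)›
  haveI : LocallyOfFinitePresentation t.left := inferInstanceAs (LocallyOfFinitePresentation (pullback.fst f f))
  obtain ⟨p, -, hpb, hchart, -, hepi⟩ := exists_flat_presentation h
  have : Sheaf.IsLocallySurjective p := (Sheaf.isLocallySurjective_iff_epi _).2 hepi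
  obtain ⟨hpf, hpl, hps⟩ := repWith_flat_surjective_of_kernelPair p hpb
  generalize QuotSh.quot Scheme.fppfPrecoverage s t = F at p hpb hchart hepi hpf hpl hps
  have hsub : ∀ {W : Over Y} (a b : (yon Y).obj W ⟶ F), a = b := by
    intro W a b
    obtain ⟨W₁, c₁, l₁, hf₁, hp₁, hs₁, hl₁⟩ := exists_fppf_lift p a
    obtain ⟨W₂, c₂, l₂, hf₂, hp₂, hs₂, hl₂⟩ := exists_fppf_lift p ((yon Y).map c₁ ≫ b)
    refine hom_ext_fppf (ι := PUnit.{u + 1}) (U := fun _ => W₂) (c := fun _ => c₂ ≫ c₁) (fun _ => ?_) (fun _ => ?_)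
      (fun z => ⟨PUnit.unit, ?_⟩) (fun _ => ?_)
    · rw [Over.comp_left]; infer_instance
    · rw [Over.comp_left]; infer_instance
    · rw [Over.comp_left]; exact (inferInstance : Surjective (c₂.left ≫ c₁.left)).surj z
    · obtain ⟨r, hr₁, hr₂⟩ := pair (c₂ ≫ l₁) l₂
      have e := hpb.w
      rw [Functor.map_comp, Category.assoc, Category.assoc, ← hl₂, ← hl₁, ← Category.assoc, ← Functor.map_comp,
        ← hr₁, ← hr₂, Functor.map_comp, Functor.map_comp, Category.assoc, Category.assoc, e]
  have hmono : ∀ {H : Sp Y} (m : F ⟶ H), Mono m := fun {H} m => ⟨fun {G} a b _ => by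
    refine InducedCategory.hom_ext (NatTrans.ext (funext fun W => ?_))
    ext x
    exact ((J Y).uliftYonedaEquiv.{u + 1} (F := F) (X := W.unop)).symm.injective (hsub _ _)⟩
  have hF : IsAlgSpace F := isAlgSpace_of_fppfChart (IsAlgSpace.yon_obj U) hchart
  let uT : U ⟶ T := Over.homMk f (Category.comp_id f)
  obtain ⟨m, hm⟩ := exists_desc_of_epi p (r₁ := (yon Y).map t) (r₂ := (yon Y).map s) hpb ((yon Y).map uT)
    (hom_ext_yon_base _ _)
  haveI := hmono m
  have hlft : LocP @LocallyOfFiniteType m := by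
    refine locP_of_locallySurjective (P := @LocallyOfFiniteType) (g := p) ?_ (IsAlgSpace.yon_obj U) ?_
    · intro T M U V t m s k h1 h2 h3 h4 h5
      exact Groth.Agent.FppfSrc.locallyOfFiniteType_of_factor t m s k h5
    · rw [hm]
      exact locP_of_repWith (repWith_yon_map (inferInstanceAs (LocallyOfFiniteType f)))
  obtain ⟨P, u₀, v, hP⟩ : ∃ (P : Over Y) (u₀ : (yon Y).obj P ⟶ F) (v : P ⟶ T), IsPullback u₀ ((yon Y).map v) m (𝟙 _) :=
    let hr := representable_of_mono_lft_map hF (IsAlgSpace.yon_obj T) m hlft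
    ⟨hr.pullback (𝟙 _), hr.fst (𝟙 _), hr.snd (𝟙 _), hr.isPullback (𝟙 _)⟩
  haveI : IsIso u₀ := hP.isIso_fst_of_isIso
  let q : U ⟶ P := ((yon Y).preimage (p ≫ inv u₀))
  have hq : (yon Y).map q = p ≫ inv u₀ := (yon Y).map_preimage _
  have hsq : IsPullback (𝟙 _) ((yon Y).map q) p u₀ := IsPullback.of_horiz_isIso ⟨by simp [hq]⟩
  have hmul : ∀ {Q : MorphismProperty Scheme.{u}} [Q.IsStableUnderBaseChange],
      RepWith Q p → Q q.left := fun {Q} _ hQ =>
    (repWith_yon_map_iff Q q).1 (repWith_of_isPullback hsq hQ)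
  refine ⟨P.left, q.left, P.hom, hmul hps, hmul hpf, hmul hpl, ⟨fun {G} a b hab => ?_⟩, Over.w q⟩
  let G₀ : Over Y := Over.mk (a ≫ P.hom)
  let a₀ : G₀ ⟶ P := Over.homMk a rfl
  let b₀ : G₀ ⟶ P := Over.homMk b hab.symm
  exact congrArg CommaMorphism.left ((yon Y).map_injective ((cancel_mono u₀).1 (hsub ((yon Y).map a₀ ≫ u₀) ((yon Y).map b₀ ≫ u₀))))

end Groth.Agent.ASp
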