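import Groth.Agent.ASp.TopFpqc
import Groth.Agent.ASp.FppfGlue
import Groth.Agent.ASp.DecentPt
import Groth.Agent.ASp.Sheaf
import Groth.Agent.PureDescent
import Mathlib.Algebra.TrivSqZeroExt.Basic
import Mathlib.AlgebraicGeometry.Morphisms.Etale

/-!
Quasi-compact monomorphisms with universally injective functions are isomorphisms.
-/

set_option backward.isDefEq.respectTransparency false
set_option backward.isDefEq.respectTransparency.types false

universe u

open CategoryTheory CategoryTheory.Limits AlgebraicGeometry Opposite TensorProduct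

namespace Groth.Agent.ASp

open _root_.AlgSp

/-- A flat surjective morphism is injective on global functions. -/
theorem appTop_injective_of_flat_surjective {X Y : Scheme.{u}} (f : X ⟶ Y) [Flat f] [Surjective f] :
    Function.Injective f.appTop := by
  rw [injective_iff_map_eq_zero]
  intro s hs
  refine TopCat.Presheaf.section_ext Y.sheaf ⊤ s 0 fun y hy => ?_
  obtain ⟨x, rfl⟩ := f.surjective y
  algebraize [(f.stalkMap x).hom]
  have : Module.FaithfullyFlat (Y.presheaf.stalk (f x)) (X.presheaf.stalk x) :=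
    @Module.FaithfullyFlat.of_flat_of_isLocalHom _ _ _ _ _ _ _ (Flat.stalkMap f x) (f.toLRSHom.prop x)
  apply ‹RingHom.FaithfullyFlat _›.injective
  show (f.stalkMap x).hom (Y.presheaf.germ ⊤ (f x) hy s) = (f.stalkMap x).hom (Y.presheaf.germ ⊤ (f x) hy 0)
  rw [map_zero, map_zero, Scheme.Hom.germ_stalkMap_apply]
  exact (congrArg _ hs).trans (map_zero _)

/-- A fibre product of a map with itself is unchanged by composing with a monomorphism. -/
theorem isKernelPair_comp_mono {C : Type*} [Category C] {W U P T : C} {a b : W ⟶ U} {p : U ⟶ P}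
    (h : IsPullback a b p p) (m : P ⟶ T) [Mono m] : IsPullback a b (p ≫ m) (p ≫ m) :=
  IsPullback.of_isLimit' ⟨by rw [← Category.assoc, h.w, Category.assoc]⟩
    (PullbackCone.IsLimit.mk _
      (fun s => h.lift s.fst s.snd (by rw [← cancel_mono m]; simpa using s.condition))
      (fun s => h.lift_fst _ _ _) (fun s => h.lift_snd _ _ _)
      (fun s l h₁ h₂ => h.hom_ext (by simpa using h₁) (by simpa using h₂)))

/-- If `B ⟶ B ⊗[A] B` is etale and `A ⟶ B` is universally injective then `A ⟶ B` is an etale cover. -/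
theorem etale_surjective_of_univInjective (A B : Type u) [CommRing A] [CommRing B] [Algebra A B]
    (h : Pi1.UnivInjective A B)
    (he : Etale (pullback.fst (Spec.map (CommRingCat.ofHom (algebraMap A B)))
      (Spec.map (CommRingCat.ofHom (algebraMap A B))))) :
    Etale (Spec.map (CommRingCat.ofHom (algebraMap A B))) ∧
      Surjective (Spec.map (CommRingCat.ofHom (algebraMap A B))) := by
  have h1 : Etale (Spec.map (CommRingCat.ofHom (Algebra.TensorProduct.includeLeftRingHom :
      B →+* B ⊗[A] B))) := by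
    rw [← pullbackSpecIso_inv_fst A B B]
    exact (MorphismProperty.cancel_left_of_respectsIso @Etale _ _).2 he
  rw [HasRingHomProperty.Spec_iff (P := @Etale)] at h1
  haveI : Algebra.Etale B (B ⊗[A] B) := RingHom.etale_algebraMap.1 h1
  haveI := Groth.Agent.PureDescent.etale_of_tensor h B
  refine ⟨(HasRingHomProperty.Spec_iff (P := @Etale)).2 (RingHom.etale_algebraMap.2 inferInstance),
    ⟨fun p => ?_⟩⟩
  show p ∈ Set.range (PrimeSpectrum.comap (algebraMap A B))
  rw [PrimeSpectrum.mem_range_comap_iff]
  refine le_antisymm (fun x hx => ?_) Ideal.le_comap_map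
  rw [← Ideal.Quotient.eq_zero_iff_mem]
  apply h (A ⧸ p.asIdeal) |>.comp (TensorProduct.rid A (A ⧸ p.asIdeal)).symm.injective
  simp only [Function.comp_apply, map_zero, TensorProduct.rid_symm_apply, LinearMap.lTensor_tmul,
    Algebra.linearMap_apply, map_one]
  let e := (Algebra.TensorProduct.quotIdealMapEquivTensorQuot B p.asIdeal)
  apply ((TensorProduct.comm A (A ⧸ p.asIdeal) B)).injective
  rw [TensorProduct.comm_tmul, map_zero]
  have : e (Ideal.Quotient.mk _ (algebraMap A B x)) = (1 : B) ⊗ₜ[A] (Ideal.Quotient.mk p.asIdeal x) := by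
    rw [Algebra.TensorProduct.quotIdealMapEquivTensorQuot_mk]
    rw [Algebra.algebraMap_eq_smul_one, TensorProduct.smul_tmul]
    congr 1
    rw [Algebra.smul_def, mul_one]; rfl
  rw [← this, Ideal.Quotient.eq_zero_iff_mem.2 (Ideal.mem_comap.1 hx), map_zero]

variable {S : Scheme.{u}}

/-- Over an affine base, a quasi-compact monomorphism with universally injective functions
has a section. -/
theorem exists_lift_of_sections_injective {X Y : Space S} (f : X ⟶ Y)
    (hqc : IsQuasiCompactMor f.hom) [Mono f.hom]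
    (hinj : ∀ (T : Over S) (g : (yon S).obj T ⟶ Y.obj) (P : Sp S) (fst : P ⟶ X.obj)
      (snd : P ⟶ (yon S).obj T), IsPullback fst snd f.hom g →
      ∀ s : Γ(T.left, ⊤),
        (∀ (W : Over S) (a : (yon S).obj W ⟶ P) (c : W ⟶ T),
          a ≫ snd = (yon S).map c → c.left.appTop s = 0) → s = 0)
    (A : CommRingCat.{u}) (str : Spec A ⟶ S) (g : (yon S).obj (Over.mk str) ⟶ Y.obj) :
    ∃ l : (yon S).obj (Over.mk str) ⟶ X.obj, l ≫ f.hom = g := by
  let T : Over S := Over.mk str
  let P := pullback f.hom g
  have sq : IsPullback (pullback.fst f.hom g) (pullback.snd f.hom g) f.hom g := IsPullback.of_hasPullback _ _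
  have hP : IsAlgSpace P := isAlgSpace_of_isPullback Y.property.diag X.property (IsAlgSpace.yon_obj T) sq
  haveI : CompactSpace ↥T.left := inferInstanceAs (CompactSpace ↥(Spec A : Scheme.{u}))
  haveI := compactSpace_of_isQuasiCompactSp
    (hqc (IsAlgSpace.yon_obj T) (isQuasiCompactSp_yon (W := T)) g _ _ sq)
  obtain ⟨U₀, p₀, hU₀, hpe₀, hps₀⟩ := exists_affine_chart hP
  haveI := hU₀
  let U : Over S := Over.mk (U₀.left.isoSpec.inv ≫ U₀.hom)
  let e : U ⟶ U₀ := Over.homMk U₀.left.isoSpec.inv rfl
  let p : (yon S).obj U ⟶ P := (yon S).map e ≫ p₀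
  have hpe : RepWith @Etale p := repWith_comp ((repWith_yon_map_iff _ _).2
    (inferInstanceAs (Etale U₀.left.isoSpec.inv))) hpe₀
  have hps : RepWith @Surjective p := repWith_comp ((repWith_yon_map_iff _ _).2
    (inferInstanceAs (Surjective U₀.left.isoSpec.inv))) hps₀
  obtain ⟨c, hc⟩ := (yon S).map_surjective (p ≫ pullback.snd f.hom g)
  obtain ⟨φ, hφ⟩ := Spec.map_surjective c.left
  algebraize [φ.hom]
  have hofHom : CommRingCat.ofHom (algebraMap A Γ(U₀.left, ⊤)) = φ := rfl
  -- the projections of the kernel pair of `c` are etale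
  obtain ⟨W, a, b, hW⟩ := exists_isPullback_yon hpe.1 p
  haveI : Etale a.left := etale_snd hpe hW.flip
  have hWc : IsPullback ((yon S).map a) ((yon S).map b) ((yon S).map c) ((yon S).map c) := by
    rw [hc]; exact isKernelPair_comp_mono hW _
  have hWs : IsPullback a.left b.left c.left c.left :=
    isPullback_left (IsPullback.of_map_of_faithful (yon S) hWc)
  have he : Etale (pullback.fst (Spec.map φ) (Spec.map φ)) := by
    rw [hφ, ← hWs.isoPullback_inv_fst]
    exact (MorphismProperty.cancel_left_of_respectsIso @Etale _ _).2 ‹_›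
  -- universal injectivity
  have hui : Pi1.UnivInjective A Γ(U₀.left, ⊤) := by
    intro M _ _
    letI : Module (↑A)ᵐᵒᵖ M := Module.compHom M ((RingHom.id A).fromOpposite mul_comm)
    haveI : IsCentralScalar A M := ⟨fun _ _ => rfl⟩
    rw [injective_iff_map_eq_zero]
    intro x hx
    obtain ⟨m, rfl⟩ := (TensorProduct.rid A M).symm.surjective x
    rw [TensorProduct.rid_symm_apply, LinearMap.lTensor_tmul, Algebra.linearMap_apply, map_one] at hx
    let A' : CommRingCat.{u} := CommRingCat.of (TrivSqZeroExt A M)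
    let ι : A ⟶ A' := CommRingCat.ofHom (algebraMap A (TrivSqZeroExt A M))
    let T' : Over S := Over.mk (Spec.map ι ≫ str)
    let j : T' ⟶ T := Over.homMk (Spec.map ι) rfl
    have sq' : IsPullback (pullback.fst f.hom ((yon S).map j ≫ g))
        (pullback.snd f.hom ((yon S).map j ≫ g)) f.hom ((yon S).map j ≫ g) := IsPullback.of_hasPullback _ _
    let sec : Γ(T'.left, ⊤) := (Scheme.ΓSpecIso A').inv (TrivSqZeroExt.inr m : TrivSqZeroExt A M)
    have hsec : sec = 0 := by
      refine hinj T' _ _ _ _ sq' sec fun V v d hvd => ?_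
      let v' := sq.lift (v ≫ pullback.fst f.hom ((yon S).map j ≫ g)) ((yon S).map (d ≫ j)) (by
        rw [Category.assoc, sq'.w, ← Category.assoc, hvd, Functor.map_comp, Category.assoc])
      obtain ⟨V', w₀, π, hV'⟩ := exists_isPullback_yon hpe.1 v'
      haveI : Etale π.left := etale_snd hpe hV'
      haveI : Surjective π.left := hps.2 v' _ π hV'
      apply appTop_injective_of_flat_surjective π.left
      rw [map_zero]
      have hfac : w₀ ≫ c = π ≫ d ≫ j := by
        apply (yon S).map_injective
        rw [Functor.map_comp, hc, ← Category.assoc, hV'.w, Category.assoc, sq.lift_snd,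
          ← Functor.map_comp]
      have hfac' : (π.left ≫ d.left) ≫ Spec.map (CommRingCat.ofHom (algebraMap A (TrivSqZeroExt A M))) =
          w₀.left ≫ Spec.map (CommRingCat.ofHom (algebraMap A Γ(U₀.left, ⊤))) := by
        rw [hofHom, hφ]
        exact (Category.assoc _ _ _).trans (congrArg CommaMorphism.left hfac).symm
      let q := pullback.lift (π.left ≫ d.left) w₀.left hfac' ≫
        (pullbackSpecIso A (TrivSqZeroExt A M) Γ(U₀.left, ⊤)).hom
      have hq : π.left ≫ d.left = q ≫ Spec.map (CommRingCat.ofHom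
          (Algebra.TensorProduct.includeLeftRingHom :
            TrivSqZeroExt A M →+* TrivSqZeroExt A M ⊗[A] Γ(U₀.left, ⊤))) := by
        rw [← pullbackSpecIso_inv_fst A (TrivSqZeroExt A M) Γ(U₀.left, ⊤)]
        simp [q]
      have hz : (TrivSqZeroExt.inr m : TrivSqZeroExt A M) ⊗ₜ[A] (1 : Γ(U₀.left, ⊤)) = 0 := by
        have := congrArg (LinearMap.rTensor Γ(U₀.left, ⊤) (TrivSqZeroExt.inrHom A M)) hx
        simpa using this
      show (d.left.appTop ≫ π.left.appTop) sec = 0
      rw [← Scheme.Hom.comp_appTop]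
      erw [hq]
      rw [Scheme.Hom.comp_appTop]
      show q.appTop ((Spec.map (CommRingCat.ofHom (Algebra.TensorProduct.includeLeftRingHom :
            TrivSqZeroExt A M →+* TrivSqZeroExt A M ⊗[A] Γ(U₀.left, ⊤)))).appTop sec) = 0
      rw [← ConcreteCategory.comp_apply (Scheme.ΓSpecIso A').inv, ← Scheme.ΓSpecIso_inv_naturality,
        ConcreteCategory.comp_apply]
      show q.appTop ((Scheme.ΓSpecIso _).inv
        ((TrivSqZeroExt.inr m : TrivSqZeroExt A M) ⊗ₜ[A] (1 : Γ(U₀.left, ⊤)))) = 0
      rw [hz]
      erw [map_zero, map_zero]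
    have : (TrivSqZeroExt.inr m : TrivSqZeroExt A M) = 0 := by
      apply (ConcreteCategory.bijective_of_isIso (Scheme.ΓSpecIso A').inv).1
      exact hsec.trans (map_zero _).symm
    rw [TrivSqZeroExt.inr_injective (this.trans (TrivSqZeroExt.inr_zero _).symm), map_zero]
  obtain ⟨hq, hqs⟩ := etale_surjective_of_univInjective A Γ(U₀.left, ⊤) hui (by rw [hofHom]; exact he)
  rw [hofHom, hφ] at hq hqs
  haveI := hq
  obtain ⟨l, hl, -⟩ := existsUnique_glue (ι := PUnit.{u+1}) (U := fun _ => U) (c := fun _ => c)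
    (fun _ => (inferInstance : Flat c.left)) (fun _ => (inferInstance : LocallyOfFinitePresentation c.left))
    (fun t => ⟨PUnit.unit, hqs.surj t⟩) (fun _ => p ≫ pullback.fst f.hom g) (fun _ _ V gi gj hij => by
      rw [← cancel_mono f.hom]
      simp only [Category.assoc, sq.w]
      rw [← Category.assoc p, ← hc]
      rw [← Category.assoc, ← Category.assoc, ← Functor.map_comp, ← Functor.map_comp, hij])
  refine ⟨l, hom_ext_fppf (ι := PUnit.{u+1}) (U := fun _ => U) (c := fun _ => c)
    (fun _ => (inferInstance : Flat c.left)) (fun _ => (inferInstance : LocallyOfFinitePresentation c.left))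
    (fun t => ⟨PUnit.unit, hqs.surj t⟩) fun i => ?_⟩
  rw [← Category.assoc, hl i, Category.assoc, sq.w, ← Category.assoc, ← hc]

/-- A quasi-compact monomorphism with universally injective functions is an isomorphism. -/
theorem isIso_of_qc_mono_sections_injective {X Y : Space S} (f : X ⟶ Y)
    (hqc : IsQuasiCompactMor f.hom) [Mono f.hom]
    (hinj : ∀ (T : Over S) (g : (yon S).obj T ⟶ Y.obj) (P : Sp S) (fst : P ⟶ X.obj)
      (snd : P ⟶ (yon S).obj T), IsPullback fst snd f.hom g →
      ∀ s : Γ(T.left, ⊤),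
        (∀ (W : Over S) (a : (yon S).obj W ⟶ P) (c : W ⟶ T),
          a ≫ snd = (yon S).map c → c.left.appTop s = 0) → s = 0) :
    IsIso f.hom := by
  have key : ∀ (T : Over S) (g : (yon S).obj T ⟶ Y.obj), ∃ l : (yon S).obj T ⟶ X.obj, l ≫ f.hom = g := by
    intro T g
    let U : T.left.affineCover.I₀ → Over S := fun i =>
      Over.mk ((T.left.affineCover.X i).isoSpec.inv ≫ T.left.affineCover.f i ≫ T.hom)
    let c : ∀ i, U i ⟶ T := fun i =>
      Over.homMk ((T.left.affineCover.X i).isoSpec.inv ≫ T.left.affineCover.f i) (Category.assoc _ _ _)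
    choose x hx using fun i => exists_lift_of_sections_injective f hqc hinj _ _ ((yon S).map (c i) ≫ g)
    have hfl : ∀ i, Flat (c i).left := fun i =>
      (inferInstance : Flat ((T.left.affineCover.X i).isoSpec.inv ≫ T.left.affineCover.f i))
    have hfp : ∀ i, LocallyOfFinitePresentation (c i).left := fun i =>
      (inferInstance : LocallyOfFinitePresentation ((T.left.affineCover.X i).isoSpec.inv ≫ T.left.affineCover.f i))
    have hs : ∀ t : ↥T.left, ∃ i, t ∈ Set.range (c i).left := fun t => by
      obtain ⟨y, hy⟩ := T.left.affineCover.covers t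
      refine ⟨T.left.affineCover.idx t, (T.left.affineCover.X _).isoSpec.hom y, ?_⟩
      show ((T.left.affineCover.X _).isoSpec.inv ≫ T.left.affineCover.f _) _ = t
      rw [← Scheme.Hom.comp_apply, Iso.hom_inv_id_assoc, hy]
    obtain ⟨l, hl, -⟩ := existsUnique_glue (U := U) (c := c) hfl hfp hs x (fun i j V gi gj hij => by
      rw [← cancel_mono f.hom, Category.assoc, Category.assoc]
      simp only [hx]
      exact (Functor.map_comp_assoc (yon S) gi (c i) g).symm.trans
        ((congrArg (fun k => (yon S).map k ≫ g) hij).trans (Functor.map_comp_assoc (yon S) gj (c j) g)))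
    exact ⟨l, hom_ext_fppf (U := U) (c := c) hfl hfp hs fun i => by rw [← Category.assoc, hl i, hx i]⟩
  refine isIso_of_mono_of_locallySurjective f.hom (h := ?_)
  refine Presheaf.isLocallySurjective_of_surjective _ _ fun V s => ?_
  obtain ⟨x, rfl⟩ := (J S).uliftYonedaEquiv.{u+1}.surjective s
  obtain ⟨l, hl⟩ := key _ x
  exact ⟨(J S).uliftYonedaEquiv.{u+1} l,
    (show f.hom.hom.app V ((J S).uliftYonedaEquiv.{u+1} l) =
      (J S).uliftYonedaEquiv.{u+1} (l ≫ f.hom) from rfl).trans (congrArg _ hl)⟩

end Groth.Agent.ASp
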