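import Groth.Agent.ASp.ImmDesc
import Groth.Agent.ASp.Diag
import Groth.Agent.ShfQuotLib.Basic
import Groth.Agent.WLocalLib.WeakEtaleScheme
import Groth.Agent.DVRCrit.Local
import Groth.Prelude.Def_AlgSpSub

/-!
Closed subspaces of an algebraic space attached to invariant reduced closed subschemes of a chart,
and the reduced induced structure on a closed set of points.
-/

set_option backward.isDefEq.respectTransparency false
set_option backward.isDefEq.respectTransparency.types false

universe u

open CategoryTheory CategoryTheory.Limits AlgebraicGeometry Opposite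

namespace Groth.Agent.ASp

open _root_.AlgSp

variable {S : Scheme.{u}}

theorem isReduced_of_etale {X Y : Scheme.{u}} (f : X ⟶ Y) [Etale f] [IsReduced Y] : IsReduced X :=
  Groth.Agent.WLocalLib.isReduced_of_weaklyEtale_scheme f

/-- A map from a reduced scheme landing set theoretically in a closed subscheme factors through it. -/
theorem exists_lift_of_range_subset {Q Z U : Over S} [IsReduced Q.left] (j : Z ⟶ U) [IsClosedImmersion j.left]
    (f : Q ⟶ U) (h : Set.range f.left ⊆ Set.range j.left) : ∃ k : Q ⟶ Z, k ≫ j = f := by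
  haveI : IsClosedImmersion (pullback.fst f.left j.left) := MorphismProperty.pullback_fst _ _ ‹_›
  haveI : Surjective (pullback.fst f.left j.left) := ⟨fun q => by
    have : q ∈ Set.range (pullback.fst f.left j.left) := by
      rw [Scheme.Pullback.range_fst]; exact h ⟨q, rfl⟩
    exact this⟩
  haveI : IsIso (pullback.fst f.left j.left) := isIso_of_isClosedImmersion_of_surjective _
  have e : (inv (pullback.fst f.left j.left) ≫ pullback.snd f.left j.left) ≫ j.left = f.left := by
    rw [Category.assoc, ← pullback.condition, IsIso.inv_hom_id_assoc]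
  refine ⟨Over.homMk (inv (pullback.fst f.left j.left) ≫ pullback.snd f.left j.left) ?_, ?_⟩
  · rw [← Over.w j, ← Category.assoc, e, Over.w]
  · exact Over.OverMorphism.ext e

/-- An invariant closed subscheme of an etale chart is the pullback of a closed subspace. -/
theorem exists_closedSubspace_of_invariant {X : Sp S} (hX : IsAlgSpace X) {U : Over S}
    (p : (yon S).obj U ⟶ X) (hp : RepWith @Etale p) (hps : RepWith @Surjective p)
    {Z₀ : Over S} (j : Z₀ ⟶ U) (hj : IsClosedImmersion j.left)
    (hinv : ∃ (Q : Over S) (q₁ : Q ⟶ Z₀) (q₂ : Q ⟶ U), IsPullback ((yon S).map q₁) ((yon S).map q₂)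
      ((yon S).map j ≫ p) p ∧ ∃ k : Q ⟶ Z₀, k ≫ j = q₂) :
    ∃ (Z : Sp S) (i : Z ⟶ X) (e : (yon S).obj Z₀ ⟶ Z), IsAlgSpace Z ∧ RepWith @IsClosedImmersion i ∧
      IsPullback e ((yon S).map j) i p ∧ RepWith @Etale e ∧ RepWith @Surjective e := by
  let q := (yon S).map j ≫ p
  let Z : Sp S := Sheaf.image q
  let i : Z ⟶ X := Sheaf.imageι q
  let e : (yon S).obj Z₀ ⟶ Z := Sheaf.toImage q
  have he : e ≫ i = q := Sheaf.toImage_ι q
  obtain ⟨P, a, b, hP⟩ : ∃ (P : Sp S) (a : P ⟶ Z) (b : P ⟶ (yon S).obj U), IsPullback a b i p :=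
    ⟨_, _, _, IsPullback.of_hasPullback _ _⟩
  haveI : Mono b := MorphismProperty.of_isPullback (P := MorphismProperty.monomorphisms (Sp S)) hP
    (inferInstance : Mono i)
  obtain ⟨l, hla, hlb⟩ : ∃ l : (yon S).obj Z₀ ⟶ P, l ≫ a = e ∧ l ≫ b = (yon S).map j :=
    ⟨hP.lift e ((yon S).map j) he, hP.lift_fst _ _ _, hP.lift_snd _ _ _⟩
  haveI : Mono j := Over.mono_of_mono_left (hk := (inferInstance : Mono j.left))
  haveI : Mono l := mono_of_mono_fac hlb
  obtain ⟨Q, q₁, q₂, hQ, k, hk⟩ := hinv
  obtain ⟨c, hc1, hc2⟩ : ∃ c : (yon S).obj Q ⟶ P, c ≫ a = (yon S).map q₁ ≫ e ∧ c ≫ b = (yon S).map q₂ :=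
    ⟨hP.lift ((yon S).map q₁ ≫ e) ((yon S).map q₂) (by rw [Category.assoc, he]; exact hQ.w),
      hP.lift_fst _ _ _, hP.lift_snd _ _ _⟩
  haveI : Epi c := by
    refine Groth.Agent.ShfQuotLib.epi_snd_of_isPullback (fst' := (yon S).map q₁) (f := e) (g := a)
      (IsPullback.of_bot ?_ hc1.symm hP)
    rw [hc2, he]; exact hQ
  have hkl : (yon S).map k ≫ l = c := by
    rw [← cancel_mono b, Category.assoc, hlb, hc2, ← Functor.map_comp, hk]
  haveI : Epi ((yon S).map k ≫ l) := by rw [hkl]; infer_instance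
  haveI : Epi l := epi_of_epi ((yon S).map k) l
  haveI : IsIso l := isIso_of_mono_of_epi l
  have hsq : IsPullback e ((yon S).map j) i p :=
    IsPullback.of_iso hP (asIso l).symm (Iso.refl _) (Iso.refl _) (Iso.refl _) (by simp [← hla]) (by simp [← hlb])
      (by simp) (by simp)
  have hi : Representable i := by
    refine representable_of_mono_fppf fun T g => ?_
    obtain ⟨W, c, d, hW⟩ : ∃ (W : Over S) (c : W ⟶ T) (d : W ⟶ U),
        IsPullback ((yon S).map d) ((yon S).map c) p g := by
      obtain ⟨W, d, c, hW⟩ := exists_isPullback_yon hp.1 g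
      exact ⟨W, c, d, hW⟩
    have hV : IsPullback (pullback.fst j d) (pullback.snd j d) j d := IsPullback.of_hasPullback _ _
    haveI : IsClosedImmersion (pullback.snd j d).left :=
      MorphismProperty.of_isPullback (P := @IsClosedImmersion) (isPullback_left hV) hj
    haveI : Etale c.left := hp.2 g _ c hW
    refine ⟨W, c, _, pullback.snd j d, (yon S).map (pullback.fst j d) ≫ e, inferInstance, inferInstance,
      hps.2 g _ c hW, inferInstance, ?_⟩
    rw [← hW.w]
    exact (isPullback_yon_map hV).paste_horiz hsq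
  have hci : RepWith @IsClosedImmersion i := by
    haveI := Groth.Agent.FpqcDesc.isClosedImmersion_descends.{u}
    exact repWith_of_fpqc hi (fun _ => hsq) (isFpqcCover_of_chart hX hp hps)
      (fun _ => (repWith_yon_map_iff _ j).2 hj)
  have hee := repWith_of_isPullback hsq.flip hp
  have hes := repWith_of_isPullback hsq.flip hps
  exact ⟨Z, i, e, ⟨representable_diag_of_mono i hX.diag, _, e, hee, hes⟩, hci, hsq, hee, hes⟩

/-- A closed set of points of an algebraic space carries a reduced induced structure. -/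
theorem exists_redInduced {X : Sp S} (hX : IsAlgSpace X) {T : Set (Points X)} (hT : IsClosed T) :
    ∃ (Z : Sp S) (i : Z ⟶ X), IsAlgSpace Z ∧ IsRedInduced T i := by
  obtain ⟨U, p, hp, hps⟩ := hX.atlas
  let C : TopologicalSpace.Closeds U.left := ⟨Points.ofPt p ⁻¹' T, hT.preimage (Points.continuous_ofPt p)⟩
  let I := Scheme.IdealSheafData.vanishingIdeal C
  haveI : IsReduced I.subscheme := DVRCrit.isReduced_vanishingIdeal C
  let Z₀ : Over S := Over.mk (I.subschemeι ≫ U.hom)
  let j : Z₀ ⟶ U := Over.homMk I.subschemeι rfl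
  have hjc : IsClosedImmersion j.left := inferInstanceAs (IsClosedImmersion I.subschemeι)
  have hr : Set.range j.left = (C : Set U.left) := by
    change Set.range I.subschemeι = _
    rw [Scheme.IdealSheafData.range_subschemeι, Scheme.IdealSheafData.coe_support_vanishingIdeal]
  obtain ⟨R, pr₁, pr₂, hR⟩ := exists_isPullback_yon hp.1 p
  have hV : IsPullback (pullback.fst j pr₁) (pullback.snd j pr₁) j pr₁ := IsPullback.of_hasPullback _ _
  have hbig : IsPullback ((yon S).map (pullback.fst j pr₁)) ((yon S).map (pullback.snd j pr₁ ≫ pr₂))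
      ((yon S).map j ≫ p) p := by
    rw [Functor.map_comp]
    exact ((isPullback_yon_map hV).flip.paste_horiz hR.flip).flip
  haveI : Etale pr₁.left := hp.2 p _ pr₁ hR.flip
  haveI : Etale (pullback.fst j pr₁).left :=
    MorphismProperty.of_isPullback (P := @Etale) (isPullback_left hV).flip ‹_›
  haveI : IsReduced Z₀.left := inferInstanceAs (IsReduced I.subscheme)
  haveI : IsReduced (pullback j pr₁).left := isReduced_of_etale (pullback.fst j pr₁).left
  haveI := hjc
  obtain ⟨Z, i, e, hZ, hi, hsq, hee, hes⟩ := exists_closedSubspace_of_invariant hX p hp hps j hjc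
    ⟨_, _, _, hbig, exists_lift_of_range_subset j _ (by
      rintro _ ⟨v, rfl⟩
      rw [hr]
      change Points.ofPt p _ ∈ T
      rw [← ofPt_yon_map_comp, ← hbig.w, ← Category.assoc, ← Functor.map_comp, ofPt_yon_map_comp]
      refine (show _ ∈ (C : Set U.left) from hr.le ⟨(pullback.fst j pr₁).left v, ?_⟩)
      rw [Over.comp_left, Scheme.Hom.comp_apply])⟩
  refine ⟨Z, i, hZ, hi, ?_, ⟨Z₀, e, hee, hes, inferInstanceAs (IsReduced I.subscheme)⟩⟩
  apply subset_antisymm
  · rintro _ ⟨z, rfl⟩
    obtain ⟨v, rfl⟩ := surjective_ofPt hes z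
    rw [Points.map_ofPt, hsq.w, ofPt_yon_map_comp]
    exact hr.le ⟨v, rfl⟩
  · intro x hx
    obtain ⟨u, rfl⟩ := surjective_ofPt hps x
    obtain ⟨v, hv⟩ := hr.ge (show u ∈ (C : Set U.left) from hx)
    exact ⟨Points.ofPt e v, by rw [Points.map_ofPt, hsq.w, ofPt_yon_map_comp, hv]⟩

end Groth.Agent.ASp
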