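import Groth.Agent.ASp.MorCancel
import Groth.Agent.ASp.RedSub

/-!
Images and finite unions of closed subspaces proper over the base.
-/

set_option backward.isDefEq.respectTransparency false
set_option backward.isDefEq.respectTransparency.types false

universe u

open CategoryTheory CategoryTheory.Limits AlgebraicGeometry Opposite

namespace Groth.Agent.ASp

open _root_.AlgSp

variable {S : Scheme.{u}}

theorem surjective_family_baseChange {ι : Type*} {W W' : Sp S} {Wk : ι → Sp S} (c : ∀ k, Wk k ⟶ W)
    (hc : ∀ w, ∃ k, w ∈ Set.range (Points.map (c k))) (a : W' ⟶ W) (w' : Points W') :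
    ∃ k, w' ∈ Set.range (Points.map (pullback.snd (c k) a)) := by
  obtain ⟨k, x, hx⟩ := hc (Points.map a w')
  obtain ⟨y, -, hy⟩ := points_exists_of_isPullback (IsPullback.of_hasPullback (c k) a) x w' hx
  exact ⟨k, y, hy⟩

/-- Universal closedness can be tested on a finite jointly surjective family of sources. -/
theorem univClosed_of_finite_cover {ι : Type*} [Finite ι] {W Y : Sp S} {Wk : ι → Sp S} (c : ∀ k, Wk k ⟶ W)
    (hc : ∀ w, ∃ k, w ∈ Set.range (Points.map (c k))) (g : W ⟶ Y) (h : ∀ k, IsUnivClosedMor (c k ≫ g)) :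
    IsUnivClosedMor g := by
  intro T T' hT k a b sq C hC
  have e : Points.map b '' C =
      ⋃ i, Points.map (pullback.snd (c i) a ≫ b) '' (Points.map (pullback.snd (c i) a) ⁻¹' C) := by
    ext y
    simp only [Set.mem_iUnion, Set.mem_image, Set.mem_preimage]
    constructor
    · rintro ⟨x, hx, rfl⟩
      obtain ⟨i, z, rfl⟩ := surjective_family_baseChange c hc a x
      exact ⟨i, z, hx, Points.map_comp _ _ _⟩
    · rintro ⟨i, z, hz, rfl⟩
      exact ⟨_, hz, (Points.map_comp _ _ _).symm⟩
  rw [e]
  exact isClosed_iUnion_of_finite fun i => h i hT k _ _ ((IsPullback.of_hasPullback (c i) a).paste_vert sq) _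
    (hC.preimage (Points.continuous_map _))

/-- Quasi-compactness can be tested on a finite jointly surjective family of sources. -/
theorem quasiCompact_of_finite_cover {ι : Type*} [Finite ι] {W Y : Sp S} {Wk : ι → Sp S} (hW : IsAlgSpace W)
    (hY : IsAlgSpace Y) (c : ∀ k, Wk k ⟶ W)
    (hc : ∀ w, ∃ k, w ∈ Set.range (Points.map (c k))) (g : W ⟶ Y) (h : ∀ k, IsQuasiCompactMor (c k ≫ g)) :
    IsQuasiCompactMor g := by
  intro T T' hT hTc k a b sq
  have hcpt : ∀ i, IsCompact (Set.range (Points.map (pullback.snd (c i) a))) := fun i => by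
    have := compactSpace_of_isQuasiCompactSp (h i hT hTc k _ _ ((IsPullback.of_hasPullback (c i) a).paste_vert sq))
    exact isCompact_range (Points.continuous_map _)
  have : CompactSpace (Points T') := ⟨by
    have e : (Set.univ : Set (Points T')) = ⋃ i, Set.range (Points.map (pullback.snd (c i) a)) :=
      (Set.eq_univ_of_forall fun x => Set.mem_iUnion.2 (surjective_family_baseChange c hc a x)).symm
    rw [e]; exact isCompact_iUnion hcpt⟩
  exact isQuasiCompactSp_of_compactSpace (isAlgSpace_of_isPullback hY.diag hW hT sq)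

/-- A finite jointly surjective family of closed subspaces proper over the base: the whole is proper. -/
theorem proper_of_finite_closed_cover {ι : Type*} [Finite ι] {W Y : Sp S} {Wk : ι → Sp S} (hW : IsAlgSpace W)
    (hY : IsAlgSpace Y) (hWk : ∀ k, IsAlgSpace (Wk k)) (c : ∀ k, Wk k ⟶ W)
    (hci : ∀ k, RepWith @IsClosedImmersion (c k))
    (hc : ∀ w, ∃ k, w ∈ Set.range (Points.map (c k))) (g : W ⟶ Y) (hg : LocP @LocallyOfFiniteType g)
    (h : ∀ k, IsProperMor (c k ≫ g)) : IsProperMor g := by
  refine ⟨isSeparatedMor_of_univClosed_diag hW g (univClosed_of_finite_cover c hc _ fun k => ?_),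
    ⟨hg, quasiCompact_of_finite_cover hW hY c hc g fun k => (h k).2.1.2⟩,
    univClosed_of_finite_cover c hc g fun k => (h k).2.2⟩
  obtain ⟨m₁, m₂, s₁, s₂, e⟩ := exists_prodSelf (c k) g
  rw [e]
  exact univClosed_comp (isAlgSpace_pullback hY.diag (hWk k) (hWk k) _ _) (isAlgSpace_pullback hY.diag hW hW g g)
    (isProperMor_diag_of_separated (h k).1).2.2
    (univClosed_comp (isAlgSpace_pullback hY.diag hW (hWk k) _ _) (isAlgSpace_pullback hY.diag hW hW g g)
      (univSp_baseChange s₁ (repWith_le_univClosed (hci k))) (univSp_baseChange s₂ (repWith_le_univClosed (hci k))))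

/-- The image of a proper closed subspace under a map which is universally closed on it. -/
theorem exists_proper_image {Z Y B : Sp S} (hZ : IsAlgSpace Z) (hY : IsAlgSpace Y) (hB : IsAlgSpace B)
    (g : Z ⟶ Y) (b : Y ⟶ B) (hb : LocP @LocallyOfFiniteType b) (hg : IsUnivClosedMor g)
    (h : IsProperMor (g ≫ b)) :
    IsClosed (Set.range (Points.map g)) ∧ ∃ (Z' : Sp S) (i' : Z' ⟶ Y), IsAlgSpace Z' ∧
      RepWith @IsClosedImmersion i' ∧ Set.range (Points.map i') = Set.range (Points.map g) ∧
      IsProperMor (i' ≫ b) := by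
  have hT : IsClosed (Set.range (Points.map g)) := (univClosed_closed hY hg).isClosed_range
  refine ⟨hT, ?_⟩
  obtain ⟨Z', i', hZ', hi', hr, -⟩ := exists_redInduced hY hT
  refine ⟨Z', i', hZ', hi', hr, ?_⟩
  obtain ⟨W, w, f, hW⟩ : ∃ (W : Sp S) (w : W ⟶ Z) (f : W ⟶ Z'), IsPullback w f g i' :=
    ⟨_, _, _, IsPullback.of_hasPullback _ _⟩
  have hWa : IsAlgSpace W := isAlgSpace_of_isPullback hY.diag hZ hZ' hW
  have hf : Function.Surjective (Points.map f) := fun z => by
    obtain ⟨x, hx⟩ : Points.map i' z ∈ Set.range (Points.map g) := hr.le ⟨z, rfl⟩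
    obtain ⟨y, -, hy⟩ := points_exists_of_isPullback hW x z hx
    exact ⟨y, hy⟩
  have hfu : IsUnivClosedMor f := univSp_baseChange hW hg
  have hwc : RepWith @IsClosedImmersion w := repWith_of_isPullback hW.flip hi'
  have hp : IsProperMor (f ≫ i' ≫ b) := by
    rw [← reassoc_of% hW.w]
    exact proper_comp hZ hB (proper_of_closedImmersion hwc) h
  refine ⟨isSeparatedMor_of_univClosed_diag hZ' _ ?_,
    ⟨locP_comp hY (repWith_le_lft hi') hb, quasiCompact_of_comp_surjective hZ' hB f _ hp.2.1.2 hf⟩,
    univClosed_of_comp_surjective f _ hp.2.2 hf⟩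
  obtain ⟨m₁, m₂, s₁, s₂, e⟩ := exists_prodSelf f (i' ≫ b)
  refine univClosed_of_comp_surjective f _ ?_ hf
  rw [e]
  exact univClosed_comp (isAlgSpace_pullback hB.diag hWa hWa _ _) (isAlgSpace_pullback hB.diag hZ' hZ' _ _)
    (isProperMor_diag_of_separated hp.1).2.2
    (univClosed_comp (isAlgSpace_pullback hB.diag hZ' hWa _ _) (isAlgSpace_pullback hB.diag hZ' hZ' _ _)
      (univSp_baseChange s₁ hfu) (univSp_baseChange s₂ hfu))

theorem range_map_comp {A B C : Sp S} (f : A ⟶ B) (g : B ⟶ C) :
    Set.range (Points.map (f ≫ g)) = Points.map g '' Set.range (Points.map f) := by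
  rw [show Points.map (f ≫ g) = Points.map g ∘ Points.map f from funext (Points.map_comp _ _), Set.range_comp]

end Groth.Agent.ASp
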