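import Groth.Agent.ASp.FinChart
import Groth.Agent.ASp.LqfLocus
import Groth.Agent.StratX.Main
/-!
A proper morphism quasi-finite over a point is finite near that point.
-/

set_option autoImplicit false
set_option backward.isDefEq.respectTransparency false
set_option backward.isDefEq.respectTransparency.types false
set_option linter.style.haveILetI false

universe u

open CategoryTheory CategoryTheory.Limits AlgebraicGeometry Opposite

namespace Groth.Agent.ASp

open _root_.AlgSp

variable {S : Scheme.{u}}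

/-- A separated, universally closed, locally quasi-finite morphism of algebraic spaces is finite. -/
theorem isFiniteMor_of_sep_univClosed_lqf (F G : Space S) (φ : F.obj ⟶ G.obj) (hsep : IsSeparatedMor φ)
    (huc : IsUnivClosedMor φ) (hlqf : LocP (@LocallyQuasiFinite ⊓ @LocallyOfFiniteType) φ) : IsFiniteMor φ := by
  have hrep := representable_of_sep_lqf F.2 G.2 φ hlqf hsep
  refine (isFiniteMor_iff F.2 G.2).2 ⟨hrep, fun Z Q g fst snd sq => ?_⟩
  haveI : LocallyQuasiFinite snd.left := ((repWith_of_locP G.2 hrep hlqf).2 _ _ _ sq).1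
  haveI : LocallyOfFiniteType snd.left := ((repWith_of_locP G.2 hrep hlqf).2 _ _ _ sq).2
  haveI : IsSeparated snd.left := ((isSeparatedMor_iff hrep).1 hsep).2 _ _ _ sq
  haveI : UniversallyClosed snd.left := ((repWith_universallyClosed_iff hrep).2 huc).2 _ _ _ sq
  haveI : IsProper snd.left := ⟨⟩
  exact IsFinite.of_isProper_of_locallyQuasiFinite snd.left

/-- Over an open subspace avoiding the image of the bad points a proper morphism is finite. -/
theorem exists_finite_nhd_of_proper_qf {X Y : Space S} (f : X ⟶ Y) (y : Points Y.obj)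
    (hf : IsProperMor f.hom) (hq : ∀ x : Points X.obj, Points.map f.hom x = y → IsQfNbhd f.hom x) :
    ∃ (V : Space S) (j : V ⟶ Y), RepWith @IsOpenImmersion j.hom ∧ y ∈ Set.range (Points.map j.hom) ∧
      ∀ (P : Space S) (fst : P ⟶ X) (snd : P ⟶ V), IsPullback fst.hom snd.hom f.hom j.hom →
        IsFiniteMor snd.hom := by
  obtain ⟨hsep, ⟨hlft, -⟩, huc⟩ := hf
  have hclosed : IsClosedMap (Points.map f.hom) :=
    huc Y.2 (𝟙 Y.obj) (𝟙 X.obj) f.hom (IsPullback.of_horiz_isIso ⟨by simp⟩)
  let Z : Set (Points X.obj) := {x | ¬ IsQfNbhd f.hom x}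
  have hZ : IsClosed Z := by
    obtain ⟨U, V, a, b, k, ha, has, hb, -, e⟩ := Groth.Agent.Inf.exists_chart (f := f.hom) X.property Y.property
    haveI : LocallyOfFiniteType k.left := hlft a b k ha hb e
    rw [← isOpen_compl_iff, isOpen_iff_chart ha has]
    convert k.left.isOpen_quasiFiniteAt using 1
    exact Set.ext fun u => not_not.trans (isQfNbhd_iff_of_chart hlft ha hb e u)
  let I : Set (Points Y.obj) := (Points.map f.hom '' Z)ᶜ
  have hI : IsOpen I := (hclosed _ hZ).isOpen_compl
  have hyI : y ∈ I := fun ⟨x, hx, hxy⟩ => hx (hq x hxy)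
  refine ⟨StratX.subSpace Y I hI, StratX.subHom Y I hI, repWith_subι _ _ hI, (range_map_subι Y.obj I).ge hyI,
    fun P fst snd sq => ?_⟩
  have hlft' : LocP @LocallyOfFiniteType snd.hom :=
    locP_of_isPullback sq.flip X.2 Y.2 (StratX.subSpace Y I hI).2 hlft
  have hsep' : IsSeparatedMor snd.hom := by
    obtain ⟨s, h1, -⟩ := isPullback_diagonal_baseChange sq
    exact repWith_of_isPullback h1 hsep
  have huc' : IsUnivClosedMor snd.hom := fun Z Z' hZ g fst' snd' sq' =>
    huc hZ (g ≫ (StratX.subHom Y I hI).hom) (fst' ≫ fst.hom) snd' (sq'.paste_horiz sq)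
  refine isFiniteMor_of_sep_univClosed_lqf P (StratX.subSpace Y I hI) snd.hom hsep' huc' fun U V a b k ha hb e => ?_
  haveI : LocallyOfFiniteType k.left := hlft' a b k ha hb e
  refine ⟨locallyQuasiFinite_of_forall_quasiFiniteAt _ fun u => (isQfNbhd_iff_of_chart hlft' ha hb e u).1 ?_,
    inferInstance⟩
  refine (isQfNbhd_baseChange_iff hlft sq _).2 ?_
  by_contra hn
  have hmem : Points.map f.hom (Points.map fst.hom (Points.ofPt a u)) ∈ I := by
    rw [← Points.map_comp, sq.w, Points.map_comp]
    exact (range_map_subι Y.obj I).le ⟨_, rfl⟩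
  exact hmem ⟨_, hn, rfl⟩

end Groth.Agent.ASp
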