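import Groth.Agent.ASp.LqfLocus
import Groth.Agent.ASp.ChartDim
import Groth.Agent.ASp.DecentDim
import Groth.Agent.ASp.NoethFibre
import Groth.Agent.FibreDimEt.Zero
import Groth.Agent.DimFormulaLib.Field
import Groth.Agent.S1554
import Groth.Prelude.Def_Dual3
/-!
Quasi-finiteness over points of codimension at most one.
-/

set_option autoImplicit false
set_option backward.isDefEq.respectTransparency false
set_option backward.isDefEq.respectTransparency.types false
set_option linter.style.haveILetI false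

universe u

open CategoryTheory CategoryTheory.Limits AlgebraicGeometry Opposite Topology TopologicalSpace

namespace Groth.Agent.ASp

open _root_.AlgSp Groth.Agent.Inf

variable {S : Scheme.{u}}

theorem quasiFiniteAt_of_fibreDimAt_eq_zero {U V : Scheme.{u}} (h : U ⟶ V) [LocallyOfFiniteType h] (u : ↥U)
    (h0 : FlatMor.fibreDimAt h u = 0) : h.QuasiFiniteAt u := by
  by_contra hu
  have := (one_le_fibreDimAt h u hu).trans h0.le
  exact absurd this (by decide)

theorem fibreDimAt_eq_zero_of_quasiFiniteAt {U V : Scheme.{u}} (h : U ⟶ V) [LocallyOfFiniteType h] (u : ↥U)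
    (hu : h.QuasiFiniteAt u) : FlatMor.fibreDimAt h u = 0 :=
  FibreDimEt.localDim_of_isOpen_singleton (Scheme.Hom.quasiFiniteAt_iff_isOpen_singleton_asFiber.1 hu)

/-- Quasi-finiteness at the generic points passes to points over codimension at most one. -/
theorem quasiFiniteAt_of_generic {U V : Scheme.{u}} (h : U ⟶ V) [LocallyOfFiniteType h] [IsLocallyNoetherian V]
    (u : ↥U) (hdim : ringKrullDim ↥(V.presheaf.stalk (h u)) ≤ 1)
    (hg : ∀ η : ↥U, η ⤳ u → ringKrullDim ↥(U.presheaf.stalk η) = 0 → h.QuasiFiniteAt η) : h.QuasiFiniteAt u :=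
  quasiFiniteAt_of_fibreDimAt_eq_zero h u
    (Groth.Agent.S1554.result h u hdim 0 fun Z hZ hxZ η hη => fibreDimAt_eq_zero_of_quasiFiniteAt h η (hg η
      (hη.specializes hxZ) (ringKrullDim_stalk_eq_zero fun w hw => by
        have hsub : Z ⊆ closure {w} := by
          rw [← hη.def]
          exact closure_minimal (Set.singleton_subset_iff.2 hw.mem_closure) isClosed_closure
        have hwZ : w ∈ Z := hZ.2 (isIrreducible_singleton (x := w)).closure hsub (subset_closure rfl)
        exact (hw.antisymm (hη.specializes hwZ)).eq)))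

/-- A point without proper generalisation and algebraic over its image is a point of quasi-finiteness. -/
theorem quasiFiniteAt_of_resTrdeg_eq_zero {U V : Scheme.{u}} (h : U ⟶ V) [LocallyOfFiniteType h]
    [IsLocallyNoetherian V] (u : ↥U) (h0 : ringKrullDim ↥(U.presheaf.stalk u) = 0)
    (ht : Dual3.resTrdeg h u = 0) : h.QuasiFiniteAt u := by
  obtain ⟨c⟩ := DimFormulaLib.exists_chart h u
  obtain ⟨a, b, d, t, -, -, hd, ht', hloc, -, -, -, -⟩ := c.dims
  have hd0 : d = 0 := by
    have : ringKrullDim ((h.fiber (h u)).presheaf.stalk (h.asFiber u)) = 0 :=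
      ringKrullDim_stalk_eq_zero fun w hw => (h.fiberι (h u)).isEmbedding.injective (by
        rw [h.fiberι_asFiber u]
        have h1 := hw.map (h.fiberι (h u)).continuous
        rw [h.fiberι_asFiber u] at h1
        exact eq_of_ringKrullDim_stalk_eq_zero h0 h1)
    rw [hd] at this
    exact_mod_cast this
  have ht0 : t = 0 := by
    have : DimFormulaLib.resTrdegAt h u = t := c.resTrdegAt_self.trans ht'
    exact_mod_cast this.symm.trans ht
  exact quasiFiniteAt_of_fibreDimAt_eq_zero h u (by rw [hloc, hd0, ht0]; rfl)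

/-- A morphism quasi-finite at the points of codimension zero is so over the points of codimension at most one. -/
theorem isQfNbhd_of_codimLeOne {X Y : Space S} (f : X ⟶ Y) (hf : LocP @LocallyOfFiniteType f.hom)
    (hY : IsLocNoethSp Y.obj) (y : Points Y.obj)
    (hy : HasAt (fun U u => ringKrullDim ↥(U.presheaf.stalk u) ≤ 1) Y.obj y)
    (h : ∀ x : Points X.obj, HasAt (fun U u => ringKrullDim ↥(U.presheaf.stalk u) = 0) X.obj x →
      Points.map f.hom x ⤳ y → IsQfNbhd f.hom x)
    (x : Points X.obj) (hx : Points.map f.hom x = y) : IsQfNbhd f.hom x := by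
  obtain ⟨U, V, a, b, k, ha, has, hb, -, e⟩ := exists_chart (f := f.hom) X.property Y.property
  haveI : LocallyOfFiniteType k.left := hf a b k ha hb e
  haveI : IsLocallyNoetherian V.left := isLocallyNoetherian_of_chart hY hb
  obtain ⟨u, rfl⟩ := surjective_ofPt has x
  have hmap : ∀ w, Points.map f.hom (Points.ofPt a w) = Points.ofPt b (k.left w) := fun w => by
    rw [Points.map_ofPt, e, ofPt_yon_map_comp]
  obtain ⟨V₁, b₁, v₁, hb₁, hv₁, hd₁⟩ := hy
  have hdim : ringKrullDim ↥(V.left.presheaf.stalk (k.left u)) ≤ 1 :=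
    (ringKrullDim_stalk_eq_of_charts hb hb₁ (((hmap u).symm.trans hx).trans hv₁.symm)).trans_le hd₁
  refine (isQfNbhd_iff_of_chart hf ha hb e u).2 (quasiFiniteAt_of_generic k.left u hdim fun η hη hη0 => ?_)
  exact (isQfNbhd_iff_of_chart hf ha hb e η).1 (h _ ⟨U, a, η, ha, rfl, hη0⟩
    (hx ▸ (hη.map (Points.continuous_ofPt a)).map (Points.continuous_map f.hom)))

/-- A dense set of quasi-finiteness contains the points of codimension zero. -/
theorem isQfNbhd_of_dense {X Y : Space S} (f : X ⟶ Y) (hf : LocP @LocallyOfFiniteType f.hom)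
    (hY : IsLocNoethSp Y.obj) (hd : Dense {x : Points X.obj | IsQfNbhd f.hom x}) (x : Points X.obj)
    (hx : HasAt (fun U u => ringKrullDim ↥(U.presheaf.stalk u) = 0) X.obj x) : IsQfNbhd f.hom x := by
  obtain ⟨U, a, u, ha, rfl, hu⟩ := hx
  haveI : IsLocallyNoetherian U.left := isLocallyNoetherian_of_chart (isLocNoethSp_of_lft X.property hf hY) ha
  obtain ⟨V, hV, huV, -⟩ := exists_isAffineOpen_mem_and_subset (x := u) (U := (⊤ : U.left.Opens)) trivial
  haveI : IsAffine V.toScheme := hV
  haveI : AlgebraicGeometry.IsNoetherian V.toScheme := {}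
  let C : Set ↥V.toScheme := ⋃ Z ∈ {Z ∈ irreducibleComponents ↥V.toScheme | (⟨u, huV⟩ : ↥V.toScheme) ∉ Z}, Z
  have hC : IsClosed C := (TopologicalSpace.NoetherianSpace.finite_irreducibleComponents.subset fun Z hZ => hZ.1)
    |>.isClosed_biUnion fun Z hZ => isClosed_of_mem_irreducibleComponents Z hZ.1
  let O : Set ↥U.left := V.ι '' Cᶜ
  have hO : IsOpen O := V.ι.isOpenEmbedding.isOpenMap _ hC.isOpen_compl
  have huO : u ∈ O := ⟨⟨u, huV⟩, fun hmem => by
    obtain ⟨Z, hZ, hmem⟩ := Set.mem_iUnion₂.1 hmem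
    exact hZ.2 hmem, rfl⟩
  obtain ⟨_, ⟨w, hw, rfl⟩, hq⟩ := (hd.preimage (isOpenMap_ofPt_of_etale ha)).inter_open_nonempty O hO ⟨u, huO⟩
  have hspec : u ⤳ V.ι w := by
    obtain ⟨g, hg⟩ := QuasiSober.sober (isIrreducible_irreducibleComponent (x := w)) isClosed_irreducibleComponent
    have huZ : (⟨u, huV⟩ : ↥V.toScheme) ∈ irreducibleComponent w := by
      by_contra hn
      exact hw (Set.mem_iUnion₂.2 ⟨_, ⟨irreducibleComponent_mem_irreducibleComponents w, hn⟩, mem_irreducibleComponent⟩)
    have hgu : g = ⟨u, huV⟩ := V.ι.isOpenEmbedding.injective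
      (eq_of_ringKrullDim_stalk_eq_zero hu ((hg.specializes huZ).map V.ι.continuous))
    exact ((hgu ▸ hg).specializes mem_irreducibleComponent).map V.ι.continuous
  have hopen : IsOpen {x : Points X.obj | IsQfNbhd f.hom x} := by
    obtain ⟨U', V', a', b', k, ha', has', hb', -, e⟩ := exists_chart (f := f.hom) X.property Y.property
    haveI : LocallyOfFiniteType k.left := hf a' b' k ha' hb' e
    rw [isOpen_iff_chart ha' has']
    convert k.left.isOpen_quasiFiniteAt using 1
    exact Set.ext fun u => isQfNbhd_iff_of_chart hf ha' hb' e u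
  exact (hspec.map (Points.continuous_ofPt a)).mem_open hopen hq

end Groth.Agent.ASp
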