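import Groth.Agent.ASp.OneChart
import Groth.Agent.ASp.MonoFlat
import Groth.Prelude.Def_AlgSp4
/-!
A morphism of finite type has finitely many quasi-finite points in each fibre.
-/

set_option autoImplicit false
set_option backward.isDefEq.respectTransparency false
set_option backward.isDefEq.respectTransparency.types false

universe u

open CategoryTheory CategoryTheory.Limits AlgebraicGeometry Opposite TopologicalSpace

namespace Groth.Agent.ASp

open _root_.AlgSp

/-- Quasi-finite points in a fibre of a morphism of finite type of schemes are finitely many. -/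
theorem finite_quasiFiniteAt_fibre {E V : Scheme.{u}} (c : E ⟶ V) [LocallyOfFiniteType c] [QuasiCompact c] (v : ↥V) :
    {e : ↥E | c e = v ∧ c.QuasiFiniteAt e}.Finite := by
  haveI : LocallyOfFiniteType (c.fiberToSpecResidueField v) :=
    MorphismProperty.pullback_snd _ _ ‹LocallyOfFiniteType c›
  haveI : IsLocallyNoetherian (c.fiber v) := LocallyOfFiniteType.isLocallyNoetherian (c.fiberToSpecResidueField v)
  haveI : QuasiCompact (c.fiberToSpecResidueField v) :=
    MorphismProperty.pullback_snd _ _ ‹QuasiCompact c›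
  haveI : CompactSpace ↥(c.fiber v) := QuasiCompact.compactSpace_of_compactSpace (c.fiberToSpecResidueField v)
  haveI : IsNoetherian (c.fiber v) := {}
  let T : Set ↥(c.fiber v) := {t | IsOpen ({t} : Set ↥(c.fiber v))}
  haveI : DiscreteTopology ↥T := discreteTopology_iff_isOpen_singleton.2 fun t => by
    refine isOpen_induced_iff.2 ⟨{t.1}, t.2, Set.ext fun s => ?_⟩
    simp [Subtype.ext_iff]
  have hT : T.Finite := Set.finite_coe_iff.1 (NoetherianSpace.finite (α := ↥T))
  refine (hT.image (c.fiberι v)).subset ?_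
  rintro e ⟨rfl, he⟩
  exact ⟨c.asFiber e, Scheme.Hom.quasiFiniteAt_iff_isOpen_singleton_asFiber.1 he, Scheme.Hom.fiberι_asFiber _ _⟩

variable {S : Scheme.{u}}

/-- A morphism of finite type has finitely many quasi-finite points over each point. -/
theorem finite_qf_points {X Y : Space S} (f : X ⟶ Y) (hf : IsFiniteTypeMor f.hom) (y : Points Y.obj) :
    {x : Points X.obj | Points.map f.hom x = y ∧
      HasAtMor (fun U _ h u => ∃ W : U.Opens, u ∈ W ∧ LocallyQuasiFinite (W.ι ≫ h) ∧
        LocallyOfFiniteType (W.ι ≫ h)) f.hom x}.Finite := by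
  obtain ⟨V', b', hb', hbs'⟩ := Y.property.atlas
  obtain ⟨v', rfl⟩ := surjective_ofPt hbs' y
  obtain ⟨W, hW, hvW, -⟩ := exists_isAffineOpen_mem_and_subset (x := v') (U := (⊤ : V'.left.Opens)) (by simp)
  let V : Over S := Over.mk (W.ι ≫ V'.hom)
  let oV : V ⟶ V' := Over.homMk W.ι rfl
  haveI : IsAffine V.left := hW
  let b := (yon S).map oV ≫ b'
  have hb : RepWith @Etale b := repWith_comp (repWith_yon_map (inferInstanceAs (Etale W.ι))) hb'
  let v : ↥V.left := (⟨v', hvW⟩ : W.toScheme)
  have hv : Points.ofPt b v = Points.ofPt b' v' := by rw [ofPt_yon_map_comp]; rfl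
  have sq : IsPullback (pullback.fst f.hom b) (pullback.snd f.hom b) f.hom b := IsPullback.of_hasPullback _ _
  haveI : CompactSpace ↥V.left := inferInstance
  obtain ⟨E, ε, hεe, hεs, hE⟩ := hf.2 (IsAlgSpace.yon_obj V) (isQuasiCompactSp_yon (W := V)) b _ _ sq
  haveI : CompactSpace ↥E.left := hE
  obtain ⟨c, hc⟩ := (yon S).map_surjective (ε ≫ pullback.snd f.hom b)
  let g := ε ≫ pullback.fst f.hom b
  have hg : RepWith @Etale g := repWith_comp hεe (repWith_of_isPullback sq.flip hb)
  have hgc : g ≫ f.hom = (yon S).map c ≫ b := by rw [hc, Category.assoc, Category.assoc, sq.w]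
  haveI : LocallyOfFiniteType c.left := hf.1 g b c hg hb hgc
  haveI : QuasiCompact c.left := quasiCompact_of_compactSpace _
  refine ((finite_quasiFiniteAt_fibre c.left v).image (Points.ofPt g)).subset ?_
  rintro x ⟨hxy, hx⟩
  obtain ⟨X', j, hj, ⟨x', rfl⟩, hP⟩ :=
    (hasAtMor_nbhd_iff (P := (@LocallyQuasiFinite ⊓ @LocallyOfFiniteType : MorphismProperty Scheme.{u})) f x).1 hx
  obtain ⟨z, hz₁, hz₂⟩ := points_exists_of_isPullback sq (Points.map j.hom x') (Points.ofScheme V v)
    (by rw [hxy, ← Points.ofPt_eq_map_ofScheme, hv])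
  obtain ⟨e, rfl⟩ := surjective_ofPt hεs z
  rw [Points.map_ofPt] at hz₁ hz₂
  rw [← hc] at hz₂
  have hce : c.left e = v := by
    apply (Points.schemeHomeo V).injective
    rw [← Points.map_yon_map_apply]
    exact (Points.ofPt_eq_map_ofScheme _ _).symm.trans hz₂
  let s := hj.1.snd g
  have sqj := hj.1.isPullback g
  haveI : IsOpenImmersion s.left := hj.2 _ _ _ sqj
  obtain ⟨w, -, hw⟩ := points_exists_of_isPullback sqj x' (Points.ofScheme E e)
    (by rw [← Points.ofPt_eq_map_ofScheme]; exact hz₁.symm)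
  obtain ⟨w, rfl⟩ := (Points.schemeHomeo _).surjective w
  rw [Points.map_yon_map_apply] at hw
  have hw : s.left w = e := (Points.schemeHomeo E).injective hw
  have hlq : LocallyQuasiFinite (s ≫ c).left :=
    (hP (hj.1.fst g) b (s ≫ c) (repWith_of_isPullback sqj.flip hg) hb (by
      show hj.1.fst g ≫ j.hom ≫ f.hom = _
      rw [reassoc_of% sqj.w, hgc, ← Functor.map_comp_assoc])).1
  haveI := hlq
  refine ⟨e, ⟨hce, ?_⟩, hz₁⟩
  rw [← hw]
  exact Scheme.Hom.quasiFiniteAt_comp_iff_of_isOpenImmersion.1 (Scheme.Hom.quasiFiniteAt (s ≫ c).left w)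

end Groth.Agent.ASp
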