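import Groth.Agent.ASp.MonoPoint
import Groth.Agent.ASp.DecentPt
import Groth.Agent.ASp.ChartDim
/-!
Finiteness of fibre products of points at quasi-finite points.
-/

set_option autoImplicit false
set_option backward.isDefEq.respectTransparency false
set_option backward.isDefEq.respectTransparency.types false

universe u

open CategoryTheory CategoryTheory.Limits AlgebraicGeometry Opposite

namespace Groth.Agent.ASp

open _root_.AlgSp

variable {S : Scheme.{u}}

/-- A point of a scheme locally quasi-finite and of finite type over a field has finite residue extension. -/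
theorem isFinite_ptIncl {L : Type u} [Field L] {T : Scheme.{u}} (c : T ⟶ Spec (CommRingCat.of L))
    [LocallyQuasiFinite c] [LocallyOfFiniteType c] (t : ↥T) : IsFinite (T.fromSpecResidueField t ≫ c) := by
  haveI : DiscreteTopology ↥T := isDiscrete_univ_iff.1
    ((c.isDiscrete_preimage_singleton (IsLocalRing.closedPoint L)).mono
      fun z _ => Subsingleton.elim (α := ↥(Spec (CommRingCat.of L))) _ _)
  haveI := isClosed_singleton_iff_isClosedImmersion.mp (isClosed_discrete ({t} : Set ↥T))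
  exact (isFinite_iff_locallyOfFiniteType_of_jacobsonSpace (f := T.fromSpecResidueField t ≫ c)).mpr inferInstance

/-- A quasi-finite point over a monomorphic point has a representative finite over it. -/
theorem exists_finite_fieldPt {Y Z : Sp S} (g : Z ⟶ Y) (r : FieldPt Y) [Mono r.toHom] {z : Points Z}
    (hr : Points.mk r = Points.map g z)
    (hg : HasAtMor (fun U _ h u => ∃ W : U.Opens, u ∈ W ∧ LocallyQuasiFinite (W.ι ≫ h) ∧ LocallyOfFiniteType (W.ι ≫ h)) g z) :
    ∃ (T : Over S) (ζ : (yon S).obj T ⟶ Z) (c : T ⟶ r.pt) (t : ↥T.left),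
      Subsingleton ↥T.left ∧ IsFinite c.left ∧ ζ ≫ g = (yon S).map c ≫ r.toHom ∧ Points.ofPt ζ t = z := by
  obtain ⟨U, V, a, b, h, u, ha, hb, e, rfl, W, huW, hW1, hW2⟩ := hg
  haveI := hW1
  haveI := hW2
  obtain ⟨e₁, he₁⟩ := (yon S).map_surjective (hb.1.fst r.toHom)
  let e₀ := hb.1.snd r.toHom
  have sqE : IsPullback ((yon S).map e₁) ((yon S).map e₀) b r.toHom := by
    rw [he₁]; exact hb.1.isPullback r.toHom
  haveI : Etale e₀.left := hb.2 _ _ _ sqE
  obtain ⟨x, hx, -⟩ := points_exists_of_isPullback sqE (Points.ofScheme V (h.left u))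
    (Points.ofScheme r.pt (IsLocalRing.closedPoint r.K))
    (by rw [← Points.ofPt_eq_map_ofScheme, ← Points.ofPt_eq_map_ofScheme, Points.ofPt_toHom, hr, Points.map_ofPt, e,
      ofPt_yon_map_comp])
  obtain ⟨x, rfl⟩ := (Points.schemeHomeo _).surjective x
  rw [Points.map_yon_map_apply] at hx
  have hx : e₁.left x = h.left u := (Points.schemeHomeo V).injective hx
  let E := hb.1.pullback r.toHom
  let oW : Over.mk (W.ι ≫ U.hom) ⟶ U := Over.homMk W.ι rfl
  have sqT := IsPullback.of_hasPullback (oW ≫ h) (ptIncl x ≫ e₁)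
  have sqT' := isPullback_left sqT
  obtain ⟨τ, hτ, -⟩ := Scheme.Pullback.exists_preimage_pullback (f := (oW ≫ h).left) (g := (ptIncl x ≫ e₁).left)
    (⟨u, huW⟩ : W.toScheme) (IsLocalRing.closedPoint (E.left.residueField x)) (by
      show h.left u = e₁.left (E.left.fromSpecResidueField x _)
      rw [Scheme.fromSpecResidueField_apply, hx])
  let τ' := sqT'.isoPullback.inv τ
  have hτ' : (pullback.fst (oW ≫ h) (ptIncl x ≫ e₁)).left τ' = (⟨u, huW⟩ : W.toScheme) := by
    show (sqT'.isoPullback.inv ≫ (pullback.fst (oW ≫ h) (ptIncl x ≫ e₁)).left) τ = _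
    rw [IsPullback.isoPullback_inv_fst]; exact hτ
  haveI : LocallyQuasiFinite (oW ≫ h).left := hW1
  haveI : LocallyOfFiniteType (oW ≫ h).left := hW2
  haveI : LocallyQuasiFinite (pullback.snd (oW ≫ h) (ptIncl x ≫ e₁)).left :=
    MorphismProperty.of_isPullback sqT' ‹LocallyQuasiFinite (oW ≫ h).left›
  haveI : LocallyOfFiniteType (pullback.snd (oW ≫ h) (ptIncl x ≫ e₁)).left :=
    MorphismProperty.of_isPullback sqT' ‹LocallyOfFiniteType (oW ≫ h).left›
  have h1 := isFinite_ptIncl (L := ↥(E.left.residueField x)) (pullback.snd (oW ≫ h) (ptIncl x ≫ e₁)).left τ'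
  haveI := Groth.Agent.Unibranch.locallyQuasiFinite_of_etale e₀.left
  have h2 := isFinite_ptIncl (L := r.K) e₀.left x
  refine ⟨ptOver τ', (yon S).map (ptIncl τ' ≫ pullback.fst (oW ≫ h) (ptIncl x ≫ e₁) ≫ oW) ≫ a,
    ptIncl τ' ≫ pullback.snd (oW ≫ h) (ptIncl x ≫ e₁) ≫ ptIncl x ≫ e₀, IsLocalRing.closedPoint _,
    inferInstanceAs (Subsingleton ↥(Spec _)), ?_, ?_, ?_⟩
  · rw [← Category.assoc, Over.comp_left]
    haveI : IsFinite (ptIncl τ' ≫ pullback.snd (oW ≫ h) (ptIncl x ≫ e₁)).left := h1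
    haveI : IsFinite (ptIncl x ≫ e₀).left := h2
    infer_instance
  · have w := sqE.w
    rw [Category.assoc, e, ← Functor.map_comp_assoc]
    simp only [Category.assoc, pullback.condition, (yon S).map_comp]
    rw [w]
  · rw [ofPt_yon_map_comp]
    refine congrArg _ ?_
    show oW.left ((pullback.fst (oW ≫ h) (ptIncl x ≫ e₁)).left
      ((pullback (oW ≫ h) (ptIncl x ≫ e₁)).left.fromSpecResidueField τ' _)) = u
    rw [Scheme.fromSpecResidueField_apply, hτ']
    rfl

/-- Points of a fibre product over a point and a quasi-finite point are finitely many. -/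
theorem finite_points_pullback {X Y Z W : Sp S} (hY : IsAlgSpace Y) {f : X ⟶ Y} {g : Z ⟶ Y} {p : W ⟶ X} {q : W ⟶ Z}
    (hW : IsPullback p q f g) (x : Points X) (z : Points Z) (hxz : Points.map f x = Points.map g z)
    (r : FieldPt Y) [Mono r.toHom] (hr : Points.mk r = Points.map g z)
    (hg : HasAtMor (fun U _ h u => ∃ W : U.Opens, u ∈ W ∧ LocallyQuasiFinite (W.ι ≫ h) ∧ LocallyOfFiniteType (W.ι ≫ h)) g z) :
    {w : Points W | Points.map p w = x ∧ Points.map q w = z}.Finite := by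
  obtain ⟨T, ζ, c, t, hT, hc, hζ, hzt⟩ := exists_finite_fieldPt g r hr hg
  induction x using Points.ind with | h ξ =>
  obtain ⟨c', hc'⟩ := factor_of_mono hY r (ξ.map f) (by rw [hr, ← hxz]; exact Points.map_mk f ξ)
  let ξh : (yon S).obj ξ.pt ⟶ X := ξ.toHom
  have hξ : ξh ≫ f = (yon S).map (c' : ξ.pt ⟶ r.pt) ≫ r.toHom := by
    rw [← FieldPt.toHom_map]; exact hc'.symm
  obtain ⟨W₁, a₁, b₁, sq₁⟩ : ∃ (W₁ : Sp S) (a₁ : W₁ ⟶ (yon S).obj ξ.pt) (b₁ : W₁ ⟶ W), IsPullback a₁ b₁ ξh p :=
    ⟨_, _, _, IsPullback.of_hasPullback _ _⟩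
  obtain ⟨W₂, a₂, b₂, sq₂⟩ : ∃ (W₂ : Sp S) (a₂ : W₂ ⟶ (yon S).obj T) (b₂ : W₂ ⟶ W₁), IsPullback a₂ b₂ ζ (b₁ ≫ q) :=
    ⟨_, _, _, IsPullback.of_hasPullback _ _⟩
  have big : IsPullback (b₂ ≫ a₁) a₂ (ξh ≫ f) (ζ ≫ g) :=
    (sq₂.paste_vert (sq₁.flip.paste_horiz hW.flip)).flip
  rw [hξ, hζ] at big
  haveI : IsFinite (pullback.fst c' c).left :=
    MorphismProperty.of_isPullback (isPullback_left (IsPullback.of_hasPullback c' c)).flip hc
  haveI : Subsingleton ↥ξ.pt.left := inferInstanceAs (Subsingleton ↥(Spec (CommRingCat.of ξ.K)))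
  haveI : Finite ↥(pullback c' c).left := by
    haveI : DiscreteTopology ↥(pullback c' c).left := isDiscrete_univ_iff.1
      (((pullback.fst c' c).left.isDiscrete_preimage_singleton (IsLocalRing.closedPoint ξ.K)).mono
        fun s _ => Subsingleton.elim (α := ↥ξ.pt.left) _ _)
    haveI : CompactSpace ↥(ξ.map f).pt.left := inferInstanceAs (CompactSpace ↥(Spec (CommRingCat.of ξ.K)))
    haveI : CompactSpace ↥ξ.pt.left := inferInstanceAs (CompactSpace ↥(Spec (CommRingCat.of ξ.K)))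
    haveI : CompactSpace ↥(pullback c' c).left := QuasiCompact.compactSpace_of_compactSpace (pullback.fst c' c).left
    exact finite_of_compact_of_discrete
  have sqS : IsPullback ((yon S).map (pullback.fst c' c)) ((yon S).map (pullback.snd c' c))
      ((yon S).map c' ≫ r.toHom) ((yon S).map c ≫ r.toHom) := by
    have h₀ := (IsPullback.of_hasPullback c' c).map (yon S)
    refine ⟨⟨by rw [← Category.assoc, h₀.w, Category.assoc]⟩, ⟨PullbackCone.IsLimit.mk _
      (fun s => h₀.lift s.fst s.snd ((cancel_mono r.toHom).1 (by simpa using s.condition)))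
      (fun s => h₀.lift_fst _ _ _) (fun s => h₀.lift_snd _ _ _)
      (fun s m e1 e2 => h₀.hom_ext (by rw [h₀.lift_fst]; exact e1) (by rw [h₀.lift_snd]; exact e2))⟩⟩
  let i := sqS.isoIsPullback _ _ big
  refine (Set.finite_range (Points.map (i.hom ≫ b₂ ≫ b₁) ∘ Points.schemeHomeo (pullback c' c))).subset ?_
  rintro w ⟨hwx, hwz⟩
  obtain ⟨w₁, -, hw₁⟩ := points_exists_of_isPullback sq₁ (Points.ofScheme ξ.pt (IsLocalRing.closedPoint ξ.K)) w
    (by rw [← Points.ofPt_eq_map_ofScheme, Points.ofPt_toHom, hwx])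
  obtain ⟨w₂, -, hw₂⟩ := points_exists_of_isPullback sq₂ (Points.ofScheme T t) w₁
    (by rw [← Points.ofPt_eq_map_ofScheme, hzt, Points.map_comp, hw₁, hwz])
  obtain ⟨s, hs⟩ := (Points.schemeHomeo (pullback c' c)).surjective (Points.map i.inv w₂)
  refine ⟨s, ?_⟩
  rw [Function.comp_apply, hs, Points.map_comp, Points.map_comp, ← Points.map_comp i.inv i.hom, Iso.inv_hom_id,
    Points.map_id, hw₂, hw₁]

end Groth.Agent.ASp
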