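import Groth.Agent.ASp.FreeAct
import Groth.Agent.ASp.EqvQuot
import Groth.Agent.ASp.Quot
import Groth.Agent.ASp.QSBase
import Groth.Agent.ASp.Univ
import Groth.Agent.FpqcDesc.Basic
/-!
Separation properties of quotients by finite free actions.
-/

set_option autoImplicit false
set_option backward.isDefEq.respectTransparency false
set_option backward.isDefEq.respectTransparency.types false

universe u

open CategoryTheory CategoryTheory.Limits AlgebraicGeometry Opposite

namespace Groth.Agent.ASp

open _root_.AlgSp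

variable {S : Scheme.{u}}

theorem repWith_prodMap {P : MorphismProperty Scheme.{u}} [P.IsStableUnderBaseChange] [P.IsStableUnderComposition]
    {A A' B B' : Sp S} {f : A ⟶ A'} {g : B ⟶ B'} (hf : RepWith P f) (hg : RepWith P g) :
    RepWith P (prod.map f g) := by
  have s1 : IsPullback prod.fst (prod.map f (𝟙 B)) f (prod.fst : A' ⨯ B ⟶ A') :=
    IsPullback.of_isLimit' ⟨by simp⟩ (PullbackCone.IsLimit.mk _ (fun s => prod.lift s.fst (s.snd ≫ prod.snd))
      (fun s => by simp) (fun s => by apply prod.hom_ext <;> simp [s.condition]) (fun s m h1 h2 => by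
        apply prod.hom_ext
        · simpa using h1
        · simpa using h2 =≫ prod.snd))
  have s2 : IsPullback prod.snd (prod.map (𝟙 A') g) g (prod.snd : A' ⨯ B' ⟶ B') :=
    IsPullback.of_isLimit' ⟨by simp⟩ (PullbackCone.IsLimit.mk _ (fun s => prod.lift (s.snd ≫ prod.fst) s.fst)
      (fun s => by simp) (fun s => by apply prod.hom_ext <;> simp [s.condition]) (fun s m h1 h2 => by
        apply prod.hom_ext
        · simpa using h2 =≫ prod.fst
        · simpa using h1))
  have e : prod.map f g = prod.map f (𝟙 B) ≫ prod.map (𝟙 A') g := by apply prod.hom_ext <;> simp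
  rw [e]
  exact repWith_comp (repWith_of_isPullback s1 hf) (repWith_of_isPullback s2 hg)

/-- The square of an atlas, over the base, is a product. -/
theorem exists_chart_diag {Q : Sp S} {U R : Over S} {p : (yon S).obj U ⟶ Q} {t s : R ⟶ U}
    (hR : IsPullback ((yon S).map t) ((yon S).map s) p p) :
    ∃ (T : Over S) (a b : T ⟶ U) (r : R ⟶ T), IsPullback a.left b.left U.hom U.hom ∧ r ≫ a = t ∧ r ≫ b = s ∧
      IsIso (prod.lift ((yon S).map a) ((yon S).map b)) ∧
      IsPullback ((yon S).map t ≫ p) ((yon S).map r) (Limits.diag Q)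
        (prod.lift ((yon S).map a) ((yon S).map b) ≫ prod.map p p) := by
  let tU : U ⟶ Over.mk (𝟙 S) := Over.homMk U.hom (Category.comp_id _)
  have hT := IsPullback.of_hasPullback tU tU
  have hy := isPullback_yon_map hT
  let T := pullback tU tU
  let a : T ⟶ U := pullback.fst tU tU
  let b : T ⟶ U := pullback.snd tU tU
  let r : R ⟶ T := pullback.lift t s (Over.OverMorphism.ext (by
    show t.left ≫ U.hom = s.left ≫ U.hom
    rw [Over.w, Over.w]))
  have hra : r ≫ a = t := pullback.lift_fst _ _ _
  have hrb : r ≫ b = s := pullback.lift_snd _ _ _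
  have hiso : IsIso (prod.lift ((yon S).map a) ((yon S).map b)) :=
    ⟨hy.lift prod.fst prod.snd (isTerminalYonBase.hom_ext _ _),
      hy.hom_ext (by rw [Category.assoc, hy.lift_fst, prod.lift_fst, Category.id_comp])
        (by rw [Category.assoc, hy.lift_snd, prod.lift_snd, Category.id_comp]),
      by apply prod.hom_ext <;> simp [a, b]⟩
  have hta : (yon S).map r ≫ (yon S).map a = (yon S).map t := by rw [← Functor.map_comp, hra]
  have htb : (yon S).map r ≫ (yon S).map b = (yon S).map s := by rw [← Functor.map_comp, hrb]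
  refine ⟨T, a, b, r, isPullback_left hT, hra, hrb, hiso, ?_⟩
  have c1 : ∀ c : PullbackCone (Limits.diag Q) (prod.lift ((yon S).map a) ((yon S).map b) ≫ prod.map p p),
      c.snd ≫ (yon S).map a ≫ p = c.fst ∧ c.snd ≫ (yon S).map b ≫ p = c.fst := fun c => by
    have h1 := c.condition =≫ prod.fst
    have h2 := c.condition =≫ prod.snd
    simp [Limits.diag] at h1 h2
    exact ⟨h1.symm, h2.symm⟩
  refine IsPullback.of_isLimit' ⟨?_⟩ (PullbackCone.IsLimit.mk _
    (fun c => hR.lift (c.snd ≫ (yon S).map a) (c.snd ≫ (yon S).map b)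
      (by rw [Category.assoc, Category.assoc, (c1 c).1, (c1 c).2]))
    (fun c => by rw [hR.lift_fst_assoc, Category.assoc]; exact (c1 c).1)
    (fun c => hy.hom_ext (by rw [Category.assoc, hta, hR.lift_fst]) (by rw [Category.assoc, htb, hR.lift_snd]))
    (fun c m _ h2 => hR.hom_ext (by rw [hR.lift_fst, ← hta, ← h2, Category.assoc])
      (by rw [hR.lift_snd, ← htb, ← h2, Category.assoc])))
  apply prod.hom_ext
  · simp [Limits.diag, reassoc_of% hta]
  · simp [Limits.diag, reassoc_of% htb, hR.w]

/-- A monomorphism which is a finite union of closed immersions is a closed immersion. -/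
theorem isClosedImmersion_of_components {ι : Type u} [Finite ι] {R : Scheme.{u}} {X : ι → Scheme.{u}}
    (j : ∀ i, X i ⟶ R) [∀ i, IsOpenImmersion (j i)] (hj : ∀ p : ↥R, ∃ i x, j i x = p) {T : Scheme.{u}} (r : R ⟶ T)
    [Mono r] (h : ∀ i, IsClosedImmersion (j i ≫ r)) : IsClosedImmersion r := by
  haveI : SurjectiveOnStalks r := ⟨fun p => by
    obtain ⟨i, x, rfl⟩ := hj p
    have h1 := (inferInstance : SurjectiveOnStalks (j i ≫ r)).stalkMap_surjective x
    rw [Scheme.Hom.stalkMap_comp] at h1
    intro z
    obtain ⟨y, hy⟩ := h1 ((j i).stalkMap x z)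
    exact ⟨y, (ConcreteCategory.bijective_of_isIso ((j i).stalkMap x)).1 hy⟩⟩
  have hcl : IsClosedMap r := fun C hC => by
    have : r '' C = ⋃ i, (j i ≫ r) '' (j i ⁻¹' C) := by
      ext y
      simp only [Set.mem_iUnion]
      constructor
      · rintro ⟨p, hp, rfl⟩
        obtain ⟨i, x, rfl⟩ := hj p
        exact ⟨i, x, hp, Scheme.Hom.comp_apply _ _ _⟩
      · rintro ⟨i, x, hx, rfl⟩
        exact ⟨j i x, hx, (Scheme.Hom.comp_apply _ _ _).symm⟩
    rw [this]
    exact isClosed_iUnion_of_finite fun i => (j i ≫ r).isClosedEmbedding.isClosedMap _ (hC.preimage (j i).continuous)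
  haveI : IsPreimmersion r :=
    ⟨(Topology.IsClosedEmbedding.of_continuous_injective_isClosedMap r.continuous r.injective hcl).isEmbedding⟩
  exact IsClosedImmersion.of_isPreimmersion r hcl.isClosed_range

/-- A map covered by finitely many quasi-compact ones is quasi-compact. -/
theorem quasiCompact_of_components {ι : Type u} [Finite ι] {R : Scheme.{u}} {X : ι → Scheme.{u}}
    (j : ∀ i, X i ⟶ R) (hj : ∀ p : ↥R, ∃ i x, j i x = p) {T : Scheme.{u}} (r : R ⟶ T)
    (h : ∀ i, QuasiCompact (j i ≫ r)) : QuasiCompact r := by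
  refine ⟨fun V hV hVc => ?_⟩
  have : r ⁻¹' V = ⋃ i, j i '' ((j i ≫ r) ⁻¹' V) := by
    ext p
    simp only [Set.mem_iUnion, Set.mem_preimage]
    constructor
    · intro hp
      obtain ⟨i, x, rfl⟩ := hj p
      exact ⟨i, x, by show (j i ≫ r) x ∈ V; rw [Scheme.Hom.comp_apply]; exact hp, rfl⟩
    · rintro ⟨i, x, hx, rfl⟩
      exact (Scheme.Hom.comp_apply (j i) r x) ▸ hx
  rw [this]
  exact isCompact_iUnion fun i => ((h i).isCompact_preimage V hV hVc).image (j i).continuous

/-- Separation of the quotient by a finite free action. -/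
theorem separation_quot_of_free {U : Over S} {G : Type u} [Group G] [Finite G] (ρ : G →* Aut U)
    (hfree : ∀ (g : G) (x : U.left), g ≠ 1 →
      U.left.fromSpecResidueField x ≫ (ρ g).hom.left ≠ U.left.fromSpecResidueField x)
    (c : Cofan (fun _ : G => U)) (hc : IsColimit c) (s t : c.pt ⟶ U)
    (hs : ∀ g, c.inj g ≫ s = 𝟙 U) (ht : ∀ g, c.inj g ≫ t = (ρ g).hom) :
    (QuasiSeparated U.hom → IsQuasiSeparatedSp (QuotSh.quot Scheme.fppfPrecoverage s t)) ∧
      (IsSeparated U.hom → IsSeparatedSp (QuotSh.quot Scheme.fppfPrecoverage s t)) := by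
  have h := isEtaleEqvRel_of_free ρ hfree c hc s t hs ht
  have hQ := isAlgSpace_quot h
  have hpr := isPresentation_quot h
  obtain ⟨T, a, b, r, hT, hra, hrb, hiso, sq⟩ := exists_chart_diag hpr.isPullback
  have hcov := isFpqcCover_of_chart (isAlgSpace_prod hQ hQ)
    (repWith_comp (repWith_of_isIso (P := @Etale) (prod.lift ((yon S).map a) ((yon S).map b))) (repWith_prodMap hpr.etale hpr.etale))
    (repWith_comp (repWith_of_isIso (P := @Surjective) _) (repWith_prodMap hpr.surjective hpr.surjective))
  have hcS : IsColimit (Cofan.mk c.pt.left fun g => (c.inj g).left) :=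
    isColimitCofanMkObjOfIsColimit (Over.forget S) _ _
      (hc.ofIsoColimit (Cocone.ext (Iso.refl c.pt) (fun j => by simp [Cofan.inj])))
  let e : ∐ (fun _ : G => U.left) ≅ c.pt.left :=
    IsColimit.coconePointUniqueUpToIso (coproductIsCoproduct _) hcS
  have he : ∀ g, Limits.Sigma.ι (fun _ : G => U.left) g ≫ e.hom = (c.inj g).left := fun g =>
    IsColimit.comp_coconePointUniqueUpToIso_hom (coproductIsCoproduct _) hcS ⟨g⟩
  haveI hoi : ∀ g, IsOpenImmersion (c.inj g).left := fun g => by
    rw [← he g]
    haveI : IsOpenImmersion (Limits.Sigma.ι (fun _ : G => U.left) g) := (sigmaOpenCover _).map_prop g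
    infer_instance
  have hj : ∀ p : ↥c.pt.left, ∃ g u, (c.inj g).left u = p := fun p => by
    obtain ⟨g, u, hu⟩ := (sigmaOpenCover fun _ : G => U.left).exists_eq (e.inv p)
    refine ⟨g, u, ?_⟩
    rw [← he g, Scheme.Hom.comp_apply, show Limits.Sigma.ι (fun _ : G => U.left) g u = e.inv p from hu]
    exact e.schemeIsoToHomeo.apply_symm_apply p
  have hgb : ∀ g, ((c.inj g).left ≫ r.left) ≫ b.left = 𝟙 _ := fun g => by
    rw [Category.assoc, ← Over.comp_left, hrb, ← Over.comp_left, hs]; rfl
  haveI : Mono r.left := by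
    haveI : Mono r := ⟨fun x y exy => h.injective _ x y (by rw [← hra, reassoc_of% exy]) (by rw [← hrb, reassoc_of% exy])⟩
    exact Over.mono_left_of_mono r
  refine ⟨fun hq => ?_, fun hsep => ?_⟩
  · haveI : QuasiSeparated b.left := MorphismProperty.of_isPullback (P := @QuasiSeparated) hT hq
    haveI : QuasiCompact r.left := quasiCompact_of_components (fun g => (c.inj g).left) hj r.left fun g => by
      haveI : QuasiCompact (((c.inj g).left ≫ r.left) ≫ b.left) := by rw [hgb]; infer_instance
      exact QuasiCompact.of_comp _ b.left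
    haveI := Groth.Agent.FpqcDesc.quasiCompact_descends.{u}
    exact repWith_of_fpqc hQ.diag (fun _ : PUnit.{u+1} => sq) hcov fun _ => repWith_yon_map ‹QuasiCompact r.left›
  · haveI : IsSeparated b.left := MorphismProperty.of_isPullback (P := @IsSeparated) hT hsep
    haveI : IsClosedImmersion r.left := isClosedImmersion_of_components (fun g => (c.inj g).left) hj r.left fun g => by
      haveI : IsClosedImmersion (((c.inj g).left ≫ r.left) ≫ b.left) := by rw [hgb]; infer_instance
      exact IsClosedImmersion.of_comp _ b.left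
    haveI := Groth.Agent.FpqcDesc.isClosedImmersion_descends.{u}
    exact repWith_of_fpqc hQ.diag (fun _ : PUnit.{u+1} => sq) hcov fun _ => repWith_yon_map ‹IsClosedImmersion r.left›

end Groth.Agent.ASp
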