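import Groth.Agent.RegKindDescLib.Scheme
import Groth.Agent.S8655
import Groth.Agent.S8654
import Groth.Agent.S8906
import Groth.Agent.S2104
import Groth.Agent.S2105
import Groth.Agent.ASp.KoszulImmLci
import Groth.Agent.ASp.ImmDesc
import Groth.Agent.ASp.LocP

/-!
Regular immersions of algebraic spaces: flat base change and composition.
-/

set_option autoImplicit false
set_option backward.isDefEq.respectTransparency false
set_option linter.style.haveILetI false

universe u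

open CategoryTheory CategoryTheory.Limits AlgebraicGeometry

noncomputable section

namespace Groth.Agent.ASp.RegImmSp

open Groth.Agent

section Desc

open RegKindDescLib

variable {Z X : Scheme.{u}}

/-- Descent along open flat surjections. -/
theorem isRegularImmersion_descent_open {X' : Scheme.{u}} (i : Z ⟶ X) [IsImmersion i] (g : X' ⟶ X) [Flat g] [Surjective g]
    (hgo : IsOpenMap g) (k : RegImm.Kind) (hk : k ≠ RegImm.Kind.regular)
    (h : RegImm.IsRegularImmersion k (pullback.snd i g)) : RegImm.IsRegularImmersion k i := by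
  refine ⟨inferInstance, fun z => ?_⟩
  obtain ⟨_, ⟨W, hW, rfl⟩, hzW, hWO⟩ :=
    X.isBasis_affineOpens.exists_subset_of_mem_open (subset_coborder ⟨z, rfl⟩ : i z ∈ (i.coborderRange : Set X))
      i.coborderRange.2
  refine isRegularImmersionAt_of_gen k hk i hW hWO ?_ z hzW
  have hcW := isClosedImmersion_restrict i W hWO
  -- an affine cover of the preimage
  have hsel : ∀ x : (W : Set X), ∃ V : X'.affineOpens, V.1 ≤ g ⁻¹ᵁ W ∧ ∃ x' ∈ V.1, g x' = x.1 := fun x => by
    obtain ⟨x', hx'⟩ := g.surjective x.1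
    obtain ⟨V, hV, hxV, hVW⟩ := exists_isAffineOpen_mem_and_subset (x := x') (U := g ⁻¹ᵁ W)
      (show g x' ∈ W by rw [hx']; exact x.2)
    exact ⟨⟨V, hV⟩, hVW, x', hxV, hx'⟩
  choose Vs hVs hVx using hsel
  obtain ⟨t, ht⟩ := hW.isCompact.elim_finite_subcover (fun x => g '' ((Vs x).1 : Set X'))
    (fun x => hgo _ (Vs x).1.2) (fun x hx => Set.mem_iUnion.2 ⟨⟨x, hx⟩, hVx ⟨x, hx⟩⟩)
  let S : Set X'.affineOpens := Vs '' (t : Set (W : Set X))
  have hSf : S.Finite := t.finite_toSet.image _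
  have hSle : ∀ V ∈ S, V.1 ≤ g ⁻¹ᵁ W := by rintro _ ⟨x, -, rfl⟩; exact hVs x
  have hScov : ∀ x ∈ W, ∃ V ∈ S, ∃ x' ∈ V.1, g x' = x := fun x hx => by
    obtain ⟨a, ha, x', hx', e⟩ := Set.mem_iUnion₂.1 (ht hx)
    exact ⟨Vs a, ⟨a, ha, rfl⟩, x', hx', e⟩
  haveI := hSf.to_subtype
  let T : Scheme.{u} := ∐ fun V : S => (V.1.1 : Scheme.{u})
  haveI : ∀ V : S, IsAffine (V.1.1 : Scheme.{u}) := fun V => V.1.2
  let σ : T ⟶ X' := Sigma.desc fun V : S => V.1.1.ι
  haveI : Flat σ := IsZariskiLocalAtSource.sigmaDesc fun V => inferInstance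
  have hle : (⊤ : T.Opens) ≤ (σ ≫ g) ⁻¹ᵁ W := by
    intro y _
    obtain ⟨V, v, rfl⟩ := (sigmaOpenCover fun V : S => (V.1.1 : Scheme.{u})).exists_eq y
    show (σ ≫ g) ((Sigma.ι (fun V : S => (V.1.1 : Scheme.{u})) V) v) ∈ W
    rw [← Scheme.Hom.comp_apply, ← Category.assoc, Sigma.ι_desc, Scheme.Hom.comp_apply]
    exact hSle V.1 V.2 v.2
  have hT := isAffineOpen_top T
  let φ := ((σ ≫ g).appLE W ⊤ hle).hom
  letI : Algebra Γ(X, W) Γ(T, ⊤) := φ.toAlgebra
  haveI : Module.Flat Γ(X, W) Γ(T, ⊤) :=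
    HasRingHomProperty.appLE (P := @Flat) (σ ≫ g) inferInstance ⟨W, hW⟩ ⟨⊤, hT⟩ hle
  haveI : Module.FaithfullyFlat Γ(X, W) Γ(T, ⊤) := by
    refine .of_comap_surjective fun p => ?_
    have hxW : hW.fromSpec p ∈ W := by
      rw [← SetLike.mem_coe, ← hW.range_fromSpec]
      exact ⟨p, rfl⟩
    obtain ⟨V, hV, x', hx'V, hx'⟩ := hScov _ hxW
    let y : T := Sigma.ι (fun V : S => (V.1.1 : Scheme.{u})) ⟨V, hV⟩ ⟨x', hx'V⟩
    refine ⟨hT.primeIdealOf ⟨y, trivial⟩, hW.fromSpec.isOpenEmbedding.injective ?_⟩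
    show hW.fromSpec ((Spec.map ((σ ≫ g).appLE W ⊤ hle)) _) = _
    rw [← Scheme.Hom.comp_apply, hW.SpecMap_appLE_fromSpec (σ ≫ g) hT hle, Scheme.Hom.comp_apply,
      hT.fromSpec_primeIdealOf, ← hx']
    show (Sigma.ι (fun V : S => (V.1.1 : Scheme.{u})) ⟨V, hV⟩ ≫ σ ≫ g) _ = g x'
    rw [Sigma.ι_desc_assoc]
    rfl
  -- the pulled back immersion
  have hP := (IsPullback.of_hasPullback (pullback.snd i g) σ).paste_horiz (IsPullback.of_hasPullback i g)
  have hreg := Groth.Agent.S8906.result (pullback.snd i g) k h σ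
  obtain ⟨hcT, hker⟩ := RelDivLib.closed_and_ker_pullback hP hW hcW hT hle
  have hG := gen_of_isRegularImmersion k hk (pullback.snd (pullback.snd i g) σ) hreg.2 hT hcT
  rw [hker] at hG
  exact gen_descent (B := Γ(T, ⊤)) k hk hG

end Desc

/-- Restriction of a chart to a basic open, keeping the length. -/
theorem exists_restrict (k : RegImm.Kind) (hk : k ≠ RegImm.Kind.regular) {Z X : Scheme.{u}} (i : Z ⟶ X) {U : X.Opens} (hU : IsAffineOpen U)
    (hZ : IsAffineOpen (i ⁻¹ᵁ U)) (l : List Γ(X, U)) (hl : k.Seq Γ(X, U) l)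
    (hker : RingHom.ker (i.app U).hom = Ideal.ofList l) (g : Γ(X, U)) (V : X.Opens) (hV : V = X.basicOpen g) :
    ∃ l' : List Γ(X, V), k.Seq Γ(X, V) l' ∧
      RingHom.ker (i.app V).hom = Ideal.ofList l' := by
  subst hV
  letI : Algebra Γ(X, U) Γ(X, X.basicOpen g) := (X.presheaf.map (homOfLE (X.basicOpen_le g)).op).hom.toAlgebra
  haveI : IsLocalization.Away g Γ(X, X.basicOpen g) :=
    hU.isLocalization_of_eq_basicOpen g (homOfLE (X.basicOpen_le g)) rfl
  letI : Algebra Γ(Z, i ⁻¹ᵁ U) Γ(Z, i ⁻¹ᵁ X.basicOpen g) :=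
    (Z.presheaf.map (homOfLE (i.preimage_mono (X.basicOpen_le g))).op).hom.toAlgebra
  haveI : IsLocalization.Away ((i.app U).hom g) Γ(Z, i ⁻¹ᵁ X.basicOpen g) :=
    hZ.isLocalization_of_eq_basicOpen _ (homOfLE (i.preimage_mono (X.basicOpen_le g))) (i.preimage_basicOpen g)
  haveI : Module.Flat Γ(X, U) Γ(X, X.basicOpen g) := IsLocalization.flat _ (Submonoid.powers g)
  refine ⟨l.map (algebraMap Γ(X, U) Γ(X, X.basicOpen g)),
    Groth.Agent.RelDivLib.seq_flat _ (RingHom.flat_algebraMap_iff.2 inferInstance) k hk hl, ?_⟩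
  rw [Groth.Agent.CILib.ker_map_away g (i.app U).hom (i.app (X.basicOpen g)).hom ?_, hker, Ideal.map_ofList]
  rw [RingHom.algebraMap_toAlgebra, RingHom.algebraMap_toAlgebra, ← CommRingCat.hom_comp, ← CommRingCat.hom_comp]
  exact congrArg CommRingCat.Hom.hom (i.naturality (homOfLE (X.basicOpen_le g)).op)

theorem seq_ofFn {A : Type u} [CommRing A] (P : ∀ {c : ℕ}, (Fin c → A) → Prop) {n : ℕ} (F : Fin n → A)
    (h : P F) : P (List.ofFn F).get := by
  have e : (⟨(List.ofFn F).length, (List.ofFn F).get⟩ : Σ c, Fin c → A) = ⟨n, F⟩ :=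
    List.equivSigmaTuple.apply_symm_apply (⟨n, F⟩ : Σ c, Fin c → A)
  exact (show (fun x : Σ c, Fin c → A => P x.2) ⟨_, (List.ofFn F).get⟩ from e ▸ h)

/-- Composition, given the rule for appending sequences. -/
theorem isRegularImmersion_comp_of {X Y Z : Scheme.{u}} (i : Y ⟶ X) (j : Z ⟶ Y) (k k' : RegImm.Kind)
    (hk : k ≠ RegImm.Kind.regular) (hk' : k' ≠ RegImm.Kind.regular)
    (hh1 : ∀ {A : Type u} [CommRing A] (l : List A), k'.Seq A l → CAlgX.IsH1Regular l.get)
    (happ : ∀ {A : Type u} [CommRing A] {l : List A} {m : ℕ} (g : Fin m → A), k.Seq A l →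
      CAlgX.IsH1Regular (fun n => Ideal.Quotient.mk (Ideal.span (Set.range l.get)) (g n)) →
      k.Seq A (List.ofFn (Fin.append l.get g)))
    (hi : RegImm.IsRegularImmersion k i) (hj : RegImm.IsRegularImmersion k' j) :
    RegImm.IsRegularImmersion k (j ≫ i) := by
  haveI := hi.1
  haveI := hj.1
  refine ⟨inferInstance, fun z => ?_⟩
  obtain ⟨U, hyU, hcU, gl, hgl, hgker⟩ := hi.2 (j z)
  obtain ⟨W, hzW, hcW, hl, hhl, hhker⟩ := hj.2 z
  obtain ⟨hUaff, hUsurj⟩ := Groth.Agent.RegIdealLib.affine_and_surjective i U.2 hcU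
  obtain ⟨hWaff, hWsurj⟩ := Groth.Agent.RegIdealLib.affine_and_surjective j W.2 hcW
  obtain ⟨f, w, hfw, hyf⟩ := exists_basicOpen_le_affine_inter hUaff W.2 (j z) ⟨hyU, hzW⟩
  obtain ⟨f', rfl⟩ := hUsurj f
  let U' := X.basicOpen f'
  have hpre : i ⁻¹ᵁ U' = Y.basicOpen w := (i.preimage_basicOpen f').trans hfw
  obtain ⟨gl', hgl', hgker'⟩ := exists_restrict k hk i U.2 hUaff gl hgl hgker f' U' rfl
  obtain ⟨hl', hhl', hhker'⟩ := exists_restrict k' hk' j W.2 hWaff hl hhl hhker w (i ⁻¹ᵁ U') hpre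
  have hc1 : IsClosedImmersion (i ∣_ U') := by
    have := IsZariskiLocalAtTarget.restrict hcU (U.1.ι ⁻¹ᵁ U')
    refine (MorphismProperty.arrow_mk_iso_iff @IsClosedImmersion
      (morphismRestrictRestrict i U.1 (U.1.ι ⁻¹ᵁ U') ≪≫ morphismRestrictEq i ?_)).1 this
    rw [Scheme.Hom.image_preimage_eq_opensRange_inf, Scheme.Opens.opensRange_ι, inf_eq_right.2 (X.basicOpen_le f')]
  have hc2 : IsClosedImmersion (j ∣_ i ⁻¹ᵁ U') := by
    have := IsZariskiLocalAtTarget.restrict hcW (W.1.ι ⁻¹ᵁ (i ⁻¹ᵁ U'))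
    refine (MorphismProperty.arrow_mk_iso_iff @IsClosedImmersion
      (morphismRestrictRestrict j W.1 (W.1.ι ⁻¹ᵁ (i ⁻¹ᵁ U')) ≪≫ morphismRestrictEq j ?_)).1 this
    rw [Scheme.Hom.image_preimage_eq_opensRange_inf, Scheme.Opens.opensRange_ι,
      inf_eq_right.2 (hpre.le.trans (Y.basicOpen_le w))]
  have hU'aff : IsAffineOpen U' := U.2.basicOpen f'
  obtain ⟨-, hs1⟩ := Groth.Agent.RegIdealLib.affine_and_surjective i hU'aff hc1
  let s := Function.surjInv hs1
  let F : Fin (gl'.length + hl'.length) → Γ(X, U') := Fin.append gl'.get (fun n => s (hl'.get n))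
  have hrange : Ideal.ofList (List.ofFn F) = Ideal.ofList (hl'.map s ++ gl') := by
    refine congrArg Ideal.span (Set.ext fun x => ?_)
    show x ∈ List.ofFn F ↔ x ∈ hl'.map s ++ gl'
    rw [List.mem_ofFn, List.mem_append, List.mem_map]
    constructor
    · rintro ⟨n, rfl⟩
      induction n using Fin.addCases with
      | left a => exact Or.inr (by simp only [F, Fin.append_left]; exact List.get_mem _ _)
      | right b => exact Or.inl ⟨hl'.get b, List.get_mem _ _, by simp only [F, Fin.append_right]⟩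
    · rintro (⟨y, hy, rfl⟩ | hy)
      · obtain ⟨b, rfl⟩ := List.mem_iff_get.1 hy
        exact ⟨Fin.natAdd _ b, by simp only [F, Fin.append_right]⟩
      · obtain ⟨a, rfl⟩ := List.mem_iff_get.1 hy
        exact ⟨Fin.castAdd _ a, by simp only [F, Fin.append_left]⟩
  refine ⟨⟨U', hU'aff⟩, ?_, ?_, List.ofFn F, ?_, ?_⟩
  · show j z ∈ i ⁻¹ᵁ U'
    rw [i.preimage_basicOpen]
    exact hyf
  · show IsClosedImmersion ((j ≫ i) ∣_ U')
    rw [morphismRestrict_comp]
    haveI := hc1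
    haveI := hc2
    exact MorphismProperty.comp_mem @IsClosedImmersion _ _ hc2 hc1
  · let I : Ideal Γ(X, U') := Ideal.span (Set.range gl'.get)
    have hI : RingHom.ker (i.app U').hom = I := hgker'.trans (RegKindDescLib.range_get gl').symm
    let e : Γ(Y, i ⁻¹ᵁ U') ≃+* Γ(X, U') ⧸ I :=
      (RingHom.quotientKerEquivOfSurjective hs1).symm.trans (Ideal.quotEquivOfEq hI)
    have he : ∀ x, e ((i.app U').hom x) = Ideal.Quotient.mk I x := fun x => by
      simp only [e, RingEquiv.trans_apply]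
      rw [show (RingHom.quotientKerEquivOfSurjective hs1).symm ((i.app U').hom x) = Ideal.Quotient.mk _ x from
        (RingEquiv.symm_apply_eq _).2 rfl]
      rfl
    letI := (e : Γ(Y, i ⁻¹ᵁ U') →+* Γ(X, U') ⧸ I).toAlgebra
    haveI : Module.Flat Γ(Y, i ⁻¹ᵁ U') (Γ(X, U') ⧸ I) := RingHom.Flat.of_bijective e.bijective
    refine happ (l := gl') (fun n => s (hl'.get n)) hgl' ?_
    have h1 := RelDivLib.isH1Regular_flat (S := Γ(X, U') ⧸ I) (hh1 hl' hhl')
    convert h1 using 1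
    funext n
    show Ideal.Quotient.mk I (s (hl'.get n)) = e (hl'.get n)
    rw [← he]
    exact congrArg e (Function.surjInv_eq hs1 _)
  · show RingHom.ker ((i.app U' ≫ j.app (i ⁻¹ᵁ U')).hom : _ →+* _) = _
    rw [CommRingCat.hom_comp, hrange]
    refine S8655.ker_comp_of_surjective _ _ hs1 gl' hgker' _ ?_
    rw [List.map_map, show (i.app U').hom ∘ s = id from
        funext fun x => Function.surjInv_eq hs1 x, List.map_id]
    exact hhker'

/-- Composition of H_1-regular immersions. -/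
theorem isRegularImmersion_comp_h1 {X Y Z : Scheme.{u}} (i : Y ⟶ X) (j : Z ⟶ Y)
    (hi : RegImm.IsRegularImmersion .h1 i) (hj : RegImm.IsRegularImmersion .h1 j) :
    RegImm.IsRegularImmersion .h1 (j ≫ i) :=
  isRegularImmersion_comp_of i j .h1 .h1 (by simp) (by simp) (fun _ h => h)
    (fun {_} _ {l} {_} g hl hg => seq_ofFn (fun F => CAlgX.IsH1Regular F) _ (S2105.result l.get g hl hg)) hi hj

/-- An H_1-regular immersion followed by a quasi-regular one. -/
theorem isRegularImmersion_comp_quasi {X Y Z : Scheme.{u}} (i : Y ⟶ X) (j : Z ⟶ Y)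
    (hi : RegImm.IsRegularImmersion .quasi i) (hj : RegImm.IsRegularImmersion .h1 j) :
    RegImm.IsRegularImmersion .quasi (j ≫ i) :=
  isRegularImmersion_comp_of i j .quasi .h1 (by simp) (by simp) (fun _ h => h)
    (fun {_} _ {l} {_} g hl hg => seq_ofFn (fun F => CAlgX.IsQuasiRegular F) _ (S2104.result l.get g hl hg)) hi hj

open _root_.AlgSp Groth.Agent.ASp

variable {S : Scheme.{u}}

/-- Flat base change of regular immersions of algebraic spaces. -/
theorem isRegImmMor_baseChange {k : RegImm.Kind} (hk : k ≠ RegImm.Kind.regular) {Z X X' P : Sp S} {i : Z ⟶ X}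
    {g : X' ⟶ X} {fst : P ⟶ Z} {i' : P ⟶ X'} (hX : IsAlgSpace X) (sq : IsPullback fst i' i g)
    (hi : IsRegImmMor k i) (hg : LocP @Flat g) : IsRegImmMor k i' := by
  have hrep : Representable i' := MorphismProperty.of_isPullback sq hi.1
  refine ⟨hrep, fun V W b fst' snd hb sqW => ?_⟩
  obtain ⟨X₀, x₀, hxe, hxs⟩ := hX.atlas
  obtain ⟨V₁, w, r, hwe, hws, hr, -⟩ := exists_etale_cover hxe hxs (b ≫ g)
  haveI : Etale w.left := hwe
  haveI : Surjective w.left := hws
  haveI : Flat r.left := hg ((yon S).map w ≫ b) x₀ r (repWith_comp (repWith_yon_map hwe) hb) hxe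
    (by rw [Category.assoc]; exact hr.symm)
  obtain ⟨Z₀, a₀, s₀, hZ₀⟩ : ∃ (Z₀ : Over S) (a₀ : (yon S).obj Z₀ ⟶ Z) (s₀ : Z₀ ⟶ X₀),
      IsPullback a₀ ((yon S).map s₀) i x₀ := ⟨_, _, _, hi.1.isPullback x₀⟩
  have h0 := hi.2 x₀ a₀ s₀ hxe hZ₀
  have sqA := (isPullback_yon_map (IsPullback.of_hasPullback s₀ r)).paste_horiz hZ₀
  have sqB := ((isPullback_yon_map (IsPullback.of_hasPullback snd w)).paste_horiz sqW).paste_horiz sq
  rw [hr] at sqA
  obtain ⟨e, he⟩ : ∃ e : pullback snd w ≅ pullback s₀ r, e.hom ≫ pullback.snd s₀ r = pullback.snd snd w := by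
    let B := sqB
    rw [Category.assoc] at B
    refine ⟨(yon S).preimageIso (B.isoIsPullback _ _ sqA), (yon S).map_injective ?_⟩
    rw [Functor.map_comp, Functor.preimageIso_hom, Functor.map_preimage, IsPullback.isoIsPullback_hom_snd]
  have h1 : RegImm.IsRegularImmersion k (pullback.snd s₀ r).left := by
    have hl := isPullback_left (IsPullback.of_hasPullback s₀ r)
    rw [← hl.isoPullback_hom_snd]
    exact isRegularImmersion_iso_comp _ _ (S8906.result s₀.left k h0 r.left)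
  have h2 : RegImm.IsRegularImmersion k (pullback.snd snd w).left := by
    rw [← he, Over.comp_left]
    exact isRegularImmersion_iso_comp e.hom.left _ h1
  have hl := isPullback_left (IsPullback.of_hasPullback snd w)
  haveI : IsImmersion snd.left := by
    haveI := isImmersion_descends.{u}
    exact MorphismProperty.of_isPullback_of_descendsAlong (P := @IsImmersion)
      (Q := @Surjective ⊓ @Flat ⊓ @LocallyOfFinitePresentation) hl.flip
      ⟨⟨hws, inferInstance⟩, inferInstance⟩ h2.1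
  refine isRegularImmersion_descent_open snd.left w.left w.left.isOpenMap k hk ?_
  rw [← hl.isoPullback_inv_snd]
  exact isRegularImmersion_iso_comp _ _ h2

/-- Composition of regular immersions of algebraic spaces, given composition for schemes. -/
theorem isRegImmMor_comp {k k' : RegImm.Kind}
    (H : ∀ {A B C : Scheme.{u}} (i : B ⟶ C) (j : A ⟶ B), RegImm.IsRegularImmersion k i →
      RegImm.IsRegularImmersion k' j → RegImm.IsRegularImmersion k (j ≫ i))
    {Z Y X : Sp S} {i : Z ⟶ Y} {j : Y ⟶ X} (hi : IsRegImmMor k' i) (hj : IsRegImmMor k j) :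
    IsRegImmMor k (i ≫ j) := by
  refine ⟨MorphismProperty.comp_mem _ _ _ hi.1 hj.1, fun V W b fst snd hb sq => ?_⟩
  obtain ⟨Y₁, a, t, hY⟩ : ∃ (Y₁ : Over S) (a : (yon S).obj Y₁ ⟶ Y) (t : Y₁ ⟶ V),
      IsPullback a ((yon S).map t) j b := ⟨_, _, _, hj.1.isPullback b⟩
  have hjr := hj.2 b a t hb hY
  haveI := hjr.1
  have ha : RepWith @Etale a := repWith_of_isPullback hY.flip hb
  obtain ⟨Z₁, c, s, hZ⟩ : ∃ (Z₁ : Over S) (c : (yon S).obj Z₁ ⟶ Z) (s : Z₁ ⟶ Y₁),
      IsPullback c ((yon S).map s) i a := ⟨_, _, _, hi.1.isPullback a⟩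
  have hir := hi.2 a c s ha hZ
  have big := hZ.paste_vert hY
  rw [← Functor.map_comp] at big
  obtain ⟨e, he⟩ : ∃ e : W ≅ Z₁, e.hom ≫ s ≫ t = snd := ⟨(yon S).preimageIso (sq.isoIsPullback _ _ big),
    (yon S).map_injective (by rw [Functor.map_comp, Functor.preimageIso_hom, Functor.map_preimage, IsPullback.isoIsPullback_hom_snd])⟩
  rw [← he, Over.comp_left, Over.comp_left]
  exact isRegularImmersion_iso_comp e.hom.left _ (H _ _ hjr hir)

end Groth.Agent.ASp.RegImmSp
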