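import Groth.Agent.FibreDimEt.Zero
import Groth.Agent.LocDimBC.Scheme
import Groth.Agent.S0402
import Groth.Agent.S9355
/-!
The loci of bounded relative dimension, and base change of the relative dimension.
-/

set_option autoImplicit false
set_option backward.isDefEq.respectTransparency false
set_option backward.isDefEq.respectTransparency.types false

universe u

open CategoryTheory CategoryTheory.Limits AlgebraicGeometry TopologicalSpace Topology

namespace Groth.Agent.ASp

open _root_.AlgSp Groth.Agent.FibreDimEt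

variable {S : Scheme.{u}} {X Y : Sp S} {f : X ⟶ Y}

theorem setOf_relDim_le_eq (n : ℕ) :
    {x : AlgSp.Points X | HasAtMor (fun _ _ h u => FlatMor.fibreDimAt h u ≤ (n : WithBot ℕ∞)) f x} =
      ⋃ (U : Over S) (V : Over S) (a : (yon S).obj U ⟶ X) (b : (yon S).obj V ⟶ Y) (h : U ⟶ V)
        (_ : RepWith @Etale a) (_ : RepWith @Etale b) (_ : a ≫ f = (yon S).map h ≫ b),
        AlgSp.Points.ofPt a '' {u | FlatMor.fibreDimAt h.left u ≤ (n : WithBot ℕ∞)} := by
  ext x
  simp only [Set.mem_iUnion, Set.mem_image, Set.mem_setOf_eq, HasAtMor]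
  exact ⟨fun ⟨U, V, a, b, h, u, ha, hb, e, hu, hQ⟩ => ⟨U, V, a, b, h, ha, hb, e, u, hQ, hu⟩,
    fun ⟨U, V, a, b, h, ha, hb, e, u, hQ, hu⟩ => ⟨U, V, a, b, h, u, ha, hb, e, hu, hQ⟩⟩

theorem isOpen_setOf_relDim_le (hf : LocP @LocallyOfFiniteType f) (n : ℕ) :
    IsOpen {x : AlgSp.Points X | HasAtMor (fun _ _ h u => FlatMor.fibreDimAt h u ≤ (n : WithBot ℕ∞)) f x} := by
  rw [setOf_relDim_le_eq]
  refine isOpen_iUnion fun U => isOpen_iUnion fun V => isOpen_iUnion fun a => isOpen_iUnion fun b =>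
    isOpen_iUnion fun h => isOpen_iUnion fun ha => isOpen_iUnion fun hb => isOpen_iUnion fun e => ?_
  haveI : LocallyOfFiniteType h.left := hf a b h ha hb e
  exact isOpenMap_ofPt_of_etale ha _ (S0402.result h.left n)

theorem isCompact_inter_relDim_le (hX : IsAlgSpace X) (hY : IsAlgSpace Y)
    (hf : LocP @LocallyOfFinitePresentation f) (n : ℕ) (V : Set (AlgSp.Points X)) (hV : IsOpen V) (hVc : IsCompact V) :
    IsCompact (V ∩ {x : AlgSp.Points X |
      HasAtMor (fun _ _ h u => FlatMor.fibreDimAt h u ≤ (n : WithBot ℕ∞)) f x}) := by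
  have key : ∀ x : V, ∃ (O : Set (AlgSp.Points X)), IsOpen O ∧ x.1 ∈ O ∧ O ⊆ V ∧
      IsCompact (O ∩ {x : AlgSp.Points X |
        HasAtMor (fun _ _ h u => FlatMor.fibreDimAt h u ≤ (n : WithBot ℕ∞)) f x}) := fun ⟨x, hx⟩ => by
    obtain ⟨U, W, a, b, h, u, ha, hb, e, hu⟩ := exists_chart (f := f) hX hY x
    haveI : LocallyOfFinitePresentation h.left := hf a b h ha hb e
    have hcont : Continuous (AlgSp.Points.ofPt a) := AlgSp.Points.continuous_ofPt a
    obtain ⟨A, hA, huA, hAV⟩ := exists_isAffineOpen_mem_and_subset (x := u)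
      (U := (⟨AlgSp.Points.ofPt a ⁻¹' V, hV.preimage hcont⟩ : U.left.Opens)) (show AlgSp.Points.ofPt a u ∈ V from hu ▸ hx)
    refine ⟨AlgSp.Points.ofPt a '' (A : Set U.left), isOpenMap_ofPt_of_etale ha _ A.2, ⟨u, huA, hu⟩, ?_, ?_⟩
    · rintro _ ⟨w, hw, rfl⟩
      exact hAV hw
    · have : AlgSp.Points.ofPt a '' (A : Set U.left) ∩ {x : AlgSp.Points X |
          HasAtMor (fun _ _ h u => FlatMor.fibreDimAt h u ≤ (n : WithBot ℕ∞)) f x} =
          AlgSp.Points.ofPt a '' ({w | FlatMor.fibreDimAt h.left w ≤ (n : WithBot ℕ∞)} ∩ A) := by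
        apply subset_antisymm
        · rintro _ ⟨⟨w, hw, rfl⟩, U₁, W₁, a₁, b₁, h₁, u₁, ha₁, hb₁, e₁, hu₁, hQ⟩
          refine ⟨w, ⟨?_, hw⟩, rfl⟩
          show FlatMor.fibreDimAt h.left w ≤ _
          rw [fibreDimAt_eq_of_charts (f := f) ha hb e ha₁ hb₁ e₁ hu₁.symm]
          exact hQ
        · rintro _ ⟨w, ⟨hQ, hw⟩, rfl⟩
          exact ⟨⟨w, hw, rfl⟩, U, W, a, b, h, w, ha, hb, e, rfl, hQ⟩
      rw [this]
      exact ((S9355.result h.left n) hA.isCompact A.2).image hcont
  choose O hO hxO hOV hOc using key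
  obtain ⟨t, ht⟩ := hVc.elim_finite_subcover O hO fun x hx => Set.mem_iUnion.2 ⟨⟨x, hx⟩, hxO ⟨x, hx⟩⟩
  have e : V ∩ {x : AlgSp.Points X | HasAtMor (fun _ _ h u => FlatMor.fibreDimAt h u ≤ (n : WithBot ℕ∞)) f x} =
      ⋃ x ∈ t, (O x ∩ {x : AlgSp.Points X |
        HasAtMor (fun _ _ h u => FlatMor.fibreDimAt h u ≤ (n : WithBot ℕ∞)) f x}) := by
    apply subset_antisymm
    · rintro y ⟨hyV, hy⟩
      obtain ⟨x, hxt, hyx⟩ := Set.mem_iUnion₂.1 (ht hyV)
      exact Set.mem_iUnion₂.2 ⟨x, hxt, hyx, hy⟩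
    · refine Set.iUnion₂_subset fun x _ => ?_
      rintro y ⟨hy₁, hy₂⟩
      exact ⟨hOV x hy₁, hy₂⟩
  rw [e]
  exact t.isCompact_biUnion fun x _ => hOc x

variable {X' Y' : Sp S} {g : Y' ⟶ Y} {g' : X' ⟶ X} {f' : X' ⟶ Y'}

theorem relDim_baseChange (hX : IsAlgSpace X) (hY : IsAlgSpace Y) (hY' : IsAlgSpace Y')
    (sq : IsPullback g' f' f g) (hf : LocP @LocallyOfFiniteType f) (x' : AlgSp.Points X') (d : WithBot ℕ∞)
    (hd : HasAtMor (fun _ _ h u => FlatMor.fibreDimAt h u = d) f (AlgSp.Points.map g' x')) :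
    HasAtMor (fun _ _ h u => FlatMor.fibreDimAt h u = d) f' x' := by
  obtain ⟨U₁, V₁, a₁, b₁, h₁, u₁, ha₁, hb₁, e₁, hu₁, hQ⟩ := hd
  obtain ⟨V, q, hq, hqs⟩ := hY.atlas
  obtain ⟨W₀, b₀, hb₀, hb₀s⟩ := hY'.atlas
  obtain ⟨W, w, k, hwe, hws, hk, -⟩ := exists_etale_cover hq hqs (b₀ ≫ g)
  haveI := hws
  let b' := (yon S).map w ≫ b₀
  have hb' : RepWith @Etale b' := repWith_comp (repWith_yon_map hwe) hb₀
  have hb's : RepWith @Surjective b' := repWith_comp (repWith_yon_map hws) hb₀s
  have hbk : b' ≫ g = (yon S).map k ≫ q := (Category.assoc _ _ _).trans hk.symm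
  obtain ⟨U, aV, haV, haVs⟩ := (isAlgSpace_pullback hY.diag hX (IsAlgSpace.yon_obj V) f q).atlas
  obtain ⟨h, hh⟩ := (yon S).map_surjective (aV ≫ pullback.snd f q)
  let a := aV ≫ pullback.fst f q
  have sqV := IsPullback.of_hasPullback f q
  have ha : RepWith @Etale a :=
    repWith_comp haV ((repWith_isStableUnderBaseChange (S := S) @Etale).of_isPullback sqV.flip hq)
  have e : a ≫ f = (yon S).map h ≫ q := by
    rw [hh, Category.assoc, Category.assoc, pullback.condition]
  haveI : LocallyOfFiniteType h.left := hf a q h ha hq e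
  let U' := pullback h k
  have sqU : IsPullback (pullback.fst h k) (pullback.snd h k) h k := IsPullback.of_hasPullback h k
  -- the base change of `X'` to `W`
  let m : pullback f' b' ⟶ pullback f q :=
    pullback.lift (pullback.fst f' b' ≫ g') (pullback.snd f' b' ≫ (yon S).map k) (by
      rw [Category.assoc, sq.w, pullback.condition_assoc, hbk, Category.assoc])
  have sqm : IsPullback m (pullback.snd f' b') (pullback.snd f q) ((yon S).map k) := by
    have big : IsPullback (pullback.fst f' b' ≫ g') (pullback.snd f' b') f (b' ≫ g) :=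
      (IsPullback.of_hasPullback f' b').paste_horiz sq
    refine IsPullback.of_right (h₁₁ := m) ?_ (pullback.lift_snd _ _ _) sqV
    rw [pullback.lift_fst, ← hbk]
    exact big
  let aW : (yon S).obj U' ⟶ pullback f' b' :=
    sqm.lift ((yon S).map (pullback.fst h k) ≫ aV) ((yon S).map (pullback.snd h k)) (by
      rw [Category.assoc, ← hh, ← Functor.map_comp, ← Functor.map_comp, pullback.condition])
  have sqA : IsPullback ((yon S).map (pullback.fst h k)) aW aV m := by
    refine IsPullback.of_bot ?_ (sqm.lift_fst _ _ _).symm sqm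
    rw [sqm.lift_snd, ← hh]
    exact isPullback_yon_map sqU
  have haW : RepWith @Etale aW := (repWith_isStableUnderBaseChange (S := S) @Etale).of_isPullback sqA haV
  have haWs : RepWith @Surjective aW :=
    (repWith_isStableUnderBaseChange (S := S) @Surjective).of_isPullback sqA haVs
  let a' := aW ≫ pullback.fst f' b'
  have ha' : RepWith @Etale a' := repWith_comp haW
    ((repWith_isStableUnderBaseChange (S := S) @Etale).of_isPullback (IsPullback.of_hasPullback f' b').flip hb')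
  have e' : a' ≫ f' = (yon S).map (pullback.snd h k) ≫ b' := by
    rw [Category.assoc, pullback.condition, ← Category.assoc, sqm.lift_snd]
  have ha's : Function.Surjective (AlgSp.Points.ofPt a') := surjective_ofPt (repWith_comp haWs
    ((repWith_isStableUnderBaseChange (S := S) @Surjective).of_isPullback (IsPullback.of_hasPullback f' b').flip hb's))
  obtain ⟨u', hu'⟩ := ha's x'
  refine ⟨U', W, a', b', pullback.snd h k, u', ha', hb', e', hu', ?_⟩
  have sqS : IsPullback (pullback.fst h k).left (pullback.snd h k).left h.left k.left := sqU.map (Over.forget S)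
  show FlatMor.fibreDimAt (pullback.snd h k).left u' = d
  rw [LocDimBC.fibreDimAt_baseChange sqS u']
  refine Eq.trans (fibreDimAt_eq_of_charts (f := f) ha hq e ha₁ hb₁ e₁ ?_) hQ
  rw [hu₁, ← hu', AlgSp.Points.map_ofPt, ← ofPt_yon_map_comp]
  congr 1
  show (yon S).map (pullback.fst h k) ≫ aV ≫ pullback.fst f q = (aW ≫ pullback.fst f' b') ≫ g'
  rw [← Category.assoc, sqA.w, Category.assoc, Category.assoc]
  exact congrArg (aW ≫ ·) (pullback.lift_fst _ _ _)

end Groth.Agent.ASp
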