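import Groth.Agent.ASp.RelLPSystem
import Groth.Agent.ASp.RelLP
import Groth.Agent.ASp.LimDerived
import Groth.Agent.ASp.Affine
import Groth.Agent.ASp.LargestOpen
import Groth.Agent.AffLim.Presentation
/-!
# Morphisms of algebraic spaces locally of finite presentation are limit preserving, and conversely
-/

set_option autoImplicit false
set_option backward.isDefEq.respectTransparency false
set_option backward.isDefEq.respectTransparency.types false

universe u

open CategoryTheory CategoryTheory.Limits AlgebraicGeometry Opposite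

noncomputable section

namespace Groth.Agent.ASp

open _root_.AlgSp

variable {S : Scheme.{u}}

/-- Points of `X` over a limit lying over stage points of `Y` come from stages. -/
def SpLPExist {X Y : Sp S} (f : X ⟶ Y) : Prop :=
  ∀ ⦃I : Type u⦄ [SmallCategory I] [IsCofiltered I] (D : I ⥤ Over S) (c : Cone D),
    IsLimit ((Over.forget S).mapCone c) → (∀ i, IsAffine (D.obj i).left) → IsAffine c.pt.left →
    ∀ (x : (yon S).obj c.pt ⟶ X) (i : I) (y : (yon S).obj (D.obj i) ⟶ Y),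
      x ≫ f = (yon S).map (c.π.app i) ≫ y →
      ∃ (i' : I) (φ : i' ⟶ i) (x' : (yon S).obj (D.obj i') ⟶ X),
        (yon S).map (c.π.app i') ≫ x' = x ∧ x' ≫ f = (yon S).map (D.map φ) ≫ y

/-- Points of `X` at a stage which agree on the limit and in `Y` agree at a later stage. -/
def SpLPUniq {X Y : Sp S} (f : X ⟶ Y) : Prop :=
  ∀ ⦃I : Type u⦄ [SmallCategory I] [IsCofiltered I] (D : I ⥤ Over S) (c : Cone D),
    IsLimit ((Over.forget S).mapCone c) → (∀ i, IsAffine (D.obj i).left) → IsAffine c.pt.left →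
    ∀ (i : I) (x x' : (yon S).obj (D.obj i) ⟶ X),
      (yon S).map (c.π.app i) ≫ x = (yon S).map (c.π.app i) ≫ x' → x ≫ f = x' ≫ f →
      ∃ (j : I) (φ : j ⟶ i), (yon S).map (D.map φ) ≫ x = (yon S).map (D.map φ) ≫ x'

theorem relLP_iff {X Y : Sp S} (f : X ⟶ Y) : RelLP f.hom ↔ SpLPExist f ∧ SpLPUniq f := by
  have nat : ∀ {F : Sp S} {U V : Over S} (g : U ⟶ V) (p : (yon S).obj V ⟶ F),
      F.obj.map g.op ((J S).uliftYonedaEquiv.{u+1} p) = (J S).uliftYonedaEquiv.{u+1} ((yon S).map g ≫ p) :=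
    fun g p => GrothendieckTopology.uliftYonedaEquiv_naturality.{u+1} (J S) p g
  have app : ∀ {U : Over S} (p : (yon S).obj U ⟶ X),
      f.hom.app (op U) ((J S).uliftYonedaEquiv.{u+1} p) = (J S).uliftYonedaEquiv.{u+1} (p ≫ f) := fun _ => rfl
  constructor
  · intro h
    refine ⟨fun I _ _ D c hc hD hT x i y e => ?_, fun I _ _ D c hc hD hT i x x' e ef => ?_⟩
    · obtain ⟨j, φ, z, h1, h2⟩ := (h D c hc hD hT).1 i ((J S).uliftYonedaEquiv.{u+1} y)
        ((J S).uliftYonedaEquiv.{u+1} x) (by rw [app]; exact (congrArg _ e).trans (nat _ _).symm)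
      obtain ⟨x', rfl⟩ := (J S).uliftYonedaEquiv.{u+1}.surjective z
      rw [nat] at h1
      rw [app, nat] at h2
      exact ⟨j, φ, x', (J S).uliftYonedaEquiv.{u+1}.injective h1, (J S).uliftYonedaEquiv.{u+1}.injective h2⟩
    · obtain ⟨j, φ, h1⟩ := (h D c hc hD hT).2 i ((J S).uliftYonedaEquiv.{u+1} x)
        ((J S).uliftYonedaEquiv.{u+1} x') ((nat _ _).trans ((congrArg _ e).trans (nat _ _).symm)) ((app _).trans ((congrArg _ ef).trans (app _).symm))
      rw [nat, nat] at h1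
      exact ⟨j, φ, (J S).uliftYonedaEquiv.{u+1}.injective h1⟩
  · rintro ⟨he, hu⟩ I _ _ D c hc hD hT
    refine ⟨fun i y x e => ?_, fun i x x' e ef => ?_⟩
    · obtain ⟨y, rfl⟩ := (J S).uliftYonedaEquiv.{u+1}.surjective y
      obtain ⟨x, rfl⟩ := (J S).uliftYonedaEquiv.{u+1}.surjective x
      rw [app, nat] at e
      obtain ⟨j, φ, x', h1, h2⟩ := he D c hc hD hT x i y ((J S).uliftYonedaEquiv.{u+1}.injective e)
      exact ⟨j, φ, (J S).uliftYonedaEquiv.{u+1} x', (nat _ _).trans (congrArg _ h1), (app _).trans ((congrArg _ h2).trans (nat _ _).symm)⟩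
    · obtain ⟨x, rfl⟩ := (J S).uliftYonedaEquiv.{u+1}.surjective x
      obtain ⟨x', rfl⟩ := (J S).uliftYonedaEquiv.{u+1}.surjective x'
      rw [nat, nat] at e
      rw [app, app] at ef
      obtain ⟨j, φ, h1⟩ := hu D c hc hD hT i x x' ((J S).uliftYonedaEquiv.{u+1}.injective e)
        ((J S).uliftYonedaEquiv.{u+1}.injective ef)
      exact ⟨j, φ, by rw [nat, nat, h1]⟩

variable {X Y : Sp S}

theorem spLPUniq_of_locP_lft (hX : IsAlgSpace X) (hY : IsAlgSpace Y) {f : X ⟶ Y}
    (hf : LocP @LocallyOfFiniteType f) : SpLPUniq f := by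
  intro I _ _ D c hc hD hT i x x' e ef
  have hd : RepWith @LocallyOfFinitePresentation (pullback.diagonal f) :=
    repWith_of_locP (isAlgSpace_pullback hY.diag hX hX f f) (representable_diagonal hX.diag f)
      (lfp_diagonal hX hY f hf)
  obtain ⟨j, φ, g', -, h2⟩ := exists_lift_of_repWith D c hc hD hd (pullback.lift x x' ef)
    ((yon S).map (c.π.app i) ≫ x) (by
      apply pullback.hom_ext <;> simp [e])
  have hg : g' = (yon S).map (D.map φ) ≫ x := by simpa using congrArg (· ≫ pullback.fst f f) h2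
  have hg' : g' = (yon S).map (D.map φ) ≫ x' := by simpa using congrArg (· ≫ pullback.snd f f) h2
  exact ⟨j, φ, hg.symm.trans hg'⟩

theorem spLPExist_of_locP (hX : IsAlgSpace X) (hY : IsAlgSpace Y) {f : X ⟶ Y}
    (hf : LocP @LocallyOfFinitePresentation f) : SpLPExist f := by
  intro I _ _ D c hc hD hT x i y e
  haveI := hD
  have huniq : SpLPUniq f := spLPUniq_of_locP_lft hX hY
    (locP_mono (fun _ _ g (hg : LocallyOfFinitePresentation g) => inferInstanceAs (LocallyOfFiniteType g)) hf)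
  -- charts
  obtain ⟨V, b, hbe, hbs⟩ := hY.atlas
  obtain ⟨U, pU, hpe, hps⟩ := (isAlgSpace_pullback hY.diag hX (IsAlgSpace.yon_obj V) f b).atlas
  let a : (yon S).obj U ⟶ X := pU ≫ pullback.fst f b
  obtain ⟨h, hh⟩ := (yon S).map_surjective (pU ≫ pullback.snd f b)
  have hae : RepWith @Etale a :=
    repWith_comp hpe (repWith_of_isPullback (IsPullback.of_hasPullback f b).flip hbe)
  have has : RepWith @Surjective a :=
    repWith_comp hps (repWith_of_isPullback (IsPullback.of_hasPullback f b).flip hbs)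
  have hab : a ≫ f = (yon S).map h ≫ b := by rw [hh]; simp [a, pullback.condition]
  haveI : LocallyOfFinitePresentation h.left := hf a b h hae hbe hab
  -- a chart of the stage
  obtain ⟨W₁, w₁, v₁, hw₁e, hw₁s, hv₁, -⟩ := exists_etale_cover hbe hbs y
  obtain ⟨W₀, r₀, hW₀a, hW₀e, hW₀s⟩ := exists_affine_refine w₁
  -- a chart of the limit
  let T₀ : Over S := pullback (c.π.app i) (r₀ ≫ w₁)
  have sq₀ := isPullback_left (IsPullback.of_hasPullback (c.π.app i) (r₀ ≫ w₁))
  haveI : Etale (pullback.fst (c.π.app i) (r₀ ≫ w₁)).left := MorphismProperty.of_isPullback sq₀.flip hW₀e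
  haveI : Surjective (pullback.fst (c.π.app i) (r₀ ≫ w₁)).left :=
    MorphismProperty.of_isPullback sq₀.flip hW₀s
  haveI : IsAffine (D.obj i).left := hD i
  haveI : IsAffine W₀.left := hW₀a
  haveI : IsAffine (((Functor.const I).obj c.pt).obj i).left := hT
  haveI : IsAffine T₀.left := IsAffine.of_isIso sq₀.isoPullback.hom
  obtain ⟨m, hm1, hm2⟩ : ∃ m : (yon S).obj T₀ ⟶ pullback f b,
      m ≫ pullback.fst f b = (yon S).map (pullback.fst (c.π.app i) (r₀ ≫ w₁)) ≫ x ∧
      m ≫ pullback.snd f b = (yon S).map (pullback.snd (c.π.app i) (r₀ ≫ w₁) ≫ r₀ ≫ v₁) :=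
    ⟨pullback.lift ((yon S).map (pullback.fst (c.π.app i) (r₀ ≫ w₁)) ≫ x)
      ((yon S).map (pullback.snd (c.π.app i) (r₀ ≫ w₁) ≫ r₀ ≫ v₁)) (by
        rw [Category.assoc, e, ← Category.assoc, ← Functor.map_comp, pullback.condition]
        simp only [Functor.map_comp, Category.assoc, hv₁]), pullback.lift_fst _ _ _, pullback.lift_snd _ _ _⟩
  obtain ⟨T₁, t₁, u₁, ht₁e, ht₁s, hu₁, -⟩ := exists_etale_cover hpe hps m
  obtain ⟨T', r, hT'a, hT'e, hT's⟩ := exists_affine_refine t₁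
  let p : T' ⟶ c.pt := (r ≫ t₁) ≫ pullback.fst (c.π.app i) (r₀ ≫ w₁)
  let s₀ : T' ⟶ W₀ := (r ≫ t₁) ≫ pullback.snd (c.π.app i) (r₀ ≫ w₁)
  haveI : Etale p.left := inferInstanceAs (Etale ((r ≫ t₁).left ≫ _))
  haveI : Surjective p.left := inferInstanceAs (Surjective ((r ≫ t₁).left ≫ _))
  let u : T' ⟶ U := r ≫ u₁
  have hua : (yon S).map u ≫ a = (yon S).map p ≫ x := by
    simp only [u, a, p, Functor.map_comp, Category.assoc, ← hm1]
    rw [reassoc_of% hu₁]
  have huh : u ≫ h = s₀ ≫ r₀ ≫ v₁ := (yon S).map_injective (by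
    have := hm2
    simp only [Functor.map_comp] at this
    simp only [u, s₀, Functor.map_comp, Category.assoc, ← this, hh]
    rw [reassoc_of% hu₁])
  -- a model of the chart
  obtain ⟨j, φ, W, w, q, hWa, hwe, hws, sqW⟩ := exists_etale_cover_stage D c hc hD i p
  obtain ⟨B⟩ := exists_stageBC D c hc hD j w q p sqW
  have hTa : IsAffine (⟨T', B.π⟩ : Cone B.E).pt.left := hT'a
  let pr₀ : B.E.obj (Over.mk (𝟙 j)) ⟶ D.obj i := B.pr.app (Over.mk (𝟙 j)) ≫ D.map φ
  have hpr : ∀ (k : CategoryTheory.Over j) (ψ : k ⟶ Over.mk (𝟙 j)),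
      B.E.map ψ ≫ pr₀ = B.pr.app k ≫ D.map (k.hom ≫ φ) := fun k ψ => by
    have hψ : ψ.left = k.hom := by simpa using Over.w ψ
    change B.E.map ψ ≫ B.pr.app _ ≫ D.map φ = _
    rw [reassoc_of% (B.pr.naturality ψ), D.map_comp]
    exact congrArg (fun z => B.pr.app k ≫ D.map z ≫ D.map φ) hψ
  obtain ⟨k, ψ, s, hs1, hs2⟩ := exists_lift_of_repWith B.E ⟨T', B.π⟩ B.isLimit.some B.affine
    (repWith_yon_map (P := @LocallyOfFinitePresentation) (g := r₀ ≫ w₁)
      (inferInstance : LocallyOfFinitePresentation (r₀ ≫ w₁).left))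
    ((yon S).map pr₀) ((yon S).map s₀) (by
      rw [← Functor.map_comp, ← Functor.map_comp]
      congr 1
      change _ = B.π.app (Over.mk (𝟙 j)) ≫ B.pr.app (Over.mk (𝟙 j)) ≫ D.map φ
      rw [reassoc_of% (B.π_pr (Over.mk (𝟙 j)))]
      change ((r ≫ t₁) ≫ _) ≫ _ = ((r ≫ t₁) ≫ _) ≫ c.π.app j ≫ D.map φ
      rw [c.w]
      simp only [Category.assoc, pullback.condition])
  -- the lift to the chart of the source
  obtain ⟨k', ψ', g, hg1, hg2⟩ := exists_lift_of_repWith B.E ⟨T', B.π⟩ B.isLimit.some B.affine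
    (repWith_yon_map (P := @LocallyOfFinitePresentation) (g := h) ‹_›)
    (s ≫ (yon S).map (r₀ ≫ v₁)) ((yon S).map u) (by
      rw [← Category.assoc ((yon S).map (B.π.app k)), hs1, ← Functor.map_comp, ← Functor.map_comp, huh])
  let ψk : k' ⟶ Over.mk (𝟙 j) := ψ' ≫ ψ
  have hgy : g ≫ a ≫ f = (yon S).map (B.pr.app k' ≫ D.map (k'.hom ≫ φ)) ≫ y := by
    rw [hab, reassoc_of% hg2, ← hpr k' ψk]
    have e1 : (yon S).map (r₀ ≫ v₁) ≫ b = (yon S).map (r₀ ≫ w₁) ≫ y := by
      simp only [Functor.map_comp, Category.assoc, hv₁]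
    rw [e1, reassoc_of% hs2]
    simp [ψk]
  -- the self product
  let l : I := k'.left
  let pl : B.E.obj k' ⟶ D.obj l := B.pr.app k'
  let W₂ : Over S := pullback pl pl
  have sq₂ := isPullback_left (IsPullback.of_hasPullback pl pl)
  haveI : IsAffine (B.E.obj k').left := B.affine _
  haveI : IsAffine W₂.left := IsAffine.of_isIso sq₂.isoPullback.hom
  let w₂ : W₂ ⟶ D.obj l := pullback.fst pl pl ≫ pl
  let T₂ : Over S := pullback w₂ (c.π.app l)
  haveI : IsAffine (D.obj l).left := hD l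
  haveI : IsAffine (((Functor.const I).obj c.pt).obj l).left := hT
  haveI : IsAffine T₂.left :=
    IsAffine.of_isIso (isPullback_left (IsPullback.of_hasPullback w₂ (c.π.app l))).isoPullback.hom
  let q₂ : T₂ ⟶ W₂ := pullback.fst w₂ (c.π.app l)
  let p₂ : T₂ ⟶ c.pt := pullback.snd w₂ (c.π.app l)
  obtain ⟨B₂⟩ := exists_stageBC D c hc hD l w₂ q₂ p₂ (isPullback_left (IsPullback.of_hasPullback w₂ (c.π.app l)))
  have sqT : IsPullback (B.π.app k').left p.left pl.left (c.π.app l).left := by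
    have hb := B.isPullback k'
    refine IsPullback.of_right ?_ (congrArg CommaMorphism.left (B.π_pr k')) hb
    rw [← Over.comp_left, B.π_fst, ← Over.comp_left, c.w]
    exact sqW
  have agree : ∀ pj : W₂ ⟶ B.E.obj k', pj ≫ pl = w₂ →
      (yon S).map q₂ ≫ (yon S).map pj ≫ g ≫ a = (yon S).map p₂ ≫ x := fun pj hpj => by
    obtain ⟨ρ, hρ1, hρ2⟩ : ∃ ρ : T₂ ⟶ T', ρ ≫ B.π.app k' = q₂ ≫ pj ∧ ρ ≫ p = p₂ := by
      have hw : (q₂ ≫ pj).left ≫ pl.left = p₂.left ≫ (c.π.app l).left := by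
        rw [← Over.comp_left, ← Over.comp_left, Category.assoc, hpj, pullback.condition]
      refine ⟨Over.homMk (sqT.lift (q₂ ≫ pj).left p₂.left hw) ?_,
        Over.OverMorphism.ext (sqT.lift_fst _ _ _), Over.OverMorphism.ext (sqT.lift_snd _ _ _)⟩
      rw [← Over.w p, ← Category.assoc]
      exact (congrArg (· ≫ c.pt.hom) (sqT.lift_snd _ _ _)).trans (Over.w p₂)
    rw [← Functor.map_comp_assoc, ← hρ1, Functor.map_comp, Category.assoc, reassoc_of% hg1, hua, ← hρ2,
      Functor.map_comp, Category.assoc]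
    all_goals simp [p]
  let o : CategoryTheory.Over l := Over.mk (𝟙 l)
  haveI : IsIso (B₂.fst o) := by
    have : IsIso (D.map o.hom).left := by
      change IsIso ((Over.forget S).map (D.map (𝟙 l)))
      infer_instance
    have : IsIso ((Over.forget S).map (B₂.fst o)) := (B₂.isPullback o).isIso_fst_of_isIso
    exact isIso_of_reflects_iso _ (Over.forget S)
  obtain ⟨m', μ, hμ⟩ := huniq B₂.E ⟨T₂, B₂.π⟩ B₂.isLimit.some B₂.affine ‹IsAffine T₂.left› o
    ((yon S).map (B₂.fst o ≫ pullback.fst pl pl) ≫ g ≫ a) ((yon S).map (B₂.fst o ≫ pullback.snd pl pl) ≫ g ≫ a)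
    (by
      simp only [← Category.assoc, ← Functor.map_comp, B₂.π_fst]
      simp only [Functor.map_comp, Category.assoc]
      rw [agree _ rfl, agree _ pullback.condition.symm])
    (by
      simp only [Category.assoc, hgy, ← Functor.map_comp_assoc]
      rw [reassoc_of% (pullback.condition : pullback.fst pl pl ≫ pl = _)])
  -- glue at the stage `m'`
  let n : I := m'.left
  let kn : CategoryTheory.Over j := Over.mk (m'.hom ≫ k'.hom)
  let χ : kn ⟶ k' := Over.homMk m'.hom rfl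
  let pn : B.E.obj kn ⟶ D.obj n := B.pr.app kn
  have hbp : IsPullback (B.fst kn).left pn.left w.left (D.map kn.hom).left := B.isPullback kn
  haveI : Etale pn.left := MorphismProperty.of_isPullback hbp hwe
  haveI : Surjective pn.left := MorphismProperty.of_isPullback hbp hws
  have hepi : Epi ((yon S).map pn) := epi_yon_map pn
  let ℓ₁ := pullback.fst pn pn
  let ℓ₂ := pullback.snd pn pn
  have hkey : (yon S).map ℓ₁ ≫ (yon S).map (B.E.map χ) ≫ g ≫ a =
      (yon S).map ℓ₂ ≫ (yon S).map (B.E.map χ) ≫ g ≫ a := by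
    have hc' : ∀ {z : pullback pn pn ⟶ B.E.obj kn}, z ≫ pn = ℓ₁ ≫ pn →
        z ≫ B.E.map χ ≫ pl = (ℓ₁ ≫ pn) ≫ D.map m'.hom := fun {z} hz => by
      rw [B.pr.naturality χ, ← Category.assoc, hz]
      rfl
    obtain ⟨σ, hσ1, hσ2⟩ : ∃ σ : pullback pn pn ⟶ W₂,
        σ ≫ pullback.fst pl pl = ℓ₁ ≫ B.E.map χ ∧ σ ≫ pullback.snd pl pl = ℓ₂ ≫ B.E.map χ :=
      ⟨pullback.lift (ℓ₁ ≫ B.E.map χ) (ℓ₂ ≫ B.E.map χ)
        (by rw [Category.assoc, Category.assoc, hc' rfl, hc' pullback.condition.symm]),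
        pullback.lift_fst _ _ _, pullback.lift_snd _ _ _⟩
    have hσw : σ.left ≫ w₂.left = (ℓ₁ ≫ pn).left ≫ (D.map m'.hom).left := by
      rw [← Over.comp_left, ← Over.comp_left]
      congr 1
      change σ ≫ pullback.fst pl pl ≫ pl = _
      rw [reassoc_of% hσ1, hc' rfl]
    obtain ⟨τ, hτ⟩ : ∃ τ : pullback pn pn ⟶ B₂.E.obj m', τ ≫ B₂.fst m' = σ := by
      refine ⟨Over.homMk ((B₂.isPullback m').lift σ.left (ℓ₁ ≫ pn).left hσw) ?_,
        Over.OverMorphism.ext ((B₂.isPullback m').lift_fst _ _ _)⟩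
      rw [← Over.w (B₂.fst m'), ← Category.assoc, IsPullback.lift_fst, Over.w σ]
    have hμfst : B₂.E.map μ ≫ B₂.fst o = B₂.fst m' := by
      exact B₂.fst_nat μ
    have := congrArg ((yon S).map τ ≫ ·) hμ
    simp only [← Category.assoc, ← Functor.map_comp] at this
    simp only [← Category.assoc, ← Functor.map_comp, ← hσ1, ← hσ2, ← hτ, ← hμfst]
    exact this
  obtain ⟨x', hx'⟩ := exists_desc_of_epi ((yon S).map pn)
    (isPullback_yon_map (IsPullback.of_hasPullback pn pn)) ((yon S).map (B.E.map χ) ≫ g ≫ a) hkey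
  refine ⟨n, kn.hom ≫ φ, x', ?_, ?_⟩
  · haveI : Epi ((yon S).map p) := epi_yon_map p
    rw [← cancel_epi ((yon S).map p), ← Category.assoc, ← Functor.map_comp,
      show p ≫ c.π.app n = B.π.app kn ≫ pn from (B.π_pr kn).symm,
      Functor.map_comp, Category.assoc, hx', ← Functor.map_comp_assoc]
    have hn : B.π.app kn ≫ B.E.map χ = B.π.app k' := by
      rw [← B.π.naturality χ]; exact Category.id_comp _
    rw [hn, reassoc_of% hg1, hua]
  · rw [← cancel_epi ((yon S).map pn), reassoc_of% hx', hgy, ← Functor.map_comp_assoc,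
      ← Functor.map_comp_assoc]
    congr 2
    rw [reassoc_of% (B.pr.naturality χ)]
    change B.pr.app kn ≫ D.map m'.hom ≫ D.map (k'.hom ≫ φ) = pn ≫ D.map ((m'.hom ≫ k'.hom) ≫ φ)
    rw [← D.map_comp, Category.assoc]

theorem locP_lfp_of_spLPExist {f : X ⟶ Y} (h : SpLPExist f) : LocP @LocallyOfFinitePresentation f := by
  intro U V a b hUV ha hb e
  refine Groth.Agent.AffLim.locallyOfFinitePresentation_of_factor hUV.left
    fun O hO J _ _ _ F α c hc g hg => ?_
  let D : Jᵒᵖ ⥤ Over S :=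
    { obj := fun j => Over.mk (Spec.map (α.app j.unop) ≫ hO.fromSpec ≫ V.hom)
      map := fun {j k} ψ => Over.homMk (Spec.map (F.map ψ.unop)) (by
        change Spec.map (F.map ψ.unop) ≫ Spec.map (α.app k.unop) ≫ _ = _
        rw [← Spec.map_comp_assoc, ← α.naturality]
        simp)
      map_id := fun j => Over.OverMorphism.ext (by simp)
      map_comp := fun ψ ψ' => Over.OverMorphism.ext (by simp) }
  obtain ⟨j₀⟩ := (inferInstance : Nonempty J)
  let T : Over S := Over.mk (g ≫ U.hom)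
  let v : ∀ j : J, D.obj (op j) ⟶ V := fun j => Over.homMk (Spec.map (α.app j) ≫ hO.fromSpec)
    (Category.assoc _ _ _)
  let cT : Cone D :=
    { pt := T
      π :=
        { app := fun j => Over.homMk (Spec.map (c.ι.app j.unop)) (by
            change _ = g ≫ U.hom
            rw [← Over.w hUV, ← Category.assoc g, hg j.unop]
            change Spec.map _ ≫ Spec.map (α.app j.unop) ≫ hO.fromSpec ≫ V.hom = _
            rw [Spec.map_comp]
            simp only [Category.assoc])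
          naturality := fun j k ψ => Over.OverMorphism.ext (by
            change 𝟙 _ ≫ Spec.map (c.ι.app k.unop) = Spec.map (c.ι.app j.unop) ≫ Spec.map (F.map ψ.unop)
            rw [Category.id_comp, ← Spec.map_comp, c.w]) } }
  have hcT : IsLimit ((Over.forget S).mapCone cT) :=
    IsLimit.ofIsoLimit (isLimitOfPreserves Scheme.Spec hc.op) (Cone.ext (Iso.refl _) (fun j => (Category.id_comp _).symm))
  let gU : T ⟶ U := Over.homMk g rfl
  have hgv : gU ≫ hUV = cT.π.app (op j₀) ≫ v j₀ := Over.OverMorphism.ext (by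
    change g ≫ hUV.left = Spec.map (c.ι.app j₀) ≫ Spec.map (α.app j₀) ≫ hO.fromSpec
    rw [hg j₀, Spec.map_comp, Category.assoc])
  have hDa : ∀ j, IsAffine (D.obj j).left := fun j => inferInstanceAs (IsAffine (Spec _))
  obtain ⟨j₁, φ, x', h1, h2⟩ := h D cT hcT hDa (inferInstanceAs (IsAffine (Spec _))) ((yon S).map gU ≫ a)
    (op j₀) ((yon S).map (v j₀) ≫ b) (by rw [Category.assoc, e, ← Functor.map_comp_assoc, hgv, Functor.map_comp, Category.assoc])
  obtain ⟨j₂, φ₂, g', hg1, hg2⟩ := exists_lift_of_repWith D cT hcT hDa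
    (repWith_mono (fun _ _ z (hz : Etale z) => inferInstanceAs (LocallyOfFinitePresentation z)) ha)
    x' ((yon S).map gU) h1.symm
  obtain ⟨g'', rfl⟩ := (yon S).map_surjective g'
  have hv : ∀ {j k : Jᵒᵖ} (ψ : j ⟶ k), D.map ψ ≫ v k.unop = v j.unop := fun {j k} ψ =>
    Over.OverMorphism.ext (by
      change Spec.map (F.map ψ.unop) ≫ Spec.map (α.app k.unop) ≫ _ = Spec.map (α.app j.unop) ≫ _
      rw [← Spec.map_comp_assoc, ← α.naturality]
      simp)
  have e₀ : (yon S).map (g'' ≫ hUV) ≫ b = (yon S).map (v j₂.unop) ≫ b := by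
    rw [Functor.map_comp, Category.assoc, ← e, reassoc_of% hg2, h2, ← Functor.map_comp_assoc,
      ← Category.assoc, ← Functor.map_comp, ← D.map_comp]
    exact congrArg (fun z => (yon S).map z ≫ b) (hv (φ₂ ≫ φ))
  have e₁ : cT.π.app j₂ ≫ g'' ≫ hUV = cT.π.app j₂ ≫ v j₂.unop := by
    rw [← Category.assoc, ← (yon S).map_injective ((Functor.map_comp _ _ _).trans hg1).symm, hgv]
    rw [← hv (φ₂ ≫ φ)]
    exact (congrArg (· ≫ v j₀) (cT.w (φ₂ ≫ φ))).symm.trans (Category.assoc _ _ _)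
  -- both agree in `V`
  obtain ⟨R, q, p, sq⟩ : ∃ (R : Over S) (q : R ⟶ V) (p : R ⟶ D.obj j₂),
      IsPullback ((yon S).map q) ((yon S).map p) b ((yon S).map (v j₂.unop) ≫ b) :=
    exists_isPullback_yon hb.1 _
  haveI : Etale p.left := hb.2 _ _ _ sq
  obtain ⟨σ, hσ⟩ := (yon S).map_surjective (sq.lift ((yon S).map (g'' ≫ hUV)) (𝟙 _) (by rw [Category.id_comp, e₀]))
  obtain ⟨σ', hσ'⟩ := (yon S).map_surjective (sq.lift ((yon S).map (v j₂.unop)) (𝟙 _) (Category.id_comp _).symm)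
  have l1 : σ ≫ q = g'' ≫ hUV := (yon S).map_injective (by rw [Functor.map_comp, hσ, sq.lift_fst])
  have l2 : σ' ≫ q = v j₂.unop := (yon S).map_injective (by rw [Functor.map_comp, hσ', sq.lift_fst])
  have p1 : σ ≫ p = 𝟙 _ := (yon S).map_injective (by rw [Functor.map_comp, hσ, sq.lift_snd, CategoryTheory.Functor.map_id])
  have p2 : σ' ≫ p = 𝟙 _ := (yon S).map_injective (by rw [Functor.map_comp, hσ', sq.lift_snd, CategoryTheory.Functor.map_id])
  have hrq : ∀ {Z : Over S} {z z' : Z ⟶ R}, z ≫ q = z' ≫ q → z ≫ p = z' ≫ p → z = z' := fun h1 h2 =>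
    (yon S).map_injective (sq.hom_ext (by simp only [← Functor.map_comp, h1]) (by simp only [← Functor.map_comp, h2]))
  obtain ⟨j₃, φ₃, h₃⟩ := exists_eq_stage D cT hcT hDa p σ σ' (p1.trans p2.symm)
    (hrq (by simp only [Category.assoc, l1, l2]; exact e₁) (by simp [p1, p2]))
  have hfin : D.map φ₃ ≫ g'' ≫ hUV = v j₃.unop := by
    rw [← l1, ← Category.assoc, h₃, Category.assoc, l2, hv]
  have hπ : cT.π.app j₃ ≫ D.map φ₃ ≫ g'' = gU := by
    rw [← Category.assoc, cT.w]; exact (yon S).map_injective ((Functor.map_comp _ _ _).trans hg1)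
  exact ⟨j₃.unop, (D.map φ₃ ≫ g'').left, congrArg CommaMorphism.left ((Category.assoc _ _ _).trans hfin),
    congrArg CommaMorphism.left hπ⟩

end Groth.Agent.ASp
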