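import Groth.Agent.ASp.Morph
import Groth.Agent.ASp.LocP
import Groth.Agent.ASp.Residual
import Groth.Agent.FPModelLib.Model
import Groth.Agent.FlatStage.Smooth
/-!
# Systems of affine schemes over `S`: sections, étale covers and base change along a stage
-/

set_option autoImplicit false
set_option backward.isDefEq.respectTransparency false
set_option backward.isDefEq.respectTransparency.types false

universe u

open CategoryTheory CategoryTheory.Limits AlgebraicGeometry Opposite

noncomputable section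

namespace Groth.Agent.ASp

open _root_.AlgSp

variable {S : Scheme.{u}}

/-- An étale surjective map onto an affine scheme is refined by an affine one. -/
theorem exists_affine_refine {Z T : Over S} (z : Z ⟶ T) [Etale z.left] [Surjective z.left] [IsAffine T.left] :
    ∃ (Z' : Over S) (r : Z' ⟶ Z), IsAffine Z'.left ∧ Etale (r ≫ z).left ∧ Surjective (r ≫ z).left := by
  let 𝒰 := Z.left.affineCover
  obtain ⟨t, ht⟩ := isCompact_univ.elim_finite_subcover
    (fun i => z.left '' Set.range (𝒰.f i))
    (fun i => z.left.isOpenMap _ (𝒰.f i).isOpenEmbedding.isOpen_range)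
    (fun x _ => by
      obtain ⟨v, rfl⟩ := z.left.surjective x
      exact Set.mem_iUnion.2 ⟨𝒰.idx v, v, 𝒰.covers v, rfl⟩)
  let φ : (∐ fun i : t => 𝒰.X i) ⟶ Z.left := Sigma.desc fun i : t => 𝒰.f i
  have hφ : Etale φ := by
    rw [IsZariskiLocalAtSource.iff_of_openCover (P := @Etale) (sigmaOpenCover fun i : t => 𝒰.X i)]
    intro i
    have : IsOpenImmersion (𝒰.f (i : t).1) := 𝒰.map_prop _
    have e : (sigmaOpenCover fun i : t => 𝒰.X i).f i ≫ φ = 𝒰.f (i : t).1 := Sigma.ι_desc _ _
    rw [e]
    infer_instance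
  refine ⟨Over.mk (φ ≫ Z.hom), Over.homMk φ rfl, inferInstanceAs (IsAffine (∐ fun i : t => 𝒰.X i)), ?_, ⟨fun x => ?_⟩⟩
  · exact inferInstanceAs (Etale (φ ≫ z.left))
  · obtain ⟨i, hi, _, ⟨v, rfl⟩, rfl⟩ := Set.mem_iUnion₂.1 (ht (Set.mem_univ x))
    refine ⟨Sigma.ι (fun i : t => 𝒰.X i) ⟨i, hi⟩ v, ?_⟩
    change z.left (φ (Sigma.ι (fun i : t => 𝒰.X i) ⟨i, hi⟩ v)) = _
    rw [← Scheme.Hom.comp_apply (Sigma.ι (fun i : t => 𝒰.X i) ⟨i, hi⟩) φ]
    exact congrArg (fun g : 𝒰.X i ⟶ Z.left => z.left (g v)) (Sigma.ι_desc (fun i : t => 𝒰.f i) ⟨i, hi⟩)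

variable {I : Type u} [SmallCategory I] [IsCofiltered I] (D : I ⥤ Over S) (c : Cone D)
  (hc : IsLimit ((Over.forget S).mapCone c)) (hD : ∀ i, IsAffine (D.obj i).left)

include hc hD

theorem isAffine_limit_over : IsAffine c.pt.left := by
  haveI : ∀ i, IsAffine ((D ⋙ Over.forget S).obj i) := hD
  exact Scheme.isAffine_of_isLimit ((Over.forget S).mapCone c) hc

/-- A section over the limit of a finitely presented map to a stage comes from a stage. -/
theorem exists_section_stage {P : Over S} {i : I} (h : P ⟶ D.obj i) [LocallyOfFinitePresentation h.left]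
    (s : c.pt ⟶ P) (e : s ≫ h = c.π.app i) :
    ∃ (j : I) (φ : j ⟶ i) (s' : D.obj j ⟶ P), c.π.app j ≫ s' = s ∧ s' ≫ h = D.map φ := by
  let D' : CategoryTheory.Over i ⥤ Scheme.{u} := CategoryTheory.Over.forget i ⋙ D ⋙ Over.forget S
  let c' : Cone D' := Cone.whisker (CategoryTheory.Over.forget i) ((Over.forget S).mapCone c)
  have hc' : IsLimit c' :=
    (Functor.Initial.isLimitWhiskerEquiv (CategoryTheory.Over.forget i) ((Over.forget S).mapCone c)).symm hc
  let t : D' ⟶ (Functor.const _).obj (D.obj i).left :=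
    { app := fun k => (D.map k.hom).left
      naturality := fun k l g => by
        change (D.map g.left).left ≫ (D.map l.hom).left = (D.map k.hom).left ≫ 𝟙 _
        rw [← Over.comp_left, ← D.map_comp, Over.w, Category.comp_id] }
  haveI : ∀ k, IsAffine (D'.obj k) := fun k => hD k.left
  haveI : ∀ {k l} (f : k ⟶ l), IsAffineHom (D'.map f) := fun f => inferInstance
  obtain ⟨k, g, hg, hg'⟩ := Scheme.exists_π_app_comp_eq_of_locallyOfFinitePresentation D' t h.left c' hc' s.left (by
    ext k
    change (c.π.app k.left).left ≫ (D.map k.hom).left = s.left ≫ h.left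
    rw [← Over.comp_left, c.w, ← Over.comp_left, e])
  refine ⟨k.left, k.hom, Over.homMk g ?_, Over.OverMorphism.ext hg, Over.OverMorphism.ext hg'⟩
  rw [← Over.w h, ← Over.w (D.map k.hom), ← Category.assoc]
  exact congrArg (· ≫ (D.obj i).hom) hg'

/-- Two maps from a stage agreeing on the limit and after a map of finite type agree at a later stage. -/
theorem exists_eq_stage {P V : Over S} (h : P ⟶ V) [LocallyOfFiniteType h.left] {i : I}
    (u u' : D.obj i ⟶ P) (e : u ≫ h = u' ≫ h) (he : c.π.app i ≫ u = c.π.app i ≫ u') :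
    ∃ (j : I) (φ : j ⟶ i), D.map φ ≫ u = D.map φ ≫ u' := by
  let D' : CategoryTheory.Over i ⥤ Scheme.{u} := CategoryTheory.Over.forget i ⋙ D ⋙ Over.forget S
  let c' : Cone D' := Cone.whisker (CategoryTheory.Over.forget i) ((Over.forget S).mapCone c)
  have hc' : IsLimit c' :=
    (Functor.Initial.isLimitWhiskerEquiv (CategoryTheory.Over.forget i) ((Over.forget S).mapCone c)).symm hc
  let t : D' ⟶ (Functor.const _).obj V.left :=
    { app := fun k => (D.map k.hom).left ≫ u.left ≫ h.left
      naturality := fun k l g => by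
        change (D.map g.left).left ≫ (D.map l.hom).left ≫ u.left ≫ h.left =
          ((D.map k.hom).left ≫ u.left ≫ h.left) ≫ 𝟙 _
        rw [← Category.assoc, ← Over.comp_left, ← D.map_comp, Over.w, Category.comp_id] }
  haveI : ∀ k, IsAffine (D'.obj k) := fun k => hD k.left
  haveI : ∀ {k l} (f : k ⟶ l), IsAffineHom (D'.map f) := fun f => inferInstance
  obtain ⟨k, g, hk⟩ := Scheme.exists_hom_comp_eq_comp_of_locallyOfFiniteType D' t h.left c' hc'
    (i := Over.mk (𝟙 i)) u.left u'.left
    (by change (D.map (𝟙 i)).left ≫ u.left ≫ h.left = _; simp)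
    (by change (D.map (𝟙 i)).left ≫ u.left ≫ h.left = _; simpa using congrArg CommaMorphism.left e)
    (congrArg CommaMorphism.left he)
  exact ⟨k.left, g.left, Over.OverMorphism.ext hk⟩

/-- A map over the limit into the source of a finitely presented representable map, over a stage, comes from
a stage. -/
theorem exists_lift_of_repWith {X F : Sp S} {a : X ⟶ F} (ha : RepWith @LocallyOfFinitePresentation a) {i : I}
    (x' : (yon S).obj (D.obj i) ⟶ F) (g : (yon S).obj c.pt ⟶ X)
    (e : g ≫ a = (yon S).map (c.π.app i) ≫ x') :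
    ∃ (j : I) (φ : j ⟶ i) (g' : (yon S).obj (D.obj j) ⟶ X),
      (yon S).map (c.π.app j) ≫ g' = g ∧ g' ≫ a = (yon S).map (D.map φ) ≫ x' := by
  obtain ⟨W, q, p, sq⟩ : ∃ (W : Over S) (q : (yon S).obj W ⟶ X) (p : W ⟶ D.obj i),
      IsPullback q ((yon S).map p) a x' := ⟨_, _, _, ha.1.isPullback x'⟩
  haveI : LocallyOfFinitePresentation p.left := ha.2 x' q p sq
  obtain ⟨s, hs⟩ := (yon S).map_surjective (sq.lift g ((yon S).map (c.π.app i)) e)
  have hsp : s ≫ p = c.π.app i := (yon S).map_injective (by rw [Functor.map_comp, hs, sq.lift_snd])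
  obtain ⟨j, φ, s', h1, h2⟩ := exists_section_stage D c hc hD p s hsp
  refine ⟨j, φ, (yon S).map s' ≫ q, ?_, ?_⟩
  · rw [← Category.assoc, ← Functor.map_comp, h1, hs, sq.lift_fst]
  · rw [Category.assoc, sq.w, ← Category.assoc, ← Functor.map_comp, h2]

omit hc hD in
/-- The base change of a system along a map to a stage, with a given limit. -/
structure StageBC (i : I) {W T' : Over S} (w : W ⟶ D.obj i) (q : T' ⟶ W) (p : T' ⟶ c.pt) where
  E : CategoryTheory.Over i ⥤ Over S
  pr : E ⟶ CategoryTheory.Over.forget i ⋙ D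
  fst : ∀ k, E.obj k ⟶ W
  π : (Functor.const _).obj T' ⟶ E
  isLimit : Nonempty (IsLimit ((Over.forget S).mapCone (⟨T', π⟩ : Cone E)))
  affine : ∀ k, IsAffine (E.obj k).left
  isPullback : ∀ k, IsPullback (fst k).left (pr.app k).left w.left (D.map k.hom).left
  fst_nat : ∀ {k l} (f : k ⟶ l), E.map f ≫ fst l = fst k
  π_fst : ∀ k, π.app k ≫ fst k = q
  π_pr : ∀ k, π.app k ≫ pr.app k = p ≫ c.π.app k.left

theorem exists_stageBC (i : I) {W T' : Over S} (w : W ⟶ D.obj i) [IsAffine W.left] (q : T' ⟶ W) (p : T' ⟶ c.pt)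
    (sq : IsPullback q.left p.left w.left (c.π.app i).left) :
    Nonempty (StageBC D c i w q p) := by
  let D₀ := D ⋙ Over.forget S
  let c₀ : Cone D₀ := (Over.forget S).mapCone c
  haveI : ∀ k, IsAffine (D₀.obj k) := hD
  haveI : ∀ {k l} (f : k ⟶ l), IsAffineHom (D₀.map f) := fun f => inferInstance
  let B := AffLim.baseChange D₀ i w.left
  let E : CategoryTheory.Over i ⥤ Over S :=
    { obj := fun k => Over.mk ((pullback.snd _ _ : B.obj k ⟶ _) ≫ (D.obj k.left).hom)
      map := fun {k l} f => Over.homMk (B.map f) (by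
        change B.map f ≫ pullback.snd _ _ ≫ (D.obj l.left).hom = pullback.snd _ _ ≫ (D.obj k.left).hom
        rw [← Category.assoc]
        simp [B, AffLim.baseChange, D₀])
      map_id := fun k => Over.OverMorphism.ext (B.map_id k)
      map_comp := fun f g => Over.OverMorphism.ext (B.map_comp f g) }
  let pr : E ⟶ CategoryTheory.Over.forget i ⋙ D :=
    { app := fun k => Over.homMk (pullback.snd _ _) rfl
      naturality := fun k l f => Over.OverMorphism.ext (by
        change B.map f ≫ pullback.snd _ _ = pullback.snd _ _ ≫ (D.map f.left).left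
        simp [B, AffLim.baseChange, D₀]) }
  let fst : ∀ k, E.obj k ⟶ W := fun k => Over.homMk (pullback.fst _ _) (by
    change pullback.fst w.left (D₀.map k.hom) ≫ W.hom = pullback.snd _ _ ≫ (D.obj k.left).hom
    rw [← Over.w w, ← Category.assoc, pullback.condition, Category.assoc]
    exact congrArg _ (Over.w (D.map k.hom)))
  let π : (Functor.const _).obj T' ⟶ E :=
    { app := fun k => Over.homMk (pullback.lift q.left (p.left ≫ (c.π.app k.left).left) (by
          rw [sq.w, Category.assoc]
          exact congrArg _ (congrArg CommaMorphism.left (c.w k.hom)).symm)) (by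
        change pullback.lift _ _ _ ≫ pullback.snd w.left (D₀.map k.hom) ≫ (D.obj k.left).hom = T'.hom
        rw [pullback.lift_snd_assoc, Category.assoc, Over.w (c.π.app k.left)]
        exact Over.w p)
      naturality := fun k l f => Over.OverMorphism.ext (by
        change 𝟙 _ ≫ pullback.lift q.left (p.left ≫ (c.π.app l.left).left) _ =
          pullback.lift q.left (p.left ≫ (c.π.app k.left).left) _ ≫ B.map f
        apply pullback.hom_ext
        · simp [B, AffLim.baseChange, D₀]
        · simp only [Category.id_comp, pullback.lift_snd, Category.assoc, B, AffLim.baseChange]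
          rw [pullback.lift_snd_assoc]
          change _ = (p.left ≫ (c.π.app k.left).left) ≫ (D.map f.left).left
          rw [Category.assoc]
          exact congrArg (fun z => p.left ≫ CommaMorphism.left z) (c.w f.left).symm) }
  obtain ⟨hl⟩ := AffLim.nonempty_isLimit_baseChangeCone D₀ c₀ hc i w.left
  refine ⟨⟨E, pr, fst, π, ⟨IsLimit.ofIsoLimit hl (Cone.ext sq.isoPullback (fun k => ?_)).symm⟩, fun k => ?_,
    fun k => IsPullback.of_hasPullback _ _, fun {k l} f => Over.OverMorphism.ext (by
      change B.map f ≫ pullback.fst _ _ = pullback.fst _ _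
      simp [B, AffLim.baseChange, D₀]),
    fun k => Over.OverMorphism.ext (pullback.lift_fst _ _ _),
    fun k => Over.OverMorphism.ext (pullback.lift_snd _ _ _)⟩⟩
  · change pullback.lift q.left (p.left ≫ (c.π.app k.left).left) _ =
      sq.isoPullback.hom ≫ (AffLim.baseChangeCone D₀ c₀ i w.left).π.app k
    apply pullback.hom_ext <;> simp [c₀]
  · haveI : IsAffine (D.obj i).left := hD i
    haveI : IsAffine (D.obj k.left).left := hD _
    change IsAffine (pullback w.left (D.map k.hom).left)
    infer_instance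

/-- An affine étale cover of the limit is a base change of one of a stage. -/
theorem exists_etale_cover_stage (i : I) {T' : Over S} [IsAffine T'.left] (p : T' ⟶ c.pt) [Etale p.left]
    [Surjective p.left] :
    ∃ (j : I) (_ : j ⟶ i) (W : Over S) (w : W ⟶ D.obj j) (q : T' ⟶ W), IsAffine W.left ∧ Etale w.left ∧
      Surjective w.left ∧ IsPullback q.left p.left w.left (c.π.app j).left := by
  let D₀ : CategoryTheory.Over i ⥤ Scheme.{u} := CategoryTheory.Over.forget i ⋙ D ⋙ Over.forget S
  let c₀ : Cone D₀ := Cone.whisker (CategoryTheory.Over.forget i) ((Over.forget S).mapCone c)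
  have hc₀ : IsLimit c₀ :=
    (Functor.Initial.isLimitWhiskerEquiv (CategoryTheory.Over.forget i) ((Over.forget S).mapCone c)).symm hc
  haveI : ∀ k, IsAffine (D₀.obj k) := fun k => hD k.left
  haveI : ∀ {k l} (f : k ⟶ l), IsAffineHom (D₀.map f) := fun f => inferInstance
  let p₀ : T'.left ⟶ c₀.pt := p.left
  obtain ⟨k, U₀, f₀, q₀, hU₀, hlfp, sq⟩ := FPModelLib.exists_affine_model D₀ c₀ hc₀ p₀
  haveI : Etale p₀ := ‹Etale p.left›
  haveI : Surjective p₀ := ‹Surjective p.left›
  have hY : IsPullback (c₀.π.app k) (𝟙 c₀.pt) (𝟙 (D₀.obj k)) (c₀.π.app k) := IsPullback.id_vert _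
  obtain ⟨k₁, hk₁⟩ := FlatStage.exists_etale D₀ c₀ k f₀ (𝟙 _) hY sq hc₀
  obtain ⟨k₂, φ, hk₂⟩ := AffLim.exists_surjective_baseChange_from D₀ c₀ hc₀ k f₀ (𝟙 _) k₁ hY sq
  have key : ∀ (P : MorphismProperty Scheme.{u}) [P.RespectsIso] (m : CategoryTheory.Over k),
      P ((AffLim.baseChangeMap D₀ k f₀ (𝟙 _)).app m) ↔ P (pullback.snd f₀ (D₀.map m.hom)) := fun P _ m => by
    haveI : IsIso (pullback.snd (𝟙 (D₀.obj k)) (D₀.map m.hom)) := inferInstance
    rw [← P.cancel_right_of_respectsIso _ (pullback.snd (𝟙 (D₀.obj k)) (D₀.map m.hom))]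
    have e : (AffLim.baseChangeMap D₀ k f₀ (𝟙 _)).app m ≫ pullback.snd (𝟙 (D₀.obj k)) (D₀.map m.hom) =
        pullback.snd (f₀ ≫ 𝟙 _) (D₀.map m.hom) := by simp [AffLim.baseChangeMap]
    rw [e]
    exact (P.arrow_mk_iso_iff (Arrow.isoMk (pullback.congrHom (Category.comp_id f₀) rfl) (Iso.refl _) (by simp)))
  have he₁ : Etale (pullback.snd f₀ (D₀.map k₁.hom)) := (key @Etale k₁).1 hk₁
  have hs : Surjective (pullback.snd f₀ (D₀.map k₂.hom)) := (key @Surjective k₂).1 hk₂
  have sq₁ : IsPullback (pullback.lift (pullback.fst f₀ (D₀.map k₂.hom))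
      (pullback.snd f₀ (D₀.map k₂.hom) ≫ D₀.map φ.left) (by
        rw [Category.assoc, ← D₀.map_comp, Over.w φ, pullback.condition]))
      (pullback.snd f₀ (D₀.map k₂.hom)) (pullback.snd f₀ (D₀.map k₁.hom)) (D₀.map φ.left) := by
    refine IsPullback.of_right ?_ (pullback.lift_snd _ _ _) (IsPullback.of_hasPullback f₀ (D₀.map k₁.hom))
    rw [pullback.lift_fst, ← D₀.map_comp, Over.w φ]
    exact IsPullback.of_hasPullback _ _
  have he : Etale (pullback.snd f₀ (D₀.map k₂.hom)) := MorphismProperty.of_isPullback sq₁ he₁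
  let j : I := k₂.left.left
  let W : Over S := Over.mk (pullback.snd f₀ (D₀.map k₂.hom) ≫ (D.obj j).hom)
  let w : W ⟶ D.obj j := Over.homMk (pullback.snd f₀ (D₀.map k₂.hom)) rfl
  let q : T'.left ⟶ W.left := pullback.lift q₀ (p.left ≫ c₀.π.app k₂.left) (by
    rw [sq.w, Category.assoc]
    exact congrArg _ (c₀.w k₂.hom).symm)
  refine ⟨j, k₂.left.hom, W, w, Over.homMk q ?_, ?_, he, hs, ?_⟩
  · change q ≫ pullback.snd _ _ ≫ (D.obj j).hom = T'.hom
    rw [pullback.lift_snd_assoc, Category.assoc]
    exact ((congrArg _ (Over.w (c.π.app j))).trans (Over.w p))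
  · haveI := hU₀
    change IsAffine (pullback f₀ (D₀.map k₂.hom))
    infer_instance
  · refine IsPullback.of_right ?_ (pullback.lift_snd _ _ _) (IsPullback.of_hasPullback f₀ (D₀.map k₂.hom))
    change IsPullback (q ≫ pullback.fst _ _) p₀ f₀ (c₀.π.app k₂.left ≫ D₀.map k₂.hom)
    rw [pullback.lift_fst, c₀.w]
    exact sq

end Groth.Agent.ASp
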