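import Groth.Agent.ASp.EffCartier
import Groth.Agent.ASp.AffMor
import Groth.Agent.ASp.Univ
import Groth.Agent.RatDense.Basic
import Groth.Prelude.Def_W4stk3spdivLocPr
/-!
The open complement of a locally principal closed subspace.
-/

set_option autoImplicit false
set_option backward.isDefEq.respectTransparency false
set_option backward.isDefEq.respectTransparency.types false

universe u

open CategoryTheory CategoryTheory.Limits AlgebraicGeometry Opposite

namespace Groth.Agent.ASp

open _root_.AlgSp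

section Scheme

variable {X : Scheme.{u}}

theorem compl_inf_eq_basicOpen (I : X.IdealSheafData) (V : X.affineOpens) {a : Γ(X, V.1)}
    (ha : I.ideal V = Ideal.span {a}) : (I.support.compl : X.Opens) ⊓ V.1 = X.basicOpen a := by
  ext y
  constructor
  · rintro ⟨hy, hyV⟩
    by_contra hn
    refine hy ((Scheme.IdealSheafData.mem_support_iff_of_mem hyV).2 ?_)
    rw [ha, Scheme.zeroLocus_span, Scheme.mem_zeroLocus_iff]
    intro g hg
    rw [Set.mem_singleton_iff.1 hg]
    exact hn
  · intro hy
    have hyV : y ∈ V.1 := X.basicOpen_le a hy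
    refine ⟨fun hys => ?_, hyV⟩
    have h1 := (Scheme.IdealSheafData.mem_support_iff_of_mem hyV).1 hys
    rw [ha, Scheme.zeroLocus_span, Scheme.mem_zeroLocus_iff] at h1
    exact h1 a rfl hy

theorem isAffineHom_compl_of_isLocPrincipal (I : X.IdealSheafData) (hI : Curv2.IsLocPrincipal I) :
    IsAffineHom (Scheme.Opens.ι (X := X) I.support.compl) := by
  refine isAffineHom_of_forall_exists_isAffineOpen _ fun x => ?_
  by_cases hx : x ∈ I.support
  · obtain ⟨V, hxV, a, ha⟩ := hI x hx
    refine ⟨V.1, hxV, V.2, (Scheme.Hom.isAffineOpen_iff_of_isOpenImmersion (Scheme.Opens.ι (X := X) I.support.compl)).1 ?_⟩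
    rw [Scheme.Hom.image_preimage_eq_opensRange_inf, Scheme.Opens.opensRange_ι, compl_inf_eq_basicOpen I V ha]
    exact V.2.basicOpen a
  · obtain ⟨V, hV, hxV, hVle⟩ := exists_isAffineOpen_mem_and_subset (x := x) (U := I.support.compl) hx
    refine ⟨V, hxV, hV, (Scheme.Hom.isAffineOpen_iff_of_isOpenImmersion (Scheme.Opens.ι (X := X) I.support.compl)).1 ?_⟩
    rw [Scheme.Hom.image_preimage_eq_opensRange_inf, Scheme.Opens.opensRange_ι, inf_eq_right.2 (show V ≤ (I.support.compl : X.Opens) from hVle)]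
    exact hV

theorem isSchematicallyDense_compl (I : X.IdealSheafData) (hI : BlowUp.IsEffCartierIdeal I) :
    CInt.IsSchematicallyDense (X := X) I.support.compl := by
  refine RatDense.of_forall_affine fun x O hxO => ?_
  obtain ⟨V, hxV, f, hf, hfV⟩ := hI x
  obtain ⟨r, hr, hxr⟩ := V.2.exists_basicOpen_le (V := O) ⟨x, hxO⟩ hxV
  obtain ⟨g, hg, hgV⟩ := RelDivLib.generator_res I V r hf hfV
  let W : X.affineOpens := X.affineBasicOpen (U := V) r
  refine ⟨W.1, hxr, hr, fun s hs => ?_⟩
  have key : ∀ (O' : X.Opens) (h : O' ≤ W.1), O' = X.basicOpen (U := W.1) g → RatDense.res h s = 0 → s = 0 := by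
    rintro O' h rfl h0
    letI : Algebra Γ(X, W.1) Γ(X, X.basicOpen (U := W.1) g) := (RatDense.res h).hom.toAlgebra
    haveI : IsLocalization.Away g Γ(X, X.basicOpen (U := W.1) g) := W.2.isLocalization_basicOpen g
    exact IsLocalization.injective Γ(X, X.basicOpen (U := W.1) g) (M := Submonoid.powers g)
      (Submonoid.powers_le.2 hg) (h0.trans (map_zero _).symm)
  exact key _ inf_le_left (by rw [inf_comm]; exact compl_inf_eq_basicOpen I W hgV) hs

end Scheme

variable {S : Scheme.{u}} {X U D : Sp S}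

/-- The image of the projection to a chart is the inverse image of the image on points. -/
theorem range_left_eq_preimage {f : U ⟶ X} {V W : Over S} {φ : (yon S).obj V ⟶ X} {fst : (yon S).obj W ⟶ U}
    {s : W ⟶ V} (sq : IsPullback fst ((yon S).map s) f φ) :
    Set.range s.left = Points.ofPt φ ⁻¹' Set.range (Points.map f) := by
  ext v
  constructor
  · rintro ⟨w, rfl⟩
    exact ⟨Points.ofPt fst w, by rw [Points.map_ofPt, sq.w, ofPt_yon_map_comp]⟩
  · rintro ⟨y, hy⟩
    obtain ⟨z, -, hz⟩ := points_exists_of_isPullback sq y (Points.schemeHomeo V v)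
      (by rw [hy, ofPt_comp_eq_map]; rfl)
    obtain ⟨w, rfl⟩ := (Points.schemeHomeo W).surjective z
    rw [Points.map_yon_map_apply] at hz
    exact ⟨w, (Points.schemeHomeo V).injective hz⟩

/-- On a chart, the complementary open subspace is the complement of the support. -/
theorem exists_compl_chart {i : D ⟶ X} {j : U ⟶ X} (hj : RepWith @IsOpenImmersion j)
    (hU : Set.range (Points.map j) = (Set.range (Points.map i))ᶜ) {V : Over S} {φ : (yon S).obj V ⟶ X}
    {I : V.left.IdealSheafData} (hI : IsSubIdeal i φ I) :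
    ∃ fst : (yon S).obj (Over.mk (Scheme.Opens.ι (X := V.left) I.support.compl ≫ V.hom)) ⟶ U,
      IsPullback fst ((yon S).map (Over.homMk (Scheme.Opens.ι (X := V.left) I.support.compl) rfl :
        Over.mk (Scheme.Opens.ι (X := V.left) I.support.compl ≫ V.hom) ⟶ V)) j φ := by
  obtain ⟨fI, sqI⟩ := hI
  have sq := hj.1.isPullback φ
  let z := hj.1.snd φ
  haveI : IsOpenImmersion z.left := hj.2 _ _ _ sq
  let ι := Scheme.Opens.ι (X := V.left) I.support.compl
  have hr : Set.range z.left = Set.range ι := by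
    rw [range_left_eq_preimage sq, hU, Set.preimage_compl, ← range_left_eq_preimage sqI, Scheme.Opens.range_ι]
    show (Set.range I.subschemeι)ᶜ = _
    rw [Scheme.IdealSheafData.range_subschemeι]
    rfl
  let e : hj.1.pullback φ ≅ Over.mk (ι ≫ V.hom) := Over.isoMk (IsOpenImmersion.isoOfRangeEq z.left ι hr) (by
    show (IsOpenImmersion.isoOfRangeEq z.left ι hr).hom ≫ ι ≫ V.hom = _
    rw [IsOpenImmersion.isoOfRangeEq_hom_fac_assoc, Over.w])
  refine ⟨(yon S).map e.inv ≫ hj.1.fst φ, ?_⟩
  refine IsPullback.of_iso sq ((yon S).mapIso e) (Iso.refl _) (Iso.refl _) (Iso.refl _) ?_ ?_ (by simp) (by simp)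
  · simp
  · simp only [Functor.mapIso_hom, Iso.refl_hom, Category.comp_id, ← (yon S).map_comp]
    congr 1
    exact Over.OverMorphism.ext (IsOpenImmersion.isoOfRangeEq_hom_fac z.left ι hr).symm

/-- The complement of a locally principal closed subspace has affine inclusion. -/
theorem isAffineMor_compl (hX : IsAlgSpace X) (hU' : IsAlgSpace U) {i : D ⟶ X} (hi : IsLocPrincipalSub i)
    {j : U ⟶ X} (hj : RepWith @IsOpenImmersion j)
    (hU : Set.range (Points.map j) = (Set.range (Points.map i))ᶜ) : IsAffineMor j := by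
  obtain ⟨-, V, φ, I, fI, hφ, hφs, sqI, hI⟩ := hi
  obtain ⟨fst, sq⟩ := exists_compl_chart hj hU (φ := φ) ⟨fI, sqI⟩
  exact isAffineMor_of_fpqc (Yi := fun _ : PUnit.{u+1} => (yon S).obj V) (g := fun _ => φ) (q := fun _ => fst)
    hU' hX (fun _ => sq) (isFpqcCover_of_chart hX hφ hφs) fun _ =>
    isAffineMor_of_repWith (P := @IsAffineHom) (fun _ h => h)
      (repWith_yon_map (isAffineHom_compl_of_isLocPrincipal I hI))

/-- Effective Cartier divisors are locally principal. -/
theorem isLocPrincipalSub_of_isEffCartierSub {i : D ⟶ X} (hD : IsEffCartierSub i) : IsLocPrincipalSub i := by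
  obtain ⟨hi, V, φ, I, fI, hφ, hφs, sq, hI⟩ := hD
  exact ⟨hi, V, φ, I, fI, hφ, hφs, sq, fun x _ => let ⟨W, hW, f, _, hfW⟩ := hI x; ⟨W, hW, f, hfW⟩⟩

/-- The complement of an effective Cartier divisor is scheme-theoretically dense. -/
theorem isSchDense_compl {i : D ⟶ X} (hD : IsEffCartierSub i) {j : U ⟶ X} (hj : RepWith @IsOpenImmersion j)
    (hU : Set.range (Points.map j) = (Set.range (Points.map i))ᶜ) : IsSchDense j := by
  obtain ⟨-, V, φ, I, fI, hφ, hφs, sqI, hI⟩ := hD
  obtain ⟨fst, sq⟩ := exists_compl_chart hj hU (φ := φ) ⟨fI, sqI⟩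
  exact ⟨hj, V, φ, _, fst, hφ, hφs, sq, isSchematicallyDense_compl I hI⟩

end Groth.Agent.ASp
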