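import Groth.Agent.ASp.OnePoint
import Groth.Agent.ASp.AffMor
import Groth.Agent.ASp.NoethFibre
import Groth.Agent.ASp.DiscFibre
import Groth.Agent.ASp.SubCompl
import Groth.Agent.DVRCrit.Local
/-!
Residual spaces at closed points of locally Noetherian algebraic spaces are closed immersions.
-/

set_option autoImplicit false
set_option backward.isDefEq.respectTransparency false
set_option backward.isDefEq.respectTransparency.types false

universe u

open CategoryTheory CategoryTheory.Limits AlgebraicGeometry Opposite TopologicalSpace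

namespace Groth.Agent.ASp

open _root_.AlgSp

variable {S : Scheme.{u}}

/-- A discrete reduced scheme has field stalks. -/
theorem isField_stalk_of_discrete {T : Scheme.{u}} [IsReduced T] [DiscreteTopology ↥T] (t : ↥T) :
    IsField ↥(T.presheaf.stalk t) := by
  have hd : ringKrullDim ↥(T.presheaf.stalk t) = 0 := ringKrullDim_stalk_eq_zero fun v hv => hv.eq
  haveI : Ring.KrullDimLE 0 ↥(T.presheaf.stalk t) := (Ring.krullDimLE_iff).2 (by rw [hd]; rfl)
  exact Ring.KrullDimLE.isField_of_isReduced

/-- Specialisations between chart points of the same point of a locally Noetherian space are trivial. -/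
theorem eq_of_specializes_of_noetherian {X : Sp S} {A : Over S} {a : (yon S).obj A ⟶ X} (ha : RepWith @Etale a)
    [IsLocallyNoetherian A.left] {v w : ↥A.left} (e : Points.ofPt a v = Points.ofPt a w) (h : v ⤳ w) : v = w := by
  have hd := ringKrullDim_stalk_eq_of_charts ha ha e
  rw [ringKrullDim_stalk_eq_coheight, ringKrullDim_stalk_eq_coheight] at hd
  by_contra hne
  letI := specializationOrder ↥A.left
  have hlt : w < v := lt_of_le_of_ne (show w ≤ v from h) (Ne.symm hne)
  have hfin : Order.coheight v < ⊤ := by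
    have h1 : ringKrullDim ↥(A.left.presheaf.stalk v) < ⊤ := ringKrullDim_lt_top
    rw [ringKrullDim_stalk_eq_coheight] at h1
    exact WithBot.coe_lt_coe.1 h1
  have h2 := Order.coheight_strictAnti hlt hfin
  exact absurd hd (ne_of_lt (WithBot.coe_lt_coe.2 h2))

variable {X Z : Sp S}

/-- At a closed point of a locally Noetherian space, the residual space is a closed immersion. -/
theorem repWith_isClosedImmersion_of_residual (hXs : IsAlgSpace X) (hZ : IsAlgSpace Z) (hX : IsLocNoethSp X)
    (i : Z ⟶ X) [Mono i] {x : Points X} (hi : Set.range (Points.map i) = {x})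
    {k : Type u} [Field k] {str : Spec (CommRingCat.of k) ⟶ S} (q : (yon S).obj (Over.mk str) ⟶ Z)
    (hqf : LocP @Flat q) (hqs : IsSurjectiveMor q) (hx : IsClosed ({x} : Set (Points X))) :
    RepWith @IsClosedImmersion i := by
  obtain ⟨A, a, ha, has⟩ := hXs.atlas
  haveI : IsLocallyNoetherian A.left := isLocallyNoetherian_of_chart hX ha
  let F : Closeds ↥A.left := ⟨Points.ofPt a ⁻¹' {x}, hx.preimage (Points.continuous_ofPt a)⟩
  let I := Scheme.IdealSheafData.vanishingIdeal (X := A.left) F
  haveI : IsReduced I.subscheme := DVRCrit.isReduced_vanishingIdeal F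
  have hr : Set.range I.subschemeι = (F : Set ↥A.left) := by
    rw [Scheme.IdealSheafData.range_subschemeι, Scheme.IdealSheafData.coe_support_vanishingIdeal]
  have hmem : ∀ s, Points.ofPt a (I.subschemeι s) = x := fun s => (Set.ext_iff.1 hr _).1 ⟨s, rfl⟩
  haveI : T1Space ↥I.subscheme := t1Space_iff_specializes_imp_eq.2 fun s t h =>
    I.subschemeι.isClosedEmbedding.injective
      (eq_of_specializes_of_noetherian ha ((hmem s).trans (hmem t).symm) (h.map I.subschemeι.continuous))
  haveI : IsLocallyNoetherian I.subscheme := LocallyOfFiniteType.isLocallyNoetherian I.subschemeι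
  haveI : DiscreteTopology ↥I.subscheme := discreteTopology_of_t1 _
  let Fr : Over S := subOver I
  haveI : DiscreteTopology ↥Fr.left := inferInstanceAs (DiscreteTopology ↥I.subscheme)
  haveI : IsReduced Fr.left := inferInstanceAs (IsReduced I.subscheme)
  let c : Fr ⟶ A := subInc I
  -- the reduced fibre lifts to the subspace
  obtain ⟨M, m₁, m₂, sqM⟩ : ∃ (M : Sp S) (m₁ : M ⟶ Z) (m₂ : M ⟶ (yon S).obj Fr),
      IsPullback m₁ m₂ i ((yon S).map c ≫ a) := ⟨_, _, _, IsPullback.of_hasPullback _ _⟩
  haveI : Mono m₂ := ⟨fun s t h => sqM.hom_ext ((cancel_mono i).1 (by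
    rw [Category.assoc, Category.assoc, sqM.w, reassoc_of% h])) h⟩
  obtain ⟨ZA, z₁, z₂, sqA⟩ : ∃ (ZA : Sp S) (z₁ : ZA ⟶ Z) (z₂ : ZA ⟶ (yon S).obj A), IsPullback z₁ z₂ i a :=
    ⟨_, _, _, IsPullback.of_hasPullback _ _⟩
  have hZA := isAlgSpace_of_isPullback hXs.diag hZ (IsAlgSpace.yon_obj A) sqA
  have hz₁ : RepWith @Etale z₁ := repWith_of_isPullback sqA.flip ha
  obtain ⟨E, ε, hεe, hεs⟩ := hZA.atlas
  obtain ⟨d, hd⟩ := (yon S).map_surjective (ε ≫ z₂)
  have hfs := hasFieldStalks_of_flat hZ q hqf hqs
  haveI : IsReduced E.left := isReduced_of_hasFieldStalks hfs (repWith_comp hεe hz₁)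
  have hdr : Set.range d.left ⊆ Set.range I.subschemeι := by
    rintro _ ⟨e, rfl⟩
    rw [hr]
    show Points.ofPt a (d.left e) = x
    rw [← ofPt_yon_map_comp, hd, Category.assoc, ← sqA.w, ← Category.assoc, ← Points.map_ofPt]
    exact (Set.ext_iff.1 hi _).1 ⟨_, rfl⟩
  obtain ⟨e₀, he₀⟩ := DVRCrit.exists_factor_closed I.subschemeι d.left hdr
  let e : E ⟶ Fr := Over.homMk e₀ (by
    show e₀ ≫ I.subschemeι ≫ A.hom = E.hom
    rw [← Category.assoc, he₀]; exact Over.w d)
  have hec : e ≫ c = d := Over.OverMorphism.ext he₀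
  have hesurj : ∀ s : ↥Fr.left, ∃ w, e.left w = s := by
    intro s
    obtain ⟨z, hz⟩ := (Set.ext_iff.1 hi x).2 rfl
    obtain ⟨w, -, hw⟩ := points_exists_of_isPullback sqA z (Points.ofScheme A (I.subschemeι s))
      (by rw [← Points.ofPt_eq_map_ofScheme, hz]; exact (hmem s).symm)
    obtain ⟨w, rfl⟩ := surjective_ofPt hεs w
    refine ⟨w, I.subschemeι.isClosedEmbedding.injective ?_⟩
    rw [Points.map_ofPt, ← hd] at hw
    have := congrArg (Points.schemeHomeo A).symm hw
    show c.left (e.left w) = I.subschemeι s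
    rw [← Scheme.Hom.comp_apply, ← Over.comp_left, hec]
    apply (Points.schemeHomeo A).injective
    refine Eq.trans ?_ hw
    rw [Points.ofPt_eq_map_ofScheme]
    exact (Points.map_yon_map_apply d w).symm
  choose es hes using hesurj
  let P : ↥Fr.left → Over S := fun s => Over.mk (E.left.fromSpecResidueField (es s) ≫ E.hom)
  let gP : ∀ s, P s ⟶ E := fun s => Over.homMk (E.left.fromSpecResidueField (es s)) rfl
  have hsingle : ∀ s t, (gP s ≫ e).left t = s := fun s t => by
    show e.left (E.left.fromSpecResidueField (es s) t) = s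
    rw [Scheme.fromSpecResidueField_apply, hes]
  have haff : ∀ s, IsAffineHom (gP s ≫ e).left := fun s => by
    refine isAffineHom_of_forall_exists_isAffineOpen _ fun t => ?_
    let V : Fr.left.Opens := ⟨{t}, isOpen_discrete _⟩
    refine ⟨V, rfl, IsAffineOpen.of_subsingleton Set.subsingleton_singleton, ?_⟩
    haveI : Subsingleton ↥(P s).left := inferInstanceAs (Subsingleton ↥(Spec _))
    exact IsAffineOpen.of_subsingleton Set.subsingleton_of_subsingleton
  have hflat : ∀ s, Flat (gP s ≫ e).left := fun s => flat_of_isField_stalk _ isField_stalk_of_discrete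
  have hcov : IsFpqcCover (fun s => (yon S).obj (P s)) (fun s => (yon S).map (gP s ≫ e)) := by
    refine ⟨fun s => locP_of_repWith (repWith_yon_map (hflat s)), fun T hT h => ?_⟩
    haveI := hT
    obtain ⟨h, rfl⟩ := (yon S).map_surjective h
    have hfin : (Set.range h.left).Finite :=
      (isCompact_range h.left.continuous).finite ((isDiscrete_univ_iff.2 inferInstance).mono (Set.subset_univ _))
    obtain ⟨n, σ, hσ⟩ := hfin.fin_embedding
    have sq : ∀ j : Fin n, IsPullback (pullback.fst (gP (σ j) ≫ e) h).left (pullback.snd (gP (σ j) ≫ e) h).left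
        (gP (σ j) ≫ e).left h.left := fun j => isPullback_left (IsPullback.of_hasPullback _ _)
    refine ⟨n, fun j => pullback (gP (σ j) ≫ e) h, fun j => pullback.snd _ _, fun j => ?_,
      fun j => MorphismProperty.of_isPullback (P := @Flat) (sq j) (hflat _), fun z => ?_,
      fun j => ⟨σ j, (yon S).map (pullback.fst (gP (σ j) ≫ e) h), by
        rw [← Functor.map_comp, pullback.condition, Functor.map_comp]⟩⟩
    · haveI : IsAffineHom (pullback.snd (gP (σ j) ≫ e) h).left :=
        MorphismProperty.of_isPullback (P := @IsAffineHom) (sq j) (haff _)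
      exact isAffine_of_isAffineHom (pullback.snd (gP (σ j) ≫ e) h).left
    · obtain ⟨j, hj⟩ := (hσ.symm ▸ Set.mem_range_self z : h.left z ∈ Set.range σ)
      obtain ⟨t, -, ht⟩ := Scheme.Pullback.exists_preimage_pullback (f := (gP (σ j) ≫ e).left) (g := h.left)
        (IsLocalRing.closedPoint (E.left.residueField (es (σ j)))) z (by rw [hsingle]; exact hj)
      refine ⟨j, (sq j).isoPullback.inv t, ?_⟩
      show ((sq j).isoPullback.inv ≫ (pullback.snd (gP (σ j) ≫ e) h).left) t = z
      rw [IsPullback.isoPullback_inv_snd]; exact ht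
  have hlift : (ε ≫ z₁) ≫ i = (yon S).map e ≫ (yon S).map c ≫ a := by
    rw [Category.assoc, sqA.w, ← Category.assoc, ← hd, ← Functor.map_comp_assoc, hec]
  haveI : IsIso m₂ := by
    have hMs := isAlgSpace_of_isPullback hXs.diag hZ (IsAlgSpace.yon_obj Fr) sqM
    refine isIso_of_fpqc hMs (IsAlgSpace.yon_obj _) (fun s => IsAlgSpace.yon_obj (P s))
      (fun s => IsAlgSpace.yon_obj (P s)) (p := fun s => 𝟙 _)
      (q := fun s => (yon S).map (gP s) ≫ sqM.lift (ε ≫ z₁) ((yon S).map e) hlift)
      (fun s => ⟨⟨by rw [Category.assoc, sqM.lift_snd, Category.id_comp, Functor.map_comp]⟩,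
        ⟨PullbackCone.IsLimit.mk _ (fun r => r.snd)
        (fun r => (cancel_mono m₂).1 (by
          rw [Category.assoc, Category.assoc, sqM.lift_snd, ← Functor.map_comp]; exact r.condition.symm))
        (fun r => Category.comp_id _) (fun r t _ h2 => by rw [← h2, Category.comp_id])⟩⟩) hcov fun _ => inferInstance
  let l : (yon S).obj Fr ⟶ Z := inv m₂ ≫ m₁
  have hl : l ≫ i = (yon S).map c ≫ a := by rw [Category.assoc, sqM.w, IsIso.inv_hom_id_assoc]
  let θ : (yon S).obj Fr ⟶ ZA := sqA.lift l ((yon S).map c) hl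
  have hθ₂ : θ ≫ z₂ = (yon S).map c := sqA.lift_snd _ _ _
  haveI : Mono c.left := inferInstanceAs (Mono I.subschemeι)
  haveI : Mono c := Over.mono_of_mono_left _
  haveI : Mono ((yon S).map c) := inferInstance
  haveI : Mono (θ ≫ z₂) := hθ₂ ▸ inferInstance
  haveI : Mono θ := mono_of_mono θ z₂
  have hεθ : (yon S).map e ≫ θ = ε := by
    refine sqA.hom_ext ((cancel_mono i).1 ?_) ?_
    · have h1 : θ ≫ z₁ = l := sqA.lift_fst _ _ _
      rw [Category.assoc, Category.assoc, reassoc_of% h1, hl, ← Functor.map_comp_assoc, hec, hd, Category.assoc,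
        Category.assoc, ← sqA.w]
    · rw [Category.assoc, hθ₂, ← Functor.map_comp, hec, hd]
  haveI : IsIso θ := by
    refine isIso_of_fpqc (IsAlgSpace.yon_obj _) hZA (fun _ : PUnit.{u+1} => IsAlgSpace.yon_obj E)
      (fun _ => IsAlgSpace.yon_obj E) (p := fun _ => 𝟙 _) (q := fun _ => (yon S).map e)
      (fun _ => ⟨⟨by rw [hεθ, Category.id_comp]⟩, ⟨PullbackCone.IsLimit.mk _ (fun r => r.snd)
        (fun r => (cancel_mono θ).1 (by rw [Category.assoc, hεθ]; exact r.condition.symm))
        (fun r => Category.comp_id _) (fun r t _ h2 => by rw [← h2, Category.comp_id])⟩⟩)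
      (isFpqcCover_of_chart hZA hεe hεs) fun _ => inferInstance
  have sqF : IsPullback l ((yon S).map c) i a :=
    IsPullback.of_iso sqA (asIso θ).symm (Iso.refl _) (Iso.refl _) (Iso.refl _)
      (by simp [θ]) (by simp [θ]) (by simp) (by simp)
  haveI := FpqcDesc.isClosedImmersion_descends.{u}
  exact repWith_of_fpqc_affine (P := @IsClosedImmersion) (fun k hk => by haveI := hk; infer_instance) hZ hXs
    (fun _ => sqF) (isFpqcCover_of_chart hXs ha has)
    fun _ => repWith_yon_map (inferInstanceAs (IsClosedImmersion I.subschemeι))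

/-- Closed immersions have closed image on points. -/
theorem isClosed_range_of_closedImmersion (hXs : IsAlgSpace X) {i : Z ⟶ X} (hi : RepWith @IsClosedImmersion i) :
    IsClosed (Set.range (Points.map i)) := by
  obtain ⟨A, a, ha, has⟩ := hXs.atlas
  haveI : IsClosedImmersion (hi.1.snd a).left := hi.2 _ _ _ (hi.1.isPullback a)
  have h1 : IsClosed (Points.ofPt a ⁻¹' Set.range (Points.map i)) := by
    rw [← range_left_eq_preimage (hi.1.isPullback a)]
    exact (hi.1.snd a).left.isClosedEmbedding.isClosed_range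
  rw [← isOpen_compl_iff]
  have := isOpenMap_ofPt_of_etale ha _ h1.isOpen_compl
  rwa [← Set.preimage_compl, Set.image_preimage_eq _ (surjective_ofPt has)] at this

end Groth.Agent.ASp
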