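import Groth.Agent.ASp.FactorPoint
import Groth.Agent.ASp.EqvQuot
import Groth.Agent.ASp.Quot
import Groth.Agent.ASp.OnePoint
/-!
# Every point is the image of a monomorphism from an etale quotient of the spectrum of its residue field
-/

set_option autoImplicit false
set_option backward.isDefEq.respectTransparency false
set_option backward.isDefEq.respectTransparency.types false

universe u

open CategoryTheory CategoryTheory.Limits AlgebraicGeometry Opposite

noncomputable section

namespace Groth.Agent.ASp

open _root_.AlgSp

/-- A map from a reduced affine scheme to a point factors through the residue field of the point. -/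
theorem exists_factor_residueField {W A : Scheme.{u}} [IsAffine W] [IsReduced W] (m : W ⟶ A) (t : ↥A)
    (h : ∀ z, m z = t) :
    ∃ l : W ⟶ Spec (A.residueField t), l ≫ A.fromSpecResidueField t = m := by
  obtain ⟨K, hK, g, l, hl, hg⟩ := exists_factor_field m t h
  subst hg
  exact ⟨l ≫ Spec.map (A.descResidueField (Scheme.stalkClosedPointTo g)), by
    rw [Category.assoc, Scheme.descResidueField_stalkClosedPointTo_fromSpecResidueField, hl]⟩

/-- A point of a scheme pulled back to a reduced discrete scheme gives an open subscheme. -/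
theorem isOpenImmersion_of_discrete {P D U : Scheme.{u}} [DiscreteTopology ↥D] [IsReduced D] {d : D ⟶ U} {u : ↥U}
    {n : P ⟶ D} {k : P ⟶ Spec (U.residueField u)} (sq : IsPullback n k d (U.fromSpecResidueField u)) :
    IsOpenImmersion n := by
  haveI : Mono n := MorphismProperty.of_isPullback (P := MorphismProperty.monomorphisms Scheme.{u}) sq.flip
    (inferInstanceAs (Mono (U.fromSpecResidueField u)))
  let 𝒰 : D.OpenCover := D.openCoverOfIsOpenCover (fun v : ↥D => ⟨{v}, isOpen_discrete _⟩) (by
    rw [TopologicalSpace.IsOpenCover, eq_top_iff]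
    exact fun v _ => TopologicalSpace.Opens.mem_iSup.2 ⟨v, rfl⟩)
  rw [IsZariskiLocalAtTarget.iff_of_openCover (P := @IsOpenImmersion) 𝒰]
  intro v
  let O : D.Opens := ⟨{v}, isOpen_discrete _⟩
  change IsOpenImmersion (pullback.snd n O.ι)
  by_cases hv : d v = u
  · haveI : IsAffine O.toScheme := IsAffineOpen.of_subsingleton Set.subsingleton_singleton
    obtain ⟨l, hl⟩ := exists_factor_residueField (O.ι ≫ d) u (fun z => by
      rw [Scheme.Hom.comp_apply, show O.ι z = v from z.2, hv])
    let s : O.toScheme ⟶ pullback n O.ι := pullback.lift (sq.lift O.ι l hl.symm) (𝟙 _) (by simp)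
    haveI : IsIso (pullback.snd n O.ι) :=
      ⟨s, (cancel_mono (pullback.snd n O.ι)).1 (by simp [s]), by simp [s]⟩
    infer_instance
  · haveI : IsEmpty ↥(pullback n O.ι) := ⟨fun z => hv (by
      have h1 : n (pullback.fst n O.ι z) = v := by
        rw [← Scheme.Hom.comp_apply, pullback.condition, Scheme.Hom.comp_apply]
        exact (pullback.snd n O.ι z).2
      rw [← h1, ← Scheme.Hom.comp_apply, sq.w, Scheme.Hom.comp_apply]
      exact Scheme.fromSpecResidueField_apply u _)⟩
    infer_instance

variable {S : Scheme.{u}}

/-- Every point is the image of a monomorphism from a quotient of the spectrum of a field. -/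
theorem exists_mono_quot_point {X : Sp S} (hX : IsAlgSpace X) (x : Points X) :
    ∃ (Z : Sp S) (_ : IsAlgSpace Z) (f : Z ⟶ X) (k : Type u) (_ : Field k) (str : Spec (CommRingCat.of k) ⟶ S)
      (z : (yon S).obj (Over.mk str) ⟶ Z), RepWith @Etale z ∧ RepWith @Surjective z ∧
      Mono f ∧ Points.ofPt (z ≫ f) (IsLocalRing.closedPoint k) = x := by
  obtain ⟨U, p, hp, hps⟩ := hX.atlas
  obtain ⟨u, rfl⟩ := surjective_ofPt hps x
  let str := U.left.fromSpecResidueField u ≫ U.hom
  let z : Over.mk str ⟶ U := Over.homMk (U.left.fromSpecResidueField u) rfl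
  obtain ⟨R, r₁, r₂, hR⟩ := exists_isPullback_yon hp.1 p
  haveI : Etale r₁.left := hp.2 p _ r₁ hR.flip
  let q := (yon S).map z ≫ p
  let d : pullback z r₁ ⟶ U := pullback.snd z r₁ ≫ r₂
  haveI hse : Etale (pullback.fst z r₁).left :=
    MorphismProperty.of_isPullback (P := @Etale) (isPullback_left (IsPullback.of_hasPullback z r₁)).flip ‹_›
  have h1 : IsPullback ((yon S).map (pullback.fst z r₁)) ((yon S).map d) q p := by
    rw [Functor.map_comp]
    exact ((isPullback_yon_map (IsPullback.of_hasPullback z r₁)).flip.paste_horiz hR.flip).flip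
  let t : pullback d z ⟶ Over.mk str := pullback.snd d z
  let n : pullback d z ⟶ pullback z r₁ := pullback.fst d z
  let s : pullback d z ⟶ Over.mk str := n ≫ pullback.fst z r₁
  have hk : IsPullback ((yon S).map s) ((yon S).map t) q q := by
    rw [Functor.map_comp]
    exact (isPullback_yon_map (IsPullback.of_hasPullback d z)).flip.paste_vert h1.flip |>.flip
  let af : (pullback z r₁).left ⟶ Spec (CommRingCat.of (U.left.residueField u)) := (pullback.fst z r₁).left
  haveI : Etale af := hse
  have hfs : ∀ v : ↥(pullback z r₁).left, IsField ↥((pullback z r₁).left.presheaf.stalk v) := fun v =>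
    isField_stalk_of_etale_field (K := U.left.residueField u) af v
  haveI : IsLocallyNoetherian (pullback z r₁).left := LocallyOfFiniteType.isLocallyNoetherian af
  haveI : DiscreteTopology ↥(pullback z r₁).left :=
    discreteTopology_iff_isOpen_singleton.2 (isOpen_singleton_of_isLocallyNoetherian hfs)
  haveI : IsReduced (pullback z r₁).left := Groth.Agent.WLocalLib.isReduced_of_weaklyEtale_scheme af
  haveI : IsOpenImmersion n.left :=
    isOpenImmersion_of_discrete (d := d.left) (u := u) (k := t.left) (isPullback_left (IsPullback.of_hasPullback d z))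
  haveI hs : Etale s.left := by rw [Over.comp_left]; infer_instance
  obtain ⟨σ, hσ⟩ : ∃ σ : pullback d z ≅ pullback d z, σ.hom ≫ s = t :=
    ⟨(yon S).preimageIso (hk.flip.isoIsPullback _ _ hk), (yon S).map_injective (by
      rw [Functor.map_comp, Functor.preimageIso_hom, Functor.map_preimage, IsPullback.isoIsPullback_hom_fst])⟩
  haveI : Etale t.left := by rw [← hσ, Over.comp_left]; infer_instance
  let e : (yon S).obj (Over.mk str) ⟶ Sheaf.image q := Sheaf.toImage q
  have he : e ≫ Sheaf.imageι q = q := Sheaf.toImage_ι q
  have hke : IsPullback ((yon S).map t) ((yon S).map s) e e := by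
    have hk' := hk.flip
    refine IsPullback.of_isLimit' ⟨(cancel_mono (Sheaf.imageι q)).1 (by rw [Category.assoc, Category.assoc, he, hk'.w])⟩
      (PullbackCone.IsLimit.mk _ (fun c => hk'.lift c.fst c.snd (by simpa only [Category.assoc, he] using c.condition =≫ Sheaf.imageι q))
        (fun c => hk'.lift_fst _ _ _) (fun c => hk'.lift_snd _ _ _)
        (fun c m a b => hk'.hom_ext (by rw [hk'.lift_fst, a]) (by rw [hk'.lift_snd, b])))
  obtain ⟨hee, hes⟩ := repWith_etale_surjective_of_kernelPair e hke
  refine ⟨_, isAlgSpace_of_etale_surjective (IsAlgSpace.yon_obj _) e hee hes, Sheaf.imageι q, _, inferInstance, str, e,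
    hee, hes, inferInstance, ?_⟩
  rw [he, ofPt_yon_map_comp]
  congr 1
  exact Scheme.fromSpecResidueField_apply u _

end Groth.Agent.ASp
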