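import Groth.Agent.ASp.OnePoint
import Groth.Agent.ASp.DecentPt
import Groth.Agent.ASp.Affine
import Groth.Agent.ASp.Univ
/-!
Residual spaces and monomorphisms from spectra of fields.
-/

set_option autoImplicit false
set_option backward.isDefEq.respectTransparency false
set_option backward.isDefEq.respectTransparency.types false

universe u

open CategoryTheory CategoryTheory.Limits AlgebraicGeometry Opposite

namespace Groth.Agent.ASp

open _root_.AlgSp

variable {S : Scheme.{u}}

/-- A monomorphism through which an fpqc covering map factors is an isomorphism. -/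
theorem isIso_of_mono_of_lift {M Y T : Sp S} (hM : IsAlgSpace M) (hY : IsAlgSpace Y) (hT : IsAlgSpace T)
    (m : M ⟶ Y) [Mono m] (g : T ⟶ Y) (l : T ⟶ M) (hl : l ≫ m = g)
    (hτ : IsFpqcCover (fun _ : PUnit.{u+1} => T) (fun _ => g)) : IsIso m := by
  refine isIso_of_fpqc hM hY (fun _ : PUnit.{u+1} => hT) (fun _ => hT) (p := fun _ => 𝟙 T) (q := fun _ => l)
    (fun _ => ⟨⟨by rw [hl, Category.id_comp]⟩, ⟨PullbackCone.IsLimit.mk _ (fun s => s.snd)
      (fun s => (cancel_mono m).1 (by rw [Category.assoc, hl]; exact s.condition.symm))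
      (fun s => Category.comp_id _) (fun s t _ h2 => by rw [← h2, Category.comp_id])⟩⟩) hτ fun _ => inferInstance

/-- A one point subspace with a field fppf chart is the spectrum of a field of a monomorphic representative. -/
theorem exists_iso_fieldPt {X Z : Sp S} (hX : IsAlgSpace X) (hZ : IsAlgSpace Z) (i : Z ⟶ X) [Mono i]
    {k : Type u} [Field k] {str : Spec (CommRingCat.of k) ⟶ S} (q : (yon S).obj (Over.mk str) ⟶ Z)
    (hqp : LocP @LocallyOfFinitePresentation q) (hqf : LocP @Flat q) (hqs : IsSurjectiveMor q)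
    (p : FieldPt X) [Mono p.toHom] (hp : ∀ z, Points.map i z = Points.mk p) :
    Nonempty (Z ≅ (yon S).obj p.pt) := by
  let r : FieldPt X := ⟨k, str, (J S).uliftYonedaEquiv.{u+1} (q ≫ i)⟩
  have hr : r.toHom = q ≫ i := by rw [FieldPt.toHom]; exact Equiv.symm_apply_apply _ _
  obtain ⟨c, hc⟩ := factor_of_mono hX p r (by
    rw [← Points.ofPt_toHom r (IsLocalRing.closedPoint k), hr, ← Points.map_ofPt]; exact (hp _).symm)
  rw [hr] at hc
  obtain ⟨M, u₁, u₂, sq⟩ : ∃ (M : Sp S) (u₁ : M ⟶ Z) (u₂ : M ⟶ (yon S).obj p.pt), IsPullback u₁ u₂ i p.toHom :=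
    ⟨_, _, _, IsPullback.of_hasPullback _ _⟩
  haveI : Mono u₁ := ⟨fun a b h => sq.hom_ext h ((cancel_mono p.toHom).1 (by
    rw [Category.assoc, Category.assoc, ← sq.w, reassoc_of% h]))⟩
  have hcov : IsFpqcCover (fun _ : PUnit.{u+1} => (yon S).obj (Over.mk str)) (fun _ => q) :=
    isFpqcCover_of_fppf hZ (fun _ => IsAlgSpace.yon_obj _) (fun _ => hqf) (fun _ => hqp)
      fun y => ⟨PUnit.unit, hqs y⟩
  haveI : IsIso u₁ := isIso_of_mono_of_lift (isAlgSpace_of_isPullback hX.diag hZ (IsAlgSpace.yon_obj _) sq) hZ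
    (IsAlgSpace.yon_obj _) u₁ q (sq.lift q ((yon S).map c) hc.symm) (sq.lift_fst _ _ _) hcov
  let j : Z ⟶ (yon S).obj p.pt := inv u₁ ≫ u₂
  have hj : j ≫ p.toHom = i := by rw [Category.assoc, ← sq.w, IsIso.inv_hom_id_assoc]
  haveI : Mono (j ≫ p.toHom) := hj ▸ inferInstance
  haveI : Mono j := mono_of_mono j p.toHom
  have hjc : q ≫ j = (yon S).map c := (cancel_mono p.toHom).1 (by rw [Category.assoc, hj, hc])
  obtain ⟨φ, hφ⟩ : ∃ φ, Spec.map φ = (c.left : Spec (CommRingCat.of k) ⟶ Spec (CommRingCat.of p.K)) :=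
    ⟨_, Spec.map_preimage _⟩
  haveI : IsAffine p.pt.left := inferInstanceAs (IsAffine (Spec (CommRingCat.of p.K)))
  have hcov' : IsFpqcCover (fun _ : ULift.{u} (Fin 1) => (yon S).obj (Over.mk str)) (fun _ => (yon S).map c) :=
    isFpqcCover_yon (m := 1) (fun _ => Over.mk str) (fun _ => c) (fun _ => inferInstanceAs (IsAffine (Spec _)))
      (fun _ => by
        rw [← hφ, HasRingHomProperty.Spec_iff (P := @Flat)]
        letI := φ.hom.toAlgebra
        exact RingHom.flat_algebraMap_iff.mpr inferInstance)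
      (fun z => ⟨0, IsLocalRing.closedPoint k, Subsingleton.elim (α := ↥(Spec (CommRingCat.of p.K))) _ _⟩)
  haveI : IsIso j := by
    refine isIso_of_fpqc hZ (IsAlgSpace.yon_obj _) (fun _ : ULift.{u} (Fin 1) => IsAlgSpace.yon_obj _)
      (fun _ => IsAlgSpace.yon_obj _) (p := fun _ => 𝟙 _) (q := fun _ => q)
      (fun _ => ⟨⟨by rw [hjc, Category.id_comp]⟩, ⟨PullbackCone.IsLimit.mk _ (fun s => s.snd)
        (fun s => (cancel_mono j).1 (by rw [Category.assoc, hjc]; exact s.condition.symm))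
        (fun s => Category.comp_id _) (fun s t _ h2 => by rw [← h2, Category.comp_id])⟩⟩) hcov' fun _ => inferInstance
  exact ⟨asIso j⟩

end Groth.Agent.ASp
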