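import Mathlib

/-!
Topological lemmas for soberness: the constructible topology on spectral spaces and retrocompactness of basic opens.
-/

universe u

open CategoryTheory AlgebraicGeometry TopologicalSpace Topology

namespace Groth.Agent.ASp

section Constructible

variable {X : Type*} [TopologicalSpace X]

/-- A closed subset of a prespectral space is closed for the constructible topology. -/
theorem isClosed_constructible_of_isClosed [PrespectralSpace X] {F : Set X} (hF : IsClosed F) :
    IsClosed[constructibleTopology X] F := by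
  rw [← @isOpen_compl_iff X F (constructibleTopology X)]
  obtain ⟨S, hS, he⟩ :=
    (PrespectralSpace.isTopologicalBasis (X := X)).open_eq_sUnion hF.isOpen_compl
  rw [he]
  exact @isOpen_sUnion X (constructibleTopology X) S
    fun s hs => (hS hs).2.isOpen_constructibleTopology_of_isOpen (hS hs).1

/-- A compact open subset is closed for the constructible topology. -/
theorem isClosed_constructible_of_compact_open {Q : Set X} (hc : IsCompact Q) (ho : IsOpen Q) :
    IsClosed[constructibleTopology X] Q := by
  rw [← @isOpen_compl_iff X Q (constructibleTopology X)]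
  exact IsCompact.isOpen_constructibleTopology_of_isClosed (by rwa [compl_compl]) ho.isClosed_compl

/-- A compact subset which is relatively open in a closed subset is closed for the constructible topology. -/
theorem isClosed_constructible_of_inter [PrespectralSpace X] {Z G : Set X} (hZ : IsClosed Z) (hG : IsOpen G)
    (hc : IsCompact (Z ∩ G)) : IsClosed[constructibleTopology X] (Z ∩ G) := by
  classical
  obtain ⟨S, hS, hSG⟩ := (PrespectralSpace.isTopologicalBasis (X := X)).open_eq_sUnion hG
  rw [Set.sUnion_eq_iUnion] at hSG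
  obtain ⟨t, ht⟩ := hc.elim_finite_subcover (fun s : S => (s : Set X)) (fun s => (hS s.2).1)
    (fun z hz => hSG ▸ hz.2)
  have e : Z ∩ G = Z ∩ ⋃ s ∈ t, (s : Set X) := by
    apply subset_antisymm
    · exact fun z hz => ⟨hz.1, ht hz⟩
    · refine fun z hz => ⟨hz.1, ?_⟩
      obtain ⟨s, -, hzs⟩ := Set.mem_iUnion₂.1 hz.2
      rw [hSG]; exact Set.mem_iUnion.2 ⟨s, hzs⟩
  rw [e]
  exact @IsClosed.inter X _ _ (constructibleTopology X) (isClosed_constructible_of_isClosed hZ)
    (isClosed_constructible_of_compact_open (t.isCompact_biUnion fun s _ => (hS s.2).2)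
      (isOpen_biUnion fun s _ => (hS s.2).1))

/-- Constructible compactness: closed sets with the finite intersection property meet. -/
theorem exists_forall_mem_of_constructible [CompactSpace X] [QuasiSober X] [PrespectralSpace X]
    [QuasiSeparatedSpace X] {ι : Type*} (C : ι → Set X) (hC : ∀ i, IsClosed[constructibleTopology X] (C i))
    (h : ∀ t : Finset ι, ∃ x, ∀ i ∈ t, x ∈ C i) : ∃ x, ∀ i, x ∈ C i := by
  let D : ι → Set (WithConstructibleTopology X) := fun i =>
    (WithTopology.ofTopology (X := X) (t := constructibleTopology X)) ⁻¹' C i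
  obtain ⟨x, hx⟩ := CompactSpace.iInter_nonempty (t := D)
    (fun i => WithConstructibleTopology.isClosed_iff.2 (by simpa [D, Set.preimage_preimage] using hC i))
    (fun t => by
      obtain ⟨x, hx⟩ := h t
      exact ⟨WithTopology.toTopology _ x, Set.mem_iInter₂.2 fun i hi => hx i hi⟩)
  exact ⟨WithTopology.ofTopology x, fun i => Set.mem_iInter.1 hx i⟩

end Constructible

/-- Compact relatively closed subsets meet basic opens in compact subsets. -/
theorem isCompact_inter_basicOpen {X : Scheme.{u}} {F : Set ↥X} (hF : IsClosed F) {U : X.Opens}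
    (hC : IsCompact (F ∩ (U : Set ↥X))) (g : Γ(X, U)) : IsCompact (F ∩ (X.basicOpen g : Set ↥X)) := by
  classical
  have hloc : ∀ x : (F ∩ (U : Set ↥X) : Set ↥X), ∃ A : X.Opens, IsAffineOpen A ∧ x.1 ∈ A ∧ A ≤ U := fun x => by
    obtain ⟨A, hA, hxA, hle⟩ := exists_isAffineOpen_mem_and_subset (x := x.1) (U := U) x.2.2
    exact ⟨A, hA, hxA, hle⟩
  choose A hA hxA hAU using hloc
  obtain ⟨t, ht⟩ := hC.elim_finite_subcover (fun x => (A x : Set ↥X)) (fun x => (A x).isOpen)
    (fun x hx => Set.mem_iUnion.2 ⟨⟨x, hx⟩, hxA ⟨x, hx⟩⟩)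
  have e : F ∩ (X.basicOpen g : Set ↥X) =
      ⋃ x ∈ t, (X.basicOpen (X.presheaf.map (homOfLE (hAU x)).op g) : Set ↥X) ∩ F := by
    ext z
    simp only [Set.mem_iUnion, Set.mem_inter_iff, Scheme.basicOpen_res, exists_prop]
    constructor
    · rintro ⟨hzF, hzg⟩
      obtain ⟨x, hx, hzx⟩ := Set.mem_iUnion₂.1 (ht ⟨hzF, X.basicOpen_le g hzg⟩)
      exact ⟨x, hx, ⟨hzx, hzg⟩, hzF⟩
    · rintro ⟨x, hx, ⟨-, hzg⟩, hzF⟩
      exact ⟨hzF, hzg⟩
  rw [e]
  exact t.isCompact_biUnion fun x _ => ((hA x).basicOpen _).isCompact.inter_right hF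

end Groth.Agent.ASp
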