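import Groth.Agent.ASp.ResidualExist
import Groth.Agent.ASp.ResidualClosed
import Groth.Agent.ASp.ResidualField
import Groth.Agent.ASp.SoberTop
import Groth.Agent.ASp.AffMor
import Groth.Agent.ASp.RelLPQcqs
/-!
# Maps from reduced spaces to a point of a locally Noetherian space factor through its residual space
-/

set_option autoImplicit false
set_option backward.isDefEq.respectTransparency false
set_option backward.isDefEq.respectTransparency.types false

universe u

open CategoryTheory CategoryTheory.Limits AlgebraicGeometry Opposite TopologicalSpace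

noncomputable section

namespace Groth.Agent.ASp

open _root_.AlgSp

variable {S : Scheme.{u}}

/-- In an affine scheme a compact open set stable under specialization is closed. -/
theorem isClosed_of_compact_open_stable {X : Scheme.{u}} [IsAffine X] {Q : Set ↥X} (hQ : IsCompact Q)
    (hQo : IsOpen Q) (hs : StableUnderSpecialization Q) : IsClosed Q := by
  refine isClosed_of_closure_subset fun x hx => ?_
  haveI : PrespectralSpace ↥X := inferInstance
  let C : Option {A : X.Opens // IsAffineOpen A ∧ x ∈ A} → Set ↥X := fun i => i.elim Q fun A => A.1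
  obtain ⟨y, hy⟩ := exists_forall_mem_of_constructible C (fun i => by
      cases i with
      | none => exact isClosed_constructible_of_compact_open hQ hQo
      | some A => exact isClosed_constructible_of_compact_open A.2.1.isCompact A.1.2)
    (fun t => by
      let O : Set ↥X := ⋂ A ∈ {A : {A : X.Opens // IsAffineOpen A ∧ x ∈ A} | some A ∈ t}, (A.1 : Set ↥X)
      have hfin : {A : {A : X.Opens // IsAffineOpen A ∧ x ∈ A} | some A ∈ t}.Finite :=
        t.finite_toSet.preimage (Option.some_injective _).injOn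
      have hO : IsOpen O := hfin.isOpen_biInter fun A _ => A.1.2
      obtain ⟨z, hzO, hzQ⟩ := mem_closure_iff.1 hx O hO (Set.mem_iInter₂.2 fun A _ => A.2.2)
      refine ⟨z, fun i hi => ?_⟩
      cases i with
      | none => exact hzQ
      | some A => exact Set.mem_iInter₂.1 hzO A hi)
  refine hs ?_ (hy none)
  rw [specializes_iff_forall_open]
  intro O hO hxO
  obtain ⟨A, hA, hxA, hAO⟩ := exists_isAffineOpen_mem_and_subset (x := x) (U := ⟨O, hO⟩) hxO
  exact hAO (hy (some ⟨A, hA, hxA⟩))

/-- A map to a Noetherian chart with image in the fibre over a point is locally constant. -/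
theorem exists_affine_nhd_constant {X : Sp S} {A W : Over S} {a : (yon S).obj A ⟶ X} (ha : RepWith @Etale a)
    [IsLocallyNoetherian A.left] (g : W ⟶ A) {x : Points X} (hg : ∀ w, Points.ofPt a (g.left w) = x)
    (w : ↥W.left) :
    ∃ P : W.left.Opens, IsAffineOpen P ∧ w ∈ P ∧ ∀ z ∈ P, g.left z = g.left w := by
  have key : ∀ {s t : ↥W.left}, g.left s ⤳ g.left t → g.left s = g.left t := fun {s t} h =>
    eq_of_specializes_of_noetherian ha ((hg s).trans (hg t).symm) h
  obtain ⟨A₀, hA₀, hwA₀, -⟩ := exists_isAffineOpen_mem_and_subset (x := g.left w) (U := (⊤ : A.left.Opens)) trivial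
  obtain ⟨P₀, hP₀, hwP₀, hle⟩ := exists_isAffineOpen_mem_and_subset (x := w) (U := g.left ⁻¹ᵁ A₀) hwA₀
  haveI : IsAffine P₀.toScheme := hP₀
  haveI : IsAffine A₀.toScheme := hA₀
  haveI : IsNoetherianRing ↥Γ(A.left, A₀) := IsLocallyNoetherian.component_noetherian ⟨A₀, hA₀⟩
  haveI : NoetherianSpace ↥A₀.toScheme := noetherianSpace_of_isAffineOpen A₀ hA₀
  let r : P₀.toScheme ⟶ A₀.toScheme := g.left.resLE A₀ P₀ hle
  have hr : ∀ z, (r z).1 = g.left z.1 := fun z => by
    change A₀.ι (r z) = g.left (P₀.ι z)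
    rw [← Scheme.Hom.comp_apply, ← Scheme.Hom.comp_apply, Scheme.Hom.resLE_comp_ι]
  let w' : ↥P₀.toScheme := ⟨w, hwP₀⟩
  let O : A₀.toScheme.Opens := ⟨(closure {r w'})ᶜ, isClosed_closure.isOpen_compl⟩
  let Q : Set ↥P₀.toScheme := r ⁻¹' (O : Set ↥A₀.toScheme)
  have hQc : IsCompact Q := r.isCompact_preimage (NoetherianSpace.isCompact (O : Set ↥A₀.toScheme))
  have hQe : ∀ z, z ∈ Q ↔ g.left z.1 ≠ g.left w := fun z => by
    simp only [Q, O, Set.mem_preimage, TopologicalSpace.Opens.coe_mk, Set.mem_compl_iff, ← specializes_iff_mem_closure]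
    refine not_congr ⟨fun h => ?_, fun h => ?_⟩
    · have := h.map A₀.ι.continuous
      change (r w').1 ⤳ (r z).1 at this
      rw [hr, hr] at this
      exact (key this).symm
    · have : r z = r w' := Subtype.ext (by rw [hr, hr]; exact h)
      rw [this]
  have hQo : IsOpen Q := O.2.preimage r.continuous
  have hQs : StableUnderSpecialization Q := fun s t hst hs => by
    rw [hQe] at hs ⊢
    intro h
    exact hs ((key ((hst.map P₀.ι.continuous).map g.left.continuous)).trans h)
  have hQcl := isClosed_of_compact_open_stable hQc hQo hQs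
  obtain ⟨P, hP, hwP, hPle⟩ := exists_isAffineOpen_mem_and_subset (x := w)
    (U := P₀.ι ''ᵁ ⟨Qᶜ, hQcl.isOpen_compl⟩) ⟨w', fun h => (hQe w').1 h rfl, rfl⟩
  refine ⟨P, hP, hwP, fun z hz => ?_⟩
  obtain ⟨z', hz', rfl⟩ := hPle hz
  by_contra h
  exact hz' ((hQe z').2 h)

/-- The point of the residue field of a chart lifts to the residual space. -/
theorem exists_lift_residueField {X Z : Sp S} (hX : IsAlgSpace X) (hZ : IsAlgSpace Z) (i : Z ⟶ X) [Mono i]
    {k : Type u} [Field k] {str : Spec (CommRingCat.of k) ⟶ S} (q : (yon S).obj (Over.mk str) ⟶ Z)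
    {A : Over S} {a : (yon S).obj A ⟶ X} {t : ↥A.left}
    (hx : Points.ofPt (q ≫ i) (IsLocalRing.closedPoint k) = Points.ofPt a t) :
    ∃ l : (yon S).obj (Over.mk (A.left.fromSpecResidueField t ≫ A.hom)) ⟶ Z,
      l ≫ i = (yon S).map (Over.homMk (A.left.fromSpecResidueField t) rfl :
        Over.mk (A.left.fromSpecResidueField t ≫ A.hom) ⟶ A) ≫ a := by
  let T : Over S := Over.mk (A.left.fromSpecResidueField t ≫ A.hom)
  let κ : T ⟶ A := Over.homMk (A.left.fromSpecResidueField t) rfl
  have e : Points.map ((yon S).map κ ≫ a) (Points.ofScheme T (IsLocalRing.closedPoint (A.left.residueField t))) =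
      Points.map (q ≫ i) (Points.ofScheme (Over.mk str) (IsLocalRing.closedPoint k)) := by
    rw [← Points.ofPt_eq_map_ofScheme, ← Points.ofPt_eq_map_ofScheme, hx, ofPt_yon_map_comp]
    exact congrArg _ (Scheme.fromSpecResidueField_apply t _)
  obtain ⟨E, e₁, e₂, sqE⟩ : ∃ (E : Sp S) (e₁ : E ⟶ (yon S).obj T) (e₂ : E ⟶ (yon S).obj (Over.mk str)),
      IsPullback e₁ e₂ ((yon S).map κ ≫ a) (q ≫ i) := ⟨_, _, _, IsPullback.of_hasPullback _ _⟩
  obtain ⟨z, -, -⟩ := points_exists_of_isPullback sqE _ _ e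
  induction z using Points.ind with | h p =>
  obtain ⟨m₁, hm₁⟩ := (yon S).map_surjective (p.toHom ≫ e₁)
  haveI : IsAffine T.left := inferInstanceAs (IsAffine (Spec _))
  haveI : IsAffine p.pt.left := inferInstanceAs (IsAffine (Spec _))
  haveI : IsLocallyArtinian T.left := inferInstanceAs (IsLocallyArtinian (Spec (CommRingCat.of (A.left.residueField t))))
  haveI : IsIntegral T.left := inferInstanceAs (IsIntegral (Spec (CommRingCat.of (A.left.residueField t))))
  have hflat : Flat m₁.left := flat_of_isField_stalk m₁.left fun v => by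
    haveI : IsReduced T.left := inferInstance
    exact isField_stalk_of_discrete v
  have hcov := isFpqcCover_yon (m := 1) (T := T) (fun _ => p.pt) (fun _ => m₁) (fun _ => inferInstance)
    (fun _ => hflat) (fun z => ⟨0, IsLocalRing.closedPoint p.K, by
      haveI : Subsingleton ↥T.left := inferInstanceAs (Subsingleton ↥(Spec (CommRingCat.of (A.left.residueField t))))
      exact Subsingleton.elim _ _⟩)
  obtain ⟨M, u₁, u₂, sqM⟩ : ∃ (M : Sp S) (u₁ : M ⟶ Z) (u₂ : M ⟶ (yon S).obj T),
      IsPullback u₁ u₂ i ((yon S).map κ ≫ a) := ⟨_, _, _, IsPullback.of_hasPullback _ _⟩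
  haveI : Mono u₂ := MorphismProperty.of_isPullback (P := MorphismProperty.monomorphisms (Sp S)) sqM ‹Mono i›
  let lp : (yon S).obj p.pt ⟶ M := sqM.lift (p.toHom ≫ e₂ ≫ q) (p.toHom ≫ e₁) (by
    simp only [Category.assoc]; rw [sqE.w])
  haveI : IsIso u₂ := by
    have hlp : lp ≫ u₂ = (yon S).map m₁ := by rw [sqM.lift_snd, hm₁]
    have hMa := isAlgSpace_of_isPullback hX.diag hZ (IsAlgSpace.yon_obj T) sqM
    exact isIso_of_fpqc hMa (IsAlgSpace.yon_obj T) (fun _ => IsAlgSpace.yon_obj p.pt) (fun _ => IsAlgSpace.yon_obj p.pt)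
      (p := fun _ : ULift.{u} (Fin 1) => 𝟙 _) (q := fun _ => lp)
      (fun _ => ⟨⟨by rw [hlp, Category.id_comp]⟩, ⟨PullbackCone.IsLimit.mk _ (fun s => s.snd)
        (fun s => (cancel_mono u₂).1 (by rw [Category.assoc, hlp]; exact s.condition.symm))
        (fun s => Category.comp_id _) (fun s t _ h2 => by rw [← h2, Category.comp_id])⟩⟩) hcov fun _ => inferInstance
  exact ⟨inv u₂ ≫ u₁, by rw [Category.assoc, sqM.w, IsIso.inv_hom_id_assoc]⟩

/-- A map from a reduced space into a point factors through the residual space. -/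
theorem exists_factor_residual {Y X Z : Sp S} (hY : IsAlgSpace Y) (hX : IsAlgSpace X) (hZ : IsAlgSpace Z)
    (hN : IsLocNoethSp X) (f : Y ⟶ X) {x : Points X} (hf : ∀ y, Points.map f y = x)
    (hr : EtaleLocally (fun U => IsReduced U) Y) (i : Z ⟶ X) [Mono i]
    (hi : Set.range (Points.map i) = {x}) {k : Type u} [Field k] {str : Spec (CommRingCat.of k) ⟶ S}
    (q : (yon S).obj (Over.mk str) ⟶ Z) : ∃ g : Y ⟶ Z, g ≫ i = f := by
  obtain ⟨A, a, hae, has⟩ := hX.atlas
  haveI : IsLocallyNoetherian A.left := isLocallyNoetherian_of_chart hN hae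
  obtain ⟨B, b, hbe, hbs, hB⟩ := hr
  obtain ⟨W, w, v, hwe, hws, hv, -⟩ := exists_etale_cover hae has (b ≫ f)
  haveI := hwe; haveI := hws
  haveI : IsReduced B.left := hB
  haveI : IsReduced W.left := Groth.Agent.WLocalLib.isReduced_of_weaklyEtale_scheme w.left
  haveI : Epi b := epi_of_etale_surjective hbe hbs
  haveI : Epi ((yon S).map w) := epi_of_etale_surjective (repWith_yon_map hwe) (repWith_yon_map hws)
  have hvx : ∀ z, Points.ofPt a (v.left z) = x := fun z => by
    rw [← ofPt_yon_map_comp, hv, ← Category.assoc, ← Points.map_ofPt]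
    exact hf _
  choose P hP hzP hconst using exists_affine_nhd_constant hae v hvx
  let σ : (∐ fun z => (P z).toScheme) ⟶ W.left := Limits.Sigma.desc fun z => (P z).ι
  let C : Over S := Over.mk (σ ≫ W.hom)
  let c : C ⟶ W := Over.homMk σ rfl
  haveI : Etale σ := by
    rw [IsZariskiLocalAtSource.iff_of_openCover (P := @Etale) (sigmaOpenCover fun z => (P z).toScheme)]
    intro z
    have e : (sigmaOpenCover fun z => (P z).toScheme).f z ≫ σ = (P z).ι := Sigma.ι_desc _ _
    rw [e]; infer_instance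
  haveI : Surjective σ := ⟨fun z => ⟨Sigma.ι (fun z => (P z).toScheme) z ⟨z, hzP z⟩, by
    rw [← Scheme.Hom.comp_apply, Sigma.ι_desc]; rfl⟩⟩
  haveI : Epi ((yon S).map c) := epi_of_etale_surjective (repWith_yon_map (inferInstanceAs (Etale σ)))
    (repWith_yon_map (inferInstanceAs (Surjective σ)))
  have hloc : ∀ z, ∃ l, l ≫ pullback.fst f i = (yon S).map (Over.homMk (Sigma.ι (fun z => (P z).toScheme) z) rfl :
      Over.mk (Sigma.ι (fun z => (P z).toScheme) z ≫ C.hom) ⟶ C) ≫ (yon S).map c ≫ (yon S).map w ≫ b := by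
    intro z
    let t : ↥A.left := v.left z
    obtain ⟨l₀, hl₀⟩ := exists_lift_residueField hX hZ i q (a := a) (t := t) (by
      rw [← Points.map_ofPt, hvx z]
      exact (Set.ext_iff.1 hi _).1 ⟨_, rfl⟩)
    haveI : IsAffine (P z).toScheme := hP z
    obtain ⟨m, hm⟩ := exists_factor_residueField ((P z).ι ≫ v.left) t (fun p => by
      rw [Scheme.Hom.comp_apply]; exact hconst z _ p.2)
    let Pz : Over S := Over.mk (Sigma.ι (fun z => (P z).toScheme) z ≫ C.hom)
    have hC : Pz.hom = (P z).ι ≫ W.hom := by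
      change Sigma.ι (fun z => (P z).toScheme) z ≫ σ ≫ W.hom = _
      rw [Sigma.ι_desc_assoc]
    let mo : Pz ⟶ Over.mk (A.left.fromSpecResidueField t ≫ A.hom) := Over.homMk m (by
      change m ≫ A.left.fromSpecResidueField t ≫ A.hom = _
      rw [reassoc_of% hm, Over.w v, hC])
    refine ⟨pullback.lift ((yon S).map (Over.homMk (Sigma.ι (fun z => (P z).toScheme) z) rfl : Pz ⟶ C) ≫
      (yon S).map c ≫ (yon S).map w ≫ b) ((yon S).map mo ≫ l₀) ?_, pullback.lift_fst _ _ _⟩
    simp only [Category.assoc]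
    rw [hl₀, ← hv, ← Functor.map_comp_assoc, ← Functor.map_comp_assoc, ← Functor.map_comp_assoc]
    congr 2
    ext : 1
    change (Sigma.ι (fun z => (P z).toScheme) z ≫ σ) ≫ v.left = m ≫ A.left.fromSpecResidueField t
    rw [Sigma.ι_desc, hm]
  haveI : Mono (pullback.fst f i) := inferInstance
  haveI : Epi (pullback.fst f i) := ⟨fun {V} α β hab => by
    rw [← cancel_epi b, ← cancel_epi ((yon S).map w), ← cancel_epi ((yon S).map c)]
    refine sigma_hom_ext (S := S) (σ ≫ W.hom) _ _ fun z => ?_
    obtain ⟨l, hl⟩ := hloc z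
    have e := congrArg (l ≫ ·) hab
    simp only [reassoc_of% hl] at e
    exact e⟩
  haveI : IsIso (pullback.fst f i) := isIso_of_mono_of_epi _
  exact ⟨inv (pullback.fst f i) ≫ pullback.snd f i, by
    rw [Category.assoc, ← pullback.condition, IsIso.inv_hom_id_assoc]⟩

end Groth.Agent.ASp
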