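import Groth.Agent.RatDense.Etale
import Groth.Agent.ASp.SubCompl
import Groth.Agent.ASp.SchDenseFlat
import Groth.Agent.ASp.SchDenseImage
/-!
Scheme-theoretic density on every étale chart, and intersections of dense open subspaces.
-/

set_option autoImplicit false
set_option backward.isDefEq.respectTransparency false
set_option backward.isDefEq.respectTransparency.types false

universe u

open CategoryTheory CategoryTheory.Limits AlgebraicGeometry Opposite

namespace Groth.Agent.ASp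

open _root_.AlgSp

variable {S : Scheme.{u}}

/-- Schematic density descends along flat surjections. -/
theorem isSchematicallyDense_of_preimage {X' X : Scheme.{u}} (f : X' ⟶ X) [Flat f] [Surjective f] {V : X.Opens}
    (h : CInt.IsSchematicallyDense (f ⁻¹ᵁ V)) : CInt.IsSchematicallyDense V := by
  refine RatDense.of_forall_affine fun x O hx => ⟨O, hx, le_rfl, fun s hs => ?_⟩
  have h0 : f.app O s = 0 := by
    refine RatDense.eq_zero_of_res h _ ?_
    have h1 : f.app (O ⊓ V) (RatDense.res inf_le_left s) = 0 := by rw [hs, map_zero]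
    rw [← CommRingCat.comp_apply, RatDense.res, f.naturality, CommRingCat.comp_apply] at h1
    exact h1
  refine RatDense.eq_zero_of_germ s fun z hz => ?_
  obtain ⟨y, rfl⟩ := f.surjective z
  algebraize [(f.stalkMap y).hom]
  have : Module.FaithfullyFlat (X.presheaf.stalk (f y)) (X'.presheaf.stalk y) :=
    @Module.FaithfullyFlat.of_flat_of_isLocalHom _ _ _ _ _ _ _ (Flat.stalkMap f y) (f.toLRSHom.prop y)
  refine (‹RingHom.FaithfullyFlat _›.injective) ?_
  rw [map_zero]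
  show f.stalkMap y (X.presheaf.germ O (f y) hz s) = 0
  rw [← CommRingCat.comp_apply, Scheme.Hom.germ_stalkMap, CommRingCat.comp_apply, h0, map_zero]

/-- An open of a chart cut out by `j` pulls back to the preimage open. -/
theorem preimage_eq_of_sq {G F : Sp S} {j : G ⟶ F} {V₁ V₂ T : Over S} {φ₁ : (yon S).obj V₁ ⟶ F}
    {φ₂ : (yon S).obj V₂ ⟶ F} {W₁ : V₁.left.Opens} {W₂ : V₂.left.Opens}
    {f₁ : (yon S).obj (openOver W₁) ⟶ G} {f₂ : (yon S).obj (openOver W₂) ⟶ G}
    (sq₁ : IsPullback f₁ ((yon S).map (openInc W₁)) j φ₁) (sq₂ : IsPullback f₂ ((yon S).map (openInc W₂)) j φ₂)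
    (t₁ : T ⟶ V₁) (t₂ : T ⟶ V₂) (e : (yon S).map t₁ ≫ φ₁ = (yon S).map t₂ ≫ φ₂) :
    t₁.left ⁻¹ᵁ W₁ = t₂.left ⁻¹ᵁ W₂ := by
  obtain ⟨l₁, hl₁⟩ := exists_preimage_sq t₁ W₁
  obtain ⟨l₂, hl₂⟩ := exists_preimage_sq t₂ W₂
  have r₁ := range_left_eq_preimage (hl₁.paste_horiz sq₁)
  have r₂ := range_left_eq_preimage (hl₂.paste_horiz sq₂)
  rw [e] at r₁
  refine TopologicalSpace.Opens.ext ?_
  rw [← Scheme.Opens.range_ι (t₁.left ⁻¹ᵁ W₁), ← Scheme.Opens.range_ι (t₂.left ⁻¹ᵁ W₂)]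
  exact r₁.trans r₂.symm

/-- A scheme-theoretically dense open subspace is dense in every étale chart. -/
theorem isSchematicallyDense_every_chart {G F : Sp S} {j : G ⟶ F} (hj : IsSchDense j) {V : Over S}
    {φ : (yon S).obj V ⟶ F} (hφ : RepWith @Etale φ) {W : V.left.Opens} {fst : (yon S).obj (openOver W) ⟶ G}
    (sq : IsPullback fst ((yon S).map (openInc W)) j φ) : CInt.IsSchematicallyDense W := by
  obtain ⟨-, V₀, φ₀, W₀, f₀, hφ₀, hφ₀s, sq₀, hW₀⟩ := hj
  obtain ⟨T, w, v, hwe, hws, hv, hpb⟩ := exists_etale_cover hφ₀ hφ₀s φ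
  haveI := hwe
  haveI := hws
  haveI : Etale v.left := hφ.2 φ₀ _ _ hpb.flip
  apply isSchematicallyDense_of_preimage w.left
  rw [← preimage_eq_of_sq sq₀ sq v w hv]
  exact RatDense.preimage_of_etale v.left hW₀

/-- The intersection of two scheme-theoretically dense open subspaces is scheme-theoretically dense. -/
theorem isSchDense_inter {U V X P : Sp S} {jU : U ⟶ X} {jV : V ⟶ X} (hU : IsSchDense jU) (hV : IsSchDense jV)
    {fst : P ⟶ U} {snd : P ⟶ V} (sq : IsPullback fst snd jU jV) : IsSchDense (fst ≫ jU) := by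
  obtain ⟨hUo, V₁, φ₁, W₁, f₁, hφ₁, hφ₁s, sq₁, hW₁⟩ := hU
  have hVo := hV.1
  obtain ⟨A, fz, z, sqz⟩ : ∃ (A : Over S) (fz : (yon S).obj A ⟶ V) (z : A ⟶ V₁),
      IsPullback fz ((yon S).map z) jV φ₁ := ⟨_, _, _, hVo.1.isPullback φ₁⟩
  haveI : IsOpenImmersion z.left := hVo.2 φ₁ _ z sqz
  obtain ⟨⟨f₂, sq₂⟩, -, -⟩ := exists_openOver_sq sqz
  have hW₂ := isSchematicallyDense_every_chart hV hφ₁ sq₂
  let W₂ : V₁.left.Opens := z.left.opensRange
  let W := W₁ ⊓ W₂
  let i₁ : openOver W ⟶ openOver W₁ := Over.homMk (V₁.left.homOfLE inf_le_left) (by simp)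
  let i₂ : openOver W ⟶ openOver W₂ := Over.homMk (V₁.left.homOfLE inf_le_right) (by simp)
  have hpb : IsPullback ((yon S).map i₁) ((yon S).map i₂) ((yon S).map (openInc W₁)) ((yon S).map (openInc W₂)) :=
    isPullback_yon_map (IsPullback.of_map (Over.forget S) (Over.OverMorphism.ext (by simp [i₁, i₂]))
      (isPullback_opens_inf W₁ W₂))
  refine ⟨repWith_comp (repWith_of_isPullback sq.flip hVo) hUo, V₁, φ₁, W,
    sq.lift ((yon S).map i₁ ≫ f₁) ((yon S).map i₂ ≫ f₂) (by rw [Category.assoc, Category.assoc, sq₁.w, sq₂.w, hpb.w_assoc]),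
    hφ₁, hφ₁s, ?_, fun O s t hst => ?_⟩
  · have h₁ : (yon S).map (openInc W) = (yon S).map i₁ ≫ (yon S).map (openInc W₁) := by
      rw [← Functor.map_comp]; congr 1; exact Over.OverMorphism.ext (by simp [i₁])
    refine IsPullback.of_isLimit' ⟨by rw [sq.lift_fst_assoc, Category.assoc, sq₁.w, h₁, Category.assoc]⟩
      (PullbackCone.IsLimit.mk _ (fun c => hpb.lift
        (sq₁.lift (c.fst ≫ fst) c.snd (by rw [Category.assoc]; exact c.condition))
        (sq₂.lift (c.fst ≫ snd) c.snd (by rw [Category.assoc, ← sq.w]; exact c.condition))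
        (by rw [sq₁.lift_snd, sq₂.lift_snd]))
      (fun c => sq.hom_ext (by rw [Category.assoc, sq.lift_fst, hpb.lift_fst_assoc, sq₁.lift_fst])
        (by rw [Category.assoc, sq.lift_snd, hpb.lift_snd_assoc, sq₂.lift_fst]))
      (fun c => by rw [h₁, hpb.lift_fst_assoc, sq₁.lift_snd])
      (fun c m hm₁ hm₂ => hpb.hom_ext
        (sq₁.hom_ext (by rw [hpb.lift_fst, sq₁.lift_fst, ← hm₁, Category.assoc, Category.assoc, sq.lift_fst])
          (by rw [hpb.lift_fst, sq₁.lift_snd, ← hm₂, h₁, Category.assoc]))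
        (sq₂.hom_ext (by rw [hpb.lift_snd, sq₂.lift_fst, ← hm₁, Category.assoc, Category.assoc, sq.lift_snd])
          (by rw [hpb.lift_snd, sq₂.lift_snd, ← hm₂, h₁, hpb.w, Category.assoc]))))
  · refine hW₁ O (hW₂ (O ⊓ W₁) ?_)
    rw [← ConcreteCategory.comp_apply, ← ConcreteCategory.comp_apply, ← Functor.map_comp]
    show RatDense.res _ s = RatDense.res _ t
    rw [← RatDense.res_res (inf_le_left : O ⊓ W ≤ O) (show (O ⊓ W₁) ⊓ W₂ ≤ O ⊓ W from (inf_assoc O W₁ W₂).le) s,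
      ← RatDense.res_res (inf_le_left : O ⊓ W ≤ O) (show (O ⊓ W₁) ⊓ W₂ ≤ O ⊓ W from (inf_assoc O W₁ W₂).le) t]
    exact congrArg _ hst

end Groth.Agent.ASp
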