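import Groth.Agent.ASp.SchDenseImage
import Groth.Agent.ASp.MorCancel
import Groth.Agent.ShfQuotLib.Basic
/-!
Factorisation through an fppf covering over a schematically dense open.
-/

set_option autoImplicit false
set_option backward.isDefEq.respectTransparency false
set_option backward.isDefEq.respectTransparency.types false

universe u

open CategoryTheory CategoryTheory.Limits AlgebraicGeometry Opposite

namespace Groth.Agent.ASp

open _root_.AlgSp

variable {S : Scheme.{u}}

/-- An fppf covering of algebraic spaces is an epimorphism of sheaves. -/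
theorem epi_of_fppf {X Z : Sp S} (hX : IsAlgSpace X) (hZ : IsAlgSpace Z) (g : X ⟶ Z) (hf : LocP @Flat g)
    (hp : LocP @LocallyOfFinitePresentation g) (hs : IsSurjectiveMor g) : Epi g := by
  obtain ⟨U, p, hpe, hps⟩ := hZ.atlas
  have sq := IsPullback.of_hasPullback g p
  have hP := isAlgSpace_pullback hZ.diag hX (IsAlgSpace.yon_obj U) g p
  obtain ⟨W, a, ha, has⟩ := hP.atlas
  obtain ⟨w, hw⟩ := (yon S).map_surjective (a ≫ pullback.snd g p)
  have ha' : RepWith @Etale (a ≫ pullback.fst g p) := repWith_comp ha (repWith_of_isPullback sq.flip hpe)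
  have e : (a ≫ pullback.fst g p) ≫ g = (yon S).map w ≫ p := by
    rw [hw, Category.assoc, Category.assoc, pullback.condition]
  haveI : Flat w.left := hf _ p w ha' hpe e
  haveI : LocallyOfFinitePresentation w.left := hp _ p w ha' hpe e
  haveI : Surjective w.left := ⟨fun u => by
    obtain ⟨x, hx⟩ := hs (Points.map p (Points.ofScheme U u))
    obtain ⟨q, -, hq⟩ := points_exists_of_isPullback sq x (Points.ofScheme U u) hx
    obtain ⟨v, rfl⟩ := surjective_ofPt has q
    refine ⟨v, (Points.schemeHomeo U).injective ?_⟩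
    rw [Points.map_ofPt, ← hw, Points.ofPt_eq_map_ofScheme] at hq
    exact (Points.map_yon_map_apply w v).symm.trans hq⟩
  haveI : Sheaf.IsLocallySurjective ((yon S).map w) :=
    isLocallySurjective_of_repWith (repWith_yon_map (P := @Flat) (g := w) ‹_›)
      (repWith_yon_map (P := @LocallyOfFinitePresentation) (g := w) ‹_›)
      (repWith_yon_map (P := @Surjective) (g := w) ‹_›)
  haveI : Epi ((yon S).map w) := inferInstance
  haveI : Epi p := epi_of_etale_surjective hpe hps
  haveI : Epi ((a ≫ pullback.fst g p) ≫ g) := by rw [e]; infer_instance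
  exact epi_of_epi (a ≫ pullback.fst g p) g

/-- Morphisms into a separated space agreeing on a schematically dense quasi-compact open are equal. -/
theorem eq_of_eq_on_schDense {U X Y B : Sp S} (hX : IsAlgSpace X) (hY : IsAlgSpace Y) (hB : IsAlgSpace B) {q : Y ⟶ B}
    (hq : IsSeparatedMor q) {f g : X ⟶ Y} (hfg : f ≫ q = g ≫ q) {j : U ⟶ X} (hj : IsSchDense j)
    (hjq : IsQuasiCompactMor j) (heq : j ≫ f = j ≫ g) : f = g := by
  let l : X ⟶ pullback q q := pullback.lift f g hfg
  have sq := IsPullback.of_hasPullback (pullback.diagonal q) l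
  have hP := isAlgSpace_pullback hB.diag hY hY q q
  have hE := isAlgSpace_pullback hP.diag hY hX (pullback.diagonal q) l
  obtain ⟨k, hk⟩ := ((isSchDense_iff_isSchImage_id hX hj.1 hjq).1 hj).2.2 _ hE (repWith_of_isPullback sq hq)
    ⟨pullback.lift (j ≫ f) j (by
      apply pullback.hom_ext <;> simp only [Category.assoc, pullback.diagonal_fst, pullback.diagonal_snd, l,
        pullback.lift_fst, pullback.lift_snd, Category.comp_id, heq]), pullback.lift_snd _ _ _⟩
  have e1 := pullback.condition (f := pullback.diagonal q) (g := l) =≫ pullback.fst q q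
  have e2 := pullback.condition (f := pullback.diagonal q) (g := l) =≫ pullback.snd q q
  simp only [Category.assoc, pullback.diagonal_fst, pullback.diagonal_snd, Category.comp_id, l,
    pullback.lift_fst, pullback.lift_snd] at e1 e2
  have e3 := k ≫= (e1.symm.trans e2)
  rwa [reassoc_of% hk, reassoc_of% hk] at e3

/-- A map factors through an fppf covering if it does so over a schematically dense open. -/
theorem exists_factor_of_schDense {X Y Z B V : Sp S} (hX : IsAlgSpace X) (hY : IsAlgSpace Y) (hZ : IsAlgSpace Z)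
    (hB : IsAlgSpace B) {pY : Y ⟶ B} (hYs : IsSeparatedMor pY) {pZ : Z ⟶ B} {f : X ⟶ Y} {g : X ⟶ Z}
    (hfg : f ≫ pY = g ≫ pZ) (hgs : IsSurjectiveMor g) (hgf : LocP @Flat g)
    (hgp : LocP @LocallyOfFinitePresentation g) {v : V ⟶ Z} (hv : IsSchDense v) (hvq : IsQuasiCompactMor v)
    {φ : V ⟶ Y} (hφ : pullback.fst g v ≫ f = pullback.snd g v ≫ φ) : ∃ h : Z ⟶ Y, g ≫ h = f := by
  haveI := epi_of_fppf hX hZ g hgf hgp hgs
  refine ShfQuotLib.exists_desc g f fun W a b hab => ?_
  have hK := isAlgSpace_pullback hZ.diag hX hX g g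
  have hfl : LocP @Flat (pullback.fst g g ≫ g) :=
    locP_comp hX (locP_of_isPullback (IsPullback.of_hasPullback g g) hX hZ hX hgf) hgf
  have sq := (IsPullback.of_hasPullback (pullback.fst g g ≫ g) v).flip
  have key : pullback.fst g g ≫ f = pullback.snd g g ≫ f := by
    refine eq_of_eq_on_schDense hK hY hB hYs ?_ (isSchDense_pullback_flat hK hfl hv hvq sq)
      (quasiCompact_baseChange sq hvq) ?_
    · rw [Category.assoc, Category.assoc, hfg, pullback.condition_assoc]
    · have h1 : ∀ (m : pullback (pullback.fst g g ≫ g) v ⟶ X), m ≫ g = pullback.snd _ v ≫ v →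
          m ≫ f = pullback.snd _ v ≫ φ := fun m hm => by
        have := pullback.lift m (pullback.snd _ v) hm ≫= hφ
        rwa [pullback.lift_fst_assoc, pullback.lift_snd_assoc] at this
      rw [← Category.assoc, ← Category.assoc,
        h1 _ ((Category.assoc _ _ _).trans pullback.condition),
        h1 _ ((Category.assoc _ _ _).trans ((congrArg (_ ≫ ·) pullback.condition.symm).trans pullback.condition))]
  calc a ≫ f = pullback.lift a b hab ≫ pullback.fst g g ≫ f := (pullback.lift_fst_assoc _ _ _ _).symm
    _ = pullback.lift a b hab ≫ pullback.snd g g ≫ f := by rw [key]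
    _ = b ≫ f := pullback.lift_snd_assoc _ _ _ _

end Groth.Agent.ASp
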