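import Groth.Prelude
import Groth.Agent.ASp.SchDenseEtale
import Groth.Agent.ASp.SchDenseFactor
import Groth.Agent.S0451
/-!
Flat morphisms locally of finite type over schematically dense open subspaces.
-/

set_option autoImplicit false
set_option backward.isDefEq.respectTransparency false
set_option linter.style.haveILetI false

universe u

open CategoryTheory CategoryTheory.Limits AlgebraicGeometry Opposite

namespace Groth.Agent.ASp

open _root_.AlgSp

variable {S : Scheme.{u}} {X Y V P : Sp S} {f : X ⟶ Y} {j : V ⟶ Y} {fst : P ⟶ X} {snd : P ⟶ V}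

theorem lfp_of_flat_schDense (hX : IsAlgSpace X) (hY : IsAlgSpace Y) (hfl : LocP @Flat f)
    (hlft : LocP @LocallyOfFiniteType f) (hjq : IsQuasiCompactMor j) (hjd : IsSchDense j)
    (hP : IsPullback fst snd f j) (hV : LocP @LocallyOfFinitePresentation snd) :
    LocP @LocallyOfFinitePresentation f := by
  obtain ⟨hj, B, φ, W, fW, hφ, hφs, sqW, hW⟩ := hjd
  have hK : IsAlgSpace (pullback f φ) := isAlgSpace_pullback hY.diag hX (IsAlgSpace.yon_obj B) f φ
  obtain ⟨U, a, ha, has⟩ := hK.atlas
  obtain ⟨g, hg⟩ := (yon S).map_surjective (a ≫ pullback.snd f φ)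
  let a₁ := a ≫ pullback.fst f φ
  have ha₁ : RepWith @Etale a₁ := repWith_comp ha (repWith_of_isPullback (IsPullback.of_hasPullback f φ).flip hφ)
  have has₁ : RepWith @Surjective a₁ :=
    repWith_comp has (repWith_of_isPullback (IsPullback.of_hasPullback f φ).flip hφs)
  have e : a₁ ≫ f = (yon S).map g ≫ φ := by
    rw [hg, Category.assoc, Category.assoc, pullback.condition]
  haveI : Flat g.left := hfl a₁ φ g ha₁ hφ e
  haveI := hlft a₁ φ g ha₁ hφ e
  haveI : QuasiCompact W.ι := ((repWith_quasiCompact_iff hj.1).2 hjq).2 φ _ (openInc W) sqW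
  haveI : IsSchemeTheoreticallyDominant W.ι := ⟨ker_ι_eq_bot hW⟩
  refine locP_of_chart ha₁ has₁ hφ e ?_
  suffices hres : LocallyOfFinitePresentation (g.left ∣_ W) by
    haveI := hres
    exact S0451.result g.left W
  obtain ⟨l, hl⟩ := exists_preimage_sq g W
  have hll : l.left = g.left ∣_ W := by
    have h1 : l ≫ openInc W = openInc (g.left ⁻¹ᵁ W) ≫ g := (yon S).map_injective (by simpa using hl.w)
    exact (cancel_mono W.ι).1 ((congrArg CommaMorphism.left h1).trans (morphismRestrict_ι g.left W).symm)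
  have big : IsPullback ((yon S).map l ≫ fW) ((yon S).map (openInc (g.left ⁻¹ᵁ W))) j (a₁ ≫ f) := by
    rw [e]; exact hl.paste_horiz sqW
  let a' := hP.lift ((yon S).map (openInc (g.left ⁻¹ᵁ W)) ≫ a₁) ((yon S).map l ≫ fW)
    (by rw [Category.assoc]; exact big.w.symm)
  have ha' : RepWith @Etale a' := by
    refine repWith_of_isPullback (IsPullback.of_right ?_ (hP.lift_fst _ _ _) hP.flip).flip ha₁
    rw [hP.lift_snd]
    exact big
  have := hV a' fW l ha' (repWith_of_isPullback sqW.flip hφ) (hP.lift_snd _ _ _)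
  rwa [hll] at this

end Groth.Agent.ASp
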