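import Groth.Agent.ASp.SchDenseEtale
import Groth.Prelude.Def_AlgSpOX2
/-!
Scheme-theoretic density and the comparison map of structure sheaves.
-/

set_option autoImplicit false
set_option backward.isDefEq.respectTransparency false
set_option backward.isDefEq.respectTransparency.types false

universe u

open CategoryTheory CategoryTheory.Limits AlgebraicGeometry Opposite

namespace Groth.Agent.ASp

open _root_.AlgSp

variable {S : Scheme.{u}}

/-- Global functions restrict injectively along an open immersion iff they do to its image. -/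
theorem appTop_eq_zero_iff {A V : Scheme.{u}} (z : A ⟶ V) [IsOpenImmersion z] (t : Γ(V, ⊤)) :
    z.appTop t = 0 ↔ RatDense.res (le_top : z.opensRange ≤ ⊤) t = 0 := by
  obtain ⟨W, hW⟩ : ∃ W, z.opensRange = W := ⟨_, rfl⟩
  have e : z = (z.isoOpensRange.hom) ≫ z.opensRange.ι := (Scheme.Hom.isoOpensRange_hom_ι z).symm
  constructor
  · intro h
    have h1 : z.opensRange.ι.appTop t = 0 := by
      rw [e, Scheme.Hom.comp_appTop, CommRingCat.comp_apply] at h
      exact (ConcreteCategory.bijective_of_isIso z.isoOpensRange.hom.appTop).1 (h.trans (map_zero _).symm)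
    rw [Scheme.Opens.ι_appTop] at h1
    exact RatDense.res_eq_zero_mono le_top (by simp [Scheme.Opens.ι_image_top]) h1
  · intro h
    rw [e, Scheme.Hom.comp_appTop, CommRingCat.comp_apply]
    have h1 : z.opensRange.ι.appTop t = 0 := by
      rw [Scheme.Opens.ι_appTop]
      exact RatDense.res_eq_zero_mono le_top (Scheme.Opens.ι_image_top _).le h
    rw [h1, map_zero]

variable {G F : Sp S} {j : G ⟶ F}

theorem bcRingHom_app_eq_zero_iff (hj : RepWith @IsOpenImmersion j) (E : EtOver F)
    (s : (OEtRing F).obj.obj (op E)) :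
    (bcRingHom hj.1).hom.app (op E) s = 0 ↔ (hj.1.snd E.obj.hom).left.appTop s.down = 0 := by
  constructor
  · exact fun h => congrArg ULift.down h
  · exact fun h => ULift.down_injective h

/-- A dense open gives a monomorphism of structure sheaves. -/
theorem mono_bcRingHom_of_isSchDense (hj : RepWith @IsOpenImmersion j) (hd : IsSchDense j) :
    Mono (bcRingHom hj.1) := by
  haveI : ∀ E, Mono ((bcRingHom hj.1).hom.app E) := fun E => ConcreteCategory.mono_of_injective _ <| by
    refine (injective_iff_map_eq_zero _).2 fun s hs => ?_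
    obtain ⟨E⟩ := E
    have h0 := (bcRingHom_app_eq_zero_iff hj E s).1 hs
    have sq := hj.1.isPullback E.obj.hom
    haveI : IsOpenImmersion (hj.1.snd E.obj.hom).left := hj.2 _ _ _ sq
    obtain ⟨⟨f₁, sq₁⟩, -, -⟩ := exists_openOver_sq sq
    have hW := isSchematicallyDense_every_chart hd E.property sq₁
    exact ULift.down_injective (RatDense.eq_zero_of_res hW _
      (RatDense.res_eq_zero_mono le_top inf_le_right ((appTop_eq_zero_iff _ _).1 h0)))
  haveI : Mono (bcRingHom hj.1).hom := NatTrans.mono_of_mono_app _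
  exact (sheafToPresheaf _ _).mono_of_mono_map ‹Mono (bcRingHom hj.1).hom›

/-- A monomorphism of structure sheaves gives density. -/
theorem isSchDense_of_mono_bcRingHom (hF : IsAlgSpace F) (hj : RepWith @IsOpenImmersion j)
    (hm : Mono (bcRingHom hj.1)) : IsSchDense j := by
  haveI : Mono (bcRingHom hj.1).hom := (sheafToPresheaf _ _).map_mono (bcRingHom hj.1)
  obtain ⟨V, φ, hφ, hφs⟩ := hF.atlas
  have sq := hj.1.isPullback φ
  haveI : IsOpenImmersion (hj.1.snd φ).left := hj.2 _ _ _ sq
  obtain ⟨⟨f₀, sq₀⟩, -, -⟩ := exists_openOver_sq sq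
  refine ⟨hj, V, φ, _, f₀, hφ, hφs, sq₀, RatDense.of_forall_affine fun x O hx => ⟨O, hx, le_rfl, fun s hs => ?_⟩⟩
  haveI : IsOpenImmersion (openInc O : openOver O ⟶ V).left := inferInstanceAs (IsOpenImmersion O.ι)
  let E : EtOver F := EtOver.mk ((yon S).map (openInc O) ≫ φ)
    (repWith_comp (repWith_yon_map (inferInstance : Etale O.ι)) hφ)
  have inj := (ConcreteCategory.mono_iff_injective_of_preservesPullback ((bcRingHom hj.1).hom.app (op E))).1 inferInstance
  let t : Γ((openOver O).left, ⊤) := O.topIso.inv s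
  have ht : t = 0 := by
    refine congrArg ULift.down (inj (a₁ := ULift.up t) (a₂ := 0) (Eq.trans ?_ (map_zero _).symm))
    apply (bcRingHom_app_eq_zero_iff hj E _).2
    have sqE := hj.1.isPullback E.obj.hom
    haveI : IsOpenImmersion (hj.1.snd E.obj.hom).left := hj.2 _ _ _ sqE
    obtain ⟨⟨f₁, sq₁⟩, -, -⟩ := exists_openOver_sq sqE
    have he := preimage_eq_of_sq sq₁ sq₀ (𝟙 _) (openInc O) (by rw [(yon S).map_id, Category.id_comp]; rfl)
    have he' : (hj.1.snd E.obj.hom).left.opensRange = O.ι ⁻¹ᵁ (hj.1.snd φ).left.opensRange := he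
    apply (appTop_eq_zero_iff _ _).2
    have key : RatDense.res (X := (openOver O).left) (le_top : O.ι ⁻¹ᵁ (hj.1.snd φ).left.opensRange ≤ ⊤) t = 0 := by
      refine Eq.trans ?_ (RatDense.res_eq_zero_mono inf_le_left
        (le_inf (O.ι_image_le _) (O.ι.image_preimage_le _) : O.ι ''ᵁ (O.ι ⁻¹ᵁ (hj.1.snd φ).left.opensRange) ≤ _) hs)
      show V.left.presheaf.map _ (V.left.presheaf.map _ s) = _
      rw [← CommRingCat.comp_apply, ← Functor.map_comp]
      rfl
    exact RatDense.res_eq_zero_mono le_top he'.le key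
  exact (ConcreteCategory.bijective_of_isIso O.topIso.inv).1 (ht.trans (map_zero _).symm)

end Groth.Agent.ASp
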