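import Groth.Prelude
import Groth.Agent.SchDenseFlatLib.Unram
import Groth.Agent.ASp.SchDenseEtale
import Groth.Agent.ASp.SchDenseFactor
import Groth.Agent.ASp.UnramMono
import Groth.Agent.ASp.OpenImm
/-!
Flat morphisms over schematically dense open subspaces: the unramified case, and birational flat
separated morphisms.
-/

set_option autoImplicit false
set_option backward.isDefEq.respectTransparency false
set_option linter.style.haveILetI false

universe u

open CategoryTheory CategoryTheory.Limits AlgebraicGeometry Opposite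

namespace Groth.Agent.ASp

open _root_.AlgSp

variable {S : Scheme.{u}} {X Y V P : Sp S} {f : X ⟶ Y} {j : V ⟶ Y} {fst : P ⟶ X} {snd : P ⟶ V}

theorem lfp_of_flat_unramified_schDense (hX : IsAlgSpace X) (hY : IsAlgSpace Y) (hfl : LocP @Flat f)
    (hu : LocP (@LocallyOfFiniteType ⊓ @FormallyUnramified) f) (hjq : IsQuasiCompactMor j) (hjd : IsSchDense j)
    (hP : IsPullback fst snd f j) (hV : LocP @LocallyOfFinitePresentation snd) :
    LocP @LocallyOfFinitePresentation f := by
  obtain ⟨hj, B, φ, W, fW, hφ, hφs, sqW, hW⟩ := hjd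
  have hK : IsAlgSpace (pullback f φ) := isAlgSpace_pullback hY.diag hX (IsAlgSpace.yon_obj B) f φ
  obtain ⟨U, a, ha, has⟩ := hK.atlas
  obtain ⟨g, hg⟩ := (yon S).map_surjective (a ≫ pullback.snd f φ)
  let a₁ := a ≫ pullback.fst f φ
  have ha₁ : RepWith @Etale a₁ := repWith_comp ha (repWith_of_isPullback (IsPullback.of_hasPullback f φ).flip hφ)
  have has₁ : RepWith @Surjective a₁ :=
    repWith_comp has (repWith_of_isPullback (IsPullback.of_hasPullback f φ).flip hφs)
  have e : a₁ ≫ f = (yon S).map g ≫ φ := by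
    rw [hg, Category.assoc, Category.assoc, pullback.condition]
  haveI : Flat g.left := hfl a₁ φ g ha₁ hφ e
  obtain ⟨hlft, hfu⟩ := hu a₁ φ g ha₁ hφ e
  haveI := hlft
  haveI := hfu
  haveI : QuasiCompact W.ι := ((repWith_quasiCompact_iff hj.1).2 hjq).2 φ _ (openInc W) sqW
  haveI : IsSchemeTheoreticallyDominant W.ι := ⟨ker_ι_eq_bot hW⟩
  refine locP_of_chart ha₁ has₁ hφ e (SchDenseFlatLib.lfp_of_flat_unramified g.left W ?_)
  obtain ⟨l, hl⟩ := exists_preimage_sq g W
  have hll : l.left = g.left ∣_ W := by
    have h1 : l ≫ openInc W = openInc (g.left ⁻¹ᵁ W) ≫ g := (yon S).map_injective (by simpa using hl.w)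
    exact (cancel_mono W.ι).1 ((congrArg CommaMorphism.left h1).trans (morphismRestrict_ι g.left W).symm)
  have big : IsPullback ((yon S).map l ≫ fW) ((yon S).map (openInc (g.left ⁻¹ᵁ W))) j (a₁ ≫ f) := by
    rw [e]; exact hl.paste_horiz sqW
  let a' := hP.lift ((yon S).map (openInc (g.left ⁻¹ᵁ W)) ≫ a₁) ((yon S).map l ≫ fW)
    (by rw [Category.assoc]; exact big.w.symm)
  have ha' : RepWith @Etale a' := by
    refine repWith_of_isPullback (IsPullback.of_right ?_ (hP.lift_fst _ _ _) hP.flip).flip ha₁
    rw [hP.lift_snd]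
    exact big
  have := hV a' fW l ha' (repWith_of_isPullback sqW.flip hφ) (hP.lift_snd _ _ _)
  rwa [hll] at this

theorem mono_of_flat_separated_schDense (hX : IsAlgSpace X) (hY : IsAlgSpace Y) (hfl : LocP @Flat f)
    (hsep : IsSeparatedMor f) (hjq : IsQuasiCompactMor j) (hjd : IsSchDense j) (hP : IsPullback fst snd f j)
    [IsIso snd] : Mono f := by
  have hK := isAlgSpace_pullback hY.diag hX hX f f
  have hfl' : LocP @Flat (pullback.fst f f ≫ f) :=
    locP_comp hX (locP_of_isPullback (IsPullback.of_hasPullback f f) hX hY hX hfl) hfl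
  have sq := (IsPullback.of_hasPullback (pullback.fst f f ≫ f) j).flip
  have key : pullback.fst f f = pullback.snd f f := by
    refine eq_of_eq_on_schDense hK hX hY hsep pullback.condition (isSchDense_pullback_flat hK hfl' hjd hjq sq)
      (quasiCompact_baseChange sq hjq) ?_
    have h1 : ∀ m : pullback (pullback.fst f f ≫ f) j ⟶ X, m ≫ f = pullback.snd _ j ≫ j →
        m = pullback.snd _ j ≫ inv snd ≫ fst := fun m hm => by
      have h2 : hP.lift m (pullback.snd _ j) hm = pullback.snd _ j ≫ inv snd := by
        rw [IsIso.eq_comp_inv, hP.lift_snd]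
      rw [← Category.assoc, ← h2, hP.lift_fst]
    rw [h1 _ ((Category.assoc _ _ _).trans pullback.condition),
      h1 _ ((Category.assoc _ _ _).trans ((congrArg (_ ≫ ·) pullback.condition.symm).trans pullback.condition))]
  exact ⟨fun x y hxy => by
    have := pullback.lift x y hxy ≫= key
    rwa [pullback.lift_fst, pullback.lift_snd] at this⟩

theorem openImmersion_of_flat_iso_schDense (hX : IsAlgSpace X) (hY : IsAlgSpace Y) (hfl : LocP @Flat f)
    (hlft : LocP @LocallyOfFiniteType f) (hsep : IsSeparatedMor f) (hjq : IsQuasiCompactMor j) (hjd : IsSchDense j)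
    (hP : IsPullback fst snd f j) [IsIso snd] : RepWith @IsOpenImmersion f := by
  haveI := mono_of_flat_separated_schDense hX hY hfl hsep hjq hjd hP
  have hu := unramified_of_mono (f := f) hlft
  have hV : LocP @LocallyOfFinitePresentation snd := locP_of_repWith
    (repWith_mono (P := MorphismProperty.isomorphisms Scheme.{u}) (Q := @LocallyOfFinitePresentation) (fun _ _ g (hg : IsIso g) => inferInstance) (repWith_of_isIso snd))
  have hlfp := lfp_of_flat_unramified_schDense hX hY hfl hu hjq hjd hP hV
  refine repWith_isOpenImmersion_of_mono_etale hX hY f fun U B a b k ha hb e => ?_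
  haveI := hfl a b k ha hb e
  haveI := (hu a b k ha hb e).2
  haveI := hlfp a b k ha hb e
  exact Etale.of_formallyUnramified_of_flat k.left

end Groth.Agent.ASp
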