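import Groth.Agent.ASp.EffCartier
import Groth.Agent.ASp.RedSub
import Groth.Agent.ASp.Univ
import Groth.Agent.ASp.LocP
import Groth.Agent.ASp.Sheaf
import Groth.Agent.ASp.OpenImm
import Groth.Agent.BlowCompLib.Strict
/-!
Scheme-theoretic closure of a quasi-compact immersion of algebraic spaces.
-/

set_option autoImplicit false
set_option backward.isDefEq.respectTransparency false
set_option backward.isDefEq.respectTransparency.types false

universe u

open CategoryTheory CategoryTheory.Limits AlgebraicGeometry Opposite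

namespace Groth.Agent.ASp

open _root_.AlgSp

variable {S : Scheme.{u}}

/-- Scheme-theoretic images commute with flat base change. -/
theorem ker_baseChange_flat {X X' Z Z' : Scheme.{u}} {f : Z ⟶ X} [QuasiCompact f] {w : X' ⟶ X} [Flat w]
    {fst : Z' ⟶ Z} {f' : Z' ⟶ X'} (h : IsPullback fst f' f w) : f.ker.comap w = f'.ker := by
  have sq0 := (IsPullback.of_hasPullback w f.ker.subschemeι).flip
  let g := sq0.lift (fst ≫ f.toImage) f' (by
    rw [Category.assoc, show f.toImage ≫ f.ker.subschemeι = f from f.toImage_imageι, h.w])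
  have sqg : IsPullback fst g f.toImage (pullback.snd w f.ker.subschemeι) := by
    refine IsPullback.of_bot (v₂₁ := pullback.fst w f.ker.subschemeι) (v₂₂ := f.ker.subschemeι)
      (h₃₁ := w) ?_ (sq0.lift_fst _ _ _).symm sq0
    rw [sq0.lift_snd, show f.toImage ≫ f.ker.subschemeι = f from f.toImage_imageι]
    exact h
  haveI : Flat (pullback.snd w f.ker.subschemeι) := MorphismProperty.pullback_snd _ _ ‹Flat w›
  haveI : IsSchemeTheoreticallyDominant g := IsSchemeTheoreticallyDominant.of_isPullback sqg
  have hfac : f' = g ≫ pullback.fst w f.ker.subschemeι := (sq0.lift_snd _ _ _).symm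
  rw [hfac, Scheme.Hom.ker_comp, g.ker_eq_bot, Scheme.IdealSheafData.map_bot]
  rfl

theorem comap_ker_eq {Z X : Sp S} {i : Z ⟶ X} {U R Z₀ : Over S} {fz : (yon S).obj Z₀ ⟶ Z} {z : Z₀ ⟶ U}
    [QuasiCompact z.left] {p : (yon S).obj U ⟶ X} (sq : IsPullback fz ((yon S).map z) i p) (r r' : R ⟶ U)
    [Flat r.left] [Flat r'.left] (h : (yon S).map r ≫ p = (yon S).map r' ≫ p) :
    z.left.ker.comap r.left = z.left.ker.comap r'.left := by
  have s1 : IsPullback (pullback.fst z r) (pullback.snd z r) z r := IsPullback.of_hasPullback z r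
  have s2 : IsPullback (pullback.fst z r') (pullback.snd z r') z r' := IsPullback.of_hasPullback z r'
  have A := (isPullback_yon_map s1).paste_horiz sq
  have B := (isPullback_yon_map s2).paste_horiz sq
  rw [← h] at B
  rw [ker_baseChange_flat (isPullback_left s1), ker_baseChange_flat (isPullback_left s2)]
  let e := (yon S).preimageIso (A.isoIsPullback _ _ B)
  have he : e.hom ≫ pullback.snd z r' = pullback.snd z r := (yon S).map_injective (by
    rw [Functor.map_comp, Functor.preimageIso_hom, Functor.map_preimage, IsPullback.isoIsPullback_hom_snd])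
  rw [← he, Over.comp_left, Scheme.Hom.ker_comp_of_isIso]

/-- A quasi-compact immersion is an open immersion into a closed subspace. -/
theorem exists_openImm_closedImm {Z X : Sp S} (hX : IsAlgSpace X) (i : Z ⟶ X)
    (hi : RepWith @IsImmersion i) (hq : IsQuasiCompactMor i) :
    ∃ (Zb : Sp S) (_ : IsAlgSpace Zb) (j : Z ⟶ Zb) (c : Zb ⟶ X), j ≫ c = i ∧
      RepWith @IsOpenImmersion j ∧ RepWith @IsClosedImmersion c := by
  obtain ⟨U, p, hp, hps⟩ := hX.atlas
  obtain ⟨Z₀, fz', z, hsq⟩ : ∃ (Z₀ : Over S) (fz : (yon S).obj Z₀ ⟶ Z) (z : Z₀ ⟶ U),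
      IsPullback fz ((yon S).map z) i p := ⟨_, _, _, hi.1.isPullback p⟩
  haveI : IsImmersion z.left := hi.2 p _ z hsq
  haveI : QuasiCompact z.left := ((repWith_quasiCompact_iff hi.1).2 hq).2 p _ z hsq
  let I := z.left.ker
  let jI := subInc I
  haveI : IsClosedImmersion jI.left := inferInstanceAs (IsClosedImmersion I.subschemeι)
  obtain ⟨R, r₁, r₂, hR⟩ := exists_isPullback_yon hp.1 p
  haveI : Etale r₁.left := hp.2 p _ r₁ hR.flip
  haveI : Etale r₂.left := hp.2 p _ r₂ hR
  have hV : IsPullback (pullback.fst jI r₁) (pullback.snd jI r₁) jI r₁ := IsPullback.of_hasPullback _ _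
  have hbig : IsPullback ((yon S).map (pullback.fst jI r₁)) ((yon S).map (pullback.snd jI r₁ ≫ r₂))
      ((yon S).map jI ≫ p) p := by
    rw [Functor.map_comp]
    exact ((isPullback_yon_map hV).flip.paste_horiz hR.flip).flip
  have hle : jI.left.ker ≤ (pullback.snd jI r₁ ≫ r₂).left.ker := by
    rw [show jI.left.ker = I from I.ker_subschemeι, Over.comp_left, Scheme.Hom.ker_comp,
      Scheme.IdealSheafData.le_map_iff_comap_le, ← comap_ker_eq hsq r₁ r₂ hR.w,
      EffDescLib.comap_eq_ker_of_isPullback I (isPullback_left hV)]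
  obtain ⟨Zb, c, e, hZb, hc, sqc, he, hes⟩ := exists_closedSubspace_of_invariant hX p hp hps jI
    (inferInstanceAs (IsClosedImmersion I.subschemeι)) ⟨_, _, _, hbig,
      Over.homMk (IsClosedImmersion.lift jI.left _ hle) (by
        rw [← Over.w jI, ← Category.assoc, IsClosedImmersion.lift_fac, Over.w]),
      Over.OverMorphism.ext (IsClosedImmersion.lift_fac _ _ _)⟩
  let h : Z₀ ⟶ subOver I := Over.homMk z.left.toImage (by
    show z.left.toImage ≫ z.left.imageι ≫ U.hom = Z₀.hom
    rw [Scheme.Hom.toImage_imageι_assoc, Over.w])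
  have hh : h ≫ jI = z := Over.OverMorphism.ext z.left.toImage_imageι
  have hz : RepWith @Etale fz' := repWith_of_isPullback hsq.flip hp
  have hzs : RepWith @Surjective fz' := repWith_of_isPullback hsq.flip hps
  haveI : Mono c := mono_of_repWith (P := @IsClosedImmersion) (fun g (hg : IsClosedImmersion g) => inferInstance) hc
  haveI : Mono i := mono_of_repWith (P := @IsImmersion) (fun g (hg : IsImmersion g) => inferInstance) hi
  haveI : Sheaf.IsLocallySurjective fz' := isLocallySurjective_of_repWith
    (repWith_mono (fun _ _ g (hg : Etale g) => (inferInstance : Flat g)) hz)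
    (repWith_mono (fun _ _ g (hg : Etale g) => (inferInstance : LocallyOfFinitePresentation g)) hz) hzs
  let P := IsPullback.of_hasPullback i c
  let l := P.lift fz' ((yon S).map h ≫ e) (by
    rw [Category.assoc, sqc.w, ← Functor.map_comp_assoc, hh, hsq.w])
  haveI : Mono (pullback.fst i c) := pullback.fst_of_mono
  haveI : Epi (l ≫ pullback.fst i c) := by rw [P.lift_fst]; infer_instance
  haveI : Epi (pullback.fst i c) := epi_of_epi l _
  haveI : IsIso (pullback.fst i c) := isIso_of_mono_of_epi _
  let j : Z ⟶ Zb := inv (pullback.fst i c) ≫ pullback.snd i c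
  have hj : j ≫ c = i := by
    simp only [j, Category.assoc, ← pullback.condition, IsIso.inv_hom_id_assoc]
  haveI : Mono j := mono_of_mono_fac hj
  have hje : fz' ≫ j = (yon S).map h ≫ e := by
    rw [← cancel_mono c, Category.assoc, hj, Category.assoc, sqc.w, ← Functor.map_comp_assoc, hh, hsq.w]
  haveI : IsOpenImmersion h.left := inferInstanceAs (IsOpenImmersion z.left.toImage)
  have hZ : IsAlgSpace Z := ⟨representable_diag_of_mono i hX.diag, _, fz', hz, hzs⟩
  exact ⟨Zb, hZb, j, c, hj, repWith_isOpenImmersion_of_mono_etale hZ hZb j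
    (locP_of_chart hz hzs he hje (inferInstance : Etale h.left)), hc⟩

end Groth.Agent.ASp
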