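import Groth.Agent.ASp.SchImageGen
import Groth.Agent.FlatLocus.ImageClosure
import Mathlib.AlgebraicGeometry.ValuativeCriterion
/-!
Valuation rings reaching the points of a scheme-theoretic image.
-/

set_option autoImplicit false
set_option backward.isDefEq.respectTransparency false
set_option backward.isDefEq.respectTransparency.types false

universe u

open CategoryTheory CategoryTheory.Limits AlgebraicGeometry Opposite IsLocalRing

namespace Groth.Agent.ASp

open _root_.AlgSp

variable {S : Scheme.{u}}

/-- A specialization from the image of a point is realized by a valuation ring whose fraction field maps to the source. -/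
theorem exists_valuationRing_to_image {W Z : Scheme.{u}} (h : W ⟶ Z) {x : ↥W} {u : ↥Z} (hs : h x ⤳ u) :
    ∃ (A : Type u) (_ : CommRing A) (_ : IsDomain A) (_ : ValuationRing A) (l : Spec (CommRingCat.of A) ⟶ Z)
      (y : Spec (CommRingCat.of (FractionRing A)) ⟶ W), l (closedPoint A) = u ∧
        y ≫ h = Spec.map (CommRingCat.ofHom (algebraMap A (FractionRing A))) ≫ l := by
  let φ : Z.presheaf.stalk u ⟶ W.residueField x :=
    Z.presheaf.stalkSpecializes hs ≫ h.stalkMap x ≫ W.residue x
  obtain ⟨A, hA, hA_local⟩ := exists_factor_valuationRing φ.hom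
  let a : Z.presheaf.stalk u ⟶ CommRingCat.of A := CommRingCat.ofHom (φ.hom.codRestrict _ hA)
  have w : W.fromSpecResidueField x ≫ h =
      Spec.map (CommRingCat.ofHom (algebraMap A (W.residueField x))) ≫ Spec.map a ≫ Z.fromSpecStalk u := by
    rw [Scheme.fromSpecResidueField, Category.assoc, ← Scheme.SpecMap_stalkMap_fromSpecStalk,
      ← Scheme.SpecMap_stalkSpecializes_fromSpecStalk hs]
    simp_rw [← Spec.map_comp_assoc]
    rfl
  let e : FractionRing A ≃ₐ[A] W.residueField x := FractionRing.algEquiv A (W.residueField x)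
  refine ⟨A, inferInstance, inferInstance, inferInstance, Spec.map a ≫ Z.fromSpecStalk u,
    Spec.map (CommRingCat.ofHom e.symm.toRingEquiv.toRingHom) ≫ W.fromSpecResidueField x, ?_, ?_⟩
  · have : Spec.map a (closedPoint A) = closedPoint (Z.presheaf.stalk u) :=
      IsLocalRing.comap_closedPoint (S := A) (φ.hom.codRestrict A.toSubring hA)
    rw [Scheme.Hom.comp_apply]
    exact (congrArg (Z.fromSpecStalk u) this).trans Z.fromSpecStalk_closedPoint
  · rw [Category.assoc, w, ← Spec.map_comp_assoc]
    congr 2
    ext r
    exact e.symm.commutes r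

/-- Every point of the scheme-theoretic image of a quasi-compact morphism is reached by a valuation ring. -/
theorem exists_valuationRing_to_schImage {F X Z : Sp S} (hF : IsAlgSpace F) (hX : IsAlgSpace X) (hZ : IsAlgSpace Z)
    {f : F ⟶ X} (hq : IsQuasiCompactMor f) {i : Z ⟶ X} (hi : IsSchImage f i) (z : Points Z) :
    ∃ (A : Type u) (_ : CommRing A) (_ : IsDomain A) (_ : ValuationRing A) (str : Spec (CommRingCat.of A) ⟶ S)
      (a : (yon S).obj (Over.mk str) ⟶ Z)
      (x : (yon S).obj (Over.mk (Spec.map (CommRingCat.ofHom (algebraMap A (FractionRing A))) ≫ str)) ⟶ F),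
      Points.ofPt a (closedPoint A) = z ∧
      x ≫ f = (yon S).map (Over.homMk (Spec.map (CommRingCat.ofHom (algebraMap A (FractionRing A)))) rfl) ≫ a ≫ i := by
  obtain ⟨U, p, W, a, w, hp, hps, ha, has, hw, hwq, fst, hI⟩ := exists_schImage_data hF hX hq hZ hi
  obtain ⟨u, rfl⟩ := surjective_ofPt (repWith_of_isPullback hI.flip hps) z
  have hu : (subInc w.left.ker).left u ∈ closure (w.left '' Set.univ) := by
    rw [Set.image_univ, ← Scheme.Hom.support_ker]
    exact w.left.ker.range_subschemeι.le ⟨u, rfl⟩
  obtain ⟨x, -, hx⟩ := FlatLocus.exists_specializes_of_mem_closure_image w.left isClosed_univ hu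
  have ht : w.left.toImage ≫ (subInc w.left.ker).left = w.left := w.left.toImage_imageι
  have hx' : w.left.toImage x ⤳ u := by
    haveI : IsClosedImmersion (subInc w.left.ker).left := inferInstanceAs (IsClosedImmersion w.left.ker.subschemeι)
    rw [← (subInc w.left.ker).left.isClosedEmbedding.isInducing.specializes_iff]
    refine Eq.mpr (congrArg (· ⤳ _) ?_) hx
    show (w.left.toImage ≫ (subInc w.left.ker).left) x = w.left x
    rw [ht]
  obtain ⟨A, _, _, _, l, y, hl, hy⟩ := exists_valuationRing_to_image w.left.toImage hx'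
  let str : Spec (CommRingCat.of A) ⟶ S := l ≫ (subOver w.left.ker).hom
  let o : Over.mk str ⟶ subOver w.left.ker := Over.homMk l rfl
  let y' : Over.mk (Spec.map (CommRingCat.ofHom (algebraMap A (FractionRing A))) ≫ str) ⟶ W := Over.homMk y (by
    show y ≫ W.hom = _ ≫ l ≫ (subInc w.left.ker).left ≫ U.hom
    rw [← reassoc_of% hy, reassoc_of% ht, Over.w])
  refine ⟨A, inferInstance, inferInstance, inferInstance, str, (yon S).map o ≫ fst,
    (yon S).map y' ≫ a ≫ pullback.fst f p, ?_, ?_⟩
  · rw [ofPt_yon_map_comp]
    congr 1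
  · rw [Category.assoc, Category.assoc, pullback.condition, reassoc_of% hw, Category.assoc, hI.w,
      ← Functor.map_comp_assoc, ← Functor.map_comp_assoc, ← Functor.map_comp_assoc]
    congr 2
    apply Over.OverMorphism.ext
    show y ≫ w.left = _ ≫ l ≫ (subInc w.left.ker).left
    exact ((reassoc_of% hy) (subInc w.left.ker).left).symm.trans (congrArg (y ≫ ·) ht) |>.symm

end Groth.Agent.ASp
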