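import Groth.Agent.ASp.Basic
import Groth.Agent.ASp.Diag
import Groth.Prelude.Def_AlgSpMor5

/-!
Elementary properties of the valuative criteria.
-/

set_option backward.isDefEq.respectTransparency false
set_option backward.isDefEq.respectTransparency.types false

universe u

open CategoryTheory CategoryTheory.Limits AlgebraicGeometry Opposite

namespace Groth.Agent.ASp

open _root_.AlgSp

variable {S : Scheme.{u}}

/-- Maps to a separated space agreeing after a map injective on functions of an affine scheme agree. -/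
theorem eq_of_separated {P T : Sp S} {x : P ⟶ T} (hx : IsSeparatedMor x) {W D : Over S} [IsAffine W.left]
    (d : D ⟶ W) (hd : Function.Injective d.left.appTop) {a b : (yon S).obj W ⟶ P} (h : a ≫ x = b ≫ x)
    (he : (yon S).map d ≫ a = (yon S).map d ≫ b) : a = b := by
  let g : (yon S).obj W ⟶ pullback x x := pullback.lift a b h
  have sq := hx.1.isPullback g
  haveI : IsClosedImmersion (hx.1.snd g).left := hx.2 _ _ _ sq
  obtain ⟨m, hm⟩ := (yon S).map_surjective (sq.lift ((yon S).map d ≫ a) ((yon S).map d) (by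
    apply pullback.hom_ext
    · rw [Category.assoc, pullback.diagonal_fst, Category.comp_id, Category.assoc, pullback.lift_fst]
    · rw [Category.assoc, pullback.diagonal_snd, Category.comp_id, Category.assoc, pullback.lift_snd, he]))
  have hm2 : m ≫ hx.1.snd g = d := (yon S).map_injective (by rw [Functor.map_comp, hm, sq.lift_snd])
  haveI : IsIso (hx.1.snd g).left := by
    refine IsClosedImmersion.isIso_of_injective_of_isAffine ?_
    refine Function.Injective.of_comp (f := m.left.appTop) ?_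
    have e : (hx.1.snd g).left.appTop ≫ m.left.appTop = d.left.appTop := by
      rw [← Scheme.Hom.comp_appTop, ← Over.comp_left, hm2]
    rw [← e] at hd
    exact hd
  haveI : IsIso (hx.1.snd g) := by
    haveI : IsIso ((Over.forget S).map (hx.1.snd g)) := ‹IsIso (hx.1.snd g).left›
    exact isIso_of_reflects_iso (hx.1.snd g) (Over.forget S)
  rw [← cancel_epi ((yon S).map (hx.1.snd g))]
  have h1 := congrArg (· ≫ pullback.fst x x) sq.w
  have h2 := congrArg (· ≫ pullback.snd x x) sq.w
  simp only [g, Category.assoc, pullback.diagonal_fst, pullback.diagonal_snd, pullback.lift_fst,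
    pullback.lift_snd, Category.comp_id] at h1 h2
  exact h1.symm.trans h2

theorem injective_appTop_spec {R R' : CommRingCat.{u}} (φ : R ⟶ R') (h : Function.Injective φ.hom) :
    Function.Injective (Spec.map φ).appTop := by
  have e : (Spec.map φ).appTop = (Scheme.ΓSpecIso R).hom ≫ φ ≫ (Scheme.ΓSpecIso R').inv := by
    rw [← Scheme.ΓSpecIso_naturality_assoc, Iso.hom_inv_id, Category.comp_id]
  rw [e]
  exact (ConcreteCategory.bijective_of_isIso (Scheme.ΓSpecIso R').inv).1.comp
    (h.comp (ConcreteCategory.bijective_of_isIso (Scheme.ΓSpecIso R).hom).1)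

variable {F G : Sp S} {f : F ⟶ G}

instance ptA_isAffine (sq : ValSq f) : IsAffine sq.ptA.left := inferInstanceAs (IsAffine (Spec _))

theorem injective_j (sq : ValSq f) : Function.Injective sq.j.left.appTop :=
  injective_appTop_spec (CommRingCat.ofHom (algebraMap sq.A sq.K)) (IsFractionRing.injective sq.A sq.K)

/-- Separated morphisms satisfy the uniqueness part of the valuative criterion. -/
theorem uniqVC_of_separated (hf : IsSeparatedMor f) : UniqVC f :=
  fun sq _ _ h1 h2 h3 h4 => eq_of_separated hf sq.j (injective_j sq) (h2.trans h4.symm) (h1.trans h3.symm)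

/-- The trivial extension. -/
noncomputable def trivExt (sq : ValSq f) : sq.DomExt where
  A' := sq.A
  K' := sq.K
  φ := RingHom.id _
  ψ := RingHom.id _
  comm := rfl
  isLocalHom := ⟨fun _ h => h⟩

theorem existVC_of_strict (h : ExistVCStrict f) : ExistVC f := by
  intro sq
  obtain ⟨l, h1, h2⟩ := h sq
  have hid : Spec.map (CommRingCat.ofHom (RingHom.id sq.A)) = 𝟙 _ := by rw [CommRingCat.ofHom_id]; exact Spec.map_id _
  let i : (trivExt sq).ptA' ⟶ sq.ptA := Over.homMk (Spec.map (CommRingCat.ofHom (RingHom.id sq.A))) rfl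
  refine ⟨trivExt sq, (yon S).map i ≫ l, ?_, ?_⟩
  · rw [← h1, ← Category.assoc, ← Category.assoc, ← Functor.map_comp, ← Functor.map_comp]
    congr 2
    apply Over.OverMorphism.ext
    change Spec.map _ ≫ Spec.map _ = Spec.map _ ≫ Spec.map _
    rw [← Spec.map_comp, ← Spec.map_comp]
    rfl
  · rw [Category.assoc, h2]
    rfl

/-- The same data as a square for another map. -/
noncomputable abbrev transferSq {F' G' : Sp S} (sq : ValSq f) (f' : F' ⟶ G') (top : (yon S).obj sq.ptK ⟶ F')
    (bot : (yon S).obj sq.ptA ⟶ G') (comm : top ≫ f' = (yon S).map sq.j ≫ bot) : ValSq f' where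
  A := sq.A
  K := sq.K
  str := sq.str
  top := top
  bot := bot
  comm := comm

theorem uniqVC_comp {H : Sp S} {g : G ⟶ H} (hf : UniqVC f) (hg : UniqVC g) : UniqVC (f ≫ g) := by
  intro sq l l' h1 h2 h3 h4
  let sq1 : ValSq g := transferSq sq g (sq.top ≫ f) sq.bot (by rw [Category.assoc]; exact sq.comm)
  have e : l ≫ f = l' ≫ f := hg sq1 (l ≫ f) (l' ≫ f) (by rw [← Category.assoc]; exact congrArg (· ≫ f) h1)
    (by rw [Category.assoc]; exact h2) (by rw [← Category.assoc]; exact congrArg (· ≫ f) h3)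
    (by rw [Category.assoc]; exact h4)
  exact hf (transferSq sq f sq.top (l ≫ f) (by rw [← h1, Category.assoc])) l l' h1 rfl h3 e.symm

theorem existVC_comp {H : Sp S} {g : G ⟶ H} (hf : ExistVC f) (hg : ExistVC g) : ExistVC (f ≫ g) := by
  intro sq
  obtain ⟨e, l, h1, h2⟩ := hg (transferSq sq g (sq.top ≫ f) sq.bot (by rw [Category.assoc]; exact sq.comm))
  let t : e.ptK' ⟶ sq.ptK := Over.homMk (Spec.map (CommRingCat.ofHom e.ψ)) (by
    change Spec.map _ ≫ Spec.map _ ≫ _ = Spec.map _ ≫ Spec.map _ ≫ _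
    rw [← Spec.map_comp_assoc, ← Spec.map_comp_assoc, ← CommRingCat.ofHom_comp,
      ← CommRingCat.ofHom_comp, e.comm])
  let sq2 : ValSq f :=
    { A := e.A'
      K := e.K'
      str := Spec.map (CommRingCat.ofHom e.φ) ≫ sq.str
      top := (yon S).map t ≫ sq.top
      bot := l
      comm := (Category.assoc _ _ _).trans h1.symm }
  obtain ⟨e₂, l₂, h3, h4⟩ := hf sq2
  let E : sq.DomExt :=
    { A' := e₂.A'
      K' := e₂.K'
      φ := e₂.φ.comp e.φ
      ψ := e₂.ψ.comp e.ψ
      comm := RingHom.ext fun x => (RingHom.congr_fun e₂.comm (e.φ x)).trans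
        (congrArg e₂.ψ (RingHom.congr_fun e.comm x))
      isLocalHom := ⟨fun x hx => e.isLocalHom.map_nonunit x (e₂.isLocalHom.map_nonunit (e.φ x) hx)⟩ }
  have hstr : Spec.map (CommRingCat.ofHom (e₂.φ.comp e.φ)) ≫ sq.str =
      Spec.map (CommRingCat.ofHom e₂.φ) ≫ Spec.map (CommRingCat.ofHom e.φ) ≫ sq.str := by
    rw [← Spec.map_comp_assoc]; rfl
  let iA : E.ptA' ⟶ e₂.ptA' := Over.homMk (𝟙 _) (by rw [Category.id_comp]; exact hstr.symm)
  refine ⟨E, (yon S).map iA ≫ l₂, ?_, ?_⟩
  · let iK : E.ptK' ⟶ e₂.ptK' := Over.homMk (𝟙 _) (by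
      change 𝟙 _ ≫ Spec.map _ ≫ _ = Spec.map _ ≫ _
      rw [Category.id_comp]; exact congrArg (_ ≫ ·) hstr.symm)
    let j₁ : E.ptK' ⟶ E.ptA' := Over.homMk (Spec.map (CommRingCat.ofHom (algebraMap E.A' E.K'))) rfl
    let j₂ : e₂.ptK' ⟶ e₂.ptA' := Over.homMk (Spec.map (CommRingCat.ofHom (algebraMap e₂.A' e₂.K'))) rfl
    have k : j₁ ≫ iA = iK ≫ j₂ := by
      apply Over.OverMorphism.ext
      simp only [Over.comp_left, j₁, j₂, iA, iK, Over.homMk_left]
      exact (Category.comp_id _).trans (Category.id_comp _).symm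
    change (yon S).map j₁ ≫ (yon S).map iA ≫ l₂ = _
    rw [← Category.assoc, ← Functor.map_comp, k, Functor.map_comp, Category.assoc, h3]
    change (yon S).map iK ≫ (yon S).map _ ≫ (yon S).map t ≫ sq.top = _
    rw [← Category.assoc, ← Category.assoc, ← Functor.map_comp, ← Functor.map_comp]
    congr 2
    apply Over.OverMorphism.ext
    change (𝟙 _ ≫ Spec.map _) ≫ Spec.map _ = Spec.map _
    rw [Category.id_comp, ← Spec.map_comp]
    rfl
  · rw [Category.assoc, ← Category.assoc l₂, h4]
    change (yon S).map iA ≫ ((yon S).map _ ≫ l) ≫ g = _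
    rw [Category.assoc, h2, ← Category.assoc, ← Category.assoc, ← Functor.map_comp, ← Functor.map_comp]
    congr 2
    apply Over.OverMorphism.ext
    change (𝟙 _ ≫ Spec.map _) ≫ Spec.map _ = Spec.map _
    rw [Category.id_comp, ← Spec.map_comp]
    rfl

theorem existVC_of_isPullback {F' G' : Sp S} {f' : F' ⟶ G'} {fst : F' ⟶ F} {g : G' ⟶ G}
    (pb : IsPullback fst f' f g) (hf : ExistVC f) : ExistVC f' := by
  intro sq
  obtain ⟨e, l, h1, h2⟩ := hf (transferSq sq f (sq.top ≫ fst) (sq.bot ≫ g)
    (by rw [Category.assoc, pb.w, ← Category.assoc, sq.comm, Category.assoc]))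
  refine ⟨⟨e.A', e.K', e.φ, e.ψ, e.comm, e.isLocalHom⟩,
    pb.lift l ((yon S).map (Over.homMk (Spec.map (CommRingCat.ofHom e.φ)) rfl : e.ptA' ⟶ sq.ptA) ≫ sq.bot)
      (h2.trans (Category.assoc _ _ _).symm), ?_, ?_⟩
  · apply pb.hom_ext
    · exact ((Category.assoc _ _ _).trans (congrArg (_ ≫ ·) (pb.lift_fst _ _ _))).trans
        (h1.trans (Category.assoc _ _ _).symm)
    · refine ((Category.assoc _ _ _).trans (congrArg (_ ≫ ·) (pb.lift_snd _ _ _))).trans ?_
      refine Eq.trans ?_ (Category.assoc _ _ _).symm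
      refine Eq.trans ?_ (congrArg (_ ≫ ·) sq.comm).symm
      refine (Category.assoc _ _ _).symm.trans ((congrArg (· ≫ sq.bot) ?_).trans (Category.assoc _ _ _))
      refine ((yon S).map_comp _ _).symm.trans ((congrArg (fun m => (yon S).map m) ?_).trans ((yon S).map_comp _ _))
      apply Over.OverMorphism.ext
      change Spec.map _ ≫ Spec.map _ = Spec.map _ ≫ Spec.map _
      rw [← Spec.map_comp, ← Spec.map_comp, ← CommRingCat.ofHom_comp, ← CommRingCat.ofHom_comp]
      exact congrArg (fun r => Spec.map (CommRingCat.ofHom r)) e.comm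
  · exact pb.lift_snd _ _ _

theorem uniqVC_of_isPullback {F' G' : Sp S} {f' : F' ⟶ G'} {fst : F' ⟶ F} {g : G' ⟶ G}
    (pb : IsPullback fst f' f g) (hf : UniqVC f) : UniqVC f' := by
  intro sq l l' h1 h2 h3 h4
  apply pb.hom_ext
  · exact hf (transferSq sq f (sq.top ≫ fst) (sq.bot ≫ g)
      (by rw [Category.assoc, pb.w, ← Category.assoc, sq.comm, Category.assoc])) _ _
      ((Category.assoc _ _ _).symm.trans (congrArg (· ≫ fst) h1))
      (((Category.assoc _ _ _).trans (congrArg (l ≫ ·) pb.w)).trans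
        ((Category.assoc _ _ _).symm.trans (congrArg (· ≫ g) h2)))
      ((Category.assoc _ _ _).symm.trans (congrArg (· ≫ fst) h3))
      (((Category.assoc _ _ _).trans (congrArg (l' ≫ ·) pb.w)).trans
        ((Category.assoc _ _ _).symm.trans (congrArg (· ≫ g) h4)))
  · rw [h2, h4]

end Groth.Agent.ASp
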