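import Groth.Agent.ASp.SepDiag
import Groth.Agent.ASp.ValBasic

/-!
Quasi-separated with unique lifts implies separated.
-/

set_option backward.isDefEq.respectTransparency false
set_option backward.isDefEq.respectTransparency.types false

universe u

open CategoryTheory CategoryTheory.Limits AlgebraicGeometry Opposite

namespace Groth.Agent.ASp

open _root_.AlgSp

variable {S : Scheme.{u}} {F G : Sp S}

theorem isSeparatedMor_of_uniqVC (hF : IsAlgSpace F) (f : F ⟶ G) (hqs : IsQuasiSeparatedMor f)
    (hu : UniqVC f) : IsSeparatedMor f := by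
  refine isSeparatedMor_of_univClosed_diag hF f ((repWith_universallyClosed_iff hqs.1).1 ⟨hqs.1, ?_⟩)
  intro U V g fst snd sq
  haveI : QuasiCompact snd.left := hqs.2 g fst snd sq
  refine UniversallyClosed.of_valuativeCriterion snd.left fun q => ?_
  let A' : Over S := Over.mk (q.i₂ ≫ U.hom)
  let K' : Over S := Over.mk (Spec.map (CommRingCat.ofHom (algebraMap q.R q.K)) ≫ q.i₂ ≫ U.hom)
  let a : A' ⟶ U := Over.homMk q.i₂ rfl
  let j : K' ⟶ A' := Over.homMk (Spec.map (CommRingCat.ofHom (algebraMap q.R q.K))) rfl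
  let k : K' ⟶ V := Over.homMk q.i₁ (by
    change q.i₁ ≫ V.hom = _ ≫ q.i₂ ≫ U.hom
    rw [← Category.assoc _ q.i₂, ← q.commSq.w, Category.assoc, Over.w snd])
  have hk : k ≫ snd = j ≫ a := Over.OverMorphism.ext q.commSq.w
  let a₁ : (yon S).obj A' ⟶ F := (yon S).map a ≫ g ≫ pullback.fst f f
  let a₂ : (yon S).obj A' ⟶ F := (yon S).map a ≫ g ≫ pullback.snd f f
  have hpre : (yon S).map j ≫ (yon S).map a ≫ g = ((yon S).map k ≫ fst) ≫ pullback.diagonal f := by
    rw [Category.assoc, sq.w, ← Category.assoc, ← Category.assoc, ← Functor.map_comp, ← Functor.map_comp, hk]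
  have e1 : (yon S).map j ≫ a₁ = (yon S).map k ≫ fst := by
    have := congrArg (· ≫ pullback.fst f f) hpre
    simpa only [a₁, Category.assoc, pullback.diagonal_fst, Category.comp_id] using this
  have e2 : (yon S).map j ≫ a₂ = (yon S).map k ≫ fst := by
    have := congrArg (· ≫ pullback.snd f f) hpre
    simpa only [a₂, Category.assoc, pullback.diagonal_snd, Category.comp_id] using this
  let vs : ValSq f :=
    { A := q.R
      K := q.K
      str := q.i₂ ≫ U.hom
      top := (yon S).map k ≫ fst
      bot := a₁ ≫ f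
      comm := by
        change _ = (yon S).map j ≫ a₁ ≫ f
        rw [← Category.assoc ((yon S).map j), e1] }
  have e : a₁ = a₂ := hu vs a₁ a₂ e1 rfl e2 (by
    change a₂ ≫ f = a₁ ≫ f
    simp only [a₁, a₂, Category.assoc, pullback.condition])
  have hl : a₁ ≫ pullback.diagonal f = (yon S).map a ≫ g := by
    apply pullback.hom_ext
    · simp only [a₁, Category.assoc, pullback.diagonal_fst, Category.comp_id]
    · rw [Category.assoc, Category.assoc, pullback.diagonal_snd, Category.comp_id]
      exact e
  obtain ⟨m, hm⟩ := (yon S).map_surjective (sq.lift a₁ ((yon S).map a) hl)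
  have hm2 : m ≫ snd = a := (yon S).map_injective (by rw [Functor.map_comp, hm, sq.lift_snd])
  have hm1 : j ≫ m = k := (yon S).map_injective (sq.hom_ext
    (by rw [Functor.map_comp, Category.assoc, hm, sq.lift_fst]; exact e1)
    (by rw [← Functor.map_comp, ← Functor.map_comp, Category.assoc, hm2, hk]))
  exact ⟨⟨⟨m.left, congrArg CommaMorphism.left hm1, congrArg CommaMorphism.left hm2⟩⟩⟩

end Groth.Agent.ASp
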