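import Groth.Agent.ASp.Basic
import Groth.Prelude.Def_AlgSp
/-!
# Sheaves on schemes over `S` as sheaves on schemes over `S'` with a map to `h_S`
-/

set_option autoImplicit false
set_option backward.isDefEq.respectTransparency false
set_option backward.isDefEq.respectTransparency.types false

universe u

open CategoryTheory CategoryTheory.Limits AlgebraicGeometry Opposite

noncomputable section

namespace Groth.Agent.ASp.Slice

open _root_.AlgSp

variable {S S' : Scheme.{u}} (g : S ⟶ S')

/-- Restriction of sheaves along `Over.map g`. -/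
abbrev res : Sp S' ⥤ Sp S := Scheme.fppfTopology.overMapPullback (Type (u + 1)) g

/-- A point of the sheaf over `S'` attached to `F`: a structure map to `S` and a section. -/
def El (F : Sp S) (V : Over S') : Type (u + 1) :=
  Σ s : {s : V.left ⟶ S // s ≫ g = V.hom}, F.obj.obj (op (Over.mk s.1))

variable {g}

/-- The value of a point on a scheme over it. -/
def El.val {F : Sp S} {V : Over S'} (p : El g F V) (Z : Over S) (k : Z.left ⟶ V.left)
    (hk : k ≫ p.1.1 = Z.hom) : F.obj.obj (op Z) :=
  F.obj.map (Over.homMk k hk : Z ⟶ Over.mk p.1.1).op p.2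

theorem El.map_val {F : Sp S} {V : Over S'} (p : El g F V) {Z Z' : Over S} (m : Z' ⟶ Z) (k : Z.left ⟶ V.left)
    (hk : k ≫ p.1.1 = Z.hom) :
    F.obj.map m.op (p.val Z k hk) = p.val Z' (m.left ≫ k) (by rw [Category.assoc, hk, Over.w]) := by
  simp only [El.val]
  rw [← FunctorToTypes.map_comp_apply, ← op_comp]
  congr 2

theorem El.ext' {F : Sp S} {V : Over S'} {p p' : El g F V} (h : p.1.1 = p'.1.1)
    (hv : p.val (Over.mk p.1.1) (𝟙 _) (Category.id_comp _) =
      p'.val (Over.mk p.1.1) (𝟙 _) ((Category.id_comp _).trans h.symm)) : p = p' := by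
  obtain ⟨⟨s, hs⟩, x⟩ := p
  obtain ⟨⟨s', hs'⟩, x'⟩ := p'
  change s = s' at h
  subst h
  have e : (Over.homMk (𝟙 V.left) (Category.id_comp s) : Over.mk s ⟶ Over.mk s) = 𝟙 _ := by ext; simp
  simp only [El.val] at hv
  erw [e] at hv
  simp only [op_id, FunctorToTypes.map_id_apply] at hv
  subst hv
  rfl

/-- The point with given structure map and section. -/
def El.mk {F : Sp S} {V : Over S'} (s : V.left ⟶ S) (hs : s ≫ g = V.hom) (x : F.obj.obj (op (Over.mk s))) :
    El g F V := ⟨⟨s, hs⟩, x⟩

/-- Pulling points back. -/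
def El.pull {F : Sp S} {V W : Over S'} (f : W ⟶ V) (p : El g F V) : El g F W :=
  El.mk (f.left ≫ p.1.1) (by rw [Category.assoc, p.1.2, Over.w]) (p.val _ f.left rfl)

@[simp]
theorem El.pull_fst {F : Sp S} {V W : Over S'} (f : W ⟶ V) (p : El g F V) : (p.pull f).1.1 = f.left ≫ p.1.1 := rfl

theorem El.val_pull {F : Sp S} {V W : Over S'} (f : W ⟶ V) (p : El g F V) (Z : Over S) (k : Z.left ⟶ W.left)
    (hk : k ≫ (p.pull f).1.1 = Z.hom) :
    (p.pull f).val Z k hk = p.val Z (k ≫ f.left) (by rw [Category.assoc]; exact hk) := by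
  simp only [El.val, El.pull, El.mk]
  rw [← FunctorToTypes.map_comp_apply, ← op_comp]
  congr 2

/-- The image of a point under a morphism. -/
def El.push {F G : Sp S} (φ : F ⟶ G) {V : Over S'} (p : El g F V) : El g G V :=
  El.mk p.1.1 p.1.2 (φ.hom.app (op (Over.mk p.1.1)) p.2)

theorem El.val_push {F G : Sp S} (φ : F ⟶ G) {V : Over S'} (p : El g F V) (Z : Over S) (k : Z.left ⟶ V.left)
    (hk : k ≫ p.1.1 = Z.hom) : (p.push φ).val Z k hk = φ.hom.app (op Z) (p.val Z k hk) := by
  simp only [El.val, El.push, El.mk]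
  exact (NatTrans.naturality_apply φ.hom _ _).symm

theorem El.push_pull {F G : Sp S} (φ : F ⟶ G) {V W : Over S'} (f : W ⟶ V) (p : El g F V) :
    (p.pull f).push φ = (p.push φ).pull f := by
  unfold El.pull El.push El.mk El.val
  simp only
  congr 1
  exact NatTrans.naturality_apply φ.hom _ _

theorem El.push_id {F : Sp S} {V : Over S'} (p : El g F V) : p.push (𝟙 F) = p := rfl

theorem El.push_comp {F G H : Sp S} (φ : F ⟶ G) (ψ : G ⟶ H) {V : Over S'} (p : El g F V) :
    p.push (φ ≫ ψ) = (p.push φ).push ψ := rfl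

variable (g)

/-- The presheaf of points. -/
def lPre (F : Sp S) : (Over S')ᵒᵖ ⥤ Type (u + 1) where
  obj V := El g F V.unop
  map f := TypeCat.ofHom fun p => p.pull f.unop
  map_id V := by
    ext p
    refine El.ext' (by simp) ?_
    change (p.pull (𝟙 _)).val _ _ _ = p.val _ _ _
    rw [El.val_pull]
    simp
  map_comp {U V W} f f' := by
    ext p
    refine El.ext' (by simp) ?_
    change (p.pull (f ≫ f').unop).val _ _ _ = ((p.pull f.unop).pull f'.unop).val _ _ _
    rw [El.val_pull, El.val_pull, El.val_pull]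
    simp

/-- The structure map to `h_S`. -/
def lPreBase (F : Sp S) : lPre g F ⟶ ((yon S').obj (Over.mk g)).obj where
  app V := TypeCat.ofHom fun p => ULift.up (Over.homMk p.1.1 p.1.2)
  naturality {V W} f := by
    ext p
    rfl

variable {g}

theorem El.val_congr {F : Sp S} {V : Over S'} {p p' : El g F V} (h : p = p') (Z : Over S) (k : Z.left ⟶ V.left)
    (hk : k ≫ p.1.1 = Z.hom) : p.val Z k hk = p'.val Z k (by subst h; exact hk) := by
  subst h; rfl

/-- A covering sieve seen on a scheme over `S` with the same underlying scheme. -/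
def liftSieve {V : Over S'} (R : Sieve V) (s : V.left ⟶ S) : Sieve (Over.mk s) :=
  (Sieve.overEquiv (Over.mk s)).symm (Sieve.overEquiv V R)

theorem liftSieve_mem {V : Over S'} {R : Sieve V} (hR : R ∈ J S' V) (s : V.left ⟶ S) :
    liftSieve R s ∈ J S (Over.mk s) :=
  GrothendieckTopology.overEquiv_symm_mem_over _ _ _ hR

theorem liftSieve_iff {V : Over S'} (R : Sieve V) (s : V.left ⟶ S) {Z : Over S} (k : Z ⟶ Over.mk s)
    {W : Over S'} (f : W ⟶ V) (e : W.left = Z.left) (hf : f.left = eqToHom e ≫ k.left) :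
    liftSieve R s k ↔ R f := by
  rw [liftSieve, Sieve.overEquiv_symm_iff]
  refine (Sieve.overEquiv_iff R k.left).trans ⟨fun h => ?_, fun h => ?_⟩
  · convert R.downward_closed h (Over.homMk (eqToHom e) (by
      simp only [Over.mk_hom]; rw [← Category.assoc, ← hf, Over.w f]) : W ⟶ Over.mk (k.left ≫ V.hom)) using 1
    ext; simp [hf]
  · convert R.downward_closed h (Over.homMk (eqToHom e.symm) (by
      simp only [Over.mk_hom]; rw [← Over.w f, hf]; simp) : Over.mk (k.left ≫ V.hom) ⟶ W) using 1
    ext; simp [hf]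

/-- A scheme over a point of `S'` through `S`, as a map over `S'`. -/
def toV {V : Over S'} (s : V.left ⟶ S) (hs : s ≫ g = V.hom) {Z : Over S} (k : Z ⟶ Over.mk s) :
    (Over.map g).obj Z ⟶ V :=
  Over.homMk k.left (by
    simp only [Over.map_obj_hom]
    rw [← hs, ← Category.assoc, show k.left ≫ s = Z.hom from Over.w k])

theorem El.ext_cover {F : Sp S} {V : Over S'} {R : Sieve V} (hR : R ∈ J S' V) {p p' : El g F V}
    (h : p.1.1 = p'.1.1) (he : ∀ ⦃W⦄ (f : W ⟶ V), R f → p.pull f = p'.pull f) : p = p' := by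
  refine El.ext' h ?_
  refine ((isSheaf_iff_isSheaf_of_type _ _).1 F.property _ (liftSieve_mem hR p.1.1)).isSeparatedFor.ext
    fun Z k hk => ?_
  rw [El.map_val, El.map_val]
  have hf := (liftSieve_iff R p.1.1 k (toV p.1.1 p.1.2 k) rfl (by simp [toV])).1 hk
  have := El.val_congr (he _ hf) Z (𝟙 _) (by
    change 𝟙 _ ≫ k.left ≫ p.1.1 = _
    rw [Category.id_comp]; exact Over.w k)
  rw [El.val_pull, El.val_pull] at this
  simp only [toV, Over.homMk_left, Category.id_comp] at this
  simp only [Category.comp_id]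
  exact this

theorem isSheaf_lPre (F : Sp S) : Presieve.IsSheaf (J S') (lPre g F) := by
  intro V R hR x hx
  let hh : Presieve.FamilyOfElements ((yon S').obj (Over.mk g)).obj R.arrows :=
    fun W f hf => (lPreBase g F).app (op W) (x f hf)
  have hhx : hh.Compatible := fun Y₁ Y₂ Z g₁ g₂ f₁ f₂ h₁ h₂ e => by
    dsimp only [hh]
    rw [← NatTrans.naturality_apply, ← NatTrans.naturality_apply]
    exact congrArg _ (hx g₁ g₂ h₁ h₂ e)
  have hhs := (isSheaf_iff_isSheaf_of_type _ _).1 ((yon S').obj (Over.mk g)).property R hR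
  obtain ⟨σ, hσ', -⟩ := hhs hh hhx
  let s : V.left ⟶ S := σ.down.left
  have hs : s ≫ g = V.hom := Over.w σ.down
  have hσ : ∀ ⦃W⦄ (f : W ⟶ V) (hf : R f), (x f hf).1.1 = f.left ≫ s := fun W f hf =>
    (congrArg (fun m : ((yon S').obj (Over.mk g)).obj.obj (op W) => m.down.left) (hσ' f hf)).symm
  have hmem : ∀ ⦃Z : Over S⦄ (k : Z ⟶ Over.mk s), liftSieve R s k → R (toV s hs k) := fun Z k hk =>
    (liftSieve_iff R s k (toV s hs k) rfl (by simp [toV])).1 hk
  have hval : ∀ ⦃Z : Over S⦄ (k : Z ⟶ Over.mk s) (hk : liftSieve R s k),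
      𝟙 _ ≫ (x _ (hmem k hk)).1.1 = Z.hom := fun Z k hk => by
    rw [Category.id_comp, hσ]; exact Over.w k
  let y : Presieve.FamilyOfElements F.obj (liftSieve R s).arrows := fun Z k hk =>
    (x _ (hmem k hk)).val Z (𝟙 _) (hval k hk)
  have hy : y.Compatible := by
    intro Z₁ Z₂ W m₁ m₂ k₁ k₂ h₁ h₂ e
    have h3 := hx ((Over.map g).map m₁) ((Over.map g).map m₂) (hmem k₁ h₁) (hmem k₂ h₂)
      (by ext; have := congrArg Over.Hom.left e; simpa [toV] using this)
    change El.pull _ _ = El.pull _ _ at h3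
    have h4 := El.val_congr h3 W (𝟙 _) (by
      change 𝟙 _ ≫ m₁.left ≫ _ = _
      rw [Category.id_comp, hσ, ← Category.assoc]
      change (m₁.left ≫ k₁.left) ≫ s = _
      rw [Category.assoc, show k₁.left ≫ s = Z₁.hom from Over.w k₁, Over.w m₁])
    rw [El.val_pull, El.val_pull] at h4
    dsimp only [y]
    rw [El.map_val, El.map_val]
    simp only [Category.comp_id]
    simp only [Over.map_map_left, Category.id_comp] at h4
    exact h4
  obtain ⟨a, ha, -⟩ := (isSheaf_iff_isSheaf_of_type _ _).1 F.property _ (liftSieve_mem hR s) y hy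
  have hamal : ∀ ⦃W⦄ (f : W ⟶ V) (hf : R f), (El.mk s hs a : El g F V).pull f = x f hf := fun W f hf => by
    refine El.ext' (hσ f hf).symm ?_
    rw [El.val_pull]
    let k : Over.mk (f.left ≫ s) ⟶ Over.mk s := Over.homMk f.left
    let fk : (Over.map g).obj (Over.mk (f.left ≫ s)) ⟶ W := Over.homMk (𝟙 W.left) (by
      simp only [Over.map_obj_hom, Over.mk_hom, Category.id_comp, Category.assoc, hs]
      exact (Over.w f).symm)
    have hk : liftSieve R s k := (liftSieve_iff R s k f rfl (by simp [k])).2 hf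
    have h3 := hx (𝟙 _) fk (hmem k hk) hf (by ext; simp [k, fk, toV])
    change El.pull _ _ = El.pull _ _ at h3
    have h4 := El.val_congr h3 (Over.mk (f.left ≫ s)) (𝟙 _) (by
      change 𝟙 _ ≫ 𝟙 _ ≫ _ = _
      rw [Category.id_comp, Category.id_comp, hσ]; rfl)
    rw [El.val_pull, El.val_pull] at h4
    have h1 := ha k hk
    dsimp only [y] at h1
    simp only [Category.id_comp, Over.id_left, fk, Over.homMk_left] at h4
    refine Eq.trans ?_ (h1.trans h4)
    simp only [El.val, El.mk]
    congr 3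
  refine ⟨El.mk s hs a, hamal, fun p hp => El.ext_cover hR ?_ fun W f hf => (hp f hf).trans (hamal f hf).symm⟩
  have : (lPreBase g F).app (op V) p = σ := hhs.isSeparatedFor.ext fun W f hf => by
    rw [hσ' f hf, ← NatTrans.naturality_apply]
    exact congrArg _ (hp f hf)
  exact congrArg (fun m : ((yon S').obj (Over.mk g)).obj.obj (op V) => m.down.left) this

variable (g)

/-- Extension of sheaves along `g`, concretely. -/
def extS : Sp S ⥤ Sp S' where
  obj F := ⟨lPre g F, (isSheaf_iff_isSheaf_of_type _ _).2 (isSheaf_lPre F)⟩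
  map φ := ObjectProperty.homMk
    { app := fun V => TypeCat.ofHom fun p => p.push φ
      naturality := fun V W f => by
        ext p
        exact El.push_pull φ f.unop p }
  map_id F := by
    ext V p
    exact El.push_id p
  map_comp φ ψ := by
    ext V p
    exact El.push_comp φ ψ p

/-- The structure map of an extension. -/
def base (F : Sp S) : (extS g).obj F ⟶ (yon S').obj (Over.mk g) := ObjectProperty.homMk (lPreBase g F)

@[reassoc (attr := simp)]
theorem map_base {F G : Sp S} (φ : F ⟶ G) : (extS g).map φ ≫ base g G = base g F := by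
  ext V p
  rfl

end Groth.Agent.ASp.Slice
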