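import Groth.Agent.ASp.Slice
/-!
# Sheaves on schemes over `S` are sheaves on schemes over `S'` over `h_S`
-/

set_option autoImplicit false
set_option backward.isDefEq.respectTransparency false
set_option backward.isDefEq.respectTransparency.types false

universe u

open CategoryTheory CategoryTheory.Limits AlgebraicGeometry Opposite

noncomputable section

namespace Groth.Agent.ASp.Slice

open _root_.AlgSp

variable {S S' : Scheme.{u}} {g : S ⟶ S'}

/-- The comparison of a scheme over `S'` with the scheme over `S` given by a point. -/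
def El.ofEl {F : Sp S} {V : Over S'} (p : El g F V) : V ⟶ (Over.map g).obj (Over.mk p.1.1) :=
  Over.homMk (𝟙 _) ((Category.id_comp _).trans p.1.2)

variable (g) in
/-- A section over `T` as a point over the image of `T`. -/
def unitEl {F : Sp S} (T : Over S) (x : F.obj.obj (op T)) : El g F ((Over.map g).obj T) :=
  El.mk T.hom rfl (F.obj.map (Over.homMk (𝟙 _) (Category.id_comp _) : Over.mk T.hom ⟶ T).op x)

theorem val_unitEl {F : Sp S} (T : Over S) (x : F.obj.obj (op T)) (Z : Over S) (k : Z.left ⟶ T.left)
    (hk : k ≫ T.hom = Z.hom) : (unitEl g T x).val Z k hk = F.obj.map (Over.homMk k hk : Z ⟶ T).op x := by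
  simp only [El.val, unitEl, El.mk]
  rw [← FunctorToTypes.map_comp_apply, ← op_comp]
  congr 3

theorem pull_ofEl {F : Sp S} {V : Over S'} (p : El g F V) : (unitEl g (Over.mk p.1.1) p.2).pull p.ofEl = p := by
  refine El.ext' (Category.id_comp _) ?_
  rw [El.val_pull, val_unitEl]
  simp only [El.val]
  congr 3

theorem unitEl_map {F : Sp S} {T T' : Over S} (m : T' ⟶ T) (x : F.obj.obj (op T)) :
    unitEl g T' (F.obj.map m.op x) = (unitEl g T x).pull ((Over.map g).map m) := by
  refine El.ext' (Over.w m).symm ?_
  rw [El.val_pull, val_unitEl, val_unitEl, ← FunctorToTypes.map_comp_apply, ← op_comp]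
  congr 3

theorem unitEl_push {F G : Sp S} (φ : F ⟶ G) (T : Over S) (x : F.obj.obj (op T)) :
    (unitEl g T x).push φ = unitEl g T (φ.hom.app (op T) x) := by
  refine El.ext' rfl ?_
  rw [El.val_push, val_unitEl, val_unitEl, ← NatTrans.naturality_apply]

theorem hom_ext_El {F : Sp S} {G' : Sp S'} {a b : (extS g).obj F ⟶ G'}
    (h : ∀ (T : Over S) (x : F.obj.obj (op T)),
      a.hom.app (op ((Over.map g).obj T)) (unitEl g T x) = b.hom.app (op ((Over.map g).obj T)) (unitEl g T x)) :
    a = b := by
  ext ⟨V⟩ p
  change El g F V at p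
  conv_lhs => rw [← pull_ofEl p]
  conv_rhs => rw [← pull_ofEl p]
  exact (NatTrans.naturality_apply a.hom p.ofEl.op _).trans
    ((congrArg _ (h _ _)).trans (NatTrans.naturality_apply b.hom p.ofEl.op _).symm)

variable (g)

/-- The unit. -/
def unit (F : Sp S) : F ⟶ (res g).obj ((extS g).obj F) :=
  ObjectProperty.homMk
    { app := fun T => TypeCat.ofHom fun x => unitEl g T.unop x
      naturality := fun T T' m => by
        ext x
        exact unitEl_map m.unop x }

/-- The counit. -/
def counit (F' : Sp S') : (extS g).obj ((res g).obj F') ⟶ F' :=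
  ObjectProperty.homMk
    { app := fun V => TypeCat.ofHom fun p => F'.obj.map p.ofEl.op p.2
      naturality := fun V W f => by
        ext p
        change F'.obj.map (El.pull f.unop p).ofEl.op (El.pull f.unop p).2 = F'.obj.map f (F'.obj.map p.ofEl.op p.2)
        change F'.obj.map _ (F'.obj.map ((Over.map g).map
          (Over.homMk f.unop.left rfl : Over.mk (f.unop.left ≫ p.1.1) ⟶ Over.mk p.1.1)).op p.2) = _
        rw [← FunctorToTypes.map_comp_apply, ← FunctorToTypes.map_comp_apply, ← op_comp]
        congr 2 }

theorem counit_unitEl (F' : Sp S') (T : Over S) (x : F'.obj.obj (op ((Over.map g).obj T))) :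
    (counit g F').hom.app (op ((Over.map g).obj T)) (unitEl g (F := (res g).obj F') T x) = x := by
  change F'.obj.map _ (F'.obj.map ((Over.map g).map
    (Over.homMk (𝟙 _) (Category.id_comp _) : Over.mk T.hom ⟶ T)).op x) = x
  rw [← FunctorToTypes.map_comp_apply, ← op_comp]
  convert FunctorToTypes.map_id_apply F'.obj x using 3
  apply Quiver.Hom.unop_inj
  ext
  simp [El.ofEl, unitEl, El.mk]

/-- Extension is left adjoint to restriction. -/
def adj : extS g ⊣ res g :=
  Adjunction.mkOfUnitCounit
    { unit :=
        { app := unit g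
          naturality := fun F G φ => by
            ext T x
            exact (unitEl_push φ T.unop x).symm }
      counit :=
        { app := counit g
          naturality := fun F' G' ψ => by
            ext V p
            exact (NatTrans.naturality_apply ψ.hom p.ofEl.op p.2).symm }
      left_triangle := by
        ext F : 2
        refine hom_ext_El fun T x => ?_
        change (counit g _).hom.app _ ((unitEl g T x).push (unit g F)) = _
        rw [unitEl_push]
        exact counit_unitEl g _ T _
      right_triangle := by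
        ext F' T x
        exact counit_unitEl g F' T.unop x }

theorem counit_base_unitEl {F : Sp S} (T : Over S) (x : F.obj.obj (op T)) :
    (((base g F).hom.app (op ((Over.map g).obj T))) (unitEl g T x)).down.left = T.hom := rfl

/-- Extension with its map to `h_S`. -/
def toOver : Sp S ⥤ Over ((yon S').obj (Over.mk g)) where
  obj F := Over.mk (base g F)
  map φ := Over.homMk ((extS g).map φ) (map_base g φ)
  map_id F := by ext : 1; exact (extS g).map_id F
  map_comp φ ψ := by ext : 1; exact (extS g).map_comp φ ψ

variable {g} in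
/-- The image of the universal point. -/
def imgEl {F G : Sp S} (φ : (extS g).obj F ⟶ (extS g).obj G) (T : Over S) (x : F.obj.obj (op T)) :
    El g G ((Over.map g).obj T) :=
  φ.hom.app (op ((Over.map g).obj T)) (unitEl g T x)

variable {g} in
theorem imgEl_fst {F G : Sp S} (φ : (extS g).obj F ⟶ (extS g).obj G) (hφ : φ ≫ base g G = base g F)
    (T : Over S) (x : F.obj.obj (op T)) : (imgEl φ T x).1.1 = T.hom :=
  congrArg (fun m : ((yon S').obj (Over.mk g)).obj.obj (op ((Over.map g).obj T)) => m.down.left)
    (congrArg (fun r : (extS g).obj F ⟶ _ => r.hom.app (op ((Over.map g).obj T)) (unitEl g T x)) hφ)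

variable {g} in
theorem imgEl_map {F G : Sp S} (φ : (extS g).obj F ⟶ (extS g).obj G) {T T' : Over S} (m : T' ⟶ T)
    (x : F.obj.obj (op T)) : imgEl φ T' (F.obj.map m.op x) = (imgEl φ T x).pull ((Over.map g).map m) := by
  unfold imgEl
  rw [unitEl_map]
  exact NatTrans.naturality_apply φ.hom ((Over.map g).map m).op (unitEl g T x)

variable {g} in
theorem imgEl_val_map {F G : Sp S} (φ : (extS g).obj F ⟶ (extS g).obj G) {T T' : Over S} (m : T' ⟶ T)
    (x : F.obj.obj (op T)) (h : 𝟙 _ ≫ (imgEl φ T' (F.obj.map m.op x)).1.1 = T'.hom)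
    (h' : 𝟙 _ ≫ (imgEl φ T x).1.1 = T.hom) :
    (imgEl φ T' (F.obj.map m.op x)).val T' (𝟙 _) h = G.obj.map m.op ((imgEl φ T x).val T (𝟙 _) h') := by
  rw [El.map_val, El.val_congr (imgEl_map φ m x), El.val_pull]
  simp only [Over.map_map_left, Category.id_comp, Category.comp_id]

/-- The preimage of a map over `h_S`. -/
def preimg {F G : Sp S} (φ : (extS g).obj F ⟶ (extS g).obj G) (hφ : φ ≫ base g G = base g F) : F ⟶ G :=
  ObjectProperty.homMk
    { app := fun T => TypeCat.ofHom fun x => (imgEl φ T.unop x).val T.unop (𝟙 _)
        ((Category.id_comp _).trans (imgEl_fst φ hφ T.unop x))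
      naturality := fun T T' m => by
        ext x
        exact imgEl_val_map φ m.unop x _ _ }

theorem map_preimg {F G : Sp S} (φ : (extS g).obj F ⟶ (extS g).obj G) (hφ : φ ≫ base g G = base g F) :
    (extS g).map (preimg g φ hφ) = φ := by
  refine hom_ext_El fun T x => ?_
  change (unitEl g T x).push _ = _
  rw [unitEl_push]
  let p : El g G ((Over.map g).obj T) := φ.hom.app (op _) (unitEl g T x)
  have hp : p.1.1 = T.hom :=
    congrArg (fun m : ((yon S').obj (Over.mk g)).obj.obj (op ((Over.map g).obj T)) => m.down.left)
      (congrArg (fun r : (extS g).obj F ⟶ _ => r.hom.app (op ((Over.map g).obj T)) (unitEl g T x)) hφ)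
  refine El.ext' hp.symm ?_
  rw [val_unitEl]
  change G.obj.map _ (p.val T (𝟙 _) _) = p.val _ _ _
  rw [El.map_val]
  simp

theorem eq_of_map_eq {F G : Sp S} {a b : F ⟶ G} (h : (extS g).map a = (extS g).map b) : a = b := by
  ext T x
  have h1 : (unitEl g T.unop x).push a = (unitEl g T.unop x).push b :=
    congrArg (fun r : (extS g).obj F ⟶ (extS g).obj G => r.hom.app (op ((Over.map g).obj T.unop)) (unitEl g T.unop x)) h
  rw [unitEl_push, unitEl_push] at h1
  have h2 := El.val_congr h1 T.unop (𝟙 _) (Category.id_comp _)
  rw [val_unitEl, val_unitEl] at h2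
  have e : (Over.homMk (𝟙 T.unop.left) (Category.id_comp _) : T.unop ⟶ T.unop) = 𝟙 _ := by ext; simp
  simpa [e] using h2

/-- Extension over `h_S` is fully faithful. -/
def fullyFaithful : (toOver g).FullyFaithful where
  preimage {F G} φ := preimg g φ.left (Over.w φ)
  map_preimage {F G} φ := by ext : 1; exact map_preimg g φ.left (Over.w φ)
  preimage_map {F G} a := eq_of_map_eq g (map_preimg g _ _)

instance : (extS g).Faithful := ⟨fun h => eq_of_map_eq g h⟩

instance : (toOver g).Full := (fullyFaithful g).full
instance : (toOver g).Faithful := (fullyFaithful g).faithful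

end Groth.Agent.ASp.Slice
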