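import Groth.Agent.ASp.SliceEquiv
import Groth.Agent.ASp.Quot
/-!
# Algebraic spaces over `S` as algebraic spaces over `S'` over `h_S`
-/

set_option autoImplicit false
set_option backward.isDefEq.respectTransparency false
set_option backward.isDefEq.respectTransparency.types false

universe u

open CategoryTheory CategoryTheory.Limits AlgebraicGeometry Opposite

noncomputable section

namespace Groth.Agent.ASp.Slice

open _root_.AlgSp

variable {S S' : Scheme.{u}} (g : S ⟶ S')

theorem yon_map_apply {S : Scheme.{u}} {T T' : Over S} (m : T ⟶ T') {V : (Over S)ᵒᵖ}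
    (x : ((yon S).obj T).obj.obj V) : ((yon S).map m).hom.app V x = ULift.up (x.down ≫ m) := rfl

theorem map_yon_apply {S : Scheme.{u}} (T : Over S) {V W : (Over S)ᵒᵖ} (f : V ⟶ W)
    (x : ((yon S).obj T).obj.obj V) : ((yon S).obj T).obj.map f x = ULift.up (f.unop ≫ x.down) := rfl

/-- The comparison of the extension of a scheme with the scheme. -/
def theta (T : Over S) : (extS g).obj ((yon S).obj T) ⟶ (yon S').obj ((Over.map g).obj T) :=
  ObjectProperty.homMk
    { app := fun V => TypeCat.ofHom fun p => ULift.up (p.ofEl ≫ (Over.map g).map p.2.down)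
      naturality := fun V W f => by
        ext p
        refine congrArg ULift.up ?_
        apply Over.OverMorphism.ext
        change 𝟙 _ ≫ _ ≫ _ = f.unop.left ≫ 𝟙 _ ≫ _
        rw [Category.id_comp, Category.id_comp]
        rfl }

/-- The inverse comparison. -/
def thetaInv (T : Over S) : (yon S').obj ((Over.map g).obj T) ⟶ (extS g).obj ((yon S).obj T) :=
  ObjectProperty.homMk
    { app := fun V => TypeCat.ofHom fun m => El.mk (m.down.left ≫ T.hom)
        (by rw [Category.assoc]; exact Over.w m.down) (ULift.up (Over.homMk m.down.left))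
      naturality := fun V W f => by
        ext m
        refine El.ext' (Category.assoc _ _ _) ?_
        refine congrArg ULift.up ?_
        apply Over.OverMorphism.ext
        change 𝟙 _ ≫ f.unop.left ≫ m.down.left = (𝟙 _ ≫ f.unop.left) ≫ m.down.left
        rw [Category.assoc] }

/-- The extension of a scheme is the scheme. -/
def thetaIso (T : Over S) : (extS g).obj ((yon S).obj T) ≅ (yon S').obj ((Over.map g).obj T) where
  hom := theta g T
  inv := thetaInv g T
  hom_inv_id := by
    ext V p
    refine El.ext' ?_ ?_
    · change (𝟙 _ ≫ p.2.down.left) ≫ T.hom = p.1.1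
      rw [Category.id_comp]
      exact Over.w p.2.down
    · refine congrArg ULift.up ?_
      apply Over.OverMorphism.ext
      change 𝟙 _ ≫ 𝟙 _ ≫ p.2.down.left = 𝟙 _ ≫ p.2.down.left
      rw [Category.id_comp (𝟙 _ ≫ _)]
  inv_hom_id := by
    ext V m
    refine congrArg ULift.up ?_
    apply Over.OverMorphism.ext
    exact Category.id_comp _

theorem theta_naturality {T T' : Over S} (m : T ⟶ T') :
    (extS g).map ((yon S).map m) ≫ theta g T' = theta g T ≫ (yon S').map ((Over.map g).map m) := by
  ext V p
  refine congrArg ULift.up ?_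
  apply Over.OverMorphism.ext
  change 𝟙 _ ≫ p.2.down.left ≫ m.left = (𝟙 _ ≫ p.2.down.left) ≫ m.left
  rw [Category.assoc]

/-- The extension of representable sheaves. -/
def yonIso : yon S ⋙ extS g ≅ Over.map g ⋙ yon S' :=
  NatIso.ofComponents (thetaIso g) fun m => theta_naturality g m

/-- A point, as a map from a scheme. -/
theorem exists_map_eq {F : Sp S} {V : Over S'} (b : (yon S').obj V ⟶ (extS g).obj F) :
    ∃ (T : Over S) (a : (yon S).obj T ⟶ F) (e : (Over.map g).obj T ≅ V),
      (extS g).map a = theta g T ≫ (yon S').map e.hom ≫ b := by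
  let p : El g F V := b.hom.app (op V) (ULift.up (𝟙 V))
  let e : (Over.map g).obj (Over.mk p.1.1) ≅ V := Over.isoMk (Iso.refl _) (by
    change 𝟙 _ ≫ V.hom = p.1.1 ≫ g
    rw [Category.id_comp]; exact p.1.2.symm)
  refine ⟨Over.mk p.1.1, (J S).uliftYonedaEquiv.{u + 1}.symm p.2, e, hom_ext_El fun T x => ?_⟩
  change (unitEl g T x).push _ = b.hom.app _ (ULift.up ((((unitEl g T x).ofEl ≫ _)) ≫ e.hom))
  rw [unitEl_push]
  have hb : ∀ {W : Over S'} (f : W ⟶ V), b.hom.app (op W) (ULift.up f) = p.pull f := fun {W} f => by
    let one : ((yon S').obj V).obj.obj (op V) := ULift.up (𝟙 V)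
    have e1 : (ULift.up f : ((yon S').obj V).obj.obj (op W)) = ((yon S').obj V).obj.map f.op one :=
      congrArg ULift.up (Category.comp_id f).symm
    exact (congrArg (fun z => b.hom.app (op W) z) e1).trans (NatTrans.naturality_apply b.hom f.op one)
  rw [hb]
  refine El.ext' ?_ ?_
  · change T.hom = ((𝟙 _ ≫ 𝟙 _ ≫ x.down.left) ≫ 𝟙 _) ≫ p.1.1
    rw [Category.comp_id, Category.id_comp, Category.id_comp]
    exact (Over.w x.down).symm
  · rw [El.val_pull, val_unitEl]
    change F.obj.map _ (F.obj.map x.down.op p.2) = F.obj.map _ p.2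
    rw [← FunctorToTypes.map_comp_apply, ← op_comp]
    congr 3

/-- Every sheaf over `h_S` is an extension. -/
instance : (toOver g).EssSurj := ⟨fun Q => by
  let F' : Sp S' := Q.left
  let q : F' ⟶ (yon S').obj (Over.mk g) := Q.hom
  let st : ∀ T : Over S, F'.obj.obj (op ((Over.map g).obj T)) → (T.left ⟶ S) := fun T x =>
    (q.hom.app (op ((Over.map g).obj T)) x).down.left
  have hst : ∀ {T T' : Over S} (m : T' ⟶ T) (x : F'.obj.obj (op ((Over.map g).obj T))),
      st T' (F'.obj.map ((Over.map g).map m).op x) = m.left ≫ st T x := fun {T T'} m x =>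
    congrArg (fun z : ((yon S').obj (Over.mk g)).obj.obj (op ((Over.map g).obj T')) => z.down.left)
      (NatTrans.naturality_apply q.hom ((Over.map g).map m).op x)
  let P : (Over S)ᵒᵖ ⥤ Type (u + 1) :=
    { obj := fun T => {x : F'.obj.obj (op ((Over.map g).obj T.unop)) // st T.unop x = T.unop.hom}
      map := fun {T T'} m => TypeCat.ofHom fun x => ⟨F'.obj.map ((Over.map g).map m.unop).op x.1, by
        rw [hst, x.2, Over.w]⟩
      map_id := fun T => by ext x; exact FunctorToTypes.map_id_apply ((res g).obj F').obj x.1
      map_comp := fun m m' => by ext x; exact FunctorToTypes.map_comp_apply ((res g).obj F').obj m m' x.1 }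
  have hR := (isSheaf_iff_isSheaf_of_type _ _).1 ((res g).obj F').property
  have hP : Presieve.IsSheaf (J S) P := by
    intro T R hR' x hx
    let x' : Presieve.FamilyOfElements ((res g).obj F').obj R.arrows := fun Z k hk => (x k hk).1
    have hx' : x'.Compatible := fun _ _ _ g₁ g₂ f₁ f₂ h₁ h₂ e => congrArg Subtype.val (hx g₁ g₂ h₁ h₂ e)
    obtain ⟨a, ha, hu⟩ := hR R hR' x' hx'
    have haT : st T a = T.hom := by
      let w : ((res g).obj ((yon S').obj (Over.mk g))).obj.obj (op T) := q.hom.app (op ((Over.map g).obj T)) a
      let w' : ((res g).obj ((yon S').obj (Over.mk g))).obj.obj (op T) := ULift.up (Over.homMk T.hom rfl)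
      have : w = w' := (((isSheaf_iff_isSheaf_of_type _ _).1
          ((res g).obj ((yon S').obj (Over.mk g))).property R hR').isSeparatedFor).ext fun Z k hk => by
        refine congrArg ULift.up (Over.OverMorphism.ext ?_)
        change k.left ≫ st T a = k.left ≫ T.hom
        rw [← hst, show F'.obj.map ((Over.map g).map k).op a = (x k hk).1 from ha k hk, (x k hk).2, Over.w]
      exact congrArg (fun z : ((res g).obj ((yon S').obj (Over.mk g))).obj.obj (op T) => z.down.left) this
    exact ⟨⟨a, haT⟩, fun Z k hk => Subtype.ext (ha k hk),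
      fun b hb => Subtype.ext (hu b.1 fun Z k hk => congrArg Subtype.val (hb k hk))⟩
  let G : Sp S := ⟨P, (isSheaf_iff_isSheaf_of_type _ _).2 hP⟩
  let ι : G ⟶ (res g).obj F' := ObjectProperty.homMk
    { app := fun T => TypeCat.ofHom fun x => x.1
      naturality := fun T T' m => rfl }
  let c : (extS g).obj G ⟶ F' := (extS g).map ι ≫ counit g F'
  have hc : ∀ (V : Over S') (p : El g G V), c.hom.app (op V) p = F'.obj.map p.ofEl.op p.2.1 := fun V p => rfl
  have hcq : c ≫ q = base g G := by
    refine hom_ext_El fun T x => ?_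
    change q.hom.app _ (c.hom.app _ _) = _
    have : c.hom.app (op ((Over.map g).obj T)) (unitEl g T x) = x.1 := counit_unitEl g F' T x.1
    rw [this]
    exact congrArg ULift.up (Over.OverMorphism.ext x.2)
  have hbij : ∀ V, Function.Bijective (c.hom.app V) := fun ⟨V⟩ => by
    have hq : ∀ p : El g G V, p.1.1 = (q.hom.app (op V) (c.hom.app (op V) p)).down.left := fun p =>
      (congrArg (fun z : ((yon S').obj (Over.mk g)).obj.obj (op V) => z.down.left)
        (congrArg (fun r : (extS g).obj G ⟶ (yon S').obj (Over.mk g) => r.hom.app (op V) p) hcq)).symm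
    refine ⟨fun p p' e => ?_, fun y => ?_⟩
    · change El g G V at p p'
      obtain ⟨⟨s, hs⟩, x⟩ := p
      obtain ⟨⟨s', hs'⟩, x'⟩ := p'
      have es : s = s' := (hq ⟨⟨s, hs⟩, x⟩).trans (by rw [e]; exact (hq ⟨⟨s', hs'⟩, x'⟩).symm)
      subst es
      rw [hc, hc] at e
      have : x = x' := Subtype.ext (by
        let m : (Over.map g).obj (Over.mk s) ⟶ V := Over.homMk (𝟙 _) (by simp [hs])
        have hm : ∀ z : F'.obj.obj (op ((Over.map g).obj (Over.mk s))),
            F'.obj.map m.op (F'.obj.map (El.ofEl (g := g) (El.mk (F := G) s hs x)).op z) = z := fun z => by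
          have key : m ≫ El.ofEl (g := g) (El.mk (F := G) s hs x) = 𝟙 ((Over.map g).obj (Over.mk s)) :=
            Over.OverMorphism.ext (Category.id_comp _)
          rw [← FunctorToTypes.map_comp_apply, ← op_comp, key]
          exact FunctorToTypes.map_id_apply F'.obj z
        exact (hm x.1).symm.trans ((congrArg _ e).trans (hm x'.1)))
      subst this
      rfl
    · let s : V.left ⟶ S := (q.hom.app (op V) y).down.left
      have hs : s ≫ g = V.hom := Over.w (q.hom.app (op V) y).down
      let m : (Over.map g).obj (Over.mk s) ⟶ V := Over.homMk (𝟙 _) (by simp [hs])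
      have hy : st (Over.mk s) (F'.obj.map m.op y) = s := by
        have := congrArg (fun z : ((yon S').obj (Over.mk g)).obj.obj (op ((Over.map g).obj (Over.mk s))) => z.down.left)
          (NatTrans.naturality_apply q.hom m.op y)
        exact this.trans (Category.id_comp _)
      refine ⟨El.mk (F := G) s hs ⟨F'.obj.map m.op y, hy⟩, ?_⟩
      rw [hc]
      change F'.obj.map _ (F'.obj.map m.op y) = y
      rw [← FunctorToTypes.map_comp_apply, ← op_comp]
      convert FunctorToTypes.map_id_apply F'.obj y using 3
      apply Quiver.Hom.unop_inj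
      ext
      simp [El.ofEl, m]
  haveI : IsIso c := by
    haveI : IsIso ((sheafToPresheaf _ _).map c) := by
      refine (NatTrans.isIso_iff_isIso_app _).2 fun V => ?_
      exact (isIso_iff_bijective _).2 (hbij V)
    exact isIso_of_fully_faithful (sheafToPresheaf (J S') (Type (u + 1))) c
  exact ⟨G, ⟨Over.isoMk (asIso c) hcq⟩⟩⟩

variable {g}

instance : (toOver g).IsEquivalence := {}

instance : PreservesLimitsOfShape WalkingCospan (extS g) :=
  inferInstanceAs (PreservesLimitsOfShape WalkingCospan (toOver g ⋙ Over.forget _))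

instance : (extS g).ReflectsIsomorphisms :=
  inferInstanceAs ((toOver g ⋙ Over.forget _).ReflectsIsomorphisms)

instance : ReflectsLimitsOfShape WalkingCospan (extS g) := reflectsLimitsOfShape_of_reflectsIsomorphisms

theorem representable_map_iff_aux {P : MorphismProperty Scheme.{u}} [P.IsStableUnderBaseChange] {F G : Sp S}
    {φ : F ⟶ G} {T Q : Over S} {a : (yon S).obj T ⟶ G} {fst : (yon S).obj Q ⟶ F} {snd : Q ⟶ T}
    (sq : IsPullback fst ((yon S).map snd) φ a) {V : Over S'} (e : (Over.map g).obj T ≅ V)
    (b : (yon S').obj V ⟶ (extS g).obj G) (ha : (extS g).map a = theta g T ≫ (yon S').map e.hom ≫ b) :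
    IsPullback (thetaInv g Q ≫ (extS g).map fst) ((yon S').map ((Over.map g).map snd ≫ e.hom)) ((extS g).map φ) b := by
  refine (sq.map (extS g)).of_iso (thetaIso g Q) (Iso.refl _) (thetaIso g T ≪≫ (yon S').mapIso e) (Iso.refl _)
    ?_ ?_ ?_ ?_
  · change (extS g).map fst ≫ 𝟙 _ = theta g Q ≫ thetaInv g Q ≫ (extS g).map fst
    rw [Category.comp_id]
    exact ((thetaIso g Q).hom_inv_id_assoc _).symm
  · change (extS g).map ((yon S).map snd) ≫ theta g T ≫ (yon S').map e.hom = theta g Q ≫ _
    rw [Functor.map_comp, ← Category.assoc, theta_naturality, Category.assoc]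
  · simp
  · change (extS g).map a ≫ 𝟙 _ = (theta g T ≫ (yon S').map e.hom) ≫ b
    rw [Category.comp_id, ha, Category.assoc]

theorem repWith_map_iff {P : MorphismProperty Scheme.{u}} [P.IsStableUnderBaseChange] {F G : Sp S} (φ : F ⟶ G) :
    RepWith P ((extS g).map φ) ↔ RepWith P φ := by
  haveI : P.RespectsIso := MorphismProperty.IsStableUnderBaseChange.respectsIso
  constructor
  · intro h
    have hr : Representable φ := fun T a => by
      let b := thetaInv g T ≫ (extS g).map a
      have hQ := h.1.isPullback b
      obtain ⟨Q', a', e', ha'⟩ := exists_map_eq g (F := pullback φ a)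
        (((IsPullback.of_hasPullback φ a).map (extS g)).lift (h.1.fst b)
          ((yon S').map (h.1.snd b) ≫ thetaInv g T) (by rw [hQ.w, Category.assoc]))
      have hiso : IsIso (((IsPullback.of_hasPullback φ a).map (extS g)).lift (h.1.fst b)
          ((yon S').map (h.1.snd b) ≫ thetaInv g T) (by rw [hQ.w, Category.assoc])) := by
        have sq2 : IsPullback (h.1.fst b) ((yon S').map (h.1.snd b) ≫ thetaInv g T) ((extS g).map φ)
            ((extS g).map a) :=
          hQ.of_iso (Iso.refl _) (Iso.refl _) (thetaIso g T).symm (Iso.refl _) (by simp) (by simp [thetaIso])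
            (by simp) (by simp [b, thetaIso])
        rw [show ((IsPullback.of_hasPullback φ a).map (extS g)).lift (h.1.fst b)
          ((yon S').map (h.1.snd b) ≫ thetaInv g T) (by rw [hQ.w, Category.assoc]) =
            (sq2.isoIsPullback _ _ ((IsPullback.of_hasPullback φ a).map (extS g))).hom from
          ((IsPullback.of_hasPullback φ a).map (extS g)).hom_ext (by simp) (by simp)]
        infer_instance
      haveI := hiso
      haveI : IsIso (theta g Q') := (thetaIso g Q').isIso_hom
      haveI : IsIso ((extS g).map a') := by rw [ha']; infer_instance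
      haveI : IsIso a' := isIso_of_reflects_iso a' (extS g)
      obtain ⟨m, hm⟩ := (yon S).map_surjective (a' ≫ pullback.snd φ a)
      exact ⟨Q', m, a' ≫ pullback.fst φ a, (IsPullback.of_hasPullback φ a).of_iso (asIso a').symm (Iso.refl _)
        (Iso.refl _) (Iso.refl _) (by simp) (by rw [hm]; simp) (by simp) (by simp)⟩
    refine ⟨hr, fun T Q a fst snd sq => ?_⟩
    have := h.2 _ _ _ (representable_map_iff_aux (P := P) sq (Iso.refl _) (thetaInv g T ≫ (extS g).map a)
      (by simp only [Iso.refl_hom, Functor.map_id, Category.id_comp]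
          exact ((thetaIso g T).hom_inv_id_assoc _).symm))
    change P ((snd.left ≫ 𝟙 _ : _ ⟶ _)) at this
    rwa [Category.comp_id] at this
  · intro h
    refine ⟨fun V b => ?_, fun V W b fst snd sq => ?_⟩
    · obtain ⟨T, a, e, ha⟩ := exists_map_eq g b
      exact ⟨_, _, _, representable_map_iff_aux (P := P) (h.1.isPullback a) e b ha⟩
    · obtain ⟨T, a, e, ha⟩ := exists_map_eq g b
      have sq' := representable_map_iff_aux (P := P) (h.1.isPullback a) e b ha
      obtain ⟨j, hj⟩ := (yon S').map_surjective (sq.isoIsPullback _ _ sq').hom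
      haveI : IsIso ((yon S').map j) := by rw [hj]; infer_instance
      haveI : IsIso j := isIso_of_fully_faithful (yon S') j
      have e1 : j ≫ (Over.map g).map (h.1.snd a) ≫ e.hom = snd :=
        (yon S').map_injective (by rw [Functor.map_comp, hj, IsPullback.isoIsPullback_hom_snd])
      rw [← e1]
      have hP : P (h.1.snd a).left := h.2 _ _ _ (h.1.isPullback a)
      haveI : IsIso e.hom.left := inferInstanceAs (IsIso ((Over.forget S').map e.hom))
      haveI : IsIso j.left := inferInstanceAs (IsIso ((Over.forget S').map j))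
      change P (j.left ≫ (h.1.snd a).left ≫ e.hom.left)
      rw [MorphismProperty.cancel_left_of_respectsIso P, MorphismProperty.cancel_right_of_respectsIso P]
      exact hP

instance : MorphismProperty.IsStableUnderBaseChange (⊤ : MorphismProperty Scheme.{u}) := inferInstance

theorem representable_map_iff {F G : Sp S} (φ : F ⟶ G) : Representable ((extS g).map φ) ↔ Representable φ := by
  have h := repWith_map_iff (g := g) (P := ⊤) φ
  exact ⟨fun hh => (h.1 (repWith_of_forall hh fun _ => trivial)).1,
    fun hh => (h.2 (repWith_of_forall hh fun _ => trivial)).1⟩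

/-- Being an algebraic space is insensitive to extension. -/
theorem isAlgSpace_ext_iff {F : Sp S} : IsAlgSpace ((extS g).obj F) ↔ IsAlgSpace F := by
  constructor
  · intro h
    refine ⟨Functor.relativelyRepresentable.diag_of_map_from_obj fun T a =>
      (representable_map_iff (g := g) a).1 ?_, ?_⟩
    · rw [show (extS g).map a = theta g T ≫ thetaInv g T ≫ (extS g).map a from
        ((thetaIso g T).hom_inv_id_assoc _).symm]
      haveI : IsIso (theta g T) := (thetaIso g T).isIso_hom
      exact MorphismProperty.RespectsIso.precomp (P := Representable) _ _ (h.representable_from_yon _)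
    · obtain ⟨V, b, hbe, hbs⟩ := h.atlas
      obtain ⟨T, a, e, ha⟩ := exists_map_eq g b
      haveI : IsIso (theta g T) := (thetaIso g T).isIso_hom
      refine ⟨T, a, (repWith_map_iff (g := g) a).1 ?_, (repWith_map_iff (g := g) a).1 ?_⟩
      · rw [ha, ← Category.assoc]
        exact MorphismProperty.RespectsIso.precomp (P := RepWith @Etale) _ _ hbe
      · rw [ha, ← Category.assoc]
        exact MorphismProperty.RespectsIso.precomp (P := RepWith @Surjective) _ _ hbs
  · intro h
    refine ⟨Functor.relativelyRepresentable.diag_of_map_from_obj fun V b => ?_, ?_⟩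
    · obtain ⟨T, a, e, ha⟩ := exists_map_eq g b
      haveI : IsIso (theta g T) := (thetaIso g T).isIso_hom
      have h2 := (representable_map_iff (g := g) a).2 (h.representable_from_yon a)
      rw [ha, ← Category.assoc] at h2
      exact (MorphismProperty.cancel_left_of_respectsIso Representable _ _).1 h2
    · obtain ⟨T, a, hae, has⟩ := h.atlas
      haveI : IsIso (thetaInv g T) := (thetaIso g T).isIso_inv
      exact ⟨_, thetaInv g T ≫ (extS g).map a,
        MorphismProperty.RespectsIso.precomp (P := RepWith @Etale) _ _ ((repWith_map_iff a).2 hae),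
        MorphismProperty.RespectsIso.precomp (P := RepWith @Surjective) _ _ ((repWith_map_iff a).2 has)⟩

variable (g)

/-- Extension of a restriction is the product with `h_S`. -/
def prodFan (F' : Sp S') : BinaryFan ((yon S').obj (Over.mk g)) F' :=
  BinaryFan.mk (base g ((res g).obj F')) (counit g F')

variable {g} in
/-- The point determined by a section and a map to `h_S`. -/
def pairEl {F' : Sp S'} {V : Over S'} (s : V ⟶ Over.mk g) (x : F'.obj.obj (op V)) : El g ((res g).obj F') V :=
  El.mk s.left (Over.w s)
    (F'.obj.map (Over.homMk (𝟙 _) (by simpa using (Over.w s).symm) : (Over.map g).obj (Over.mk s.left) ⟶ V).op x)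

theorem pairEl_pull {F' : Sp S'} {V W : Over S'} (f : W ⟶ V) (s : V ⟶ Over.mk g) (x : F'.obj.obj (op V)) :
    pairEl (f ≫ s) (F'.obj.map f.op x) = (pairEl s x).pull f := by
  refine El.ext' rfl ?_
  rw [El.val_pull]
  change F'.obj.map _ (F'.obj.map _ (F'.obj.map f.op x)) = F'.obj.map _ (F'.obj.map _ x)
  simp only [← FunctorToTypes.map_comp_apply, ← op_comp]
  congr 2

/-- The fan is a product. -/
def isLimitProdFan (F' : Sp S') : IsLimit (prodFan g F') :=
  BinaryFan.IsLimit.mk _
    (fun {T} a b => ObjectProperty.homMk
      { app := fun V => TypeCat.ofHom fun t => pairEl (a.hom.app V t).down (b.hom.app V t)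
        naturality := fun V W f => by
          ext t
          change pairEl (a.hom.app W (T.obj.map f t)).down (b.hom.app W (T.obj.map f t)) =
            (pairEl (a.hom.app V t).down (b.hom.app V t)).pull f.unop
          rw [NatTrans.naturality_apply b.hom f t, show (a.hom.app W (T.obj.map f t)).down =
            f.unop ≫ (a.hom.app V t).down from congrArg ULift.down (NatTrans.naturality_apply a.hom f t)]
          exact pairEl_pull g f.unop _ _ })
    (fun {T} a b => by
      ext V t
      exact congrArg ULift.up (Over.OverMorphism.ext rfl))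
    (fun {T} a b => by
      ext V t
      change F'.obj.map _ (F'.obj.map _ (b.hom.app V t)) = b.hom.app V t
      rw [← FunctorToTypes.map_comp_apply, ← op_comp]
      convert FunctorToTypes.map_id_apply F'.obj (b.hom.app V t) using 3
      apply Quiver.Hom.unop_inj
      ext
      simp [El.ofEl, pairEl, El.mk])
    (fun {T} a b m h1 h2 => by
      ext V t
      subst h1; subst h2
      change _ = pairEl _ _
      refine El.ext' rfl ?_
      change F'.obj.map _ _ = F'.obj.map _ (F'.obj.map _ (F'.obj.map _ _))
      simp only [← FunctorToTypes.map_comp_apply, ← op_comp]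
      congr 2)

/-- Extension of a restriction is the product with `h_S`. -/
def prodIso (F' : Sp S') : (extS g).obj ((res g).obj F') ≅ (yon S').obj (Over.mk g) ⨯ F' :=
  (isLimitProdFan g F').conePointUniqueUpToIso (limit.isLimit _)

theorem isAlgSpace_res_iff (F' : Sp S') :
    IsAlgSpace ((res g).obj F') ↔ IsAlgSpace ((yon S').obj (Over.mk g) ⨯ F') :=
  (isAlgSpace_ext_iff (g := g)).symm.trans (isAlgSpace_iff_of_iso (prodIso g F'))

end Groth.Agent.ASp.Slice
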