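import Groth.Agent.ASp.SmST
/-!
Properties smooth local on source-and-target.
-/

set_option backward.isDefEq.respectTransparency false
set_option backward.isDefEq.respectTransparency.types false

universe u

open CategoryTheory CategoryTheory.Limits AlgebraicGeometry Opposite

namespace Groth.Agent.ASp

open _root_.AlgSp

variable {S : Scheme.{u}} {P : MorphismProperty (Sp S)}

theorem smoothLocalST_source (hP : IsSmoothLocalST P) : IsLocalOnSource IsSmCover P := by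
  intro ι X Xi g hX hXi hτ Y f hY
  refine ⟨fun h i => hP.precomp (hXi i) hX hY _ _ (hτ.1 i) h, fun h => (hP.locality hX hY f).2 fun x => ?_⟩
  obtain ⟨i, t, rfl⟩ := hτ.2 x
  exact ⟨Xi i, Y, g i, 𝟙 Y, g i ≫ f, t, hXi i, hY, hτ.1 i, locP_id_of_isAlgSpace hY, by simp, rfl, h i⟩

theorem smoothLocalST_base (hP : IsSmoothLocalST P) : IsLocalOnBase IsSmCover P := by
  intro ι Y Yi g hY hYi hτ X f hX Xi p q hXi sq
  refine ⟨fun h i => hP.baseChange hX hY (hXi i) (hYi i) f (g i) (p i) (q i) (sq i) (hτ.1 i) h,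
    fun h => (hP.locality hX hY f).2 fun x => ?_⟩
  obtain ⟨i, t, ht⟩ := hτ.2 (AlgSp.Points.map f x)
  obtain ⟨z, hz, -⟩ := points_exists_of_isPullback (sq i) x t ht.symm
  exact ⟨Xi i, Yi i, q i, g i, p i, z, hXi i, hYi i, locP_of_isPullback (sq i) (hYi i) hY hX (hτ.1 i),
    hτ.1 i, (sq i).w, hz, h i⟩

theorem smoothLocalST_postcomp (hP : IsSmoothLocalST P) {X Y Z : Sp S} (hX : IsAlgSpace X) (hY : IsAlgSpace Y)
    (hZ : IsAlgSpace Z) {f : X ⟶ Y} {g : Y ⟶ Z} (hf : P f) (hg : LocP @Smooth g) : P (f ≫ g) :=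
  (hP.locality hX hZ _).2 fun x => ⟨X, Y, 𝟙 X, g, f, x, hX, hY, locP_id_of_isAlgSpace hX, hg,
    Category.id_comp _, AlgSp.Points.map_id x, hf⟩

theorem smooth_cover_pair {X Y : Sp S} (hY : IsAlgSpace Y) {f : X ⟶ Y} (hf : LocP @Smooth f) :
    ∃ (g : ∀ i : ULift.{u} Bool, (if i.down then X else Y) ⟶ Y),
      g ⟨true⟩ = f ∧ g ⟨false⟩ = 𝟙 Y ∧
      IsSmCover (fun i : ULift.{u} Bool => if i.down then X else Y) g := by
  refine ⟨fun | ⟨true⟩ => f | ⟨false⟩ => 𝟙 Y, rfl, rfl, fun i => ?_, fun y => ⟨⟨false⟩, y, AlgSp.Points.map_id y⟩⟩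
  rcases i with ⟨_ | _⟩
  · exact locP_id_of_isAlgSpace hY
  · exact hf

theorem smoothLocalST_of_local (h1 : IsLocalOnSource IsSmCover P) (h2 : IsLocalOnBase IsSmCover P)
    (h3 : ∀ ⦃X Y Z : AlgSp.Space S⦄ (f : X ⟶ Y) (g : Y ⟶ Z), P f.hom → LocP @Smooth g.hom → P (f ≫ g).hom) :
    IsSmoothLocalST P where
  precomp X Y Z hX hY hZ f g hf hg := by
    obtain ⟨c, hc1, hc2, hc⟩ := smooth_cover_pair hY hf
    have := (h1 _ c hY (fun | ⟨true⟩ => hX | ⟨false⟩ => hY) hc g hZ).1 hg ⟨true⟩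
    rw [hc1] at this
    exact this
  baseChange X Y X' Y' hX hY hX' hY' f g f' g' sq hg hf := by
    obtain ⟨c, hc1, hc2, hc⟩ := smooth_cover_pair hY hg
    let Xi : ULift.{u} Bool → Sp S := fun i => if i.down then X' else X
    let p : ∀ i : ULift.{u} Bool, Xi i ⟶ if i.down then Y' else Y := fun | ⟨true⟩ => f' | ⟨false⟩ => f
    let q : ∀ i : ULift.{u} Bool, Xi i ⟶ X := fun | ⟨true⟩ => g' | ⟨false⟩ => 𝟙 X
    refine (h2 (ι := ULift.{u} Bool) (fun i => if i.down then Y' else Y) c hY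
      (fun | ⟨true⟩ => hY' | ⟨false⟩ => hY) hc f hX Xi p q
      (fun | ⟨true⟩ => hX' | ⟨false⟩ => hX) ?_).1 hf ⟨true⟩
    rintro ⟨_ | _⟩
    · rw [hc2]
      exact IsPullback.of_horiz_isIso (fst := 𝟙 X) (g := 𝟙 Y) ⟨by simp [p, q]⟩
    · rw [hc1]
      exact sq
  locality X Y hX hY f := by
    refine ⟨fun h x => ⟨X, Y, 𝟙 X, 𝟙 Y, f, x, hX, hY, locP_id_of_isAlgSpace hX, locP_id_of_isAlgSpace hY,
      by simp, AlgSp.Points.map_id x, h⟩, fun H => ?_⟩
    obtain ⟨W, p, hpe, hps⟩ := hX.atlas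
    choose U V a b h v hU hV ha hb e hv hh using fun t : ↥W.left => H (Points.ofPt p t)
    refine (h1 (ι := ↥W.left) U a hX hU ⟨ha, fun x => ?_⟩ f hY).2 fun t => ?_
    · obtain ⟨t, rfl⟩ := surjective_ofPt hps x
      exact ⟨t, v t, hv t⟩
    · rw [e t]
      exact h3 (X := ⟨U t, hU t⟩) (Y := ⟨V t, hV t⟩) (Z := ⟨Y, hY⟩) (ObjectProperty.homMk (h t))
        (ObjectProperty.homMk (b t)) (hh t) (hb t)

end Groth.Agent.ASp
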