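import Groth.Agent.ASp.Infinitesimal
import Groth.Agent.ASp.ThickBase
import Groth.Agent.NilLift.Basic
/-!
Etale local lifting of smooth morphisms of algebraic spaces along thickenings.
-/

set_option autoImplicit false
set_option backward.isDefEq.respectTransparency false
set_option backward.isDefEq.respectTransparency.types false

universe u

open CategoryTheory CategoryTheory.Limits AlgebraicGeometry Opposite

namespace Groth.Agent.Inf

open _root_.AlgSp Groth.Agent.ASp

variable {S : Scheme.{u}} {A : Type u} [CommRing A]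

/-- An etale algebra over `Spec (A ⧸ I)` lifted to `Spec A`, for any ideal. -/
theorem exists_piece_at {I : Ideal A} {str : Spec (CommRingCat.of A) ⟶ S} {F : Sp S} {U : Over S}
    {p : (yon S).obj U ⟶ F} (hp : RepWith @Etale p) (hps : RepWith @Surjective p)
    (a : (yon S).obj (T0 I str) ⟶ F) (x : ↥(T0 I str).left) :
    ∃ (R : Type u) (_ : CommRing R) (φ : A →+* R) (u : T0 (I.map φ) (strR φ str) ⟶ U)
      (y : ↥(T0 (I.map φ) (strR φ str)).left),
      Etale (cc φ str).left ∧ (cc0 φ I str).left y = x ∧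
      (yon S).map u ≫ p = (yon S).map (cc0 φ I str) ≫ a := by
  obtain ⟨W, w, v, hwe, hws, hv, -⟩ := exists_etale_cover hp hps a
  obtain ⟨y₀, hy₀⟩ := hws.surj x
  obtain ⟨C, g, hg, z, hz⟩ : ∃ (C : CommRingCat.{u}) (g : Spec C ⟶ W.left),
      IsOpenImmersion g ∧ ∃ z, g z = y₀ :=
    ⟨_, W.left.affineCover.f (W.left.affineCover.idx y₀), inferInstance, W.left.affineCover.covers y₀⟩
  obtain ⟨ψ, hψ⟩ := Spec.map_surjective (g ≫ w.left)
  have he : Etale (Spec.map ψ) := by rw [hψ]; infer_instance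
  have hψe : ψ.hom.Etale := HasRingHomProperty.Spec_iff.1 he
  letI : Algebra (A ⧸ I) C := ψ.hom.toAlgebra
  haveI : Algebra.Etale (A ⧸ I) C := hψe
  letI : Algebra A C := (ψ.hom.comp (Ideal.Quotient.mk I)).toAlgebra
  haveI : IsScalarTower A (A ⧸ I) C := .of_algebraMap_eq fun _ => rfl
  obtain ⟨R, _, _, hRe, Φ, hΦ, hΦker⟩ := Hensel.exists_etale_lift_of_quotient (A := A) (I := I) C
  let e : (R ⧸ I.map (algebraMap A R)) ≃+* C :=
    (Ideal.quotEquivOfEq hΦker.symm).trans (RingHom.quotientKerEquivOfSurjective hΦ)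
  let θ : C ≅ CommRingCat.of (R ⧸ I.map (algebraMap A R)) := e.symm.toCommRingCatIso
  have hθψ : ψ ≫ θ.hom =
      CommRingCat.ofHom (Ideal.quotientMap (I.map (algebraMap A R)) (algebraMap A R) Ideal.le_comap_map) := by
    refine CommRingCat.hom_ext (Ideal.Quotient.ringHom_ext (RingHom.ext fun r => e.injective ?_))
    show e (e.symm (ψ.hom (Ideal.Quotient.mk I r))) = e (Ideal.Quotient.mk _ (algebraMap A R r))
    rw [RingEquiv.apply_symm_apply, show e (Ideal.Quotient.mk _ (algebraMap A R r)) = Φ (algebraMap A R r)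
      from rfl, Φ.commutes]
    rfl
  have e1 : (Spec.map θ.hom ≫ g) ≫ w.left = (cc0 (algebraMap A R) I str).left := by
    rw [Category.assoc, ← hψ, ← Spec.map_comp, hθψ]; rfl
  let k : T0 (I.map (algebraMap A R)) (strR (algebraMap A R) str) ⟶ W :=
    Over.homMk (Spec.map θ.hom ≫ g) (by
      rw [← Over.w w, ← Category.assoc, e1]
      exact Over.w (cc0 (algebraMap A R) I str))
  have hkw : k ≫ w = cc0 (algebraMap A R) I str := Over.OverMorphism.ext e1
  obtain ⟨z', hz'⟩ := (Spec.map θ.hom).surjective z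
  refine ⟨R, inferInstance, algebraMap A R, k ≫ v, z',
    HasRingHomProperty.Spec_iff.2 (RingHom.etale_algebraMap.mpr hRe), ?_, ?_⟩
  · rw [← hkw, Over.comp_left, Scheme.Hom.comp_apply, ← hy₀, ← hz, ← hz']
    exact congrArg w.left (Scheme.Hom.comp_apply _ _ _)
  · rw [Functor.map_comp, Category.assoc, hv, ← Functor.map_comp_assoc, hkw]

theorem strR_strR {R B : Type u} [CommRing R] [CommRing B] (φ : A →+* R) (ψ : R →+* B)
    (str : Spec (CommRingCat.of A) ⟶ S) : strR ψ (strR φ str) = strR (ψ.comp φ) str := by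
  simp only [strR, CommRingCat.ofHom_comp, Spec.map_comp, Category.assoc]

/-- Smooth morphisms lift along nil thickenings of affine schemes, etale locally. -/
theorem exists_smooth_lift {X Y : Sp S} {f : X ⟶ Y} {U V : Over S} {p : (yon S).obj U ⟶ X}
    (hp : RepWith @Etale p) (hps : RepWith @Surjective p) {q : (yon S).obj V ⟶ Y} (hq : RepWith @Etale q)
    {h : U ⟶ V} (e : p ≫ f = (yon S).map h ≫ q) [Smooth h.left]
    {I : Ideal A} (hI : I ≤ nilradical A) {str : Spec (CommRingCat.of A) ⟶ S}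
    (a : (yon S).obj (T0 I str) ⟶ X) (b : (yon S).obj (TT str) ⟶ Y)
    (w : a ≫ f = (yon S).map (qI I str) ≫ b) (t : ↥(TT str).left) :
    ∃ (V' : Over S) (c : V' ⟶ TT str) (W' : Over S) (c0 : W' ⟶ T0 I str) (j : W' ⟶ V')
      (l : (yon S).obj V' ⟶ X),
      Etale c.left ∧ t ∈ Set.range c.left ∧ IsPullback c0 j (qI I str) c ∧
      l ≫ f = (yon S).map c ≫ b ∧ (yon S).map j ≫ l = (yon S).map c0 ≫ a := by
  obtain ⟨t₀, ht₀⟩ := NilLift.surjective_quotient hI t
  obtain ⟨R, _, φ, u, y, hφe, hy, hu⟩ := exists_piece_at hp hps a t₀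
  have hI₁ : I.map φ ≤ nilradical R := NilLift.map_le_nilradical φ hI
  let str₁ := strR φ str
  let y' : ↥(TT str₁).left := (qI (I.map φ) str₁).left y
  -- lift the map to the chart of the target
  obtain ⟨M, m₁, m₂, hM⟩ := exists_isPullback_yon hq.1 ((yon S).map (cc φ str) ≫ b)
  have hm₂ : Etale m₂.left := hq.2 _ _ _ hM
  haveI : Smooth m₂.left := inferInstance
  obtain ⟨s₀, hs₀⟩ := (yon S).map_surjective (hM.lift ((yon S).map (u ≫ h)) ((yon S).map (qI (I.map φ) str₁)) (by
    rw [Functor.map_comp, Category.assoc, ← e, ← Category.assoc, hu, Category.assoc, w,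
      ← Functor.map_comp_assoc, cc0_qI, Functor.map_comp, Category.assoc]))
  have hs1 : s₀ ≫ m₁ = u ≫ h := (yon S).map_injective (by rw [Functor.map_comp, hs₀, hM.lift_fst])
  have hs2 : s₀ ≫ m₂ = qI (I.map φ) str₁ :=
    (yon S).map_injective (by rw [Functor.map_comp, hs₀, hM.lift_snd])
  obtain ⟨g, hg, l₁, hl₁, hl₁'⟩ := NilLift.exists_lift_basicOpen m₂.left hI₁ s₀.left (𝟙 _)
    (by rw [Category.comp_id, ← Over.comp_left, hs2]; rfl) y'
  rw [Category.comp_id] at hl₁
  let R₂ := Localization.Away g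
  let ψ : R →+* R₂ := algebraMap R R₂
  obtain ⟨z₂, hz₂⟩ : y' ∈ Set.range (Spec.map (CommRingCat.ofHom ψ)) := by
    show y' ∈ Set.range (PrimeSpectrum.comap (algebraMap R R₂))
    rw [PrimeSpectrum.localization_away_comap_range R₂ g]; exact hg
  have hI₂ : (I.map φ).map ψ ≤ nilradical R₂ := NilLift.map_le_nilradical ψ hI₁
  let str₂ := strR ψ str₁
  let L₁ : TT str₂ ⟶ M := Over.homMk l₁ (by
    rw [← Over.w m₂, ← Category.assoc, hl₁]; rfl)
  have hL₁ : L₁ ≫ m₂ = cc ψ str₁ := Over.OverMorphism.ext hl₁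
  have hL₁' : qI ((I.map φ).map ψ) str₂ ≫ L₁ = cc0 ψ (I.map φ) str₁ ≫ s₀ :=
    Over.OverMorphism.ext hl₁'
  -- lift to the chart of the source
  obtain ⟨g₂, hg₂, l₂, hl₂, hl₂'⟩ := NilLift.exists_lift_basicOpen h.left hI₂
    (cc0 ψ (I.map φ) str₁ ≫ u).left (L₁ ≫ m₁).left
    (by
      have := congrArg (fun k => (k ≫ m₁).left) hL₁'
      simp only [Category.assoc, hs1, Over.comp_left] at this ⊢
      exact this.symm) z₂
  let R₃ := Localization.Away g₂
  let χ : R₂ →+* R₃ := algebraMap R₂ R₃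
  obtain ⟨z₃, hz₃⟩ : z₂ ∈ Set.range (Spec.map (CommRingCat.ofHom χ)) := by
    show z₂ ∈ Set.range (PrimeSpectrum.comap (algebraMap R₂ R₃))
    rw [PrimeSpectrum.localization_away_comap_range R₃ g₂]; exact hg₂
  let str₃ := strR χ str₂
  let L₂ : TT str₃ ⟶ U := Over.homMk l₂ (by
    rw [← Over.w h, ← Category.assoc, hl₂, Category.assoc, Over.w (L₁ ≫ m₁)]; rfl)
  have hL₂ : L₂ ≫ h = cc χ str₂ ≫ L₁ ≫ m₁ := Over.OverMorphism.ext hl₂
  have hL₂' : qI (((I.map φ).map ψ).map χ) str₃ ≫ L₂ = cc0 χ ((I.map φ).map ψ) str₂ ≫ cc0 ψ (I.map φ) str₁ ≫ u :=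
    Over.OverMorphism.ext hl₂'
  refine ⟨TT str₃, cc χ str₂ ≫ cc ψ str₁ ≫ cc φ str, T0 (((I.map φ).map ψ).map χ) str₃,
    cc0 χ ((I.map φ).map ψ) str₂ ≫ cc0 ψ (I.map φ) str₁ ≫ cc0 φ I str, qI _ str₃,
    (yon S).map L₂ ≫ p, ?_, ?_, ?_, ?_, ?_⟩
  · haveI := hφe
    haveI : Etale (cc ψ str₁).left :=
      haveI : IsOpenImmersion (cc ψ str₁).left :=
        inferInstanceAs (IsOpenImmersion (Spec.map (CommRingCat.ofHom (algebraMap R R₂))))
      inferInstance
    haveI : Etale (cc χ str₂).left :=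
      haveI : IsOpenImmersion (cc χ str₂).left :=
        inferInstanceAs (IsOpenImmersion (Spec.map (CommRingCat.ofHom (algebraMap R₂ R₃))))
      inferInstance
    rw [Over.comp_left, Over.comp_left]; infer_instance
  · refine ⟨z₃, ?_⟩
    show (Spec.map _) ((Spec.map _) ((Spec.map _) z₃)) = t
    rw [hz₃, hz₂, ← ht₀, ← hy]
    show ((qI (I.map φ) str₁).left ≫ (cc φ str).left) y = ((cc0 φ I str).left ≫ (qI I str).left) y
    rw [← Over.comp_left, ← Over.comp_left, cc0_qI]
  · have h1 := (isPullback_cc0 χ ((I.map φ).map ψ) str₂).flip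
    have h2 := (isPullback_cc0 ψ (I.map φ) str₁).flip
    have h3 := (isPullback_cc0 φ I str).flip
    exact IsPullback.of_map (Over.forget S)
      (by simp only [Category.assoc, cc0_qI, cc0_qI_assoc])
      (h1.paste_horiz (h2.paste_horiz h3))
  · rw [Category.assoc, e, ← Functor.map_comp_assoc, hL₂, Functor.map_comp, Functor.map_comp,
      Category.assoc, Category.assoc, hM.w]
    have k1 := congrArg (fun r => (yon S).map r ≫ (yon S).map (cc φ str) ≫ b) hL₁
    simp only [Functor.map_comp, Category.assoc] at k1 ⊢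
    rw [k1]
  · rw [← Functor.map_comp_assoc, hL₂']
    simp only [Functor.map_comp, Category.assoc, hu]

end Groth.Agent.Inf
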