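import Groth.Agent.S9429
import Groth.Prelude.Def_RegImm
import Mathlib.RingTheory.Smooth.Flat
import Mathlib.AlgebraicGeometry.Morphisms.Smooth
/-!
Smooth morphisms of schemes are syntomic.
-/

set_option autoImplicit false

universe u

open CategoryTheory CategoryTheory.Limits AlgebraicGeometry

namespace Groth.Agent.ASp

theorem isSyntomic_of_smooth (R A : Type u) [CommRing R] [CommRing A] [Algebra R A] [Algebra.Smooth R A] :
    Synt.IsSyntomic R A :=
  ⟨inferInstance, inferInstance, fun p => S9429.result _ _⟩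

theorem isSyntomicMor_of_smooth {X Y : Scheme.{u}} (f : X ⟶ Y) [Smooth f] : Synt.IsSyntomicMor f := fun x => by
  obtain ⟨V, hV, U, hU, hx, e, h⟩ := Smooth.exists_isStandardSmooth f x
  refine ⟨⟨U, hU⟩, ⟨V, hV⟩, e, hx, ?_⟩
  algebraize [(f.appLE V U e).hom]
  exact isSyntomic_of_smooth _ _

end Groth.Agent.ASp
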