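import Groth.Prelude
import Mathlib.AlgebraicGeometry.ZariskisMainTheorem
import Groth.Agent.ASp.LqfLocus
import Groth.Agent.ASp.LqfRep
import Groth.Agent.ASp.MorCancel
import Groth.Agent.ASp.ProperQf
import Groth.Agent.ASp.BiratOpen
import Groth.Agent.ASp.Graph
/-!
Etale locally on the target a quasi-finite point lies in a finite open and closed part.
-/

set_option autoImplicit false
set_option backward.isDefEq.respectTransparency false
set_option linter.style.haveILetI false

universe u

open CategoryTheory CategoryTheory.Limits AlgebraicGeometry Opposite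

namespace Groth.Agent.ASp

open _root_.AlgSp

variable {S : Scheme.{u}}

theorem isClosedImmersion_of_open_univClosed {F G : Sp S} {j : F ⟶ G} (hj : RepWith @IsOpenImmersion j)
    (hu : IsUnivClosedMor j) : RepWith @IsClosedImmersion j := by
  refine ⟨hj.1, fun U W g fst snd sq => ?_⟩
  haveI : IsOpenImmersion snd.left := hj.2 g fst snd sq
  haveI : UniversallyClosed snd.left := ((repWith_universallyClosed_iff hj.1).2 hu).2 g fst snd sq
  exact IsClosedImmersion.of_isPreimmersion snd.left snd.left.isClosedMap.isClosed_range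

theorem exists_split_qf {X Y : Space S} (f : X ⟶ Y) (x : Points X.obj) (hf1 : LocP @LocallyOfFiniteType f.hom)
    (hf2 : IsSeparatedMor f.hom) (hf3 : IsQfNbhd f.hom x) :
    ∃ (U : Space S) (a : U ⟶ Y) (u : Points U.obj), IsEtaleMor a.hom ∧
      Points.map a.hom u = Points.map f.hom x ∧
      ∀ (P : Space S) (prX : P ⟶ X) (prU : P ⟶ U), IsPullback prX.hom prU.hom f.hom a.hom →
        ∃ (V : Space S) (jV : V ⟶ P), RepWith @IsOpenImmersion jV.hom ∧ RepWith @IsClosedImmersion jV.hom ∧
          IsFiniteMor (jV ≫ prU).hom ∧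
          ∃ v : Points V.obj, Points.map (jV ≫ prX).hom v = x ∧ Points.map (jV ≫ prU).hom v = u := by
  obtain ⟨X₀, j₀, hj₀, hlqf, hmem⟩ := exists_lqf_locus f hf1
  obtain ⟨x₀, hx₀⟩ := (hmem x).2 hf3
  haveI : Mono j₀.hom := mono_of_openImm hj₀
  have hsep₀ : IsSeparatedMor (j₀ ≫ f).hom :=
    Groth.Agent.ASt.repWith_diagonal_comp (repWith_mono (P := MorphismProperty.isomorphisms Scheme.{u}) (Q := @IsClosedImmersion) (fun _ _ k (hk : IsIso k) => inferInstance) (repWith_of_isIso (pullback.diagonal j₀.hom))) hf2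
  have hrep : Representable (j₀ ≫ f).hom := representable_of_sep_lqf X₀.2 Y.2 _ hlqf hsep₀
  obtain ⟨B, b, hb, hbs⟩ := Y.2.atlas
  obtain ⟨s, hs⟩ := surjective_ofPt hbs (Points.map f.hom x)
  have sq₀ := hrep.isPullback b
  let g := hrep.snd b
  obtain ⟨z, hz1, hz2⟩ := points_exists_of_isPullback sq₀ x₀ (Points.ofScheme B s)
    (by rw [← Points.ofPt_eq_map_ofScheme, hs, ← hx₀, ← Points.map_comp]; rfl)
  obtain ⟨z, rfl⟩ := (Points.schemeHomeo _).surjective z
  rw [Points.map_yon_map_apply] at hz2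
  have hz2 : g.left z = s := (Points.schemeHomeo B).injective hz2
  haveI : LocallyQuasiFinite g.left := ((repWith_of_locP Y.2 hrep hlqf).2 _ _ _ sq₀).1
  haveI : LocallyOfFiniteType g.left := ((repWith_of_locP Y.2 hrep hlqf).2 _ _ _ sq₀).2
  haveI : IsSeparated g.left := ((isSeparatedMor_iff hrep).1 hsep₀).2 _ _ _ sq₀
  obtain ⟨T, gT, hgT, -, Vo, Wo, v, hVW, hfin, hv⟩ :=
    exists_etale_isCompl_of_quasiFiniteAt (f := g.left) hz2 (g.left.quasiFiniteAt z)
  haveI := hgT
  let TS : Over S := Over.mk (gT ≫ B.hom)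
  let t : TS ⟶ B := Over.homMk gT rfl
  let a : (⟨(yon S).obj TS, IsAlgSpace.yon_obj TS⟩ : Space S) ⟶ Y := ObjectProperty.homMk ((yon S).map t ≫ b)
  let hom₁ : pullback g.left gT ⟶ S := pullback.snd g.left gT ≫ TS.hom
  let Q : Over S := Over.mk hom₁
  let q₂ : Q ⟶ TS := Over.homMk (pullback.snd g.left gT) rfl
  let q₁ : Q ⟶ hrep.pullback b := Over.homMk (pullback.fst g.left gT) (by
    show _ ≫ _ = pullback.snd g.left gT ≫ gT ≫ B.hom
    rw [← Over.w g, pullback.condition_assoc])
  have sqQ : IsPullback ((yon S).map q₁) ((yon S).map q₂) ((yon S).map g) ((yon S).map t) :=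
    isPullback_yon_map (IsPullback.of_map (Over.forget S) (Over.OverMorphism.ext pullback.condition)
      (IsPullback.of_hasPullback g.left gT))
  have big := sqQ.paste_horiz sq₀
  refine ⟨_, a, Points.ofScheme TS (pullback.snd g.left gT v.1),
    fun U φ hφ => repWith_comp hφ (repWith_comp (repWith_yon_map hgT) hb), ?_, fun P prX prU hP => ?_⟩
  · show Points.map ((yon S).map t ≫ b) _ = _
    rw [← Points.ofPt_eq_map_ofScheme, ofPt_yon_map_comp, ← hs, ← hz2, ← hv]
    show Points.ofPt b (gT _) = Points.ofPt b (g.left _)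
    rw [← Scheme.Hom.comp_apply, ← Scheme.Hom.comp_apply, pullback.condition]
  let m := hP.lift (((yon S).map q₁ ≫ hrep.fst b) ≫ j₀.hom) ((yon S).map q₂)
    (by rw [Category.assoc]; exact big.w)
  have hm : RepWith @IsOpenImmersion m := by
    refine repWith_of_isPullback (IsPullback.of_bot (h₁₁ := (yon S).map q₁ ≫ hrep.fst b) ?_
      (hP.lift_fst _ _ _).symm hP) hj₀
    rw [hP.lift_snd]
    exact big
  let VS : Over S := openOver (V := Q) Vo
  let jV : (⟨(yon S).obj VS, IsAlgSpace.yon_obj VS⟩ : Space S) ⟶ P :=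
    ObjectProperty.homMk ((yon S).map (openInc (V := Q) Vo) ≫ m)
  have hjV : RepWith @IsOpenImmersion jV.hom :=
    repWith_comp (repWith_yon_map ((inferInstance : IsOpenImmersion Vo.ι))) hm
  have hfinV : IsFiniteMor (jV ≫ prU).hom := by
    refine (isFiniteMor_iff (IsAlgSpace.yon_obj VS) (IsAlgSpace.yon_obj TS)).2 ?_
    show RepWith @IsFinite (((yon S).map (openInc (V := Q) Vo) ≫ m) ≫ prU.hom)
    rw [Category.assoc, hP.lift_snd, ← (yon S).map_comp]
    exact repWith_yon_map hfin
  have hsepP : IsSeparatedMor prU.hom := by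
    obtain ⟨s', h1, -⟩ := isPullback_diagonal_baseChange hP
    exact repWith_of_isPullback h1 hf2
  have hprop : IsProperMor (jV.hom ≫ prU.hom) := isProperMor_of_repWith
    (repWith_mono (P := @IsFinite) (Q := @IsProper) (fun _ _ k (_ : IsFinite k) => inferInstance)
      ((isFiniteMor_iff (IsAlgSpace.yon_obj VS) (IsAlgSpace.yon_obj TS)).1 hfinV))
  refine ⟨_, jV, hjV, isClosedImmersion_of_open_univClosed hjV
    (univClosed_of_comp_separated (IsAlgSpace.yon_obj VS) P.2 (IsAlgSpace.yon_obj TS) jV.hom prU.hom hsepP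
      hprop.2.2), hfinV, Points.ofScheme VS v, ?_, ?_⟩
  · show Points.map (((yon S).map (openInc (V := Q) Vo) ≫ m) ≫ prX.hom) _ = x
    rw [← Points.ofPt_eq_map_ofScheme, Category.assoc, hP.lift_fst, ofPt_yon_map_comp, Category.assoc,
      ofPt_yon_map_comp, ← hx₀, ← hz1]
    show Points.ofPt _ (pullback.fst g.left gT v.1) = _
    rw [hv, ← Points.map_comp, Points.ofPt_eq_map_ofScheme]
    rfl
  · show Points.map (((yon S).map (openInc (V := Q) Vo) ≫ m) ≫ prU.hom) _ = _
    rw [← Points.ofPt_eq_map_ofScheme, Category.assoc, hP.lift_snd, ofPt_yon_map_comp,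
      Points.ofPt_eq_map_ofScheme]
    exact Points.map_yon_map_apply q₂ _

end Groth.Agent.ASp
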