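import Groth.Agent.ASp.SplitQf
import Groth.Agent.ASp.FibreDimSp
import Groth.Agent.ASp.CellExist
import Groth.Agent.ASp.QcMonoPoint
import Groth.Agent.EtaleSplit.Nbhd
import Groth.Agent.EtaleSplit.HenselSplit
/-!
Etale locally on the target finitely many quasi-finite points split off in a finite part.
-/

set_option autoImplicit false
set_option backward.isDefEq.respectTransparency false
set_option linter.style.haveILetI false

universe u

open CategoryTheory CategoryTheory.Limits AlgebraicGeometry Opposite TopologicalSpace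

namespace Groth.Agent.ASp

open _root_.AlgSp

variable {S : Scheme.{u}}

/-- A fibre of a quasi-compact morphism has finitely many quasi-finite points. -/
theorem finite_qf_fibre {U B : Scheme.{u}} (g : U ⟶ B) [QuasiCompact g] [LocallyOfFiniteType g] (s : ↥B) :
    {u : ↥U | g u = s ∧ g.QuasiFiniteAt u}.Finite := by
  haveI : LocallyOfFiniteType (g.fiberToSpecResidueField s) := MorphismProperty.pullback_snd _ _ inferInstance
  haveI : IsLocallyNoetherian (g.fiber s) := LocallyOfFiniteType.isLocallyNoetherian (g.fiberToSpecResidueField s)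
  haveI : QuasiCompact (g.fiberToSpecResidueField s) := MorphismProperty.pullback_snd _ _ inferInstance
  haveI : CompactSpace ↥(g.fiber s) := (quasiCompact_iff_compactSpace (g.fiberToSpecResidueField s)).1 inferInstance
  haveI : IsNoetherian (g.fiber s) := { }
  let D : Set ↥(g.fiber s) := {z | IsOpen ({z} : Set ↥(g.fiber s))}
  haveI : DiscreteTopology ↥D := discreteTopology_iff_isOpen_singleton.2 fun z =>
    isOpen_induced_iff.2 ⟨{z.1}, z.2, by ext w; simp [Subtype.ext_iff]⟩
  haveI : CompactSpace ↥D := isCompact_iff_compactSpace.1 (NoetherianSpace.isCompact D)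
  have hD : D.Finite := Set.finite_coe_iff.1 finite_of_compact_of_discrete
  refine (hD.image (g.fiberι s)).subset ?_
  rintro u ⟨rfl, hu⟩
  exact ⟨g.asFiber u, Scheme.Hom.quasiFiniteAt_iff_isOpen_singleton_asFiber.1 hu, g.fiberι_asFiber u⟩

variable {X Y X₀ : Space S} {f : X ⟶ Y} {j₀ : X₀ ⟶ X} {B W : Over S} {b : (yon S).obj B ⟶ Y.obj}
  {w₁ : (yon S).obj W ⟶ X₀.obj} {g : W ⟶ B}

theorem finite_over_of_qc (hf : LocP @LocallyOfFiniteType f.hom) (hq : IsQuasiCompactMor f.hom) [IsAffine B.left]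
    (hb : RepWith @Etale b) (hj₀ : RepWith @IsOpenImmersion j₀.hom)
    (hmem : ∀ x, x ∈ Set.range (Points.map j₀.hom) ↔ IsQfNbhd f.hom x)
    (sq₀ : IsPullback w₁ ((yon S).map g) (j₀ ≫ f).hom b) (s : ↥B.left) : {z : ↥W.left | g.left z = s}.Finite := by
  obtain ⟨D, hD⟩ := FibreChart.exists_affine f b hq
  haveI := hD
  haveI := D.lft_g hf
  haveI : QuasiCompact D.g.left := (quasiCompact_iff_compactSpace D.g.left).2 inferInstance
  have sqF := IsPullback.of_hasPullback f.hom b
  let m : (yon S).obj W ⟶ pullback f.hom b := sqF.lift (w₁ ≫ j₀.hom) ((yon S).map g)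
    (by rw [Category.assoc]; exact sq₀.w)
  have hm : RepWith @IsOpenImmersion m := by
    refine repWith_of_isPullback (IsPullback.of_bot ?_ (sqF.lift_fst _ _ _).symm sqF) hj₀
    rw [sqF.lift_snd]
    exact sq₀
  have sqU := hm.1.isPullback D.a
  let R := hm.1.pullback D.a
  haveI : IsOpenImmersion (hm.1.snd D.a).left := hm.2 _ _ _ sqU
  obtain ⟨ζ, hζ⟩ := (yon S).map_surjective (hm.1.fst D.a)
  rw [← hζ] at sqU
  have hfin := (finite_qf_fibre D.g.left s).preimage (hm.1.snd D.a).left.isOpenEmbedding.injective.injOn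
  refine (hfin.image ζ.left).subset fun z hz => ?_
  obtain ⟨u, hu⟩ := surjective_ofPt D.has (Points.ofPt m z)
  obtain ⟨r, hr1, hr2⟩ := points_exists_of_isPullback sqU (Points.ofScheme W z) (Points.ofScheme D.U u)
    (by rw [← Points.ofPt_eq_map_ofScheme, ← Points.ofPt_eq_map_ofScheme, hu])
  obtain ⟨r, rfl⟩ := (Points.schemeHomeo _).surjective r
  rw [Points.map_yon_map_apply] at hr1 hr2
  have hr1 : ζ.left r = z := (Points.schemeHomeo W).injective hr1
  have hr2 : (hm.1.snd D.a).left r = u := (Points.schemeHomeo D.U).injective hr2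
  refine ⟨r, ⟨?_, ?_⟩, hr1⟩
  · rw [hr2, ← hz]
    have h := congrArg (Points.map (pullback.snd f.hom b)) hu
    rw [Points.map_ofPt, Points.map_ofPt, D.hg, sqF.lift_snd, Points.ofPt_eq_map_ofScheme,
      Points.ofPt_eq_map_ofScheme] at h
    exact (Points.schemeHomeo B).injective
      (((Points.map_yon_map_apply D.g u).symm.trans h).trans (Points.map_yon_map_apply g z))
  · rw [hr2]
    have ha : RepWith @Etale (D.a ≫ pullback.fst f.hom b) :=
      repWith_comp D.ha (repWith_of_isPullback sqF.flip hb)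
    refine (isQfNbhd_iff_of_chart hf ha hb (by rw [Category.assoc, pullback.condition, reassoc_of% D.hg]) u).1
      ((hmem _).1 ?_)
    rw [← Points.map_ofPt, hu, Points.map_ofPt, sqF.lift_fst, ← Points.map_ofPt]
    exact ⟨_, rfl⟩

theorem finite_over_of_decent (hY : IsDecent Y.obj) (hb : RepWith @Etale b) (hrep : Representable (j₀ ≫ f).hom)
    (hlqf : LocP (@LocallyQuasiFinite ⊓ @LocallyOfFiniteType) (j₀ ≫ f).hom)
    (sq₀ : IsPullback w₁ ((yon S).map g) (j₀ ≫ f).hom b) (s : ↥B.left) (x₀ : Points X₀.obj) :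
    {z : ↥W.left | g.left z = s ∧ Points.ofPt w₁ z = x₀}.Finite := by
  by_cases hne : ∃ z : ↥W.left, g.left z = s ∧ Points.ofPt w₁ z = x₀
  swap
  · exact Set.finite_empty.subset fun z hz => hne ⟨z, hz⟩
  obtain ⟨z₀, hz₀s, hz₀x⟩ := hne
  obtain ⟨p, hp, hmono, hpq⟩ := hY (Points.ofPt b s)
  haveI := hmono
  have sqE := hpq.1.isPullback b
  let E := hpq.1.pullback b
  let ε := hpq.1.snd b
  haveI : QuasiCompact ε.left := hpq.2 _ _ _ sqE
  haveI : Mono ((yon S).map ε) :=
    MorphismProperty.of_isPullback (P := MorphismProperty.monomorphisms (Sp S)) sqE ‹_›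
  haveI : Mono ε := (yon S).mono_of_mono_map ‹_›
  haveI : Mono ε.left := Over.mono_left_of_mono ε
  obtain ⟨eK, heK⟩ := (yon S).map_surjective (hpq.1.fst b)
  rw [← heK] at sqE
  have sqK := hrep.isPullback p.toHom
  let W₀ := hrep.pullback p.toHom
  let k₀ := hrep.snd p.toHom
  haveI : LocallyQuasiFinite k₀.left := ((repWith_of_locP Y.2 hrep hlqf).2 _ _ _ sqK).1
  haveI : LocallyOfFiniteType k₀.left := ((repWith_of_locP Y.2 hrep hlqf).2 _ _ _ sqK).2
  haveI : Subsingleton ↥p.pt.left := inferInstanceAs (Subsingleton ↥(Spec (CommRingCat.of p.K)))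
  haveI : DiscreteTopology ↥W₀.left := isDiscrete_univ_iff.1
    ((k₀.left.isDiscrete_preimage_singleton (IsLocalRing.closedPoint p.K)).mono
      fun z _ => Subsingleton.elim (α := ↥p.pt.left) _ _)
  obtain ⟨w₀, hw₀, -⟩ := points_exists_of_isPullback sqK x₀
    (Points.ofScheme p.pt (IsLocalRing.closedPoint p.K))
    (by rw [← hz₀x, Points.map_ofPt, sq₀.w, ofPt_yon_map_comp, hz₀s, ← hp, ← Points.ofPt_eq_map_ofScheme,
      Points.ofPt_toHom])
  obtain ⟨w₀, rfl⟩ := (Points.schemeHomeo _).surjective w₀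
  let O : W₀.left.Opens := ⟨{w₀}, isOpen_discrete _⟩
  haveI : CompactSpace ↥(openOver O).left := isCompact_iff_compactSpace.1 (isCompact_singleton (x := w₀))
  let ω : (yon S).obj (openOver O) ⟶ X₀.obj := (yon S).map (openInc O) ≫ hrep.fst p.toHom
  let kO : openOver O ⟶ p.pt := openInc O ≫ k₀
  haveI : LocallyQuasiFinite kO.left := inferInstanceAs (LocallyQuasiFinite (O.ι ≫ k₀.left))
  haveI : QuasiCompact kO.left := by
    haveI : IsAffine p.pt.left := inferInstanceAs (IsAffine (Spec (CommRingCat.of p.K)))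
    exact (quasiCompact_iff_compactSpace kO.left).2 inferInstance
  have hw₁ : RepWith @Etale w₁ := repWith_of_isPullback sq₀.flip hb
  have sqR := hw₁.1.isPullback ω
  let R := hw₁.1.pullback ω
  let ρ := hw₁.1.snd ω
  obtain ⟨ζ, hζ⟩ := (yon S).map_surjective (hw₁.1.fst ω)
  rw [← hζ] at sqR
  have hωw : ω ≫ (j₀ ≫ f).hom = (yon S).map kO ≫ p.toHom := by
    show ((yon S).map (openInc O) ≫ hrep.fst p.toHom) ≫ (j₀ ≫ f).hom = _
    rw [Category.assoc, sqK.w, ← Functor.map_comp_assoc]
  obtain ⟨φ, hφ⟩ := (yon S).map_surjective (sqE.lift ((yon S).map (ρ ≫ kO)) ((yon S).map (ζ ≫ g)) (by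
    rw [Functor.map_comp, Category.assoc, ← hωw, ← reassoc_of% sqR.w, Functor.map_comp, Category.assoc, sq₀.w]))
  have hφ1 : φ ≫ eK = ρ ≫ kO := (yon S).map_injective (by rw [(yon S).map_comp, hφ, sqE.lift_fst])
  have hφ2 : φ ≫ ε = ζ ≫ g := (yon S).map_injective (by rw [(yon S).map_comp, hφ, sqE.lift_snd])
  have big : IsPullback ((yon S).map ζ ≫ (yon S).map g) ((yon S).map ρ) b ((yon S).map kO ≫ p.toHom) := by
    rw [← hωw]
    exact sqR.paste_horiz sq₀.flip |>.flip |>.flip
  have sqφ : IsPullback φ ρ eK kO := by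
    refine IsPullback.of_map_of_faithful (yon S) (IsPullback.of_right ?_ ?_ sqE.flip)
    · rw [← Functor.map_comp, hφ2, Functor.map_comp]
      exact big
    · rw [← Functor.map_comp, hφ1, Functor.map_comp]
  haveI : LocallyQuasiFinite φ.left :=
    MorphismProperty.of_isPullback (P := @LocallyQuasiFinite) (isPullback_left sqφ).flip inferInstance
  haveI : QuasiCompact φ.left :=
    MorphismProperty.of_isPullback (P := @QuasiCompact) (isPullback_left sqφ).flip inferInstance
  have he : (ε.left ⁻¹' {s}).Finite :=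
    (Set.subsingleton_singleton (a := s)).preimage ε.left.injective |>.finite
  refine ((φ.left.finite_preimage he).image ζ.left).subset fun z ⟨hz1, hz2⟩ => ?_
  obtain ⟨r, hr1, hr2⟩ := points_exists_of_isPullback sqR (Points.ofScheme W z) (Points.ofScheme (openOver O) ⟨w₀, rfl⟩)
    (by rw [← Points.ofPt_eq_map_ofScheme, ← Points.ofPt_eq_map_ofScheme, hz2, ← hw₀, ofPt_yon_map_comp,
      Points.ofPt_eq_map_ofScheme]; rfl)
  obtain ⟨r, rfl⟩ := (Points.schemeHomeo _).surjective r
  rw [Points.map_yon_map_apply] at hr1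
  have hr1 : ζ.left r = z := (Points.schemeHomeo W).injective hr1
  refine ⟨r, ?_, hr1⟩
  show ε.left (φ.left r) = s
  rw [← hz1, ← hr1]
  exact congrArg (fun k : R ⟶ B => k.left r) hφ2

theorem exists_split_qf_many (f : X ⟶ Y) (y : Points Y.obj) (xs : Finset (Points X.obj))
    (hxs : ∀ x ∈ xs, Points.map f.hom x = y) (hf1 : LocP @LocallyOfFiniteType f.hom)
    (hf2 : IsSeparatedMor f.hom) (hf3 : ∀ x ∈ xs, IsQfNbhd f.hom x)
    (hf4 : IsQuasiCompactMor f.hom ∨ IsDecent Y.obj) :
    ∃ (U : Space S) (a : U ⟶ Y) (u : Points U.obj), IsEtaleMor a.hom ∧ Points.map a.hom u = y ∧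
      ∀ (P : Space S) (prX : P ⟶ X) (prU : P ⟶ U), IsPullback prX.hom prU.hom f.hom a.hom →
        ∃ (V : Space S) (jV : V ⟶ P), RepWith @IsOpenImmersion jV.hom ∧ RepWith @IsClosedImmersion jV.hom ∧
          IsFiniteMor (jV ≫ prU).hom ∧
          (∀ v : Points V.obj, Points.map (jV ≫ prU).hom v = u → Points.map (jV ≫ prX).hom v ∈ xs) ∧
          ∀ w : Points P.obj, w ∉ Set.range (Points.map jV.hom) → Points.map prU.hom w = u →
            Points.map prX.hom w ∉ xs := by
  obtain ⟨X₀, j₀, hj₀, hlqf, hmem⟩ := exists_lqf_locus f hf1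
  haveI : Mono j₀.hom := mono_of_openImm hj₀
  have hsep₀ : IsSeparatedMor (j₀ ≫ f).hom :=
    Groth.Agent.ASt.repWith_diagonal_comp (repWith_mono (P := MorphismProperty.isomorphisms Scheme.{u}) (Q := @IsClosedImmersion) (fun _ _ k (hk : IsIso k) => inferInstance) (repWith_of_isIso (pullback.diagonal j₀.hom))) hf2
  have hrep : Representable (j₀ ≫ f).hom := representable_of_sep_lqf X₀.2 Y.2 _ hlqf hsep₀
  obtain ⟨B', p, hp, hps⟩ := Y.2.atlas
  obtain ⟨s', hs'⟩ := surjective_ofPt hps y
  obtain ⟨A, hA, hsA, -⟩ := exists_isAffineOpen_mem_and_subset (x := s') (U := (⊤ : B'.left.Opens)) trivial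
  let B := openOver A
  haveI : IsAffine B.left := hA
  let b := (yon S).map (openInc A) ≫ p
  have hb : RepWith @Etale b := repWith_comp (repWith_yon_map (inferInstanceAs (Etale A.ι))) hp
  let s : ↥B.left := ⟨s', hsA⟩
  have hs : Points.ofPt b s = y := (ofPt_yon_map_comp _ _ _).trans hs'
  have sq₀ := hrep.isPullback b
  let g := hrep.snd b
  haveI : LocallyQuasiFinite g.left := ((repWith_of_locP Y.2 hrep hlqf).2 _ _ _ sq₀).1
  haveI : LocallyOfFiniteType g.left := ((repWith_of_locP Y.2 hrep hlqf).2 _ _ _ sq₀).2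
  haveI : IsSeparated g.left := ((isSeparatedMor_iff hrep).1 hsep₀).2 _ _ _ sq₀
  let Ξ : Set ↥(hrep.pullback b).left := {z | g.left z = s ∧ Points.ofPt (hrep.fst b ≫ j₀.hom) z ∈ xs}
  have hΞ : Ξ.Finite := by
    rcases hf4 with hq | hdec
    · exact (finite_over_of_qc hf1 hq hb hj₀ hmem sq₀ s).subset fun z hz => hz.1
    · have hinj : Function.Injective (Points.map j₀.hom) := injective_points_map_of_mono j₀.hom
      refine (((xs.finite_toSet.preimage hinj.injOn)).biUnion
        fun x₀ _ => finite_over_of_decent hdec hb hrep hlqf sq₀ s x₀).subset fun z hz => ?_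
      refine Set.mem_biUnion (x := Points.ofPt (hrep.fst b) z) ?_ ⟨hz.1, rfl⟩
      show Points.map j₀.hom (Points.ofPt (hrep.fst b) z) ∈ xs
      rw [Points.map_ofPt]
      exact hz.2
  haveI : Finite ↥Ξ := hΞ.to_subtype
  obtain ⟨n, ⟨en⟩⟩ := Finite.exists_equiv_fin ↥Ξ
  obtain ⟨T, gT, t₀, hT, Vs, vs, hvs⟩ := EtaleSplit.exists_nbhd_finite_parts g.left s
    (fun i : Fin n => (en.symm i).1) (fun i => (en.symm i).2.1) (fun i => g.left.quasiFiniteAt _)
  haveI := hT.etale
  let Vo : (pullback g.left gT).Opens := Finset.univ.sup Vs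
  have hfin : IsFinite (Vo.ι ≫ pullback.snd g.left gT) :=
    Cell.isFinite_finset_sup (pullback.snd g.left gT) Vs (fun i => (hvs i).2.1) Finset.univ
  have hout : ∀ w, pullback.snd g.left gT w = t₀ → pullback.fst g.left gT w ∈ Ξ → w ∈ Vo := fun w hw hwΞ => by
    have h1 := hvs (en ⟨_, hwΞ⟩)
    rw [show w = vs (en ⟨_, hwΞ⟩) from EtaleSplit.eq_of_fst_snd g.left gT t₀ hT.residue_bijective w _
      (by rw [h1.2.2.2.2.1, Equiv.symm_apply_apply]) hw h1.2.2.1]
    exact (Finset.le_sup (f := Vs) (Finset.mem_univ _)) h1.1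
  have hin : ∀ w ∈ Vo, pullback.snd g.left gT w = t₀ → pullback.fst g.left gT w ∈ Ξ := fun w hw hwt => by
    have hw' : w ∈ ⨆ i, Vs i := by rw [← Finset.sup_univ_eq_iSup]; exact hw
    obtain ⟨i, hi⟩ := Opens.mem_iSup.1 hw'
    obtain ⟨-, -, -, huniq, hfst, -⟩ := hvs i
    rw [huniq w hi hwt, hfst]
    exact (en.symm i).2
  let TS : Over S := Over.mk (gT ≫ B.hom)
  let t : TS ⟶ B := Over.homMk gT rfl
  let a : (⟨(yon S).obj TS, IsAlgSpace.yon_obj TS⟩ : Space S) ⟶ Y := ObjectProperty.homMk ((yon S).map t ≫ b)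
  let hom₁ : pullback g.left gT ⟶ S := pullback.snd g.left gT ≫ TS.hom
  let Q : Over S := Over.mk hom₁
  let q₂ : Q ⟶ TS := Over.homMk (pullback.snd g.left gT) rfl
  let q₁ : Q ⟶ hrep.pullback b := Over.homMk (pullback.fst g.left gT) (by
    show _ ≫ _ = pullback.snd g.left gT ≫ gT ≫ B.hom
    rw [← Over.w g, pullback.condition_assoc])
  have sqQ : IsPullback ((yon S).map q₁) ((yon S).map q₂) ((yon S).map g) ((yon S).map t) :=
    isPullback_yon_map (IsPullback.of_map (Over.forget S) (Over.OverMorphism.ext pullback.condition)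
      (IsPullback.of_hasPullback g.left gT))
  have big := sqQ.paste_horiz sq₀
  refine ⟨_, a, Points.ofScheme TS t₀,
    fun U φ hφ => repWith_comp hφ (repWith_comp (repWith_yon_map hT.etale) hb), ?_, fun P prX prU hP => ?_⟩
  · show Points.map ((yon S).map t ≫ b) _ = _
    rw [← Points.ofPt_eq_map_ofScheme, ofPt_yon_map_comp]
    exact (congrArg (Points.ofPt b) hT.base_eq).trans hs
  let m := hP.lift (((yon S).map q₁ ≫ hrep.fst b) ≫ j₀.hom) ((yon S).map q₂)
    (by rw [Category.assoc]; exact big.w)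
  have sqm : IsPullback ((yon S).map q₁ ≫ hrep.fst b) m j₀.hom prX.hom := by
    refine IsPullback.of_bot ?_ (hP.lift_fst _ _ _).symm hP
    rw [hP.lift_snd]
    exact big
  have hm : RepWith @IsOpenImmersion m := repWith_of_isPullback sqm hj₀
  have hmX : ∀ q, Points.map prX.hom (Points.ofPt m q) = Points.ofPt (hrep.fst b ≫ j₀.hom) (q₁.left q) := fun q => by
    rw [Points.map_ofPt, hP.lift_fst, Category.assoc, ofPt_yon_map_comp]
  have hmU : ∀ q, Points.map prU.hom (Points.ofPt m q) = Points.ofScheme TS (q₂.left q) := fun q => by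
    rw [Points.map_ofPt, hP.lift_snd, Points.ofPt_eq_map_ofScheme]
    exact Points.map_yon_map_apply q₂ q
  let VS : Over S := openOver (V := Q) Vo
  let jV : (⟨(yon S).obj VS, IsAlgSpace.yon_obj VS⟩ : Space S) ⟶ P :=
    ObjectProperty.homMk ((yon S).map (openInc (V := Q) Vo) ≫ m)
  have hjVq : ∀ v, Points.map jV.hom (Points.ofScheme VS v) = Points.ofPt m (Vo.ι v) := fun v => by
    show Points.map ((yon S).map (openInc (V := Q) Vo) ≫ m) _ = _
    rw [← Points.ofPt_eq_map_ofScheme, ofPt_yon_map_comp]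
    rfl
  have hjV : RepWith @IsOpenImmersion jV.hom :=
    repWith_comp (repWith_yon_map (inferInstance : IsOpenImmersion Vo.ι)) hm
  have hfinV : IsFiniteMor (jV ≫ prU).hom := by
    refine (isFiniteMor_iff (IsAlgSpace.yon_obj VS) (IsAlgSpace.yon_obj TS)).2 ?_
    show RepWith @IsFinite (((yon S).map (openInc (V := Q) Vo) ≫ m) ≫ prU.hom)
    rw [Category.assoc, hP.lift_snd, ← (yon S).map_comp]
    exact repWith_yon_map hfin
  have hsepP : IsSeparatedMor prU.hom := by
    obtain ⟨s', h1, -⟩ := isPullback_diagonal_baseChange hP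
    exact repWith_of_isPullback h1 hf2
  have hprop : IsProperMor (jV.hom ≫ prU.hom) := isProperMor_of_repWith
    (repWith_mono (P := @IsFinite) (Q := @IsProper) (fun _ _ k (_ : IsFinite k) => inferInstance)
      ((isFiniteMor_iff (IsAlgSpace.yon_obj VS) (IsAlgSpace.yon_obj TS)).1 hfinV))
  refine ⟨_, jV, hjV, isClosedImmersion_of_open_univClosed hjV
    (univClosed_of_comp_separated (IsAlgSpace.yon_obj VS) P.2 (IsAlgSpace.yon_obj TS) jV.hom prU.hom hsepP
      hprop.2.2), hfinV, fun v hv => ?_, fun w hw hwu hwx => hw ?_⟩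
  · obtain ⟨v, rfl⟩ := (Points.schemeHomeo VS).surjective v
    change Points.map (jV.hom ≫ prU.hom) _ = _ at hv
    show Points.map (jV.hom ≫ prX.hom) _ ∈ xs
    rw [Points.map_comp] at hv ⊢
    change Points.map prU.hom (Points.map jV.hom (Points.ofScheme VS v)) = _ at hv
    show Points.map prX.hom (Points.map jV.hom (Points.ofScheme VS v)) ∈ xs
    rw [hjVq, hmU] at hv
    rw [hjVq, hmX]
    exact (hin _ v.2 ((Points.schemeHomeo TS).injective hv)).2
  · obtain ⟨x₀, hx₀⟩ := (hmem _).2 (hf3 _ hwx)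
    obtain ⟨q, -, hq⟩ := points_exists_of_isPullback sqm x₀ w hx₀
    obtain ⟨q, rfl⟩ := (Points.schemeHomeo _).surjective q
    have hq : Points.ofPt m q = w := (Points.ofPt_eq_map_ofScheme m q).trans hq
    rw [← hq, hmX] at hwx
    rw [← hq, hmU] at hwu
    have hqt : pullback.snd g.left gT q = t₀ := (Points.schemeHomeo TS).injective hwu
    have hqs : g.left (q₁.left q) = s := by
      have h := congr($(pullback.condition (f := g.left) (g := gT)) q)
      refine h.trans ?_
      show gT (pullback.snd g.left gT q) = s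
      rw [hqt]
      exact hT.base_eq
    exact ⟨Points.ofScheme VS ⟨q, hout q hqt ⟨hqs, hwx⟩⟩, (hjVq _).trans hq⟩

end Groth.Agent.ASp
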