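import Groth.Agent.ASp.ThickLift
import Groth.Prelude.Def_AlgSp3
/-!
Square zero closed immersions of affine schemes are first order thickenings; universal thickenings
are tested on affines.
-/

set_option autoImplicit false
set_option backward.isDefEq.respectTransparency false
set_option backward.isDefEq.respectTransparency.types false

universe u

open CategoryTheory CategoryTheory.Limits AlgebraicGeometry Opposite

namespace Groth.Agent.Inf

open _root_.AlgSp Groth.Agent.ASp

variable {S : Scheme.{u}}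

theorem sqZero_SpecMap_iso {E C : CommRingCat.{u}} (π : E ⟶ C) (hπ : RingHom.ker π.hom ^ 2 = ⊥)
    {V : Scheme.{u}} [IsAffine V] (e : Spec E ⟶ V) [IsIso e] : sqZero (Spec.map π ≫ e) := by
  show (Spec.map π ≫ e).ker * (Spec.map π ≫ e).ker = ⊥
  refine Scheme.IdealSheafData.ext_of_isAffine ?_
  simp only [Scheme.IdealSheafData.ideal_mul, Pi.mul_apply, Scheme.Hom.ker_apply]
  refine le_antisymm ?_ bot_le
  show RingHom.ker ((Spec.map π ≫ e).appTop).hom * RingHom.ker ((Spec.map π ≫ e).appTop).hom ≤ ⊥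
  rw [Ideal.mul_le]
  intro x hx y hy
  have key : ∀ z, z ∈ RingHom.ker ((Spec.map π ≫ e).appTop).hom →
      (Scheme.ΓSpecIso E).hom (e.appTop z) ∈ RingHom.ker π.hom := fun z hz => by
    rw [RingHom.mem_ker] at hz ⊢
    have := congrArg (fun φ => φ.hom (e.appTop z)) (Scheme.ΓSpecIso_naturality π)
    simp only [CommRingCat.hom_comp, RingHom.comp_apply] at this
    rw [← this, show ((Spec.map π).appTop).hom (e.appTop z) = 0 from by
      simpa [Scheme.Hom.comp_appTop] using hz]
    exact map_zero _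
  have h2 : (Scheme.ΓSpecIso E).hom (e.appTop x) * (Scheme.ΓSpecIso E).hom (e.appTop y) ∈
      RingHom.ker π.hom ^ 2 := by
    rw [pow_two]; exact Ideal.mul_mem_mul (key x hx) (key y hy)
  rw [hπ, Ideal.mem_bot, ← map_mul, ← map_mul] at h2
  rw [Ideal.mem_bot]
  have hi : Function.Injective (e.appTop ≫ (Scheme.ΓSpecIso E).hom).hom :=
    (ConcreteCategory.bijective_of_isIso (e.appTop ≫ (Scheme.ΓSpecIso E).hom)).1
  exact hi (h2.trans (map_zero (e.appTop ≫ (Scheme.ΓSpecIso E).hom).hom).symm)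

theorem surjective_qI {A : Type u} [CommRing A] {I : Ideal A} (hI : I ^ 2 = ⊥)
    (str : Spec (CommRingCat.of A) ⟶ S) : Surjective (qI I str).left := by
  refine ⟨fun x => ?_⟩
  have hx : I ≤ x.asIdeal := by
    rw [← x.2.radical]
    intro a ha
    exact ⟨2, by
      have : a ^ 2 ∈ I ^ 2 := Ideal.pow_mem_pow ha 2
      rw [hI, Ideal.mem_bot] at this
      simp [this]⟩
  have : x ∈ Set.range (PrimeSpectrum.comap (Ideal.Quotient.mk I)) := by
    rw [range_comap_of_surjective _ _ Ideal.Quotient.mk_surjective, Ideal.mk_ker]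
    exact hx
  exact this

/-- A square zero ideal of a ring gives a first order thickening. -/
theorem isFOThickMor_qI {A : Type u} [CommRing A] {I : Ideal A} (hI : I ^ 2 = ⊥)
    (str : Spec (CommRingCat.of A) ⟶ S) : IsFOThickMor ((yon S).map (qI I str)) := by
  refine ⟨(isThickMor_yon_map_iff _).2
    ⟨IsClosedImmersion.spec_of_surjective _ Ideal.Quotient.mk_surjective, surjective_qI hI str⟩,
    fun V W b fst snd hV hb sq => ?_⟩
  obtain ⟨g, rfl⟩ := (yon S).map_surjective b
  obtain ⟨fst, rfl⟩ := (yon S).map_surjective fst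
  have sq' := isPullback_left (isPullback_of_yon_map sq)
  obtain ⟨φ, hφ⟩ := Spec.map_surjective (V.left.isoSpec.inv ≫ g.left)
  have hmod := (isPullback_cc0 φ.hom I str).flip
  have hg : V.left.isoSpec.hom ≫ (cc φ.hom str).left = g.left := by
    show _ ≫ Spec.map φ = _
    rw [hφ, Iso.hom_inv_id_assoc]
  have hcomp : IsPullback (fst.left) (snd.left ≫ V.left.isoSpec.hom) (qI I str).left (cc φ.hom str).left := by
    have h := sq'.paste_vert (IsPullback.of_vert_isIso (fst := g.left) (snd := V.left.isoSpec.hom)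
      (f := 𝟙 _) (g := (cc φ.hom str).left) ⟨by rw [Category.comp_id, hg]⟩)
    simpa using h
  let ι := hcomp.isoIsPullback _ _ hmod
  have e1 : snd.left = ι.hom ≫ (qI (I.map φ.hom) (strR φ.hom str)).left ≫ V.left.isoSpec.inv := by
    rw [← Category.assoc, hcomp.isoIsPullback_hom_snd _ _ hmod, Category.assoc, Iso.hom_inv_id,
      Category.comp_id]
  have h3 := sqZero_SpecMap_iso (CommRingCat.ofHom (Ideal.Quotient.mk (I.map φ.hom)))
    (by rw [CommRingCat.hom_ofHom, Ideal.mk_ker, map_sq_zero φ.hom hI]) V.left.isoSpec.inv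
  show snd.left.ker * snd.left.ker = ⊥
  rw [e1, Scheme.Hom.ker_comp_of_isIso]
  exact h3

/-- First order thickenings pull back along etale morphisms. -/
theorem isFOThickMor_of_isPullback_etale {F G F' G' : Sp S} {i : F ⟶ G} {i' : F' ⟶ G'} {e : F' ⟶ F}
    {e' : G' ⟶ G} (sq : IsPullback e i' i e') (hi : IsFOThickMor i) (he' : IsEtaleMor e') :
    IsFOThickMor i' :=
  ⟨repWith_of_isPullback sq hi.1, fun _ _ b _ _ hV hb sq' =>
    hi.2 (b ≫ e') _ _ hV (he' b hb) (sq'.paste_horiz sq)⟩

theorem affineUniq_of_formallyUnramified {T T' X Y : Sp S} {j : T ⟶ T'} {f : X ⟶ Y}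
    (hf : IsFormallyUnramifiedMor f) {a : T ⟶ X} {b : T' ⟶ Y} (w : a ≫ f = j ≫ b) :
    AffineUniq j f a b := fun A _ I hI str t₀ t' e =>
  hf { A := A, I := I, sq_zero := hI, str := str, top := t₀ ≫ a, bot := t' ≫ b,
       comm := (Category.assoc _ _ _).trans (((congrArg (t₀ ≫ ·) w).trans (Category.assoc _ _ _).symm).trans
         ((congrArg (· ≫ b) e).trans (Category.assoc _ _ _))) }

theorem affineLifts_of_formallyEtale {T T' X Y : Sp S} {j : T ⟶ T'} {f : X ⟶ Y}
    (hf : IsFormallyEtaleMor f) {a : T ⟶ X} {b : T' ⟶ Y} (w : a ≫ f = j ≫ b) :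
    AffineLifts j f a b := fun A _ I hI str t₀ t' e =>
  hf { A := A, I := I, sq_zero := hI, str := str, top := t₀ ≫ a, bot := t' ≫ b,
       comm := (Category.assoc _ _ _).trans (((congrArg (t₀ ≫ ·) w).trans (Category.assoc _ _ _).symm).trans
         ((congrArg (· ≫ b) e).trans (Category.assoc _ _ _))) }

/-- Unique lifting of a formally etale morphism along thickenings of algebraic spaces. -/
theorem existsUnique_of_formallyEtale {T T' X Y : Sp S} {j : T ⟶ T'} {f : X ⟶ Y} (hj : IsFOThickMor j)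
    (hT : IsAlgSpace T') (hf : IsFormallyEtaleMor f) {a : T ⟶ X} {b : T' ⟶ Y} (w : a ≫ f = j ≫ b) :
    ∃! l : T' ⟶ X, j ≫ l = a ∧ l ≫ f = b :=
  existsUnique_thick hj hT (affineLifts_of_formallyEtale hf w)

/-- Uniqueness of lifts of a formally unramified morphism along thickenings of algebraic spaces. -/
theorem hom_ext_of_formallyUnramified {T T' X Y : Sp S} {j : T ⟶ T'} {f : X ⟶ Y} (hj : IsFOThickMor j)
    (hT : IsAlgSpace T') (hf : IsFormallyUnramifiedMor f) {l l' : T' ⟶ X}
    (h1 : j ≫ l = j ≫ l') (h2 : l ≫ f = l' ≫ f) : l = l' :=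
  hom_ext_thick hj hT (affineUniq_of_formallyUnramified hf
    (a := j ≫ l) (b := l ≫ f) (Category.assoc _ _ _)) rfl rfl h1.symm h2.symm

/-- Universality of a first order thickening may be tested on affine schemes. -/
theorem isUnivFOThick_of_affine {Z Z' X : Sp S} {h : Z ⟶ X} {i : Z ⟶ Z'} {h' : Z' ⟶ X}
    (hi : IsFOThickMor i) (w : i ≫ h' = h)
    (H : ∀ (A : Type u) [CommRing A] (I : Ideal A), I ^ 2 = ⊥ →
      ∀ (str : Spec (CommRingCat.of A) ⟶ S) (a : (yon S).obj (T0 I str) ⟶ Z) (b : (yon S).obj (TT str) ⟶ X),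
        (yon S).map (qI I str) ≫ b = a ≫ h →
        ∃! a' : (yon S).obj (TT str) ⟶ Z', (yon S).map (qI I str) ≫ a' = a ≫ i ∧ a' ≫ h' = b) :
    IsUnivFOThick h i h' :=
  ⟨hi, w, fun T T' _ hT' j a b hj e => existsUnique_thick hj hT' fun A _ I hI str t₀ t' et => by
    have := H A I hI str (t₀ ≫ a) (t' ≫ b) (by rw [← reassoc_of% et, e, Category.assoc])
    simpa only [Category.assoc] using this⟩

end Groth.Agent.Inf
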