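import Groth.Agent.ASp.ThickBase
/-!
Higher order thickenings of algebraic spaces pull back along arbitrary morphisms.
-/

set_option autoImplicit false
set_option backward.isDefEq.respectTransparency false
set_option backward.isDefEq.respectTransparency.types false

universe u

open CategoryTheory CategoryTheory.Limits AlgebraicGeometry Opposite

namespace Groth.Agent.Inf

open _root_.AlgSp Groth.Agent.ASp

variable {S : Scheme.{u}}

/-- A square zero closed immersion into an affine scheme is `Spec (A ⧸ I) ⟶ Spec A`. -/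
theorem exists_model_pow {n : ℕ} {V W : Over S} [IsAffine V.left] (g : W ⟶ V) (hc : IsClosedImmersion g.left)
    (hsq : powZero n g.left) :
    ∃ (A : Type u) (_ : CommRing A) (I : Ideal A) (str : Spec (CommRingCat.of A) ⟶ S) (_ : I ^ (n + 1) = ⊥)
      (e : TT str ≅ V) (e₀ : T0 I str ≅ W), e₀.hom ≫ g = qI I str ≫ e.hom := by
  obtain ⟨haff, hsurj⟩ := IsClosedImmersion.isAffine_surjective_of_isAffine g.left
  have hI : RingHom.ker g.left.appTop.hom ^ (n + 1) = ⊥ := by
    have := congrArg (fun K : Scheme.IdealSheafData V.left => K.ideal ⟨⊤, isAffineOpen_top _⟩) hsq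
    simp only [Scheme.IdealSheafData.ideal_pow, Pi.pow_apply, Scheme.Hom.ker_apply] at this
    exact this
  let ψ : Γ(W.left, ⊤) ≅ CommRingCat.of (Γ(V.left, ⊤) ⧸ RingHom.ker g.left.appTop.hom) :=
    ((RingHom.quotientKerEquivOfSurjective hsurj).symm).toCommRingCatIso
  have hψ : CommRingCat.ofHom (Ideal.Quotient.mk (RingHom.ker g.left.appTop.hom)) ≫ ψ.inv =
      g.left.appTop :=
    CommRingCat.hom_ext (RingHom.ext fun x => rfl)
  have key : ((Scheme.Spec.mapIso ψ.op) ≪≫ W.left.isoSpec.symm).hom ≫ g.left =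
      Spec.map (CommRingCat.ofHom (Ideal.Quotient.mk (RingHom.ker g.left.appTop.hom))) ≫
        V.left.isoSpec.inv := by
    rw [Iso.trans_hom, Iso.symm_hom, Category.assoc, ← Scheme.isoSpec_inv_naturality,
      ← Category.assoc]
    congr 1
    refine (congrArg ((Scheme.Spec.mapIso ψ.op).hom ≫ Spec.map ·) hψ.symm).trans ?_
    show Spec.map ψ.hom ≫ Spec.map (_ ≫ ψ.inv) = _
    rw [← Spec.map_comp, Category.assoc, ψ.inv_hom_id, Category.comp_id]
  refine ⟨Γ(V.left, ⊤), inferInstance, RingHom.ker g.left.appTop.hom, V.left.isoSpec.inv ≫ V.hom, hI,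
    Over.isoMk V.left.isoSpec.symm rfl, Over.isoMk ((Scheme.Spec.mapIso ψ.op) ≪≫ W.left.isoSpec.symm)
      ?_, Over.OverMorphism.ext ?_⟩
  · show _ ≫ W.hom = _ ≫ V.left.isoSpec.inv ≫ V.hom
    rw [← Over.w g, ← Category.assoc, key, Category.assoc]
  · exact key

theorem exists_chart_model_pow {n : ℕ} {T T' : Sp S} {j : T ⟶ T'} (hj : IsNThickMor n j) {V : Over S} [IsAffine V.left] {q : (yon S).obj V ⟶ T'}
    (hq : RepWith @Etale q) :
    ∃ (A : Type u) (_ : CommRing A) (I : Ideal A) (str : Spec (CommRingCat.of A) ⟶ S) (_ : I ^ (n + 1) = ⊥)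
      (e : TT str ≅ V) (t₀ : (yon S).obj (T0 I str) ⟶ T),
      t₀ ≫ j = (yon S).map (qI I str ≫ e.hom) ≫ q ∧
      ∀ (Z : Over S) (z : Z ⟶ V) (t : (yon S).obj Z ⟶ T), t ≫ j = (yon S).map z ≫ q →
        ∃ z₀ : Z ⟶ T0 I str, z₀ ≫ qI I str ≫ e.hom = z ∧ (yon S).map z₀ ≫ t₀ = t := by
  obtain ⟨W, fst, snd, sq⟩ : ∃ (W : Over S) (fst : (yon S).obj W ⟶ T) (snd : W ⟶ V),
      IsPullback fst ((yon S).map snd) j q := ⟨_, _, _, hj.1.1.isPullback q⟩
  have hth : thick snd.left := hj.1.2 _ _ _ sq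
  obtain ⟨A, iA, I, str, hI, e, e₀, he⟩ :=
    exists_model_pow snd hth.1 (hj.2 q fst snd inferInstance hq sq)
  refine ⟨A, iA, I, str, hI, e, (yon S).map e₀.hom ≫ fst, ?_, fun Z z t e' => ?_⟩
  · rw [Category.assoc, sq.w, ← Functor.map_comp_assoc, he]
  · obtain ⟨w, hw⟩ := (yon S).map_surjective (sq.lift t ((yon S).map z) e')
    have hw1 : (yon S).map w ≫ fst = t := by rw [hw, sq.lift_fst]
    have hw2 : (yon S).map w ≫ (yon S).map snd = (yon S).map z := by rw [hw, sq.lift_snd]
    refine ⟨w ≫ e₀.inv, ?_, ?_⟩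
    · apply (yon S).map_injective
      rw [← hw2, ← Functor.map_comp, Category.assoc, ← he, Iso.inv_hom_id_assoc]
    · rw [← hw1, ← Functor.map_comp_assoc, Category.assoc, Iso.inv_hom_id, Category.comp_id]

theorem pow_eq_bot {n : ℕ} {F G : Sp S} {i : F ⟶ G} (hi : IsNThickMor n i) (hG : IsAlgSpace G)
    {A : Type u} [CommRing A] {K : Ideal A} {str : Spec (CommRingCat.of A) ⟶ S}
    (l : (yon S).obj (TT str) ⟶ G) {z : (yon S).obj (T0 K str) ⟶ F}
    (sq : IsPullback z ((yon S).map (qI K str)) i l) : K ^ (n + 1) = ⊥ := by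
  obtain ⟨U, p, hpe, hps⟩ := hG.atlas
  obtain ⟨M, m₁, m₂, sqM⟩ := exists_isPullback_yon hpe.1 l
  let P : U.left.affineCover.I₀ → Scheme.{u} := fun k => pullback m₁.left (U.left.affineCover.f k)
  let ι : Type u := Σ k : U.left.affineCover.I₀, (P k).affineCover.I₀
  let X : ι → Scheme.{u} := fun x => (P x.1).affineCover.X x.2
  let o : ∀ x : ι, X x ⟶ M.left := fun x =>
    (P x.1).affineCover.f x.2 ≫ pullback.fst m₁.left (U.left.affineCover.f x.1)
  haveI hoE : ∀ x, Etale (o x) := fun x =>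
    inferInstanceAs (Etale ((P x.1).affineCover.f x.2 ≫ pullback.fst m₁.left (U.left.affineCover.f x.1)))
  choose φ hφ using fun x : ι => Spec.map_surjective
    ((X x).isoSpec.inv ≫ o x ≫ m₂.left)
  haveI hm₂ : Etale m₂.left := hpe.2 _ _ _ sqM
  have hcc : ∀ x, Etale (cc (φ x).hom str).left := fun x => by
    show Etale (Spec.map (φ x))
    rw [hφ x]; infer_instance
  have hcov : ∀ t : ↥(TT str).left, ∃ x, t ∈ Set.range (cc (φ x).hom str).left := fun t => by
    obtain ⟨w, rfl⟩ := (hps.2 _ _ _ sqM : Surjective m₂.left).1 t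
    obtain ⟨w', hw'⟩ := U.left.affineCover.covers (m₁.left w)
    obtain ⟨v, hv⟩ : w ∈ Set.range (pullback.fst m₁.left (U.left.affineCover.f (U.left.affineCover.idx (m₁.left w)))) := by
      rw [Scheme.Pullback.range_fst]; exact ⟨w', hw'⟩
    obtain ⟨v', hv'⟩ := (P (U.left.affineCover.idx (m₁.left w))).affineCover.covers v
    refine ⟨⟨U.left.affineCover.idx (m₁.left w), (P _).affineCover.idx v⟩, ?_⟩
    refine ⟨(X _).isoSpec.hom v', ?_⟩
    show (Spec.map (φ _)) _ = _
    rw [hφ]
    simp only [Scheme.Hom.comp_apply, Scheme.hom_inv_apply]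
    show m₂.left ((pullback.fst m₁.left (U.left.affineCover.f (U.left.affineCover.idx (m₁.left w)))) ((P _).affineCover.f _ v')) = _
    rw [hv', hv]; rfl
  have key : ∀ x, ∀ a ∈ K ^ (n + 1), φ x a = 0 := fun x => by
    let V : Over S := Over.mk (U.left.affineCover.f x.1 ≫ U.hom)
    let c : V ⟶ U := Over.homMk (U.left.affineCover.f x.1) rfl
    haveI : IsAffine V.left := inferInstanceAs (IsAffine (U.left.affineCover.X x.1))
    have hq : RepWith @Etale ((yon S).map c ≫ p) :=
      repWith_comp (repWith_yon_map (P := @Etale) (g := c)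
        (inferInstanceAs (Etale (U.left.affineCover.f x.1)))) hpe
    obtain ⟨A₀, iA, J, str₀, hJ, e, t₀, ht₀, -⟩ := exists_chart_model_pow hi hq
    have hox : o x ≫ m₁.left = ((P x.1).affineCover.f x.2 ≫ pullback.snd _ _) ≫ U.left.affineCover.f x.1 := by
      simp only [o, Category.assoc, pullback.condition]
    let g : TT (strR (φ x).hom str) ⟶ M := Over.homMk ((X x).isoSpec.inv ≫ o x) (by
      show _ = Spec.map (φ x) ≫ str
      rw [hφ x, ← Over.w m₂]; simp)
    have hg : g ≫ m₂ = cc (φ x).hom str := Over.OverMorphism.ext (by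
      show _ = Spec.map (φ x)
      rw [hφ x]; simp [g])
    let v : TT (strR (φ x).hom str) ⟶ V := Over.homMk
      ((X x).isoSpec.inv ≫ (P x.1).affineCover.f x.2 ≫ pullback.snd _ _) (by
        rw [← Over.w g, ← Over.w m₁]
        show _ ≫ U.left.affineCover.f x.1 ≫ U.hom = ((X x).isoSpec.inv ≫ o x) ≫ m₁.left ≫ U.hom
        simp only [Category.assoc, reassoc_of% hox])
    have hv : v ≫ c = g ≫ m₁ := Over.OverMorphism.ext (by
      show (_ ≫ _ ≫ _) ≫ _ = ((X x).isoSpec.inv ≫ o x) ≫ m₁.left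
      rw [Category.assoc _ (o x), hox]; simp [c])
    obtain ⟨ψ, hψ⟩ := Spec.map_surjective (v ≫ e.inv).left
    let u₀ : T0 (J.map ψ.hom) (strR (φ x).hom str) ⟶ T0 J str₀ := Over.homMk
      (Spec.map (CommRingCat.ofHom (Ideal.quotientMap (J.map ψ.hom) ψ.hom Ideal.le_comap_map))) (by
      show _ ≫ _ ≫ str₀ = Spec.map _ ≫ strR (φ x).hom str
      rw [← Category.assoc, ← Spec.map_comp, ← CommRingCat.ofHom_comp, quotientMap_comp,
        CommRingCat.ofHom_comp, Spec.map_comp, Category.assoc, CommRingCat.ofHom_hom, hψ]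
      exact congrArg (_ ≫ ·) (Over.w (v ≫ e.inv)))
    have hu₀ : u₀ ≫ qI J str₀ ≫ e.hom = qI (J.map ψ.hom) (strR (φ x).hom str) ≫ v := by
      have h : u₀ ≫ qI J str₀ = qI (J.map ψ.hom) (strR (φ x).hom str) ≫ v ≫ e.inv :=
        Over.OverMorphism.ext (by
          rw [Over.comp_left, Over.comp_left, ← hψ]
          show Spec.map _ ≫ Spec.map _ = Spec.map _ ≫ Spec.map _
          rw [← Spec.map_comp, ← Spec.map_comp, ← CommRingCat.ofHom_comp, quotientMap_comp]
          simp)
      rw [reassoc_of% h, Iso.inv_hom_id, Category.comp_id]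
    obtain ⟨w₀, hw₀⟩ := (yon S).map_surjective (sq.lift ((yon S).map u₀ ≫ t₀)
      ((yon S).map (qI (J.map ψ.hom) (strR (φ x).hom str) ≫ cc (φ x).hom str)) (by
        rw [Category.assoc, ht₀, ← Functor.map_comp_assoc, hu₀, ← hg, Functor.map_comp,
          Functor.map_comp, Functor.map_comp, Category.assoc, Category.assoc, Category.assoc,
          ← sqM.w]
        have := congrArg (fun r => (yon S).map r ≫ p) hv
        simp only [Functor.map_comp, Category.assoc] at this ⊢
        rw [this]))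
    have hw : w₀ ≫ qI K str = qI (J.map ψ.hom) (strR (φ x).hom str) ≫ cc (φ x).hom str :=
      (yon S).map_injective (by rw [Functor.map_comp, hw₀, sq.lift_snd])
    obtain ⟨α, hα⟩ := Spec.map_surjective w₀.left
    have hring : (CommRingCat.ofHom (Ideal.Quotient.mk K)) ≫ α =
        φ x ≫ CommRingCat.ofHom (Ideal.Quotient.mk (J.map ψ.hom)) := by
      apply Spec.map_injective
      rw [Spec.map_comp, Spec.map_comp, hα]
      exact congrArg CommaMorphism.left hw
    have hK : K.map (φ x).hom ≤ J.map ψ.hom := Ideal.map_le_iff_le_comap.2 fun a ha => by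
      have := congrArg (fun r => r.hom a) hring
      simp only [CommRingCat.hom_comp, CommRingCat.hom_ofHom, RingHom.comp_apply,
        Ideal.Quotient.eq_zero_iff_mem.2 ha, map_zero] at this
      exact (Ideal.Quotient.eq_zero_iff_mem.1 this.symm : (φ x).hom a ∈ J.map ψ.hom)
    intro a ha
    have h1 : φ x a ∈ (K ^ (n + 1)).map (φ x).hom := Ideal.mem_map_of_mem _ ha
    rw [Ideal.map_pow] at h1
    have h2 := Ideal.pow_right_mono hK (n + 1) h1
    rw [← Ideal.map_pow, hJ, Ideal.map_bot] at h2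
    exact h2
  haveI : IsClosedImmersion (qI (K ^ (n + 1)) str).left :=
    IsClosedImmersion.spec_of_surjective _ Ideal.Quotient.mk_surjective
  haveI : Mono (qI (K ^ (n + 1)) str) := Over.mono_of_mono_left _
  let xf : ∀ x, TT (strR (φ x).hom str) ⟶ T0 (K ^ (n + 1)) str := fun x =>
    Over.homMk (Spec.map (CommRingCat.ofHom (Ideal.Quotient.lift (K ^ (n + 1)) (φ x).hom (key x)))) (by
      show _ ≫ _ ≫ str = _
      rw [← Category.assoc, ← Spec.map_comp, ← CommRingCat.ofHom_comp]
      congr 1)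
  have hxf : ∀ x, xf x ≫ qI (K ^ (n + 1)) str = cc (φ x).hom str := fun x => Over.OverMorphism.ext (by
    show Spec.map _ ≫ Spec.map _ = Spec.map _
    rw [← Spec.map_comp, ← CommRingCat.ofHom_comp]
    congr 1)
  have hfl : ∀ x, Flat (cc (φ x).hom str).left := fun x => have := hcc x; inferInstance
  have hfp : ∀ x, LocallyOfFinitePresentation (cc (φ x).hom str).left := fun x =>
    have := hcc x; inferInstance
  obtain ⟨s', hs', -⟩ := existsUnique_glue hfl hfp hcov (fun x => (yon S).map (xf x))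
    (fun x y W gi gj e => by
      have hm : gi ≫ xf x = gj ≫ xf y := by
        rw [← cancel_mono (qI (K ^ (n + 1)) str), Category.assoc, Category.assoc, hxf, hxf, e]
      rw [← Functor.map_comp, ← Functor.map_comp, hm])
  obtain ⟨s, rfl⟩ := (yon S).map_surjective s'
  have hs1 : s ≫ qI (K ^ (n + 1)) str = 𝟙 _ := (yon S).map_injective (hom_ext_fppf hfl hfp hcov fun x => by
    rw [Functor.map_comp, reassoc_of% hs', ← Functor.map_comp, hxf x]; simp)
  obtain ⟨β, hβ⟩ := Spec.map_surjective s.left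
  have hβ' : CommRingCat.ofHom (Ideal.Quotient.mk (K ^ (n + 1))) ≫ β = 𝟙 _ := by
    apply Spec.map_injective
    rw [Spec.map_comp, hβ, Spec.map_id]
    exact congrArg CommaMorphism.left hs1
  rw [eq_bot_iff]
  intro a ha
  have := congrArg (fun r => r.hom a) hβ'
  simp only [CommRingCat.hom_comp, CommRingCat.hom_ofHom, RingHom.comp_apply,
    Ideal.Quotient.eq_zero_iff_mem.2 ha, map_zero, CommRingCat.hom_id, RingHom.id_apply] at this
  rw [Ideal.mem_bot]; exact this.symm

theorem powZero_SpecMap_iso {n : ℕ} {E C : CommRingCat.{u}} (π : E ⟶ C)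
    (hπ : RingHom.ker π.hom ^ (n + 1) = ⊥) {V : Scheme.{u}} [IsAffine V] (e : Spec E ⟶ V) [IsIso e] :
    powZero n (Spec.map π ≫ e) := by
  show (Spec.map π ≫ e).ker ^ (n + 1) = ⊥
  refine Scheme.IdealSheafData.ext_of_isAffine ?_
  simp only [Scheme.IdealSheafData.ideal_pow, Pi.pow_apply, Scheme.Hom.ker_apply]
  refine le_antisymm ?_ bot_le
  show RingHom.ker ((Spec.map π ≫ e).appTop).hom ^ (n + 1) ≤ ⊥
  let θ : Γ(V, ⊤) →+* E := (e.appTop ≫ (Scheme.ΓSpecIso E).hom).hom
  have hi : Function.Injective θ :=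
    (ConcreteCategory.bijective_of_isIso (e.appTop ≫ (Scheme.ΓSpecIso E).hom)).1
  have key : RingHom.ker ((Spec.map π ≫ e).appTop).hom ≤ (RingHom.ker π.hom).comap θ := fun z hz => by
    rw [RingHom.mem_ker] at hz
    rw [Ideal.mem_comap, RingHom.mem_ker]
    have := congrArg (fun φ => φ.hom (e.appTop z)) (Scheme.ΓSpecIso_naturality π)
    simp only [CommRingCat.hom_comp, RingHom.comp_apply] at this
    show π.hom ((Scheme.ΓSpecIso E).hom (e.appTop z)) = 0
    rw [← this, show ((Spec.map π).appTop).hom (e.appTop z) = 0 from by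
      simpa [Scheme.Hom.comp_appTop] using hz]
    exact map_zero _
  intro x hx
  have h2 : θ x ∈ RingHom.ker π.hom ^ (n + 1) := by
    have h1 := Ideal.le_comap_pow θ (n + 1) (Ideal.pow_right_mono key (n + 1) hx)
    exact h1
  rw [hπ, Ideal.mem_bot] at h2
  rw [Ideal.mem_bot]
  exact hi (h2.trans (map_zero θ).symm)

/-- `n`th order thickenings pull back along arbitrary morphisms of algebraic spaces. -/
theorem isNThickMor_of_isPullback {n : ℕ} {F G F' G' : Sp S} {i : F ⟶ G} {i' : F' ⟶ G'} {e : F' ⟶ F}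
    {e' : G' ⟶ G} (sq : IsPullback e i' i e') (hi : IsNThickMor n i) (hG : IsAlgSpace G) :
    IsNThickMor n i' := by
  refine ⟨repWith_of_isPullback sq hi.1, fun V W b fst snd hV hb sq' => ?_⟩
  have sq2 := sq'.paste_horiz sq
  have hth : thick snd.left := hi.1.2 _ _ _ sq2
  obtain ⟨A, iA, K, str, e₁, e₀, he⟩ := exists_model0 snd hth.1
  have sq3 : IsPullback ((yon S).map e₀.hom ≫ fst ≫ e) ((yon S).map (qI K str)) i
      ((yon S).map e₁.hom ≫ b ≫ e') :=
    IsPullback.of_iso sq2 ((yon S).mapIso e₀.symm) (Iso.refl _) ((yon S).mapIso e₁.symm) (Iso.refl _)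
      (by simp [← Functor.map_comp_assoc]) (by
        simp only [Functor.mapIso_hom, Iso.symm_hom, ← Functor.map_comp]
        refine congrArg _ ?_
        rw [← cancel_epi e₀.hom, ← cancel_mono e₁.hom]
        simp [reassoc_of% he, he])
      (by simp) (by simp [← Functor.map_comp_assoc])
  have hK := pow_eq_bot hi hG _ sq3
  have e1 : snd.left = e₀.inv.left ≫ (qI K str).left ≫ e₁.hom.left := by
    rw [← Over.comp_left, ← Over.comp_left, ← he, Iso.inv_hom_id_assoc]
  haveI : IsIso e₀.inv.left := inferInstanceAs (IsIso ((Over.forget S).map e₀.inv))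
  haveI : IsIso e₁.hom.left := inferInstanceAs (IsIso ((Over.forget S).map e₁.hom))
  show snd.left.ker ^ (n + 1) = ⊥
  rw [e1, Scheme.Hom.ker_comp_of_isIso]
  exact powZero_SpecMap_iso (CommRingCat.ofHom (Ideal.Quotient.mk K))
    (by rw [CommRingCat.hom_ofHom, Ideal.mk_ker, hK]) e₁.hom.left

theorem isFinThickMor_of_isPullback {F G F' G' : Sp S} {i : F ⟶ G} {i' : F' ⟶ G'} {e : F' ⟶ F}
    {e' : G' ⟶ G} (sq : IsPullback e i' i e') (hi : IsFinThickMor i) (hG : IsAlgSpace G) :
    IsFinThickMor i' :=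
  hi.imp fun _ h => isNThickMor_of_isPullback sq h hG

end Groth.Agent.Inf
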