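import Groth.Agent.ASp.ThickProper
import Groth.Agent.ASp.ThickBase
/-!
Finite type along cartesian finite order thickenings.
-/

set_option autoImplicit false
set_option backward.isDefEq.respectTransparency false
set_option backward.isDefEq.respectTransparency.types false

universe u

open CategoryTheory CategoryTheory.Limits AlgebraicGeometry Opposite

namespace Groth.Agent.ASp

open _root_.AlgSp

/-- Finite type lifts along a nilpotent ideal generated by the base. -/
theorem finiteType_of_nilpotent {R C : Type u} [CommRing R] [CommRing C] (φ : R →+* C) {J : Ideal R}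
    (hJ : IsNilpotent (J.map φ)) (h : ((Ideal.Quotient.mk (J.map φ)).comp φ).FiniteType) :
    φ.FiniteType := by
  algebraize [φ]
  have hft : Algebra.FiniteType R (C ⧸ J.map φ) := h
  obtain ⟨s, hs⟩ := hft.out
  choose c hc using fun z : C ⧸ J.map φ => Ideal.Quotient.mk_surjective z
  classical
  let A := Algebra.adjoin R ((s.image c : Finset C) : Set C)
  have hmod : ∀ x : C, ∃ a ∈ A, x - a ∈ J.map φ := by
    intro x
    have : Ideal.Quotient.mk (J.map φ) x ∈ Algebra.adjoin R (s : Set (C ⧸ J.map φ)) := by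
      rw [hs]; trivial
    rw [show (s : Set (C ⧸ J.map φ)) =
      (Ideal.Quotient.mkₐ R (J.map φ)) '' ((s.image c : Finset C) : Set C) from by
        ext z; simp [hc], ← AlgHom.map_adjoin] at this
    obtain ⟨a, ha, hae⟩ := this
    exact ⟨a, ha, (Ideal.Quotient.mk_eq_mk_iff_sub_mem _ _).1 hae.symm⟩
  have step : ∀ n : ℕ, ∀ x : C, ∃ a ∈ A, x - a ∈ (J.map φ) ^ (n + 1) := by
    intro n
    induction n with
    | zero => simpa using hmod
    | succ n ih =>
      intro x
      obtain ⟨a, ha, hxa⟩ := ih x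
      suffices ∀ y ∈ (J.map φ) ^ (n + 1), ∃ a ∈ A, y - a ∈ (J.map φ) ^ (n + 1 + 1) by
        obtain ⟨a', ha', h'⟩ := this _ hxa
        exact ⟨a + a', add_mem ha ha', by rwa [← sub_sub]⟩
      intro y hy
      rw [← Ideal.map_pow] at hy
      induction hy using Submodule.span_induction with
      | mem z hz =>
        obtain ⟨r, -, rfl⟩ := hz
        exact ⟨φ r, A.algebraMap_mem r, by simp⟩
      | zero => exact ⟨0, zero_mem _, by simp⟩
      | add z w _ _ hz hw =>
        obtain ⟨a₁, h1, h1'⟩ := hz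
        obtain ⟨a₂, h2, h2'⟩ := hw
        exact ⟨a₁ + a₂, add_mem h1 h2, by
          rw [show z + w - (a₁ + a₂) = (z - a₁) + (w - a₂) by ring]; exact add_mem h1' h2'⟩
      | smul q z hzm hz =>
        obtain ⟨aq, hq, hq'⟩ := hmod q
        obtain ⟨az, hz1, hz1'⟩ := hz
        refine ⟨aq * az, mul_mem hq hz1, ?_⟩
        have hzJ : z ∈ (J.map φ) ^ (n + 1) := by
          rw [← Ideal.map_pow]; exact hzm
        rw [smul_eq_mul, show q * z - aq * az = (q - aq) * z + aq * (z - az) by ring]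
        refine add_mem ?_ (Ideal.mul_mem_left _ _ hz1')
        rw [pow_succ' (J.map φ) (n + 1)]
        exact Ideal.mul_mem_mul hq' hzJ
  refine ⟨⟨s.image c, eq_top_iff.2 fun x _ => ?_⟩⟩
  obtain ⟨N, hN⟩ := hJ
  obtain ⟨a, ha, hxa⟩ := step N x
  rw [pow_succ, hN, zero_mul, Ideal.zero_eq_bot, Ideal.mem_bot, sub_eq_zero] at hxa
  exact hxa ▸ ha

/-- A morphism of affine schemes is of finite type if its base change along a closed immersion with
nilpotent pullback is. -/
theorem locallyOfFiniteType_of_thick {U U' V V' : Scheme.{u}} [IsAffine U'] [IsAffine V'] {ιU : U ⟶ U'}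
    {k : U ⟶ V} {k' : U' ⟶ V'} {ιV : V ⟶ V'} [IsClosedImmersion ιV] (sq : IsPullback ιU k k' ιV)
    {n : ℕ} (hn : ιU.ker ^ (n + 1) = ⊥) [LocallyOfFiniteType k] : LocallyOfFiniteType k' := by
  obtain ⟨hVa, hVs⟩ := IsClosedImmersion.isAffine_surjective_of_isAffine ιV
  haveI : IsAffineHom ιU := MorphismProperty.of_isPullback sq.flip (inferInstanceAs (IsAffineHom ιV))
  haveI : IsAffine U := isAffine_of_isAffineHom ιU
  haveI : IsClosedImmersion ιU := MorphismProperty.of_isPullback sq.flip (inferInstanceAs (IsClosedImmersion ιV))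
  obtain ⟨-, hUs⟩ := IsClosedImmersion.isAffine_surjective_of_isAffine ιU
  have hpo := isPushout_appTop_of_isPullback sq
  let φ := k'.appTop.hom
  let J := RingHom.ker ιV.appTop.hom
  have hle : RingHom.ker ιU.appTop.hom ≤ J.map φ := by
    let m : Γ(V, ⊤) →+* Γ(U', ⊤) ⧸ J.map φ :=
      (Ideal.quotientMap (J.map φ) φ Ideal.le_comap_map).comp
        (RingHom.quotientKerEquivOfSurjective hVs).symm.toRingHom
    have hm : ιV.appTop ≫ CommRingCat.ofHom m = k'.appTop ≫ CommRingCat.ofHom (Ideal.Quotient.mk (J.map φ)) := by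
      refine CommRingCat.hom_ext (RingHom.ext fun r => ?_)
      have e : (RingHom.quotientKerEquivOfSurjective hVs).symm (ιV.appTop r) = Ideal.Quotient.mk _ r := by
        rw [RingEquiv.symm_apply_eq]; rfl
      show Ideal.quotientMap (J.map φ) φ Ideal.le_comap_map
        ((RingHom.quotientKerEquivOfSurjective hVs).symm (ιV.appTop r)) = _
      rw [e]; rfl
    intro x hx
    obtain ⟨d, hd⟩ : ∃ d, ιU.appTop ≫ d = CommRingCat.ofHom (Ideal.Quotient.mk (J.map φ)) :=
      ⟨hpo.desc (CommRingCat.ofHom (Ideal.Quotient.mk (J.map φ))) (CommRingCat.ofHom m) hm.symm,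
        hpo.inl_desc _ _ _⟩
    have := congrArg (fun t => t.hom x) hd
    simp only [CommRingCat.hom_comp, RingHom.comp_apply, CommRingCat.hom_ofHom,
      RingHom.mem_ker.1 hx, map_zero] at this
    exact Ideal.Quotient.eq_zero_iff_mem.1 this.symm
  have hge : J.map φ ≤ RingHom.ker ιU.appTop.hom := Ideal.map_le_iff_le_comap.2 fun r hr => by
    show ιU.appTop.hom (k'.appTop.hom r) = 0
    rw [← RingHom.comp_apply, ← CommRingCat.hom_comp, ← Scheme.Hom.comp_appTop, sq.w,
      Scheme.Hom.comp_appTop, CommRingCat.hom_comp, RingHom.comp_apply, RingHom.mem_ker.1 hr, map_zero]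
  have hnil : IsNilpotent (J.map φ) := ⟨n + 1, by
    have := congrArg (fun K : Scheme.IdealSheafData U' => K.ideal ⟨⊤, isAffineOpen_top _⟩) hn
    simp only [Scheme.IdealSheafData.ideal_pow, Pi.pow_apply, Scheme.Hom.ker_apply] at this
    rw [Ideal.zero_eq_bot, eq_bot_iff]
    exact (Ideal.pow_right_mono hge (n + 1)).trans (le_of_eq this)⟩
  refine (HasRingHomProperty.iff_of_isAffine (P := @LocallyOfFiniteType)).2
    (finiteType_of_nilpotent φ hnil ?_)
  have h1 : (ιU ≫ k').appTop.hom.FiniteType := by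
    refine (HasRingHomProperty.iff_of_isAffine (P := @LocallyOfFiniteType)).1 ?_
    rw [sq.w]; infer_instance
  have e : J.map φ = RingHom.ker ιU.appTop.hom := le_antisymm hge hle
  rw [e]
  rw [Scheme.Hom.comp_appTop, CommRingCat.hom_comp] at h1
  have h2 : (Ideal.Quotient.mk (RingHom.ker ιU.appTop.hom)).comp φ =
      (RingHom.quotientKerEquivOfSurjective hUs).symm.toRingHom.comp (ιU.appTop.hom.comp φ) := by
    refine RingHom.ext fun r => ?_
    show _ = (RingHom.quotientKerEquivOfSurjective hUs).symm (ιU.appTop.hom (φ r))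
    rw [eq_comm, RingEquiv.symm_apply_eq]; rfl
  rw [h2]
  exact (RingHom.FiniteType.of_surjective _ (RingEquiv.surjective _)).comp h1

variable {S : Scheme.{u}} {X X' Y Y' : Sp S} {i : X ⟶ X'} {j : Y ⟶ Y'} {f : X ⟶ Y} {f' : X' ⟶ Y'}

/-- Local finite type lifts along a cartesian finite order thickening. -/
theorem locP_lft_of_thick (hi : IsFinThickMor i) (hj : IsThickMor j) (hc : IsPullback i f f' j)
    (h : LocP @LocallyOfFiniteType f) : LocP @LocallyOfFiniteType f' := by
  obtain ⟨n, hi, hpow⟩ := hi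
  intro U' V' a' b' k' ha' hb' e'
  have key : ∀ x : U'.left, ∃ O : U'.left.Opens, x ∈ O ∧ LocallyOfFiniteType (O.ι ≫ k'.left) := by
    intro x
    obtain ⟨_, ⟨W, hW, rfl⟩, hxW, -⟩ :=
      V'.left.isBasis_affineOpens.exists_subset_of_mem_open (Set.mem_univ (k'.left x)) isOpen_univ
    obtain ⟨_, ⟨O, hO, rfl⟩, hxO, hOW⟩ :=
      U'.left.isBasis_affineOpens.exists_subset_of_mem_open (show x ∈ k'.left ⁻¹ᵁ W from hxW) (k'.left ⁻¹ᵁ W).2
    refine ⟨O, hxO, ?_⟩
    let U₁ : Over S := Over.mk (Scheme.Opens.ι O ≫ U'.hom)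
    let V₁ : Over S := Over.mk (Scheme.Opens.ι W ≫ V'.hom)
    let u : U₁ ⟶ U' := Over.homMk (Scheme.Opens.ι O) rfl
    let v : V₁ ⟶ V' := Over.homMk (Scheme.Opens.ι W) rfl
    let k₁ : U₁ ⟶ V₁ := Over.homMk (k'.left.resLE W O hOW) (by
      show _ ≫ Scheme.Opens.ι W ≫ V'.hom = _
      rw [← Category.assoc, Scheme.Hom.resLE_comp_ι, Category.assoc, Over.w k']
      rfl)
    have hu : RepWith @Etale ((yon S).map u) :=
      repWith_yon_map (P := @Etale) (g := u) (inferInstanceAs (Etale (Scheme.Opens.ι O)))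
    have hv : RepWith @Etale ((yon S).map v) :=
      repWith_yon_map (P := @Etale) (g := v) (inferInstanceAs (Etale (Scheme.Opens.ι W)))
    have hkv : k₁ ≫ v = u ≫ k' := Over.OverMorphism.ext (Scheme.Hom.resLE_comp_ι _ hOW)
    have e₁ : ((yon S).map u ≫ a') ≫ f' = (yon S).map k₁ ≫ (yon S).map v ≫ b' := by
      rw [Category.assoc, e', ← Functor.map_comp_assoc, ← hkv, Functor.map_comp_assoc]
    haveI : IsAffine U₁.left := hO
    haveI : IsAffine V₁.left := hW
    have hU₁ := repWith_comp hu ha'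
    obtain ⟨U, a, ιU, sqU⟩ : ∃ (U : Over S) (a : (yon S).obj U ⟶ X) (ιU : U ⟶ U₁),
        IsPullback a ((yon S).map ιU) i ((yon S).map u ≫ a') := ⟨_, _, _, hi.1.isPullback _⟩
    obtain ⟨V, b, ιV, sqV⟩ : ∃ (V : Over S) (b : (yon S).obj V ⟶ Y) (ιV : V ⟶ V₁),
        IsPullback b ((yon S).map ιV) j ((yon S).map v ≫ b') := ⟨_, _, _, hj.1.isPullback _⟩
    have hb := repWith_comp hv hb'
    obtain ⟨k, hk⟩ := (yon S).map_surjective (sqV.lift (a ≫ f) ((yon S).map (ιU ≫ k₁))
      (by rw [Functor.map_comp, Category.assoc, Category.assoc, ← e₁, ← Category.assoc ((yon S).map ιU), ← sqU.w, Category.assoc, hc.w]))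
    have hk1 : (yon S).map k ≫ b = a ≫ f := by rw [hk, sqV.lift_fst]
    have hk2 : k ≫ ιV = ιU ≫ k₁ := (yon S).map_injective (by rw [Functor.map_comp, hk, sqV.lift_snd])
    have hout : IsPullback ((yon S).map ιU) (a ≫ f) (((yon S).map u ≫ a') ≫ f') j := sqU.flip.paste_vert hc
    rw [e₁, ← hk1] at hout
    have sq := isPullback_left (isPullback_of_yon_map
      (IsPullback.of_bot hout (by rw [← Functor.map_comp, ← Functor.map_comp, hk2]) sqV.flip))
    have hthV : thick ιV.left := hj.2 _ _ _ sqV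
    haveI : IsClosedImmersion ιV.left := hthV.1
    haveI : LocallyOfFiniteType k.left :=
      h a b k (repWith_of_isPullback sqU.flip hU₁) (repWith_of_isPullback sqV.flip hb) hk1.symm
    have hp : powZero n ιU.left := hpow _ a ιU (inferInstance : IsAffine U₁.left) hU₁ sqU
    haveI : LocallyOfFiniteType k₁.left := locallyOfFiniteType_of_thick sq hp
    have e2 : Scheme.Opens.ι O ≫ k'.left = k₁.left ≫ Scheme.Opens.ι W := (Scheme.Hom.resLE_comp_ι _ hOW).symm
    rw [e2]; infer_instance
  choose O hxO hO using key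
  exact IsZariskiLocalAtSource.of_iSup_eq_top O
    (eq_top_iff.2 fun x _ => TopologicalSpace.Opens.mem_iSup.2 ⟨x, hxO x⟩) hO

end Groth.Agent.ASp
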