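import Groth.Agent.ASp.UnivThick
/-!
Gluing lifts whose uniqueness only holds over a given source.
-/

set_option autoImplicit false
set_option backward.isDefEq.respectTransparency false
set_option backward.isDefEq.respectTransparency.types false

universe u

open CategoryTheory CategoryTheory.Limits AlgebraicGeometry Opposite

namespace Groth.Agent.Inf

open _root_.AlgSp Groth.Agent.ASp

variable {S : Scheme.{u}} {A : Type u} [CommRing A] {X Y : Sp S} {f : X ⟶ Y}

/-- Lifts on an etale covering glue when lifts are unique. -/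
theorem existsUnique_of_pieces'
    {X₀ : Sp S} {i₀ : X₀ ⟶ X}
    (huniq : ∀ {R : Type u} [CommRing R] {J : Ideal R}, J ^ 2 = ⊥ →
      ∀ {str' : Spec (CommRingCat.of R) ⟶ S} (l l' : (yon S).obj (TT str') ⟶ X),
        (yon S).map (qI J str') ≫ l = (yon S).map (qI J str') ≫ l' → l ≫ f = l' ≫ f →
        (∃ x : (yon S).obj (T0 J str') ⟶ X₀, (yon S).map (qI J str') ≫ l = x ≫ i₀) → l = l')
    {I : Ideal A} (hI : I ^ 2 = ⊥) {str : Spec (CommRingCat.of A) ⟶ S}
    (a₀ : (yon S).obj (T0 I str) ⟶ X₀) (b : (yon S).obj (TT str) ⟶ Y)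
    {ι : Type u} {R : ι → Type u} [∀ i, CommRing (R i)] (φ : ∀ i, A →+* R i)
    (hφ : ∀ i, Etale (cc (φ i) str).left)
    (hcov : ∀ t : ↥(TT str).left, ∃ i, t ∈ Set.range (cc (φ i) str).left)
    (hcov0 : ∀ t : ↥(T0 I str).left, ∃ i, t ∈ Set.range (cc0 (φ i) I str).left)
    (l₀ : ∀ i, (yon S).obj (TT (strR (φ i) str)) ⟶ X)
    (hux : ∀ i, (yon S).map (qI (I.map (φ i)) (strR (φ i) str)) ≫ l₀ i =
      (yon S).map (cc0 (φ i) I str) ≫ a₀ ≫ i₀)
    (huf : ∀ i, l₀ i ≫ f = (yon S).map (cc (φ i) str) ≫ b) :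
    ∃! l : (yon S).obj (TT str) ⟶ X, (yon S).map (qI I str) ≫ l = a₀ ≫ i₀ ∧ l ≫ f = b := by
  have hfl : ∀ i, Flat (cc (φ i) str).left := fun i => by haveI := hφ i; infer_instance
  have hfp : ∀ i, LocallyOfFinitePresentation (cc (φ i) str).left := fun i => by
    haveI := hφ i; infer_instance
  obtain ⟨l, hl, -⟩ := existsUnique_glue hfl hfp hcov l₀ (by
    intro i j W gi gj hij
    refine hom_ext_affineCover fun x => ?_
    obtain ⟨αi, hαi⟩ := Spec.map_surjective (W.left.affineCover.f x ≫ gi.left)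
    obtain ⟨αj, hαj⟩ := Spec.map_surjective (W.left.affineCover.f x ≫ gj.left)
    let g : Over.mk (W.left.affineCover.f x ≫ W.hom) ⟶ W := Over.homMk (W.left.affineCover.f x) rfl
    obtain ⟨L, hL⟩ : ∃ L : CommRingCat.{u}, W.left.affineCover.X x = Spec L := ⟨_, rfl⟩
    let T₁ := W.left.affineCover.X x
    have hcomm : (CommRingCat.ofHom (φ i)) ≫ αi = (CommRingCat.ofHom (φ j)) ≫ αj := by
      apply Spec.map_injective
      rw [Spec.map_comp, Spec.map_comp, hαi, hαj, Category.assoc, Category.assoc]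
      exact congrArg (W.left.affineCover.f x ≫ ·) (congrArg CommaMorphism.left hij)
    let β : A →+* _ := αi.hom.comp (φ i)
    have hβj : β = αj.hom.comp (φ j) := congrArg CommRingCat.Hom.hom hcomm
    let ψ := strR β str
    have hg : g ≫ gi ≫ cc (φ i) str = g ≫ gj ≫ cc (φ j) str := by rw [hij]
    have hgi : ((g ≫ gi).left) = Spec.map αi := hαi.symm
    have hgj : ((g ≫ gj).left) = Spec.map αj := hαj.symm
    have hstr : W.left.affineCover.f x ≫ W.hom = ψ := by
      have := Over.w (g ≫ gi ≫ cc (φ i) str)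
      change (g.left ≫ gi.left ≫ Spec.map (CommRingCat.ofHom (φ i))) ≫ str = _ at this
      refine this.symm.trans ?_
      simp only [ψ, strR, β, g, Over.homMk_left, CommRingCat.ofHom_comp, Spec.map_comp,
        CommRingCat.ofHom_hom, Category.assoc]
      rw [hαi, Category.assoc]
    let θ : TT ψ ⟶ Over.mk (W.left.affineCover.f x ≫ W.hom) := Over.homMk (𝟙 _) (by
      show 𝟙 _ ≫ (W.left.affineCover.f x ≫ W.hom) = ψ
      exact (Category.id_comp _).trans hstr)
    haveI : IsIso ((Over.forget S).map θ) := inferInstanceAs (IsIso (𝟙 _))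
    haveI : IsIso θ := isIso_of_reflects_iso θ (Over.forget S)
    rw [← cancel_epi ((yon S).map θ)]
    have hθg : (θ ≫ g ≫ gi) ≫ cc (φ i) str = cc β str := Over.OverMorphism.ext (by
      simp only [Over.comp_left, θ, g, β, Over.homMk_left, Category.id_comp, CommRingCat.ofHom_comp,
        Spec.map_comp, CommRingCat.ofHom_hom]
      rw [hαi])
    have hθg' : (θ ≫ g ≫ gj) ≫ cc (φ j) str = cc β str := by
      rw [← hθg]; simp only [Category.assoc, hij]
    let gi0 : T0 (I.map β) ψ ⟶ T0 (I.map (φ i)) (strR (φ i) str) := Over.homMk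
      (Spec.map (CommRingCat.ofHom (Ideal.quotientMap (I.map β) αi.hom (by
        rw [← Ideal.map_le_iff_le_comap, Ideal.map_map])))) (by
        simp only [Over.mk_hom, ψ, strR, β, ← Category.assoc, ← Spec.map_comp,
          ← CommRingCat.ofHom_comp]
        congr 2)
    let gj0 : T0 (I.map β) ψ ⟶ T0 (I.map (φ j)) (strR (φ j) str) := Over.homMk
      (Spec.map (CommRingCat.ofHom (Ideal.quotientMap (I.map β) αj.hom (by
        rw [← Ideal.map_le_iff_le_comap, Ideal.map_map, hβj])))) (by
        simp only [Over.mk_hom, ψ, strR, hβj, ← Category.assoc, ← Spec.map_comp,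
          ← CommRingCat.ofHom_comp]
        congr 2)
    have hgi0 : qI (I.map β) ψ ≫ θ ≫ g ≫ gi = gi0 ≫ qI (I.map (φ i)) (strR (φ i) str) :=
      Over.OverMorphism.ext (by
        simp only [Over.comp_left, θ, g, gi0, Over.homMk_left, Category.id_comp]
        rw [← hαi, ← Spec.map_comp, ← Spec.map_comp]
        congr 1)
    have hgj0 : qI (I.map β) ψ ≫ θ ≫ g ≫ gj = gj0 ≫ qI (I.map (φ j)) (strR (φ j) str) :=
      Over.OverMorphism.ext (by
        simp only [Over.comp_left, θ, g, gj0, Over.homMk_left, Category.id_comp]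
        rw [← hαj, ← Spec.map_comp, ← Spec.map_comp]
        congr 1)
    have hg0 : gi0 ≫ cc0 (φ i) I str = gj0 ≫ cc0 (φ j) I str := by
      haveI : Mono (qI I str).left := by
        haveI : IsClosedImmersion (qI I str).left :=
          IsClosedImmersion.spec_of_surjective _ Ideal.Quotient.mk_surjective
        infer_instance
      haveI : Mono (qI I str) := Over.mono_of_mono_left _
      rw [← cancel_mono (qI I str)]
      simp only [Category.assoc, cc0_qI]
      rw [← reassoc_of% hgi0, ← reassoc_of% hgj0, hij]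
    refine huniq (map_sq_zero β hI) _ _ ?_ ?_ ⟨(yon S).map (gi0 ≫ cc0 (φ i) I str) ≫ a₀, ?_⟩
    · have k1 := congrArg (fun z => (yon S).map z ≫ l₀ i) hgi0
      have k2 := congrArg (fun z => (yon S).map z ≫ l₀ j) hgj0
      simp only [Functor.map_comp, Category.assoc] at k1 k2 ⊢
      rw [k1, k2, hux i, hux j, ← Functor.map_comp_assoc, hg0, Functor.map_comp_assoc]
    · have k1 := congrArg (fun z => (yon S).map z ≫ b) hθg
      have k2 := congrArg (fun z => (yon S).map z ≫ b) hθg'
      have k3 := huf i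
      have k4 := huf j
      simp only [Functor.map_comp, Category.assoc] at k1 k2 k3 k4 ⊢
      rw [k3, k4, k1, k2]
    · have k1 := congrArg (fun z => (yon S).map z ≫ l₀ i) hgi0
      simp only [Functor.map_comp, Category.assoc] at k1 ⊢
      rw [k1, hux i])
  have hlf : l ≫ f = b := hom_ext_fppf hfl hfp hcov fun i => by
    rw [← Category.assoc, hl i, huf i]
  have hla : (yon S).map (qI I str) ≫ l = a₀ ≫ i₀ := by
    refine hom_ext_fppf (c := fun i => cc0 (φ i) I str) (fun i => ?_) (fun i => ?_) hcov0 fun i => ?_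
    · exact MorphismProperty.of_isPullback (P := @Flat) (isPullback_cc0 (φ i) I str) (hfl i)
    · exact MorphismProperty.of_isPullback (P := @LocallyOfFinitePresentation) (isPullback_cc0 (φ i) I str) (hfp i)
    · rw [← Functor.map_comp_assoc, cc0_qI, Functor.map_comp, Category.assoc, hl i, hux i]
  exact ⟨l, ⟨hla, hlf⟩, fun l' ⟨h1, h2⟩ =>
    huniq hI _ _ (h1.trans hla.symm) (h2.trans hlf.symm) ⟨a₀, h1⟩⟩

end Groth.Agent.Inf
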