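import Groth.Agent.ASp.InfRep
import Groth.Agent.Boot.SepEtale
/-!
Lifting along first order thickenings of algebraic spaces, tested on affine schemes.
-/

set_option autoImplicit false
set_option backward.isDefEq.respectTransparency false
set_option backward.isDefEq.respectTransparency.types false

universe u

open CategoryTheory CategoryTheory.Limits AlgebraicGeometry Opposite

namespace Groth.Agent.Inf

open _root_.AlgSp Groth.Agent.ASp

variable {S : Scheme.{u}}

/-- A square zero closed immersion into an affine scheme is `Spec (A ⧸ I) ⟶ Spec A`. -/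
theorem exists_model {V W : Over S} [IsAffine V.left] (g : W ⟶ V) (hc : IsClosedImmersion g.left)
    (hsq : sqZero g.left) :
    ∃ (A : Type u) (_ : CommRing A) (I : Ideal A) (str : Spec (CommRingCat.of A) ⟶ S) (_ : I ^ 2 = ⊥)
      (e : TT str ≅ V) (e₀ : T0 I str ≅ W), e₀.hom ≫ g = qI I str ≫ e.hom := by
  obtain ⟨haff, hsurj⟩ := IsClosedImmersion.isAffine_surjective_of_isAffine g.left
  have hI : RingHom.ker g.left.appTop.hom ^ 2 = ⊥ := by
    have := congrArg (fun K : Scheme.IdealSheafData V.left => K.ideal ⟨⊤, isAffineOpen_top _⟩) hsq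
    simp only [Scheme.IdealSheafData.ideal_mul, Pi.mul_apply, Scheme.Hom.ker_apply] at this
    rw [pow_two]
    exact this
  let ψ : Γ(W.left, ⊤) ≅ CommRingCat.of (Γ(V.left, ⊤) ⧸ RingHom.ker g.left.appTop.hom) :=
    ((RingHom.quotientKerEquivOfSurjective hsurj).symm).toCommRingCatIso
  have hψ : CommRingCat.ofHom (Ideal.Quotient.mk (RingHom.ker g.left.appTop.hom)) ≫ ψ.inv =
      g.left.appTop :=
    CommRingCat.hom_ext (RingHom.ext fun x => rfl)
  have key : ((Scheme.Spec.mapIso ψ.op) ≪≫ W.left.isoSpec.symm).hom ≫ g.left =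
      Spec.map (CommRingCat.ofHom (Ideal.Quotient.mk (RingHom.ker g.left.appTop.hom))) ≫
        V.left.isoSpec.inv := by
    rw [Iso.trans_hom, Iso.symm_hom, Category.assoc, ← Scheme.isoSpec_inv_naturality,
      ← Category.assoc]
    congr 1
    refine (congrArg ((Scheme.Spec.mapIso ψ.op).hom ≫ Spec.map ·) hψ.symm).trans ?_
    show Spec.map ψ.hom ≫ Spec.map (_ ≫ ψ.inv) = _
    rw [← Spec.map_comp, Category.assoc, ψ.inv_hom_id, Category.comp_id]
  refine ⟨Γ(V.left, ⊤), inferInstance, RingHom.ker g.left.appTop.hom, V.left.isoSpec.inv ≫ V.hom, hI,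
    Over.isoMk V.left.isoSpec.symm rfl, Over.isoMk ((Scheme.Spec.mapIso ψ.op) ≪≫ W.left.isoSpec.symm)
      ?_, Over.OverMorphism.ext ?_⟩
  · show _ ≫ W.hom = _ ≫ V.left.isoSpec.inv ≫ V.hom
    rw [← Over.w g, ← Category.assoc, key, Category.assoc]
  · exact key

variable {T T' X Y : Sp S} {j : T ⟶ T'} {f : X ⟶ Y} {a : T ⟶ X} {b : T' ⟶ Y}

/-- `l` solves the lifting problem `(j, a, b)` for `f` on the scheme `V` over `T'`. -/
def LiftsOn (j : T ⟶ T') (f : X ⟶ Y) (a : T ⟶ X) (b : T' ⟶ Y) {V : Over S}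
    (q : (yon S).obj V ⟶ T') (l : (yon S).obj V ⟶ X) : Prop :=
  l ≫ f = q ≫ b ∧ ∀ (Z : Over S) (z : Z ⟶ V) (t : (yon S).obj Z ⟶ T),
    t ≫ j = (yon S).map z ≫ q → (yon S).map z ≫ l = t ≫ a

theorem LiftsOn.precomp {V V' : Over S} {q : (yon S).obj V ⟶ T'} {l : (yon S).obj V ⟶ X}
    (h : LiftsOn j f a b q l) (g : V' ⟶ V) :
    LiftsOn j f a b ((yon S).map g ≫ q) ((yon S).map g ≫ l) :=
  ⟨by rw [Category.assoc, h.1, Category.assoc], fun Z z t e => by
    rw [← Functor.map_comp_assoc]
    exact h.2 Z (z ≫ g) t (by rw [e, ← Functor.map_comp_assoc])⟩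

/-- Lifts exist uniquely on affine test objects. -/
def AffineLifts (j : T ⟶ T') (f : X ⟶ Y) (a : T ⟶ X) (b : T' ⟶ Y) : Prop :=
  ∀ (A : Type u) [CommRing A] (I : Ideal A), I ^ 2 = ⊥ → ∀ (str : Spec (CommRingCat.of A) ⟶ S)
    (t₀ : (yon S).obj (T0 I str) ⟶ T) (t' : (yon S).obj (TT str) ⟶ T'),
    t₀ ≫ j = (yon S).map (qI I str) ≫ t' →
      ∃! l : (yon S).obj (TT str) ⟶ X, (yon S).map (qI I str) ≫ l = t₀ ≫ a ∧ l ≫ f = t' ≫ b

/-- Lifts are unique on affine test objects. -/
def AffineUniq (j : T ⟶ T') (f : X ⟶ Y) (a : T ⟶ X) (b : T' ⟶ Y) : Prop :=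
  ∀ (A : Type u) [CommRing A] (I : Ideal A), I ^ 2 = ⊥ → ∀ (str : Spec (CommRingCat.of A) ⟶ S)
    (t₀ : (yon S).obj (T0 I str) ⟶ T) (t' : (yon S).obj (TT str) ⟶ T'),
    t₀ ≫ j = (yon S).map (qI I str) ≫ t' → ∀ l l' : (yon S).obj (TT str) ⟶ X,
      (yon S).map (qI I str) ≫ l = t₀ ≫ a → l ≫ f = t' ≫ b →
      (yon S).map (qI I str) ≫ l' = t₀ ≫ a → l' ≫ f = t' ≫ b → l = l'

theorem AffineLifts.uniq (H : AffineLifts j f a b) : AffineUniq j f a b :=
  fun A _ I hI str t₀ t' e _ _ h1 h2 h3 h4 => (H A I hI str t₀ t' e).unique ⟨h1, h2⟩ ⟨h3, h4⟩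

variable (hj : IsFOThickMor j)
include hj

theorem exists_chart_model {V : Over S} [IsAffine V.left] {q : (yon S).obj V ⟶ T'}
    (hq : RepWith @Etale q) :
    ∃ (A : Type u) (_ : CommRing A) (I : Ideal A) (str : Spec (CommRingCat.of A) ⟶ S) (_ : I ^ 2 = ⊥)
      (e : TT str ≅ V) (t₀ : (yon S).obj (T0 I str) ⟶ T),
      t₀ ≫ j = (yon S).map (qI I str ≫ e.hom) ≫ q ∧
      ∀ (Z : Over S) (z : Z ⟶ V) (t : (yon S).obj Z ⟶ T), t ≫ j = (yon S).map z ≫ q →
        ∃ z₀ : Z ⟶ T0 I str, z₀ ≫ qI I str ≫ e.hom = z ∧ (yon S).map z₀ ≫ t₀ = t := by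
  obtain ⟨W, fst, snd, sq⟩ : ∃ (W : Over S) (fst : (yon S).obj W ⟶ T) (snd : W ⟶ V),
      IsPullback fst ((yon S).map snd) j q := ⟨_, _, _, hj.1.1.isPullback q⟩
  have hth : thick snd.left := hj.1.2 _ _ _ sq
  obtain ⟨A, iA, I, str, hI, e, e₀, he⟩ :=
    exists_model snd hth.1 (hj.2 q fst snd inferInstance hq sq)
  refine ⟨A, iA, I, str, hI, e, (yon S).map e₀.hom ≫ fst, ?_, fun Z z t e' => ?_⟩
  · rw [Category.assoc, sq.w, ← Functor.map_comp_assoc, he]
  · obtain ⟨w, hw⟩ := (yon S).map_surjective (sq.lift t ((yon S).map z) e')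
    have hw1 : (yon S).map w ≫ fst = t := by rw [hw, sq.lift_fst]
    have hw2 : (yon S).map w ≫ (yon S).map snd = (yon S).map z := by rw [hw, sq.lift_snd]
    refine ⟨w ≫ e₀.inv, ?_, ?_⟩
    · apply (yon S).map_injective
      rw [← hw2, ← Functor.map_comp, Category.assoc, ← he, Iso.inv_hom_id_assoc]
    · rw [← hw1, ← Functor.map_comp_assoc, Category.assoc, Iso.inv_hom_id, Category.comp_id]

/-- Two lifts on an etale chart are equal. -/
theorem eq_of_liftsOn (H : AffineUniq j f a b) {V : Over S} {q : (yon S).obj V ⟶ T'}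
    (hq : RepWith @Etale q) {l l' : (yon S).obj V ⟶ X} (h : LiftsOn j f a b q l)
    (h' : LiftsOn j f a b q l') : l = l' := by
  refine hom_ext_affineCover fun i => ?_
  set V' : Over S := Over.mk (V.left.affineCover.f i ≫ V.hom) with hV'
  let g : V' ⟶ V := Over.homMk (V.left.affineCover.f i) rfl
  have hq' : RepWith @Etale ((yon S).map g ≫ q) :=
    repWith_comp (repWith_yon_map (P := @Etale) (g := g)
      (inferInstanceAs (Etale (V.left.affineCover.f i)))) hq
  haveI : IsAffine V'.left := inferInstanceAs (IsAffine (V.left.affineCover.X i))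
  obtain ⟨A, iA, I, str, hI, e, t₀, ht₀, -⟩ := exists_chart_model hj hq'
  have h1 := h.precomp g
  have h1' := h'.precomp g
  refine (cancel_epi ((yon S).map e.hom)).1 (H A I hI str t₀ ((yon S).map e.hom ≫ (yon S).map g ≫ q)
    (by rw [ht₀, Functor.map_comp, Category.assoc]) _ _
    ?_ (by rw [Category.assoc, h1.1]; simp only [Category.assoc])
    ?_ (by rw [Category.assoc, h1'.1]; simp only [Category.assoc]))
  · rw [← Functor.map_comp_assoc]; exact h1.2 _ _ _ ht₀
  · rw [← Functor.map_comp_assoc]; exact h1'.2 _ _ _ ht₀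

/-- A lift on an affine etale chart. -/
theorem exists_liftsOn (H : AffineLifts j f a b) {V : Over S} [IsAffine V.left]
    {q : (yon S).obj V ⟶ T'} (hq : RepWith @Etale q) :
    ∃ l, LiftsOn j f a b q l := by
  obtain ⟨A, iA, I, str, hI, e, t₀, ht₀, hfac⟩ := exists_chart_model hj hq
  obtain ⟨l, ⟨hl1, hl2⟩, -⟩ := H A I hI str t₀ ((yon S).map e.hom ≫ q)
    (by rw [ht₀, Functor.map_comp, Category.assoc])
  refine ⟨(yon S).map e.inv ≫ l, ?_, fun Z z t et => ?_⟩
  · rw [Category.assoc, hl2, ← Category.assoc, ← Category.assoc, ← Functor.map_comp, e.inv_hom_id]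
    simp
  · obtain ⟨z₀, hz1, hz2⟩ := hfac Z z t et
    rw [← hz1, ← Functor.map_comp_assoc, Category.assoc, Category.assoc, e.hom_inv_id,
      Category.comp_id, Functor.map_comp, Category.assoc, hl1, ← Category.assoc, hz2]

/-- Maps out of an algebraic space lifting along a thickening are unique if unique on affines. -/
theorem hom_ext_thick (hT : IsAlgSpace T') (H : AffineUniq j f a b) {l l' : T' ⟶ X}
    (h1 : j ≫ l = a) (h2 : l ≫ f = b) (h3 : j ≫ l' = a) (h4 : l' ≫ f = b) : l = l' := by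
  obtain ⟨U, p, hpe, hps⟩ := hT.atlas
  haveI := Boot.epi_of_chart hpe hps
  have key : ∀ m : T' ⟶ X, j ≫ m = a → m ≫ f = b → LiftsOn j f a b p (p ≫ m) := fun m e1 e2 =>
    ⟨by rw [Category.assoc, e2], fun Z z t e => by rw [← reassoc_of% e, e1]⟩
  exact (cancel_epi p).1 (eq_of_liftsOn hj H hpe (key l h1 h2) (key l' h3 h4))

/-- Unique lifting along a thickening of algebraic spaces from unique lifting on affines. -/
theorem existsUnique_thick (hT : IsAlgSpace T') (H : AffineLifts j f a b) :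
    ∃! l : T' ⟶ X, j ≫ l = a ∧ l ≫ f = b := by
  obtain ⟨U, p, hpe, hps⟩ := hT.atlas
  haveI hep := Boot.epi_of_chart hpe hps
  let V : U.left.affineCover.I₀ → Over S := fun i => Over.mk (U.left.affineCover.f i ≫ U.hom)
  let c : ∀ i, V i ⟶ U := fun i => Over.homMk (U.left.affineCover.f i) rfl
  have hce : ∀ i, Etale (c i).left := fun i => inferInstanceAs (Etale (U.left.affineCover.f i))
  have hq : ∀ i, RepWith @Etale ((yon S).map (c i) ≫ p) := fun i =>
    repWith_comp (repWith_yon_map (P := @Etale) (g := c i) (hce i)) hpe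
  haveI : ∀ i, IsAffine (V i).left := fun i => inferInstanceAs (IsAffine (U.left.affineCover.X i))
  choose x hx using fun i => exists_liftsOn hj H (hq i)
  have hcov : ∀ u : ↥U.left, ∃ i, u ∈ Set.range (c i).left := fun u =>
    ⟨U.left.affineCover.idx u, U.left.affineCover.covers u⟩
  have hfl : ∀ i, Flat (c i).left := fun i => have := hce i; inferInstance
  have hfp : ∀ i, LocallyOfFinitePresentation (c i).left := fun i => have := hce i; inferInstance
  obtain ⟨l, hl, -⟩ := existsUnique_glue hfl hfp hcov x (fun i k W gi gk e => by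
    have sq := IsPullback.of_hasPullback (c i).left (c k).left
    let P : Over S := Over.mk (pullback.fst (c i).left (c k).left ≫ (V i).hom)
    let p₁ : P ⟶ V i := Over.homMk (pullback.fst (c i).left (c k).left) rfl
    let p₂ : P ⟶ V k := Over.homMk (pullback.snd (c i).left (c k).left) (by
      show _ = pullback.fst (c i).left (c k).left ≫ (V i).hom
      rw [← Over.w (c i), ← Over.w (c k), pullback.condition_assoc])
    have hp : p₁ ≫ c i = p₂ ≫ c k := Over.OverMorphism.ext pullback.condition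
    haveI := hce k
    have hpe₁ : Etale p₁.left := inferInstanceAs (Etale (pullback.fst (c i).left (c k).left))
    let g : W ⟶ P := Over.homMk (pullback.lift gi.left gk.left
        (by rw [← Over.comp_left, e, Over.comp_left])) (by
      show _ ≫ pullback.fst _ _ ≫ _ = _
      rw [pullback.lift_fst_assoc, Over.w])
    have hg1 : g ≫ p₁ = gi := Over.OverMorphism.ext (pullback.lift_fst _ _ _)
    have hg2 : g ≫ p₂ = gk := Over.OverMorphism.ext (pullback.lift_snd _ _ _)
    have h1 := (hx i).precomp p₁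
    have h2 := (hx k).precomp p₂
    rw [← Functor.map_comp_assoc, ← hp, Functor.map_comp_assoc] at h2
    rw [← hg1, ← hg2, Functor.map_comp, Functor.map_comp, Category.assoc, Category.assoc,
      eq_of_liftsOn hj H.uniq (repWith_comp (repWith_yon_map (P := @Etale) (g := p₁) hpe₁) (hq i))
        h1 h2])
  have hlU : LiftsOn j f a b p l := by
    refine ⟨hom_ext_fppf hfl hfp hcov fun i => ?_, fun Z z t e => ?_⟩
    · rw [← Category.assoc, hl, (hx i).1, Category.assoc]
    · let Zi : U.left.affineCover.I₀ → Over S := fun i =>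
        Over.mk (pullback.fst z.left (c i).left ≫ Z.hom)
      let d : ∀ i, Zi i ⟶ Z := fun i => Over.homMk (pullback.fst z.left (c i).left) rfl
      let d' : ∀ i, Zi i ⟶ V i := fun i => Over.homMk (pullback.snd z.left (c i).left) (by
        show _ = pullback.fst z.left (c i).left ≫ Z.hom
        rw [← Over.w z, ← Over.w (c i), pullback.condition_assoc])
      have hd : ∀ i, d i ≫ z = d' i ≫ c i := fun i => Over.OverMorphism.ext pullback.condition
      have hde : ∀ i, Etale (d i).left := fun i => by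
        haveI := hce i
        exact inferInstanceAs (Etale (pullback.fst z.left (c i).left))
      refine hom_ext_fppf (c := d) (fun i => have := hde i; inferInstance)
        (fun i => have := hde i; inferInstance) (fun w => ?_) fun i => ?_
      · obtain ⟨i, hi⟩ := hcov (z.left w)
        exact ⟨i, by
          show w ∈ Set.range (pullback.fst z.left (c i).left)
          rw [Scheme.Pullback.range_fst]; exact hi⟩
      · rw [← Functor.map_comp_assoc, hd i, Functor.map_comp_assoc, hl, ← Category.assoc _ t a]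
        exact (hx i).2 _ _ _ (by
          rw [Category.assoc, e, ← Functor.map_comp_assoc, hd i, Functor.map_comp_assoc])
  obtain ⟨R, r₁, r₂, sqR⟩ := exists_isPullback_yon hpe.1 p
  have hr₁ : RepWith @Etale ((yon S).map r₁) :=
    repWith_of_isPullback sqR.flip hpe
  have hr : (yon S).map r₁ ≫ l = (yon S).map r₂ ≫ l := by
    refine eq_of_liftsOn hj H.uniq (repWith_comp hr₁ hpe) (hlU.precomp r₁) ?_
    rw [sqR.w]
    exact hlU.precomp r₂
  obtain ⟨φ, hφ⟩ := exists_desc_of_epi p sqR l hr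
  have hφ2 : φ ≫ f = b := (cancel_epi p).1 (by rw [← Category.assoc, hφ, hlU.1])
  have hφ1 : j ≫ φ = a := by
    refine hom_ext_yon fun Z t => ?_
    obtain ⟨M, m₁, m₂, sqM⟩ := exists_isPullback_yon hpe.1 (t ≫ j)
    have hm : Etale m₂.left := hpe.2 _ _ _ sqM
    have hms : Surjective m₂.left := hps.2 _ _ _ sqM
    refine hom_ext_fppf (ι := PUnit) (c := fun _ => m₂) (fun _ => inferInstance)
      (fun _ => inferInstance) (fun w => ⟨PUnit.unit, hms.1 w⟩) fun _ => ?_
    have e2 : ((yon S).map m₂ ≫ t) ≫ j = (yon S).map m₁ ≫ p := by rw [Category.assoc, ← sqM.w]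
    rw [← Category.assoc t j φ, ← Category.assoc _ (t ≫ j) φ, ← Category.assoc _ t j, e2, Category.assoc,
      hφ, hlU.2 _ _ _ e2, Category.assoc]
  exact ⟨φ, ⟨hφ1, hφ2⟩, fun m ⟨hm1, hm2⟩ => hom_ext_thick hj hT H.uniq hm1 hm2 hφ1 hφ2⟩

end Groth.Agent.Inf
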