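import Groth.Agent.ASp.Univ
import Groth.Prelude.Def_AlgSpInf
/-!
Topological properties do not see thickenings.
-/

set_option autoImplicit false
set_option backward.isDefEq.respectTransparency false
set_option backward.isDefEq.respectTransparency.types false

universe u

open CategoryTheory CategoryTheory.Limits AlgebraicGeometry Opposite

namespace Groth.Agent.ASp

open _root_.AlgSp

variable {S : Scheme.{u}}

theorem isHomeomorph_of_thick {X Y : Scheme.{u}} (g : X ⟶ Y) (hg : thick g) : IsHomeomorph g := by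
  haveI : IsClosedImmersion g := hg.1
  exact isHomeomorph_iff_isEmbedding_surjective.mpr ⟨g.isEmbedding, hg.2.surj⟩

theorem isHomeomorph_map_of_thick {F G : Sp S} {i : F ⟶ G} (hi : IsThickMor i) :
    IsHomeomorph (Points.map i) :=
  isHomeomorph_map_of_repWith (P := thick) (fun g hg => isHomeomorph_of_thick g hg) hi

theorem mono_of_thick {F G : Sp S} {i : F ⟶ G} (hi : IsThickMor i) : Mono i :=
  mono_of_repWith (P := thick) (fun g hg => by
    haveI : IsClosedImmersion g := hg.1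
    infer_instance) hi

theorem isThickMor_of_isPullback {F G F' G' : Sp S} {i : F ⟶ G} {i' : F' ⟶ G'} {e : F' ⟶ F}
    {e' : G' ⟶ G} (sq : IsPullback e i' i e') (hi : IsThickMor i) : IsThickMor i' :=
  repWith_of_isPullback sq hi

variable {X X' Y Y' : Sp S} {i : X ⟶ X'} {j : Y ⟶ Y'} {f : X ⟶ Y} {f' : X' ⟶ Y'}

/-- Base changes of `f` and `f'` differ by homeomorphisms. -/
theorem exists_baseChange_thick (hi : IsThickMor i) (hj : IsThickMor j) (w : i ≫ f' = f ≫ j)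
    (hY : IsAlgSpace Y) (hY' : IsAlgSpace Y') {Z : Sp S} (hZ : IsAlgSpace Z) (g : Z ⟶ Y') {P' : Sp S}
    {p' : P' ⟶ X'} {q' : P' ⟶ Z} (sq' : IsPullback p' q' f' g) :
    ∃ (Zj P : Sp S) (c : Zj ⟶ Z) (gj : Zj ⟶ Y) (p : P ⟶ X) (q : P ⟶ Zj) (e : P ⟶ P'),
      IsAlgSpace Zj ∧ IsPullback p q f gj ∧ IsThickMor c ∧ IsThickMor e ∧ e ≫ q' = q ≫ c := by
  haveI := mono_of_thick hj
  obtain ⟨Zj, gj, c, sqj⟩ : ∃ (Zj : Sp S) (gj : Zj ⟶ Y) (c : Zj ⟶ Z), IsPullback gj c j g :=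
    ⟨_, _, _, IsPullback.of_hasPullback _ _⟩
  obtain ⟨P, p, q, sq⟩ : ∃ (P : Sp S) (p : P ⟶ X) (q : P ⟶ Zj), IsPullback p q f gj :=
    ⟨_, _, _, IsPullback.of_hasPullback _ _⟩
  have ho : IsPullback p (q ≫ c) (i ≫ f') g := by
    rw [w]; exact sq.paste_vert sqj
  let e : P ⟶ P' := sq'.lift (p ≫ i) (q ≫ c) (by rw [Category.assoc]; exact ho.w)
  have hel : IsPullback p e i p' :=
    IsPullback.of_bot (by rw [sq'.lift_snd]; exact ho) (sq'.lift_fst _ _ _).symm sq'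
  exact ⟨Zj, P, c, gj, p, q, e, isAlgSpace_of_isPullback hY'.diag hY hZ sqj, sq,
    isThickMor_of_isPullback sqj hj, isThickMor_of_isPullback hel hi, sq'.lift_snd _ _ _⟩

theorem exists_baseChange_thick' (hi : IsThickMor i) (hj : IsThickMor j) (w : i ≫ f' = f ≫ j)
    {Z : Sp S} (g : Z ⟶ Y) {P : Sp S} {p : P ⟶ X} {q : P ⟶ Z} (sq : IsPullback p q f g) :
    ∃ (P' : Sp S) (p' : P' ⟶ X') (q' : P' ⟶ Z) (e : P ⟶ P'),
      IsPullback p' q' f' (g ≫ j) ∧ IsThickMor e ∧ e ≫ q' = q := by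
  haveI := mono_of_thick hj
  obtain ⟨P', p', q', sq'⟩ : ∃ (P' : Sp S) (p' : P' ⟶ X') (q' : P' ⟶ Z), IsPullback p' q' f' (g ≫ j) :=
    ⟨_, _, _, IsPullback.of_hasPullback _ _⟩
  have ho : IsPullback p q (i ≫ f') (g ≫ j) := by
    rw [w]
    have h1 : IsPullback g (𝟙 Z) (𝟙 Y) g := IsPullback.of_vert_isIso ⟨by simp⟩
    have h3 := sq.paste_vert (h1.paste_horiz (IsKernelPair.id_of_mono j : IsPullback (𝟙 Y) (𝟙 Y) j j))
    simpa using h3
  exact ⟨P', p', q', sq'.lift (p ≫ i) q (by rw [Category.assoc]; exact ho.w), sq',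
    isThickMor_of_isPullback (IsPullback.of_bot (by rw [sq'.lift_snd]; exact ho)
      (sq'.lift_fst _ _ _).symm sq') hi, sq'.lift_snd _ _ _⟩

/-- A topological property of maps of points holds universally for `f` iff for `f'`. -/
theorem univSp_iff (hi : IsThickMor i) (hj : IsThickMor j) (w : i ≫ f' = f ≫ j)
    (hY : IsAlgSpace Y) (hY' : IsAlgSpace Y') (Q : MorphismProperty (Sp S))
    (hpre : ∀ {A B C : Sp S} (e : A ⟶ B) (q : B ⟶ C), IsHomeomorph (Points.map e) → (Q (e ≫ q) ↔ Q q))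
    (hpost : ∀ {A B C : Sp S} (q : A ⟶ B) (c : B ⟶ C), IsHomeomorph (Points.map c) → (Q (q ≫ c) ↔ Q q)) :
    UnivSp Q f ↔ UnivSp Q f' := by
  constructor
  · intro h Z P' hZ g p' q' sq'
    obtain ⟨Zj, P, c, gj, p, q, e, hZj, sq, hc, he, heq⟩ := exists_baseChange_thick hi hj w hY hY' hZ g sq'
    rw [← hpre e q' (isHomeomorph_map_of_thick he), heq, hpost q c (isHomeomorph_map_of_thick hc)]
    exact h hZj gj p q sq
  · intro h Z P hZ g p q sq
    obtain ⟨P', p', q', e, sq', he, heq⟩ := exists_baseChange_thick' hi hj w g sq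
    rw [← heq, hpre e q' (isHomeomorph_map_of_thick he)]
    exact h hZ (g ≫ j) p' q' sq'

end Groth.Agent.ASp
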