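import Groth.Agent.ASp.LocP
import Groth.Agent.ASp.EtLocal
import Groth.Agent.FpqcDesc.Basic
import Groth.Agent.FlatLocus.SmoothFibres
import Groth.Prelude.Def_AlgSpGpd
import Mathlib.AlgebraicGeometry.Morphisms.LocalFlatDescent
/-!
Properties that can be tested on the fibre square, and their consequences for pseudo-torsors.
-/

set_option autoImplicit false
set_option backward.isDefEq.respectTransparency false
set_option backward.isDefEq.respectTransparency.types false

universe u

open CategoryTheory CategoryTheory.Limits AlgebraicGeometry Opposite MonoidalCategory CartesianMonoidalCategory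

namespace Groth.Agent.ASp

open _root_.AlgSp

/-- A fibrewise property descending along field extensions can be tested on the fibre square. -/
theorem of_selfBaseChange (P : MorphismProperty Scheme.{u}) [P.IsStableUnderBaseChange] [P.ContainsIdentities] [IsZariskiLocalAtSource P]
    [P.DescendsAlong (@Surjective ⊓ @Flat ⊓ @QuasiCompact)] {U V : Scheme.{u}} (h : U ⟶ V)
    (crit : (∀ y, P (h.fiberToSpecResidueField y)) → P h) (hP : P (pullback.snd h h)) : P h := by
  refine crit fun y => ?_
  by_cases hy : IsEmpty (h.fiber y)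
  · haveI := hy
    exact IsZariskiLocalAtSource.of_isOpenImmersion _
  obtain ⟨z⟩ := not_isEmpty_iff.1 hy
  let k := (h.fiber y).fromSpecResidueField z
  let c := k ≫ h.fiberToSpecResidueField y
  let σ := k ≫ h.fiberι y
  have hσ : σ ≫ h = c ≫ V.fromSpecResidueField y := by
    simp only [σ, c, Category.assoc, h.fiber_fac]
  have h1 : IsPullback (pullback.fst h (σ ≫ h)) (pullback.snd h (σ ≫ h)) h (σ ≫ h) :=
    IsPullback.of_hasPullback _ _
  have hsnd : P (pullback.snd h (σ ≫ h)) := by
    have sq := IsPullback.of_hasPullback h h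
    refine MorphismProperty.of_isPullback (f := σ)
      (f' := sq.lift (pullback.fst h (σ ≫ h)) (pullback.snd h (σ ≫ h) ≫ σ) (by rw [h1.w]; simp only [Category.assoc]))
      (IsPullback.of_right (h₁₂ := pullback.fst h h) (by rw [sq.lift_fst]; exact h1) (sq.lift_snd _ _ _) sq) hP
  have sqF : IsPullback (h.fiberι y) (h.fiberToSpecResidueField y) h (V.fromSpecResidueField y) :=
    IsPullback.of_hasPullback _ _
  have h2 : IsPullback (pullback.fst h (σ ≫ h)) (pullback.snd h (σ ≫ h)) h (c ≫ V.fromSpecResidueField y) := by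
    rw [← hσ]; exact h1
  have h3 := IsPullback.of_right (h₁₁ := sqF.lift (pullback.fst h (σ ≫ h)) (pullback.snd h (σ ≫ h) ≫ c)
      (by rw [h2.w]; simp only [Category.assoc])) (h₁₂ := h.fiberι y) (by rw [sqF.lift_fst]; exact h2) (sqF.lift_snd _ _ _) sqF
  haveI : Subsingleton ↥(Spec (V.residueField y)) := inferInstanceAs (Subsingleton (PrimeSpectrum _))
  haveI : Surjective c := ⟨fun s => ⟨IsLocalRing.closedPoint _, Subsingleton.elim _ _⟩⟩
  haveI : Flat c := by
    obtain ⟨φ, hφ⟩ : ∃ φ, Spec.map φ = c := ⟨_, Spec.map_preimage c⟩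
    rw [← hφ, HasRingHomProperty.Spec_iff (P := @Flat)]
    letI := φ.hom.toAlgebra
    exact RingHom.flat_algebraMap_iff.mpr inferInstance
  haveI : QuasiCompact c := inferInstance
  exact MorphismProperty.of_isPullback_of_descendsAlong (Q := @Surjective ⊓ @Flat ⊓ @QuasiCompact) h3.flip
    ⟨⟨inferInstance, inferInstance⟩, inferInstance⟩ hsnd

theorem formallyUnramified_of_selfBaseChange {U V : Scheme.{u}} (h : U ⟶ V) [LocallyOfFiniteType h]
    (hP : FormallyUnramified (pullback.snd h h)) : FormallyUnramified h :=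
  of_selfBaseChange @FormallyUnramified h (fun H => Groth.Agent.FlatLocus.formallyUnramified_of_fibres h H) hP

theorem locallyQuasiFinite_of_selfBaseChange {U V : Scheme.{u}} (h : U ⟶ V)
    (hP : LocallyQuasiFinite (pullback.snd h h)) : LocallyQuasiFinite h := by
  haveI := FpqcDesc.locallyQuasiFinite_descends.{u}
  exact of_selfBaseChange @LocallyQuasiFinite h (fun H => LocallyQuasiFinite.of_fiberToSpecResidueField h H) hP

variable {S : Scheme.{u}}

/-- Charts of a map whose self base change has `Q` have `Q` after self base change. -/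
theorem selfBaseChange_chart (Q : MorphismProperty Scheme.{u}) [IsEtLocal Q]
    (hQ : ∀ {X Y Z : Scheme.{u}} (f : X ⟶ Y) (g : Y ⟶ Z), Q (f ≫ g) → Q f)
    {X B : Sp S} (hX : IsAlgSpace X) (hB : IsAlgSpace B) {f : X ⟶ B} (hpr : LocP Q (pullback.snd f f))
    {U V : Over S} {a : (yon S).obj U ⟶ X} {b : (yon S).obj V ⟶ B} {h : U ⟶ V}
    (ha : RepWith @Etale a) (hb : RepWith @Etale b) (e : a ≫ f = (yon S).map h ≫ b) :
    Q (pullback.snd h.left h.left) := by
  obtain ⟨q, hq⟩ := (yon S).map_surjective (hb.1.fst (a ≫ f))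
  let p₂ := hb.1.snd (a ≫ f)
  have sq₂ : IsPullback ((yon S).map q) ((yon S).map p₂) b (a ≫ f) := by
    rw [hq]; exact hb.1.isPullback (a ≫ f)
  have sqT : IsPullback ((yon S).map (pullback.fst h q)) ((yon S).map (pullback.snd h q ≫ p₂)) (a ≫ f) (a ≫ f) := by
    have := ((IsPullback.of_hasPullback h q).map (yon S)).paste_vert sq₂
    rw [(yon S).map_comp (pullback.snd h q) p₂]
    rwa [← e] at this
  have sqZ : IsPullback (pullback.fst f (a ≫ f)) (pullback.snd f (a ≫ f)) f (a ≫ f) := IsPullback.of_hasPullback _ _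
  have hlift : ((yon S).map (pullback.fst h q) ≫ a) ≫ f = (yon S).map (pullback.snd h q ≫ p₂) ≫ a ≫ f := by
    rw [Category.assoc]; exact sqT.w
  let z := sqZ.lift ((yon S).map (pullback.fst h q) ≫ a) ((yon S).map (pullback.snd h q ≫ p₂)) hlift
  have hz : RepWith @Etale z := by
    refine repWith_of_isPullback (IsPullback.of_bot (h₁₁ := (yon S).map (pullback.fst h q)) (v₁₁ := z) ?_ ?_ sqZ) ha
    · rw [show z ≫ pullback.snd f (a ≫ f) = _ from sqZ.lift_snd _ _ _]; exact sqT
    · exact (sqZ.lift_fst _ _ hlift).symm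
  have hZ : LocP Q (pullback.snd f (a ≫ f)) := by
    have sqP : IsPullback (pullback.fst f f) (pullback.snd f f) f f := IsPullback.of_hasPullback _ _
    refine locP_of_isPullback (fst := pullback.snd f (a ≫ f))
      (snd := sqP.lift (pullback.fst f (a ≫ f)) (pullback.snd f (a ≫ f) ≫ a) (by rw [sqZ.w, Category.assoc]))
      (g := a) (f := pullback.snd f f) ?_ (isAlgSpace_pullback hB.diag hX hX f f) hX (IsAlgSpace.yon_obj U) hpr
    exact (IsPullback.of_right (h₁₂ := pullback.fst f f) (by rw [sqP.lift_fst]; exact sqZ) (sqP.lift_snd _ _ _) sqP).flip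
  have h1 : Q (pullback.snd h q ≫ p₂).left := hZ z (𝟙 _) _ hz (repWith_id _ U) (by
    rw [Category.comp_id]; exact sqZ.lift_snd _ _ _)
  have h2 : Q (pullback.snd h q).left := hQ _ p₂.left (by rw [← Over.comp_left]; exact h1)
  obtain ⟨σ, hσ⟩ := (yon S).map_surjective (sq₂.lift ((yon S).map h) (𝟙 _) (by rw [Category.id_comp]; exact e.symm))
  have hσq : σ ≫ q = h := (yon S).map_injective (by rw [(yon S).map_comp, hσ, sq₂.lift_fst])
  have sqS := isPullback_left (IsPullback.of_hasPullback h q)
  have h3 : IsPullback (pullback.fst h.left h.left) (pullback.snd h.left h.left) h.left (σ.left ≫ q.left) := by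
    rw [← Over.comp_left, hσq]; exact IsPullback.of_hasPullback _ _
  exact MorphismProperty.of_isPullback (f := σ.left)
    (f' := sqS.lift (pullback.fst h.left h.left) (pullback.snd h.left h.left ≫ σ.left)
      (by rw [h3.w, Category.assoc]))
    (IsPullback.of_right (h₁₂ := (pullback.fst h q).left) (by rw [sqS.lift_fst]; exact h3) (sqS.lift_snd _ _ _) sqS) h2

/-- The second projection of the fibre square of a pseudo-torsor inherits the properties of the group. -/
theorem locP_snd_of_isPseudoTorsor (Q : MorphismProperty Scheme.{u}) [IsEtLocal Q] {B : Sp S} (hB : IsAlgSpace B)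
    {G X : Over B} [GrpObj G] (hG : IsAlgSpace G.left) (hX : IsAlgSpace X.left) {a : GAction G X}
    (ha : a.IsPseudoTorsor) (h : LocP Q G.hom) : LocP Q (pullback.snd X.hom X.hom) := by
  haveI : IsIso (lift a.act (snd G X)).left := by
    haveI : IsIso (lift a.act (snd G X)) := ha
    exact inferInstanceAs (IsIso ((Over.forget B).map (lift a.act (snd G X))))
  let l := (lift a.act (snd G X)).left
  have hl : l ≫ pullback.snd X.hom X.hom = pullback.snd G.hom X.hom := by
    have e₁ : (snd X X).left = pullback.snd X.hom X.hom := Over.snd_left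
    have e₂ : (snd G X).left = pullback.snd G.hom X.hom := Over.snd_left
    rw [← e₁, ← e₂]
    exact congrArg CommaMorphism.left (lift_snd a.act (snd G X))
  have h1 : LocP Q (pullback.snd G.hom X.hom) :=
    locP_of_isPullback (IsPullback.of_hasPullback G.hom X.hom).flip hG hB hX h
  refine locP_of_isPullback (fst := pullback.snd X.hom X.hom) (snd := inv l) (g := 𝟙 X.left)
    (f := pullback.snd G.hom X.hom) (IsPullback.of_vert_isIso ⟨?_⟩) (isAlgSpace_pullback hB.diag hG hX _ _) hX hX h1
  rw [Category.comp_id, IsIso.eq_inv_comp]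
  exact hl

end Groth.Agent.ASp
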