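import Groth.Agent.ASp.ThickBase
/-!
Formal unramifiedness of a universal first order thickening.
-/

set_option autoImplicit false
set_option backward.isDefEq.respectTransparency false
set_option backward.isDefEq.respectTransparency.types false

universe u

open CategoryTheory CategoryTheory.Limits AlgebraicGeometry Opposite

namespace Groth.Agent.Inf

open _root_.AlgSp Groth.Agent.ASp

variable {S : Scheme.{u}} {Z Z' X : Sp S} {h : Z ⟶ X} {i : Z ⟶ Z'} {h' : Z' ⟶ X}

theorem le_and_eq_of_univ (HU : IsUnivFOThick h i h') (hh : IsFormallyUnramifiedMor h)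
    {A : Type u} [CommRing A] {I : Ideal A} (hI : I ^ 2 = ⊥) {str : Spec (CommRingCat.of A) ⟶ S}
    {l l' : (yon S).obj (TT str) ⟶ Z'}
    (e1 : (yon S).map (qI I str) ≫ l = (yon S).map (qI I str) ≫ l') (e2 : l ≫ h' = l' ≫ h')
    {K K' : Ideal A} (hK' : K' ^ 2 = ⊥) {z : (yon S).obj (T0 K str) ⟶ Z}
    {z' : (yon S).obj (T0 K' str) ⟶ Z} (sq : IsPullback z ((yon S).map (qI K str)) i l)
    (sq' : IsPullback z' ((yon S).map (qI K' str)) i l') :
    K' ≤ K ∧ (yon S).map (qI K str) ≫ l' = z ≫ i := by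
  haveI : Mono i := mono_of_repWith (P := thick) (fun g hg => by
    haveI : IsClosedImmersion g := hg.1
    infer_instance) HU.1.1
  let π : A →+* A ⧸ K := Ideal.Quotient.mk K
  let strB := strR π str
  let J : Ideal (A ⧸ K) := K'.map π
  have hqc : qI J strB ≫ qI K str = cc0 π K' str ≫ qI K' str := (cc0_qI π K' str).symm
  let z₁ : (yon S).obj (T0 J strB) ⟶ Z := (yon S).map (qI J strB) ≫ z
  let z₂ : (yon S).obj (T0 J strB) ⟶ Z := (yon S).map (cc0 π K' str) ≫ z'
  have hz₁i : z₁ ≫ i = (yon S).map (qI J strB) ≫ (yon S).map (qI K str) ≫ l :=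
    (Category.assoc _ _ _).trans (congrArg ((yon S).map (qI J strB) ≫ ·) sq.w)
  have hz₂i : z₂ ≫ i = (yon S).map (qI J strB) ≫ (yon S).map (qI K str) ≫ l' := by
    rw [show z₂ ≫ i = (yon S).map (cc0 π K' str) ≫ (z' ≫ i) from Category.assoc _ _ _, sq'.w,
      ← Functor.map_comp_assoc, ← hqc, Functor.map_comp_assoc]
  have hzh : z₁ ≫ h = z₂ ≫ h := by
    rw [← HU.2.1, ← Category.assoc, ← Category.assoc, hz₁i, hz₂i]
    simp only [Category.assoc, e2]
  have hC := map_sq_zero (Ideal.Quotient.mk J) (map_sq_zero π hI)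
  let θ : Ideal ((A ⧸ K) ⧸ J) := (I.map π).map (Ideal.Quotient.mk J)
  have hchain : qI θ (strR (Ideal.Quotient.mk J) strB) ≫ qI J strB ≫ qI K str =
      (cc0 (Ideal.Quotient.mk J) (I.map π) strB ≫ cc0 π I str) ≫ qI I str := by
    rw [Category.assoc, cc0_qI π I str, cc0_qI_assoc (Ideal.Quotient.mk J) (I.map π) strB]
  have hz : z₁ = z₂ := by
    refine hh { A := (A ⧸ K) ⧸ J, I := θ, sq_zero := hC, str := strR (Ideal.Quotient.mk J) strB,
                top := (yon S).map (qI θ (strR (Ideal.Quotient.mk J) strB)) ≫ z₁, bot := z₁ ≫ h,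
                comm := Category.assoc _ _ _ } z₁ z₂ rfl rfl ?_ hzh.symm
    show (yon S).map (qI θ (strR (Ideal.Quotient.mk J) strB)) ≫ z₂ =
      (yon S).map (qI θ (strR (Ideal.Quotient.mk J) strB)) ≫ z₁
    refine (cancel_mono i).1 ((Category.assoc _ z₂ i).trans ((congrArg (_ ≫ ·) hz₂i).trans
      (Eq.trans ?_ ((congrArg (_ ≫ ·) hz₁i.symm).trans (Category.assoc _ z₁ i).symm))))
    simp only [← Functor.map_comp_assoc]
    simp only [hchain, Functor.map_comp, Category.assoc, e1]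
  have hJ : J ^ 2 = ⊥ := map_sq_zero π hK'
  have hbw : (yon S).map (qI J strB) ≫ z ≫ h = z₁ ≫ h := (Category.assoc _ _ _).symm
  have hm : (yon S).map (qI K str) ≫ l' = z ≫ i := by
    refine (HU.2.2 (IsAlgSpace.yon_obj (T0 J strB)) (IsAlgSpace.yon_obj (TT strB))
      ((yon S).map (qI J strB)) z₁ (z ≫ h) (isFOThickMor_qI hJ strB) hbw).unique
      ⟨?_, ?_⟩ ⟨?_, ?_⟩
    · rw [hz]; exact hz₂i.symm
    · exact (Category.assoc _ _ _).trans ((congrArg ((yon S).map (qI K str) ≫ ·) e2.symm).trans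
        (((Category.assoc _ _ _).symm.trans (congrArg (· ≫ h') sq.w.symm)).trans
          ((Category.assoc _ _ _).trans (congrArg (z ≫ ·) HU.2.1))))
    · exact (Category.assoc _ _ _).symm
    · exact (Category.assoc _ _ _).trans (congrArg (z ≫ ·) HU.2.1)
  refine ⟨?_, hm⟩
  obtain ⟨w, hw⟩ := (yon S).map_surjective (sq'.lift z ((yon S).map (qI K str)) hm.symm)
  have hw2 : w ≫ qI K' str = qI K str :=
    (yon S).map_injective (by rw [Functor.map_comp, hw, sq'.lift_snd])
  obtain ⟨α, hα⟩ := Spec.map_surjective w.left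
  have hring : CommRingCat.ofHom (Ideal.Quotient.mk K') ≫ α = CommRingCat.ofHom (Ideal.Quotient.mk K) := by
    apply Spec.map_injective
    rw [Spec.map_comp, hα]
    exact congrArg CommaMorphism.left hw2
  intro a ha
  have := congrArg (fun r => r.hom a) hring
  simp only [CommRingCat.hom_comp, CommRingCat.hom_ofHom, RingHom.comp_apply,
    Ideal.Quotient.eq_zero_iff_mem.2 ha, map_zero] at this
  exact Ideal.Quotient.eq_zero_iff_mem.1 this.symm

/-- The structure map of a universal first order thickening is formally unramified. -/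
theorem isFormallyUnramifiedMor_of_univ (hZ' : IsAlgSpace Z') (HU : IsUnivFOThick h i h')
    (hh : IsFormallyUnramifiedMor h) : IsFormallyUnramifiedMor h' := by
  intro sq l l' a1 a2 a3 a4
  obtain ⟨A, I, hI, str, top, bot, comm⟩ := sq
  have e1 : (yon S).map (qI I str) ≫ l = (yon S).map (qI I str) ≫ l' := a1.trans a3.symm
  have e2 : l ≫ h' = l' ≫ h' := a2.trans a4.symm
  obtain ⟨K, hK, z, sqz⟩ := exists_pullback_qI HU.1 hZ' l
  obtain ⟨K', hK', z', sqz'⟩ := exists_pullback_qI HU.1 hZ' l'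
  obtain ⟨h12, hm⟩ := le_and_eq_of_univ HU hh hI e1 e2 hK' sqz sqz'
  exact (HU.2.2 (IsAlgSpace.yon_obj (T0 K str)) (IsAlgSpace.yon_obj (TT str))
    ((yon S).map (qI K str)) z (l ≫ h') (isFOThickMor_qI hK str)
    ((Category.assoc _ _ _).symm.trans ((congrArg (· ≫ h') sqz.w.symm).trans
      ((Category.assoc _ _ _).trans (congrArg (z ≫ ·) HU.2.1))))).unique
    ⟨sqz.w.symm, rfl⟩ ⟨hm, e2.symm⟩

end Groth.Agent.Inf
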