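import Groth.Agent.ASp.ThickGlue
import Groth.Agent.ASp.EqvQuot
import Groth.Agent.ASp.ClosedIdeal
import Groth.Agent.ASp.Affine
import Groth.Agent.BlowCompLib.Compose
import Groth.Agent.EtGlueLib.Equiv
import Groth.Agent.ConormalLib.Exist
import Groth.Agent.S10534
import Groth.Agent.S10632
import Groth.Agent.ASp.BaseDesc
/-!
Existence of universal first order thickenings of algebraic spaces: charts and descent.
-/

set_option autoImplicit false
set_option backward.isDefEq.respectTransparency false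
set_option backward.isDefEq.respectTransparency.types false

universe u

open CategoryTheory CategoryTheory.Limits AlgebraicGeometry Opposite

namespace Groth.Agent.Inf

open _root_.AlgSp Groth.Agent.ASp

variable {S : Scheme.{u}}

theorem isPullback_of_left {A B C D : Over S} {a : A ⟶ B} {b : A ⟶ C} {c : B ⟶ D} {d : C ⟶ D}
    (w : a ≫ c = b ≫ d) (h : IsPullback a.left b.left c.left d.left) : IsPullback a b c d :=
  IsPullback.of_map (Over.forget S) w h

/-- First order thickenings of schemes are first order thickenings of spaces. -/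
theorem isFOThickMor_yon_map {U U' : Over S} (i : U ⟶ U')
    (h : MoreMor.IsFirstOrderThickening i.left) : IsFOThickMor ((yon S).map i) := by
  refine ⟨(isThickMor_yon_map_iff _).2 h.1, fun V W b fst snd _ _ sq => ?_⟩
  obtain ⟨g, rfl⟩ := (yon S).map_surjective b
  obtain ⟨f, rfl⟩ := (yon S).map_surjective fst
  exact (Groth.Agent.ConormalLib.isFirstOrderThickening_of_isPullback
    (isPullback_left (isPullback_of_yon_map sq)) h).2

/-- A universal thickening of schemes over an etale chart of the target is universal over the target. -/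
theorem isUnivFOThick_of_scheme {X : Sp S} {V U U' : Over S} {q : (yon S).obj V ⟶ X}
    (hq : RepWith @Etale q) {k : U ⟶ V} {i : U ⟶ U'} {k' : U' ⟶ V}
    (hu : OmegaSh.IsUnivThickening k.left i.left k'.left) :
    IsUnivFOThick ((yon S).map k ≫ q) ((yon S).map i) ((yon S).map k' ≫ q) := by
  have hik : i ≫ k' = k := Over.OverMorphism.ext hu.2.1
  refine isUnivFOThick_of_affine (isFOThickMor_yon_map i hu.1)
    (by rw [← Functor.map_comp_assoc, hik]) fun A _ I hI str a b e => ?_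
  obtain ⟨a₁, rfl⟩ := (yon S).map_surjective a
  obtain ⟨v, ⟨hv1, hv2⟩, hvu⟩ := existsUnique_chart_lift (A := A) (I := I) hI hq b (a₁ ≫ k)
    (by rw [Functor.map_comp, Category.assoc]; exact e.symm)
  have hth : MoreMor.IsFirstOrderThickening (qI I str).left :=
    isFirstOrderThickening_of_isFOThickMor_yon_map (inferInstanceAs (IsAffine (Spec (CommRingCat.of A))))
      (isFOThickMor_qI hI str)
  obtain ⟨m, ⟨hm1, hm2⟩, hmu⟩ := hu.2.2 _ _ (qI I str).left v.left a₁.left hth
    (congrArg CommaMorphism.left hv1)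
  let m' : TT str ⟶ U' := Over.homMk m (by
    show m ≫ U'.hom = _
    rw [← Over.w k', ← Category.assoc, hm2]; exact Over.w v)
  have h1 : qI I str ≫ m' = a₁ ≫ i := Over.OverMorphism.ext hm1
  have h2 : m' ≫ k' = v := Over.OverMorphism.ext hm2
  refine ⟨(yon S).map m', ⟨by rw [← Functor.map_comp, h1, Functor.map_comp],
    by rw [← Functor.map_comp_assoc, h2, hv2]⟩, fun n ⟨hn1, hn2⟩ => ?_⟩
  obtain ⟨n', rfl⟩ := (yon S).map_surjective n
  have e1 : qI I str ≫ n' = a₁ ≫ i := (yon S).map_injective (by simpa using hn1)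
  have e2 : n' ≫ k' = v := hvu _ ⟨by rw [← Category.assoc, e1, Category.assoc, hik], by
    rw [Functor.map_comp, Category.assoc]; exact hn2⟩
  refine congrArg (yon S).map (Over.OverMorphism.ext ?_)
  exact hmu _ ⟨congrArg CommaMorphism.left e1, congrArg CommaMorphism.left e2⟩

/-- Universality pulls back along an etale morphism of thickened schemes. -/
theorem isUnivFOThick_etale_scheme {X : Space S} {U U' R R' : Over S} {i : U ⟶ U'} {s : R ⟶ U}
    {h : (yon S).obj U ⟶ X.obj} {h' : (yon S).obj U' ⟶ X.obj}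
    (HU : IsUnivFOThick h ((yon S).map i) h') {i' : R ⟶ R'} {s' : R' ⟶ U'}
    (hs : Etale s.left) (hs' : Etale s'.left) (sq : IsPullback s i' i s') :
    IsUnivFOThick ((yon S).map s ≫ h) ((yon S).map i') ((yon S).map s' ≫ h') :=
  Groth.Agent.S10632.result (S := S) (Z := ⟨_, IsAlgSpace.yon_obj R⟩) (Y := ⟨_, IsAlgSpace.yon_obj U⟩)
    (Y' := ⟨_, IsAlgSpace.yon_obj U'⟩) (Z' := ⟨_, IsAlgSpace.yon_obj R'⟩)
    (ObjectProperty.homMk ((yon S).map s)) ((isEtaleMor_yon_map_iff s).2 hs) (ObjectProperty.homMk h)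
    (ObjectProperty.homMk ((yon S).map i)) (ObjectProperty.homMk h') HU
    (ObjectProperty.homMk ((yon S).map i')) (ObjectProperty.homMk ((yon S).map s'))
    ((isEtaleMor_yon_map_iff s').2 hs') (isPullback_yon_map sq)

/-- Etale schemes lift uniquely along a thickening. -/
theorem exists_etale_lift_thick {U U' R : Over S} (i : U ⟶ U') (hi : MoreMor.IsThickening i.left)
    (s : R ⟶ U) (hs : Etale s.left) :
    ∃ (R' : Over S) (i' : R ⟶ R') (s' : R' ⟶ U'), Etale s'.left ∧ IsPullback s i' i s' := by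
  haveI := hi.1
  haveI := hi.2
  haveI := hs
  obtain ⟨V, v, π, hv, hπ⟩ := EtGlueLib.exists_isPullback (f := i.left) (u := s.left) fun z =>
    EtGlueLib.exists_model_closedImmersion i.left s.left z
  let i' : R ⟶ Over.mk (v ≫ U'.hom) := Over.homMk π (by
    show π ≫ v ≫ U'.hom = R.hom
    rw [← Category.assoc, hπ.w, Category.assoc, Over.w i, Over.w s])
  let s' : Over.mk (v ≫ U'.hom) ⟶ U' := Over.homMk v rfl
  exact ⟨_, i', s', hv, isPullback_of_left (Over.OverMorphism.ext hπ.w.symm) hπ.flip⟩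

/-- The relation induced on a universal thickening of an atlas is an equivalence relation. -/
theorem isEtaleEqvRel_univ {Z X : Sp S} {U R U' R' : Over S} {p : (yon S).obj U ⟶ Z} {s t : R ⟶ U}
    (hR : IsPullback ((yon S).map t) ((yon S).map s) p p) {h : (yon S).obj U ⟶ X}
    {i : U ⟶ U'} {hU' : (yon S).obj U' ⟶ X} (HU : IsUnivFOThick h ((yon S).map i) hU')
    {iR : R ⟶ R'} {s' t' : R' ⟶ U'} (hs : IsPullback s iR i s') (ht : IsPullback t iR i t')
    (hse : Etale s'.left) (hte : Etale t'.left)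
    (HR : IsUnivFOThick ((yon S).map s ≫ h) ((yon S).map iR) ((yon S).map s' ≫ hU'))
    (hst : (yon S).map t' ≫ hU' = (yon S).map s' ≫ hU') : IsEtaleEqvRel s' t' := by
  haveI : Mono ((yon S).map i) := mono_of_repWith (P := thick)
    (fun g hg => haveI : IsClosedImmersion g := hg.1; inferInstance) HU.1.1
  haveI : Mono i := (yon S).mono_of_mono_map inferInstance
  -- restriction of a point of `R'` to the reduced test scheme
  have thk : ∀ {T : Over S} (x : T ⟶ U') , ∃ (T₀ : Over S) (j : T₀ ⟶ T) (x₀ : T₀ ⟶ U),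
      IsFOThickMor ((yon S).map j) ∧ IsPullback x₀ j i x := fun {T} x =>
    ⟨_, pullback.snd i x, pullback.fst i x, isFOThickMor_of_isPullback
      (isPullback_yon_map (IsPullback.of_hasPullback i x)) HU.1 (IsAlgSpace.yon_obj U'),
      IsPullback.of_hasPullback i x⟩
  have lift : ∀ {T₀ T : Over S} (j : T₀ ⟶ T) (a b : T ⟶ U') (a₀ b₀ : T₀ ⟶ U),
      IsFOThickMor ((yon S).map j) → a₀ ≫ i = j ≫ a → b₀ ≫ i = j ≫ b →
      (yon S).map a₀ ≫ p = (yon S).map b₀ ≫ p → (yon S).map a ≫ hU' = (yon S).map b ≫ hU' →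
      ∃ x : T ⟶ R', x ≫ t' = a ∧ x ≫ s' = b := by
    intro T₀ T j a b a₀ b₀ hj ha hb hp hh
    obtain ⟨r, hr⟩ := (yon S).map_surjective (hR.lift ((yon S).map a₀) ((yon S).map b₀) hp)
    have hrt : r ≫ t = a₀ := (yon S).map_injective (by rw [Functor.map_comp, hr, hR.lift_fst])
    have hrs : r ≫ s = b₀ := (yon S).map_injective (by rw [Functor.map_comp, hr, hR.lift_snd])
    have eb : (yon S).map j ≫ (yon S).map b ≫ hU' = (yon S).map r ≫ (yon S).map s ≫ h := by
      rw [← HU.2.1, ← Functor.map_comp_assoc, ← Functor.map_comp_assoc, ← Functor.map_comp_assoc,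
        hrs, hb]
    obtain ⟨x, ⟨hx1, hx2⟩, -⟩ := HR.2.2 (IsAlgSpace.yon_obj T₀) (IsAlgSpace.yon_obj T)
      ((yon S).map j) ((yon S).map r) ((yon S).map b ≫ hU') hj eb
    obtain ⟨x, rfl⟩ := (yon S).map_surjective x
    have hx1' : j ≫ x = r ≫ iR := (yon S).map_injective (by simpa using hx1)
    have eb' : (yon S).map j ≫ (yon S).map b ≫ hU' = (yon S).map b₀ ≫ h := by
      rw [← HU.2.1, ← Functor.map_comp_assoc, ← Functor.map_comp_assoc, hb]
    have ea' : (yon S).map j ≫ (yon S).map a ≫ hU' = (yon S).map a₀ ≫ h := by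
      rw [← HU.2.1, ← Functor.map_comp_assoc, ← Functor.map_comp_assoc, ha]
    refine ⟨x, (yon S).map_injective ((HU.2.2 (IsAlgSpace.yon_obj T₀) (IsAlgSpace.yon_obj T)
      ((yon S).map j) ((yon S).map a₀) ((yon S).map a ≫ hU') hj ea').unique ⟨?_, ?_⟩ ⟨?_, rfl⟩),
      (yon S).map_injective ((HU.2.2 (IsAlgSpace.yon_obj T₀) (IsAlgSpace.yon_obj T)
      ((yon S).map j) ((yon S).map b₀) ((yon S).map b ≫ hU') hj eb').unique ⟨?_, ?_⟩ ⟨?_, rfl⟩)⟩
    · rw [← Functor.map_comp, ← Functor.map_comp, ← hrt, reassoc_of% hx1', ← ht.w, Category.assoc]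
    · rw [Functor.map_comp, Category.assoc, hst, hx2, hh]
    · rw [← Functor.map_comp, ← Functor.map_comp, ha]
    · rw [← Functor.map_comp, ← Functor.map_comp, ← hrs, reassoc_of% hx1', ← hs.w, Category.assoc]
    · rw [Functor.map_comp, Category.assoc]; exact hx2
    · rw [← Functor.map_comp, ← Functor.map_comp, hb]
  have hh : ∀ {T : Over S} (x : T ⟶ R'),
      (yon S).map (x ≫ t') ≫ hU' = (yon S).map (x ≫ s') ≫ hU' := fun x => by
    simp only [Functor.map_comp, Category.assoc, hst]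
  refine ⟨⟨fun T x y h1 h2 => ?_, fun T => ⟨fun a => ?_, ?_, ?_⟩⟩, hse, hte⟩
  · -- injectivity
    obtain ⟨T₀, j, a₀, hj, sa⟩ := thk (x ≫ s')
    have hy : a₀ ≫ i = (j ≫ y) ≫ s' := by rw [sa.w, h2, Category.assoc]
    have hx : a₀ ≫ i = (j ≫ x) ≫ s' := by rw [sa.w, Category.assoc]
    have e : hs.lift a₀ (j ≫ x) hx = hs.lift a₀ (j ≫ y) hy := by
      refine (yon S).map_injective (hR.hom_ext ?_ ?_)
      · rw [← Functor.map_comp, ← Functor.map_comp]
        refine congrArg _ ((cancel_mono i).1 ?_)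
        rw [Category.assoc, Category.assoc, ht.w, hs.lift_snd_assoc, hs.lift_snd_assoc,
          Category.assoc, Category.assoc, h1]
      · rw [← Functor.map_comp, ← Functor.map_comp, hs.lift_fst, hs.lift_fst]
    refine (yon S).map_injective ((HR.2.2 (IsAlgSpace.yon_obj T₀) (IsAlgSpace.yon_obj T)
      ((yon S).map j) ((yon S).map (hs.lift a₀ (j ≫ x) hx)) ((yon S).map x ≫ (yon S).map s' ≫ hU') hj ?_).unique
      ⟨?_, rfl⟩ ⟨?_, ?_⟩)
    · rw [← HU.2.1]
      simp only [← Functor.map_comp_assoc]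
      rw [hs.lift_fst_assoc, sa.w]
    · rw [← Functor.map_comp, ← Functor.map_comp, hs.lift_snd]
    · rw [e, ← Functor.map_comp, ← Functor.map_comp, hs.lift_snd]
    · rw [← Functor.map_comp_assoc, ← Functor.map_comp_assoc, h2]
  · obtain ⟨T₀, j, a₀, hj, sa⟩ := thk a
    exact lift j a a a₀ a₀ hj sa.w sa.w rfl rfl
  · rintro a b ⟨x, rfl, rfl⟩
    obtain ⟨T₀, j, b₀, hj, sb⟩ := thk (x ≫ s')
    have hl : b₀ ≫ i = (j ≫ x) ≫ s' := by rw [sb.w, Category.assoc]
    refine lift j _ _ b₀ (hs.lift b₀ (j ≫ x) hl ≫ t) hj sb.w ?_ ?_ (hh x).symm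
    · rw [Category.assoc, ht.w, hs.lift_snd_assoc, Category.assoc]
    · rw [Functor.map_comp, Category.assoc, hR.w, ← Functor.map_comp_assoc, hs.lift_fst]
  · rintro a b c ⟨x, rfl, rfl⟩ ⟨y, hy, rfl⟩
    obtain ⟨T₀, j, b₀, hj, sb⟩ := thk (x ≫ s')
    have hl : b₀ ≫ i = (j ≫ x) ≫ s' := by rw [sb.w, Category.assoc]
    have hl' : b₀ ≫ i = (j ≫ y) ≫ t' := by rw [sb.w, Category.assoc, hy]
    refine lift j _ _ (hs.lift b₀ (j ≫ x) hl ≫ t) (ht.lift b₀ (j ≫ y) hl' ≫ s) hj ?_ ?_ ?_ ?_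
    · rw [Category.assoc, ht.w, hs.lift_snd_assoc, Category.assoc]
    · rw [Category.assoc, hs.w, ht.lift_snd_assoc, Category.assoc]
    · rw [Functor.map_comp, Functor.map_comp, Category.assoc, Category.assoc, hR.w,
        ← Functor.map_comp_assoc, hs.lift_fst, ← hR.w, ← Functor.map_comp_assoc, ht.lift_fst]
    · rw [hh x, ← hy, hh y]

/-- A map of quotients compatible with a cartesian map of the relations is cartesian. -/
theorem isPullback_quot_map {Z Z' A A' B B' : Sp S} {p : A ⟶ Z} (hpe : RepWith @Etale p)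
    (hps : RepWith @Surjective p) {π : A' ⟶ Z'}
    {i : A ⟶ A'} [Mono i] {iZ : Z ⟶ Z'} {s t : B ⟶ A} {s' t' : B' ⟶ A'} {iB : B ⟶ B'}
    (hp : IsPullback t s p p) (hπ : IsPullback t' s' π π) (hs : IsPullback s iB i s')
    (ht : t ≫ i = iB ≫ t') (w : p ≫ iZ = i ≫ π) : IsPullback p i iZ π := by
  let hQ := IsPullback.of_hasPullback iZ π
  let c := hQ.lift p i w
  haveI : Mono c := by
    haveI : Mono (c ≫ pullback.snd iZ π) := by rw [hQ.lift_snd]; infer_instance
    exact mono_of_mono c (pullback.snd iZ π)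
  let hP := IsPullback.of_hasPullback p (pullback.fst iZ π)
  let P₁ := pullback.fst p (pullback.fst iZ π)
  let P₂ := pullback.snd p (pullback.fst iZ π)
  haveI : Epi P₂ := epi_of_etale_surjective (repWith_of_isPullback hP hpe) (repWith_of_isPullback hP hps)
  have e : (P₂ ≫ pullback.snd iZ π) ≫ π = (P₁ ≫ i) ≫ π := by
    rw [Category.assoc, ← pullback.condition, ← Category.assoc P₂, ← pullback.condition,
      Category.assoc, Category.assoc, w]
  let r' := hπ.lift (P₂ ≫ pullback.snd iZ π) (P₁ ≫ i) e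
  let r := hs.lift P₁ r' (hπ.lift_snd _ _ e).symm
  have hrt : (r ≫ t) ≫ i = P₂ ≫ pullback.snd iZ π := by
    rw [Category.assoc, ht, hs.lift_snd_assoc, hπ.lift_fst]
  have hd : (r ≫ t) ≫ c = P₂ := by
    refine hQ.hom_ext ?_ ?_
    · rw [Category.assoc, hQ.lift_fst, Category.assoc, hp.w, hs.lift_fst_assoc]
      exact pullback.condition
    · rw [Category.assoc, hQ.lift_snd, hrt]
  haveI : Epi c := by
    haveI : Epi ((r ≫ t) ≫ c) := by rw [hd]; infer_instance
    exact epi_of_epi (r ≫ t) c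
  haveI : IsIso c := isIso_of_mono_of_epi c
  exact IsPullback.of_iso hQ (asIso c).symm (Iso.refl _) (Iso.refl _) (Iso.refl _)
    (by rw [Iso.symm_hom, asIso_inv, Iso.refl_hom, Category.comp_id, IsIso.eq_inv_comp, hQ.lift_fst])
    (by rw [Iso.symm_hom, asIso_inv, Iso.refl_hom, Category.comp_id, IsIso.eq_inv_comp, hQ.lift_snd])
    (by simp) (by simp)

/-- Being a first order thickening descends along an etale chart of the target. -/
theorem isFOThickMor_of_chart {Z Z' : Space S} {U U' : Over S} {iZ : Z ⟶ Z'}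
    {π : (yon S).obj U' ⟶ Z'.obj} (hπe : RepWith @Etale π) (hπs : RepWith @Surjective π) {i : U ⟶ U'}
    {p : (yon S).obj U ⟶ Z.obj} (sq : IsPullback p ((yon S).map i) iZ.hom π)
    (hi : MoreMor.IsFirstOrderThickening i.left) : IsFOThickMor iZ.hom := by
  have hcl : RepWith @IsClosedImmersion iZ.hom := ASp.of_chart (Groth.Agent.S10534.result S) iZ hπe hπs sq
    ((repWith_yon_map_iff _ _).2 hi.1.1)
  have hs : RepWith @Surjective iZ.hom := (repWith_surjective_iff hcl.1).2 fun y => by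
    obtain ⟨v, rfl⟩ := surjective_map_of_repWith hπs y
    have hsi : RepWith @Surjective ((yon S).map i) := (repWith_yon_map_iff _ _).2 hi.1.2
    obtain ⟨w, rfl⟩ := surjective_map_of_repWith hsi v
    exact ⟨Points.map p w, by rw [← Points.map_comp, ← Points.map_comp, sq.w]⟩
  refine ⟨repWith_inf hcl hs, fun V W b fst snd _ hb sqW => ?_⟩
  obtain ⟨M, m₁, m₂, hM⟩ := exists_isPullback_yon hπe.1 b
  haveI : Flat m₂.left := haveI : Etale m₂.left := hπe.2 _ _ _ hM; inferInstance
  haveI : Surjective m₂.left := hπs.2 _ _ _ hM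
  haveI : IsClosedImmersion snd.left := hcl.2 _ _ _ sqW
  have hP : IsPullback (pullback.fst snd m₂) (pullback.snd snd m₂) snd m₂ := IsPullback.of_hasPullback _ _
  have big : IsPullback ((yon S).map (pullback.fst snd m₂) ≫ fst) ((yon S).map (pullback.snd snd m₂))
      iZ.hom ((yon S).map m₁ ≫ π) := by
    rw [hM.w]
    exact (isPullback_yon_map hP).paste_horiz sqW
  let l := sq.lift ((yon S).map (pullback.fst snd m₂) ≫ fst) ((yon S).map (pullback.snd snd m₂ ≫ m₁))
    (by rw [big.w, Functor.map_comp, Category.assoc])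
  have hsq : IsPullback l ((yon S).map (pullback.snd snd m₂)) ((yon S).map i) ((yon S).map m₁) := by
    refine IsPullback.of_right ?_ ?_ sq
    · rw [sq.lift_fst]; exact big
    · rw [sq.lift_snd, Functor.map_comp]
  obtain ⟨l', hl⟩ := (yon S).map_surjective l
  rw [← hl] at hsq
  have h0 := (Groth.Agent.ConormalLib.isFirstOrderThickening_of_isPullback
    (isPullback_left (isPullback_of_yon_map hsq)) hi).2
  have hk : snd.left.ker.comap m₂.left = (pullback.snd snd m₂).left.ker := by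
    rw [← Scheme.IdealSheafData.ker_fst_of_isClosedImmersion, ← (isPullback_left hP).flip.isoPullback_hom_fst,
      Scheme.Hom.ker_comp_of_isIso]
  have hle : snd.left.ker * snd.left.ker ≤ (⊥ : M.left.IdealSheafData).map m₂.left :=
    Scheme.IdealSheafData.le_map_iff_comap_le.2
      (le_of_eq ((Groth.Agent.BlowCompLib.comap_mul m₂.left _ _).trans
        ((congrArg (fun K => K * K) hk).trans h0)))
  rw [Scheme.IdealSheafData.map_bot, ker_eq_bot_of_flat_surjective m₂.left] at hle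
  exact le_bot_iff.1 hle

end Groth.Agent.Inf

namespace Groth.Agent.Inf

open _root_.AlgSp Groth.Agent.ASp

variable {S : Scheme.{u}}

/-- Universal thickenings of a scheme are uniquely isomorphic. -/
theorem exists_iso_of_univ {X : Sp S} {R R₁ R₂ : Over S} {h : (yon S).obj R ⟶ X} {i₁ : R ⟶ R₁}
    {i₂ : R ⟶ R₂} {h₁ : (yon S).obj R₁ ⟶ X} {h₂ : (yon S).obj R₂ ⟶ X}
    (H₁ : IsUnivFOThick h ((yon S).map i₁) h₁) (H₂ : IsUnivFOThick h ((yon S).map i₂) h₂) :
    ∃ c : R₁ ≅ R₂, i₁ ≫ c.hom = i₂ ∧ (yon S).map c.hom ≫ h₂ = h₁ := by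
  have hR₀ := IsAlgSpace.yon_obj (S := S) R
  have hR₁ := IsAlgSpace.yon_obj (S := S) R₁
  have hR₂ := IsAlgSpace.yon_obj (S := S) R₂
  obtain ⟨φ, ⟨hφ1, hφ2⟩, -⟩ := H₂.2.2 hR₀ hR₁ ((yon S).map i₁) (𝟙 _) _ H₁.1
    (H₁.2.1.trans (Category.id_comp _).symm)
  obtain ⟨ψ, ⟨hψ1, hψ2⟩, -⟩ := H₁.2.2 hR₀ hR₂ ((yon S).map i₂) (𝟙 _) _ H₂.1
    (H₂.2.1.trans (Category.id_comp _).symm)
  rw [Category.id_comp] at hφ1 hψ1
  have hφψ : φ ≫ ψ = 𝟙 _ := by
    refine (H₁.2.2 hR₀ hR₁ ((yon S).map i₁) (𝟙 _) _ H₁.1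
      (H₁.2.1.trans (Category.id_comp _).symm)).unique ⟨?_, ?_⟩ ⟨?_, Category.id_comp _⟩
    · rw [← Category.assoc, hφ1, hψ1, Category.id_comp]
    · rw [Category.assoc, hψ2, hφ2]
    · rw [Category.comp_id, Category.id_comp]
  have hψφ : ψ ≫ φ = 𝟙 _ := by
    refine (H₂.2.2 hR₀ hR₂ ((yon S).map i₂) (𝟙 _) _ H₂.1
      (H₂.2.1.trans (Category.id_comp _).symm)).unique ⟨?_, ?_⟩ ⟨?_, Category.id_comp _⟩
    · rw [← Category.assoc, hψ1, hφ1, Category.id_comp]
    · rw [Category.assoc, hφ2, hψ2]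
    · rw [Category.comp_id, Category.id_comp]
  refine ⟨(yon S).preimageIso ⟨φ, ψ, hφψ, hψφ⟩, (yon S).map_injective ?_, ?_⟩
  · rw [Functor.map_comp, Functor.preimageIso_hom, Functor.map_preimage, hφ1]
  · rw [Functor.preimageIso_hom, Functor.map_preimage, hφ2]

/-- Charts of a universal first order thickening are universal first order thickenings. -/
theorem exists_univ_chart {Z Z' X : Space S} {h : Z ⟶ X} {i : Z ⟶ Z'} {h' : Z' ⟶ X}
    (HU : IsUnivFOThick h.hom i.hom h'.hom) :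
    ∃ (U U' : Over S) (iU : U ⟶ U') (p : (yon S).obj U ⟶ Z.obj) (q : (yon S).obj U' ⟶ Z'.obj),
      RepWith @Etale p ∧ RepWith @Surjective p ∧ RepWith @Etale q ∧ RepWith @Surjective q ∧
      MoreMor.IsThickening iU.left ∧ IsPullback p ((yon S).map iU) i.hom q ∧
      IsUnivFOThick (p ≫ h.hom) ((yon S).map iU) (q ≫ h'.hom) := by
  obtain ⟨U', q, hqe, hqs⟩ := Z'.property.atlas
  obtain ⟨U, p, iU, sq⟩ : ∃ (U : Over S) (p : (yon S).obj U ⟶ Z.obj) (iU : U ⟶ U'),
      IsPullback p ((yon S).map iU) i.hom q := ⟨_, _, _, HU.1.1.1.isPullback q⟩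
  have hpe : RepWith @Etale p := repWith_of_isPullback sq.flip hqe
  refine ⟨U, U', iU, p, q, hpe, repWith_of_isPullback sq.flip hqs, hqe, hqs,
    (isThickMor_yon_map_iff iU).1 (repWith_of_isPullback sq HU.1.1), sq, ?_⟩
  exact Groth.Agent.S10632.result (Z := ⟨_, IsAlgSpace.yon_obj U⟩) (Y := Z) (Y' := Z')
    (Z' := ⟨_, IsAlgSpace.yon_obj U'⟩) (ObjectProperty.homMk p)
    (fun W φ hφ => repWith_comp hφ hpe) h i h' HU (ObjectProperty.homMk ((yon S).map iU))
    (ObjectProperty.homMk q) (fun W φ hφ => repWith_comp hφ hqe) sq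

end Groth.Agent.Inf
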