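import Groth.Agent.ASp.FlatLocusSp
import Groth.Agent.ASp.OneChart
import Groth.Agent.ASp.GoodAt
import Groth.Agent.FlatLocus.PointScheme
import Groth.Agent.PointBC.Basic
/-!
The locus where a morphism of algebraic spaces is unramified.
-/

set_option autoImplicit false
set_option backward.isDefEq.respectTransparency false
set_option backward.isDefEq.respectTransparency.types false

universe u

open CategoryTheory CategoryTheory.Limits AlgebraicGeometry Opposite TopologicalSpace

namespace Groth.Agent.ASp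

open _root_.AlgSp Groth.Agent.Inf

variable {S : Scheme.{u}}

/-- The formally unramified locus of a base change. -/
theorem formallyUnramified_stalkMap_baseChange_iff {X Y X' Y' : Scheme.{u}} {f : X ⟶ Y} [LocallyOfFiniteType f]
    {g : Y' ⟶ Y} {p : X' ⟶ X} {f' : X' ⟶ Y'} (h : IsPullback p f' f g) (x' : ↥X') :
    (f'.stalkMap x').hom.FormallyUnramified ↔ (f.stalkMap (p x')).hom.FormallyUnramified := by
  haveI : LocallyOfFiniteType f' := MorphismProperty.of_isPullback h inferInstance
  obtain ⟨e, rfl, rfl⟩ : ∃ e : X' ≅ pullback f g, e.hom ≫ pullback.fst f g = p ∧ e.hom ≫ pullback.snd f g = f' :=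
    ⟨h.isoPullback, h.isoPullback_hom_fst, h.isoPullback_hom_snd⟩
  have key := (FlatLocus.exists_formallyUnramified_nhd_iff (pullback.snd f g) (e.hom x')).symm.trans
    ((PointBC.formallyUnramified_nhd_iff f g (e.hom x')).trans
      (FlatLocus.exists_formallyUnramified_nhd_iff f _))
  rw [Scheme.Hom.stalkMap_comp, CommRingCat.hom_comp,
    RingHom.FormallyUnramified.respectsIso.cancel_right_isIso]
  exact key

/-- Neighbourhood form of being unramified at a point. -/
abbrev IsUnramNbhd {X Y : Sp S} (f : X ⟶ Y) (x : Points X) : Prop :=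
  HasAtMor (fun U _ h u => ∃ W : U.Opens, u ∈ W ∧ LocallyOfFiniteType (W.ι ≫ h) ∧ FormallyUnramified (W.ι ≫ h)) f x

/-- Being unramified at a point is read on any chart. -/
theorem isUnramNbhd_iff_of_chart {X Y : Space S} {f : X ⟶ Y} (hf : LocP @LocallyOfFiniteType f.hom) {U V : Over S}
    {a : (yon S).obj U ⟶ X.obj} {b : (yon S).obj V ⟶ Y.obj} {k : U ⟶ V} (ha : RepWith @Etale a)
    (hb : RepWith @Etale b) (e : a ≫ f.hom = (yon S).map k ≫ b) (u : ↥U.left) :
    IsUnramNbhd f.hom (Points.ofPt a u) ↔ (k.left.stalkMap u).hom.FormallyUnramified := by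
  haveI : LocallyOfFiniteType k.left := hf a b k ha hb e
  constructor
  · intro h
    obtain ⟨X', j, hj, ⟨x', hx'⟩, hP⟩ :=
      (hasAtMor_nbhd_iff (P := (@LocallyOfFiniteType ⊓ @FormallyUnramified : MorphismProperty Scheme.{u})) f _).1 h
    let s := hj.1.snd a
    have sqj := hj.1.isPullback a
    haveI : IsOpenImmersion s.left := hj.2 _ _ _ sqj
    obtain ⟨w, -, hw⟩ := points_exists_of_isPullback sqj x' (Points.ofScheme U u)
      (by rw [← Points.ofPt_eq_map_ofScheme]; exact hx')
    obtain ⟨w, rfl⟩ := (Points.schemeHomeo _).surjective w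
    rw [Points.map_yon_map_apply] at hw
    have hw : s.left w = u := (Points.schemeHomeo U).injective hw
    have hlq : FormallyUnramified (s ≫ k).left :=
      (hP (hj.1.fst a) b (s ≫ k) (repWith_of_isPullback sqj.flip ha) hb (by
        show hj.1.fst a ≫ j.hom ≫ f.hom = _
        rw [reassoc_of% sqj.w, e, ← Functor.map_comp_assoc])).2
    haveI : FormallyUnramified (s.left ≫ k.left) := hlq
    rw [← hw]
    have := FormallyUnramified.stalkMap (s.left ≫ k.left) w
    rwa [Scheme.Hom.stalkMap_comp, CommRingCat.hom_comp,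
      RingHom.FormallyUnramified.respectsIso.cancel_right_isIso] at this
  · intro h
    obtain ⟨W, hW, hW'⟩ := (FlatLocus.exists_formallyUnramified_nhd_iff k.left u).2 h
    exact ⟨U, V, a, b, k, u, ha, hb, e, rfl, W, hW, inferInstance, hW'⟩

/-- Being unramified at a point commutes with base change. -/
theorem isUnramNbhd_baseChange_iff {X Y X' Y' : Space S} {f : X ⟶ Y} (hf : LocP @LocallyOfFiniteType f.hom)
    {g : Y' ⟶ Y} {p : X' ⟶ X} {f' : X' ⟶ Y'} (sq : IsPullback p.hom f'.hom f.hom g.hom) (x' : Points X'.obj) :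
    IsUnramNbhd f'.hom x' ↔ IsUnramNbhd f.hom (Points.map p.hom x') := by
  obtain ⟨U, V, a, b, k, ha, has, hb, -, e⟩ := exists_chart (f := f.hom) X.property Y.property
  obtain ⟨u, hu⟩ := surjective_ofPt has (Points.map p.hom x')
  have hf' : LocP @LocallyOfFiniteType f'.hom := locP_of_isPullback sq.flip X.property Y.property Y'.property hf
  have hQ : IsAlgSpace (pullback p.hom a) := isAlgSpace_pullback X.property.diag X'.property (IsAlgSpace.yon_obj U) _ _
  obtain ⟨q, hq₁, hq₂⟩ := points_exists_of_isPullback (IsPullback.of_hasPullback p.hom a) x'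
    (Points.ofScheme U u) (by rw [← Points.ofPt_eq_map_ofScheme, hu])
  obtain ⟨U₁, p₁, -, hp₁s⟩ := hQ.atlas
  obtain ⟨u₁, rfl⟩ := surjective_ofPt hp₁s q
  obtain ⟨z₁, hz₁⟩ := (yon S).map_surjective (p₁ ≫ pullback.snd p.hom a)
  have hZ₁ : IsAlgSpace (pullback b g.hom) := isAlgSpace_pullback Y.property.diag (IsAlgSpace.yon_obj V) Y'.property _ _
  obtain ⟨W', ω, hωe, hωs⟩ := hZ₁.atlas
  obtain ⟨j, hj⟩ := (yon S).map_surjective (ω ≫ pullback.fst b g.hom)
  set c' := ω ≫ pullback.snd b g.hom
  have hc' : RepWith @Etale c' := repWith_comp hωe (repWith_of_isPullback (IsPullback.of_hasPullback b g.hom) hb)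
  have ej : (yon S).map j ≫ b = c' ≫ g.hom := by
    rw [hj, Category.assoc, pullback.condition, Category.assoc]
  let σ : (yon S).obj U₁ ⟶ pullback b g.hom :=
    pullback.lift ((yon S).map (z₁ ≫ k)) (p₁ ≫ pullback.fst p.hom a ≫ f'.hom) (by
      simp only [Functor.map_comp, Category.assoc, ← e, hz₁, reassoc_of% hz₁]
      rw [← sq.w, pullback.condition_assoc])
  obtain ⟨U₂, w₂, v₂, -, hw₂s, hv₂, -⟩ := exists_etale_cover hωe hωs σ
  obtain ⟨u₂, rfl⟩ := hw₂s.surj u₁
  obtain ⟨a', ha', ha'₁, ha'₂⟩ := exists_baseChange_chart sq ha hb hc' e ej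
  obtain ⟨l, hl₁, hl₂⟩ : ∃ l : U₂ ⟶ pullback k j,
      l ≫ pullback.fst _ _ = w₂ ≫ z₁ ∧ l ≫ pullback.snd _ _ = v₂ :=
    ⟨pullback.lift (w₂ ≫ z₁) v₂ ((yon S).map_injective (by
        have := hv₂ =≫ pullback.fst b g.hom
        simp only [Category.assoc, σ, pullback.lift_fst, ← hj] at this
        simp only [Functor.map_comp, Category.assoc] at this ⊢
        rw [this])),
      pullback.lift_fst _ _ _, pullback.lift_snd _ _ _⟩
  have hla : (yon S).map l ≫ a' = (yon S).map w₂ ≫ p₁ ≫ pullback.fst p.hom a := by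
    refine sq.hom_ext ?_ ?_
    · rw [Category.assoc, ha'₁, ← Functor.map_comp_assoc, hl₁, Functor.map_comp_assoc, reassoc_of% hz₁]
      simp only [Category.assoc, pullback.condition]
    · have := hv₂ =≫ pullback.snd b g.hom
      simp only [Category.assoc, σ, pullback.lift_snd] at this
      rw [Category.assoc, ha'₂, ← Functor.map_comp_assoc, hl₂]
      simp only [c', Category.assoc, this]
  have hx : Points.ofPt a' (l.left u₂) = x' := by
    rw [← ofPt_yon_map_comp, hla, ofPt_yon_map_comp, ofPt_comp_eq_map, ← hq₁, ofPt_comp_eq_map]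
    exact Points.map_comp _ _ _
  have hxu : Points.map p.hom x' = Points.ofPt a ((pullback.fst k j).left (l.left u₂)) := by
    rw [← ofPt_yon_map_comp (pullback.fst k j) a, ← ha'₁, ← hx, Points.map_ofPt]
  haveI : LocallyOfFiniteType k.left := hf a b k ha hb e
  rw [hxu, isUnramNbhd_iff_of_chart hf ha hb e, ← hx, isUnramNbhd_iff_of_chart hf' ha' hc' ha'₂]
  exact formallyUnramified_stalkMap_baseChange_iff (isPullback_left (IsPullback.of_hasPullback k j)) _

/-- The unramified locus is open. -/
theorem isOpen_unramLocus {X Y : Space S} (f : X ⟶ Y) (hf : LocP @LocallyOfFiniteType f.hom) :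
    IsOpen {x | IsUnramNbhd f.hom x} := by
  obtain ⟨U, V, a, b, k, ha, has, hb, -, e⟩ := exists_chart (f := f.hom) X.property Y.property
  haveI : LocallyOfFiniteType k.left := hf a b k ha hb e
  rw [isOpen_iff_chart ha has]
  convert FlatLocus.isOpen_formallyUnramified_stalkMap k.left using 1
  exact Set.ext fun u => isUnramNbhd_iff_of_chart hf ha hb e u

end Groth.Agent.ASp
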