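import Groth.Agent.ASp.Morph
import Mathlib.AlgebraicGeometry.ValuativeCriterion

/-!
Valuation rings realising specialisations on schemes.
-/

set_option backward.isDefEq.respectTransparency false
set_option backward.isDefEq.respectTransparency.types false

universe u

open CategoryTheory CategoryTheory.Limits AlgebraicGeometry Opposite IsLocalRing

namespace Groth.Agent.ASp

/-- A field point and a specialisation of its image are realised by a valuation ring of the field. -/
theorem exists_valuation_lift {U : Scheme.{u}} {L : Type u} [Field L] (p : Spec (CommRingCat.of L) ⟶ U) {x : U}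
    (h : p (closedPoint L) ⤳ x) : ∃ (V : ValuationSubring L) (l : Spec (CommRingCat.of V) ⟶ U),
      Spec.map (CommRingCat.ofHom (algebraMap V L)) ≫ l = p ∧ l (closedPoint V) = x := by
  let α : U.presheaf.stalk x ⟶ CommRingCat.of L :=
    U.presheaf.stalkSpecializes h ≫ Scheme.stalkClosedPointTo p
  obtain ⟨V, hV, hloc⟩ := exists_factor_valuationRing α.hom
  let β : U.presheaf.stalk x ⟶ CommRingCat.of V := CommRingCat.ofHom (α.hom.codRestrict V.toSubring hV)
  refine ⟨V, Spec.map β ≫ U.fromSpecStalk x, ?_, ?_⟩
  · have e : β ≫ CommRingCat.ofHom (algebraMap V L) = α := rfl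
    rw [← Spec.map_comp_assoc, e, Spec.map_comp, Category.assoc, Scheme.SpecMap_stalkSpecializes_fromSpecStalk,
      Scheme.Spec_stalkClosedPointTo_fromSpecStalk]
  · rw [Scheme.Hom.comp_apply]
    have : Spec.map β (closedPoint V) = closedPoint (U.presheaf.stalk x) :=
      comap_closedPoint (S := V) (α.hom.codRestrict V.toSubring hV)
    rw [this, U.fromSpecStalk_closedPoint]

theorem exists_dominating_of_fieldPoint {A : Type u} [CommRing A] [IsLocalRing A] {L : Type u} [Field L]
    {U : Scheme.{u}} (g : U ⟶ Spec (CommRingCat.of A)) (p : Spec (CommRingCat.of L) ⟶ U) {x : U}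
    (h : p (closedPoint L) ⤳ x) (h₀ : (g (p (closedPoint L))).asIdeal = ⊥) (h₁ : g x = closedPoint A) :
    ∃ (A' : Type u) (_ : CommRing A') (_ : IsDomain A') (_ : ValuationRing A')
      (φ : A →+* A'), Function.Injective φ ∧ IsLocalHom φ ∧
      ∃ l : Spec (CommRingCat.of A') ⟶ U, l ≫ g = Spec.map (CommRingCat.ofHom φ) ∧ l (closedPoint A') = x := by
  obtain ⟨V, l, h2, h3⟩ := exists_valuation_lift p h
  obtain ⟨φ, hφ⟩ := Spec.map_surjective (l ≫ g)
  have e0 : g (p (closedPoint L)) = Spec.map (φ ≫ CommRingCat.ofHom (algebraMap V L)) (closedPoint L) := by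
    rw [Spec.map_comp, hφ, ← Category.assoc, h2, Scheme.Hom.comp_apply]
  refine ⟨V, inferInstance, inferInstance, inferInstance, φ.hom, ?_, ?_, l, hφ.symm, h3⟩
  · refine Function.Injective.of_comp (f := algebraMap V L) ?_
    change Function.Injective ((algebraMap V L).comp φ.hom)
    rw [RingHom.injective_iff_ker_eq_bot, ← h₀, e0]
    change RingHom.ker _ = Ideal.comap _ (maximalIdeal L)
    rw [IsLocalRing.maximalIdeal_eq_bot]
    rfl
  · have e1 : Spec.map φ (closedPoint V) = closedPoint A := by
      rw [hφ, Scheme.Hom.comp_apply, h3, h₁]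
    exact ((IsLocalRing.local_hom_TFAE φ.hom).out 0 4).2 (congrArg PrimeSpectrum.asIdeal e1)

/-- A specialisation over the generic and closed point of a valuation ring gives a dominating extension. -/
theorem exists_dominating_of_specializes {A : Type u} [CommRing A] [IsLocalRing A] {U : Scheme.{u}}
    (g : U ⟶ Spec (CommRingCat.of A)) {x₀ x : U} (h : x₀ ⤳ x) (h₀ : (g x₀).asIdeal = ⊥)
    (h₁ : g x = closedPoint A) : ∃ (A' : Type u) (_ : CommRing A') (_ : IsDomain A') (_ : ValuationRing A')
      (φ : A →+* A'), Function.Injective φ ∧ IsLocalHom φ ∧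
      ∃ l : Spec (CommRingCat.of A') ⟶ U, l ≫ g = Spec.map (CommRingCat.ofHom φ) ∧ l (closedPoint A') = x :=
  have e : (U.fromSpecResidueField x₀) (closedPoint (U.residueField x₀)) = x₀ :=
    Scheme.fromSpecResidueField_apply x₀ _
  exists_dominating_of_fieldPoint (L := U.residueField x₀) g (U.fromSpecResidueField x₀)
    (e.symm ▸ h) (e.symm ▸ h₀) h₁

/-- Between affine schemes the image of a closed set is closed once stable under specialisation. -/
theorem isClosed_image_of_stable {X Y : Scheme.{u}} [IsAffine X] [IsAffine Y] (g : X ⟶ Y) {Z : Set X}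
    (hZ : IsClosed Z) (h : StableUnderSpecialization (g '' Z)) : IsClosed (g '' Z) := by
  have e : g ≫ Y.isoSpec.hom = X.isoSpec.hom ≫ Spec.map g.appTop := (Scheme.isoSpec_hom_naturality g).symm
  have e' : Y.isoSpec.hom '' (g '' Z) = Spec.map g.appTop '' (X.isoSpec.hom '' Z) := by
    rw [Set.image_image, Set.image_image]
    exact Set.image_congr fun z _ => by rw [← Scheme.Hom.comp_apply, e, Scheme.Hom.comp_apply]
  let hY := Scheme.homeoOfIso Y.isoSpec
  let hX := Scheme.homeoOfIso X.isoSpec
  refine (hY.isClosed_image (s := g '' Z)).1 ?_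
  change IsClosed (Y.isoSpec.hom '' (g '' Z))
  rw [e']
  refine PrimeSpectrum.isClosed_image_of_stableUnderSpecialization g.appTop.hom _ (hX.isClosedMap _ hZ) ?_
  change StableUnderSpecialization (Spec.map g.appTop '' (X.isoSpec.hom '' Z))
  rw [← e']
  exact h.image hY.isClosedMap.specializingMap

end Groth.Agent.ASp
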