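import Groth.Agent.ASp.ValBasic
import Groth.Agent.ASp.ValLift
import Groth.Agent.ASp.TopFpqc

/-!
Quasi-compact morphisms with lifts are universally closed.
-/

set_option backward.isDefEq.respectTransparency false
set_option backward.isDefEq.respectTransparency.types false

universe u

open CategoryTheory CategoryTheory.Limits AlgebraicGeometry Opposite

namespace Groth.Agent.ASp

open _root_.AlgSp

variable {S : Scheme.{u}}

theorem ofPt_yon_eq {T T' : Over S} (φ : T ⟶ T') (t : T.left) :
    Points.ofPt ((yon S).map φ) t = Points.schemeHomeo T' (φ.left t) := by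
  conv_lhs => rw [← Category.comp_id ((yon S).map φ)]
  exact ofPt_yon_map_comp φ _ t

theorem isClosed_image_of_existVC {P : Sp S} (hP : IsAlgSpace P) [CompactSpace (Points P)] {T : Over S}
    [IsAffine T.left] (q : P ⟶ (yon S).obj T) (he : ExistVC q) {C : Set (Points P)} (hC : IsClosed C) :
    IsClosed (Points.schemeHomeo T ⁻¹' (Points.map q '' C)) := by
  obtain ⟨W, p, hW, hpe, hps⟩ := exists_affine_chart hP
  obtain ⟨c, hc⟩ := (yon S).map_surjective (p ≫ q)
  haveI : IsAffine W.left := hW
  have key : ∀ w, Points.map q (Points.ofPt p w) = Points.schemeHomeo T (c.left w) := by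
    intro w
    rw [Points.map_ofPt, ← hc, ofPt_yon_eq]
  have e : Points.schemeHomeo T ⁻¹' (Points.map q '' C) = c.left '' (Points.ofPt p ⁻¹' C) := by
    ext t
    constructor
    · rintro ⟨x, hx, ex⟩
      obtain ⟨w, rfl⟩ := surjective_ofPt hps x
      exact ⟨w, hx, (Points.schemeHomeo T).injective ((key w).symm.trans ex)⟩
    · rintro ⟨w, hw, rfl⟩
      exact ⟨_, hw, key w⟩
  rw [e]
  refine isClosed_image_of_stable c.left (hC.preimage (Points.continuous_ofPt p)) ?_
  rintro _ t hst ⟨w, hw, rfl⟩
  let p₀ := W.left.fromSpecResidueField w ≫ c.left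
  have hp₀ : p₀ (IsLocalRing.closedPoint (W.left.residueField w)) = c.left w :=
    congrArg c.left (Scheme.fromSpecResidueField_apply w _)
  obtain ⟨V, l, h1, h2⟩ := exists_valuation_lift (L := W.left.residueField w) p₀ (x := t) (hp₀.symm ▸ hst)
  let sA : Over S := Over.mk (l ≫ T.hom)
  let sK : Over S := Over.mk (Spec.map (CommRingCat.ofHom (algebraMap V (W.left.residueField w : Type u))) ≫ l ≫ T.hom)
  let k : sK ⟶ W := Over.homMk (W.left.fromSpecResidueField w) (by
    change _ = _ ≫ l ≫ T.hom
    rw [reassoc_of% h1]; simp only [p₀, Category.assoc, Over.w c])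
  let lT : sA ⟶ T := Over.homMk l rfl
  let j : sK ⟶ sA := Over.homMk (Spec.map (CommRingCat.ofHom (algebraMap V (W.left.residueField w : Type u)))) rfl
  have hk : k ≫ c = j ≫ lT := Over.OverMorphism.ext h1.symm
  let vs : ValSq q :=
    { A := V
      K := W.left.residueField w
      str := l ≫ T.hom
      top := (yon S).map k ≫ p
      bot := (yon S).map lT
      comm := by
        change _ = (yon S).map j ≫ (yon S).map lT
        rw [Category.assoc, ← hc, ← Functor.map_comp, ← Functor.map_comp, hk] }
  obtain ⟨E, m, hm1, hm2⟩ := he vs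
  haveI := E.isLocalHom
  let g₀ := Spec.map (CommRingCat.ofHom (algebraMap E.A' E.K')) (IsLocalRing.closedPoint E.K')
  have hspec : g₀ ⤳ IsLocalRing.closedPoint E.A' := IsLocalRing.specializes_closedPoint _
  have hg : Points.ofPt m g₀ = Points.ofPt p w := by
    refine (ofPt_yon_map_comp (Over.homMk (Spec.map (CommRingCat.ofHom (algebraMap E.A' E.K'))) rfl :
      E.ptK' ⟶ E.ptA') m _).symm.trans ?_
    rw [hm1, ofPt_yon_map_comp, show vs.top = (yon S).map k ≫ p from rfl, ofPt_yon_map_comp]
    exact congrArg (Points.ofPt p) (Scheme.fromSpecResidueField_apply w _)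
  have hz : Points.ofPt m (IsLocalRing.closedPoint E.A') ∈ C :=
    (hspec.map (Points.continuous_ofPt m)).mem_closed hC (hg.symm ▸ hw)
  obtain ⟨w', hw'⟩ := surjective_ofPt hps (Points.ofPt m (IsLocalRing.closedPoint E.A'))
  refine ⟨w', show Points.ofPt p w' ∈ C by rw [hw']; exact hz, (Points.schemeHomeo T).injective ?_⟩
  rw [← key, hw', Points.map_ofPt, hm2, ofPt_yon_map_comp, show vs.bot = (yon S).map lT from rfl, ofPt_yon_eq]
  refine congrArg (Points.schemeHomeo T) ?_
  have hcl : Spec.map (CommRingCat.ofHom E.φ) (IsLocalRing.closedPoint E.A') = IsLocalRing.closedPoint vs.A :=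
    IsLocalRing.comap_closedPoint E.φ
  change l (Spec.map (CommRingCat.ofHom E.φ) (IsLocalRing.closedPoint E.A')) = t
  rw [hcl]
  exact h2

theorem isUnivClosedMor_of_existVC {X Y : Sp S} (hX : IsAlgSpace X) (hY : IsAlgSpace Y) (f : X ⟶ Y)
    (hq : IsQuasiCompactMor f) (he : ExistVC f) : IsUnivClosedMor f := by
  intro Z Z' _ g fst snd sq C hC
  rw [← isOpen_compl_iff, Points.isOpen_iff]
  intro T x
  rw [Set.preimage_compl, isOpen_compl_iff,
    TopologicalSpace.IsOpenCover.isClosed_iff_coe_preimage (iSup_affineOpens_eq_top T.left)]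
  intro V
  let T' : Over S := Over.mk (V.1.ι ≫ T.hom)
  let ι' : T' ⟶ T := Over.homMk V.1.ι rfl
  haveI : IsAffine T'.left := V.2
  let x' := (yon S).map ι' ≫ x
  have sq' : IsPullback (pullback.fst snd x') (pullback.snd snd x') snd x' := IsPullback.of_hasPullback snd x'
  have pb := sq'.paste_horiz sq
  have hP : IsAlgSpace (pullback snd x') :=
    (isAlgSpace_pullback hY.diag hX (IsAlgSpace.yon_obj T') f (x' ≫ g)).of_iso
      ((IsPullback.of_hasPullback f (x' ≫ g)).isoIsPullback _ _ pb)
  have := compactSpace_of_isQuasiCompactSp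
    (hq (IsAlgSpace.yon_obj T') isQuasiCompactSp_yon _ _ _ pb)
  have h := isClosed_image_of_existVC hP _ (existVC_of_isPullback pb he) (hC.preimage (Points.continuous_map (pullback.fst snd x')))
  rw [← preimage_image_of_isPullback sq'] at h
  rw [← Set.preimage_comp, ← ofPt_comp_eq_map] at h
  have e2 : Points.ofPt x' = fun t => Points.ofPt x (ι'.left t) := funext (ofPt_yon_map_comp ι' x)
  rw [e2] at h
  exact h

end Groth.Agent.ASp
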