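import Groth.Agent.ASp.Morph
import Groth.Agent.ASp.TopFpqc
import Mathlib.AlgebraicGeometry.Morphisms.UniversallyClosed

/-!
Universally closed morphisms of algebraic spaces are quasi-compact.
-/

set_option backward.isDefEq.respectTransparency false
set_option backward.isDefEq.respectTransparency.types false

universe u

open CategoryTheory CategoryTheory.Limits AlgebraicGeometry Opposite TopologicalSpace

namespace Groth.Agent.ASp

open _root_.AlgSp

variable {S : Scheme.{u}}

open MvPolynomial in
/-- A space universally closed over a field is quasi-compact. -/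
theorem compactSpace_of_univClosed_field {K : Type u} [Field K] (str : Spec (CommRingCat.of K) ⟶ S) {P : Sp S}
    (hP : IsAlgSpace P) (f : P ⟶ (yon S).obj (Over.mk str)) (hf : IsUnivClosedMor f) :
    CompactSpace (Points P) := by
  classical
  obtain ⟨U, p, hpe, hps⟩ := hP.atlas
  let 𝒰 := U.left.affineCover
  let ι := 𝒰.I₀
  let O (i : ι) : Opens (Points P) :=
    ⟨Points.ofPt p '' Set.range (𝒰.f i), isOpenMap_ofPt_of_etale hpe _ (𝒰.f i).isOpenEmbedding.isOpen_range⟩
  let A : Over S := Over.mk (Spec.map (CommRingCat.ofHom (MvPolynomial.C : K →+* MvPolynomial ι K)) ≫ str)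
  let c : A ⟶ Over.mk str := Over.homMk (Spec.map (CommRingCat.ofHom (MvPolynomial.C : K →+* MvPolynomial ι K))) rfl
  let Ti (i : ι) : Opens (PrimeSpectrum (MvPolynomial ι K)) := PrimeSpectrum.basicOpen (MvPolynomial.X i)
  have sq := IsPullback.of_hasPullback f ((yon S).map c)
  let fT : Points (pullback f ((yon S).map c)) → PrimeSpectrum (MvPolynomial ι K) := fun z =>
    (Points.schemeHomeo A).symm (Points.map (pullback.snd f ((yon S).map c)) z)
  let pr := Points.map (pullback.fst f ((yon S).map c))
  have hfT : Continuous fT :=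
    (Points.schemeHomeo A).symm.continuous.comp (Points.continuous_map _)
  have hfTc : IsClosedMap fT :=
    (Points.schemeHomeo A).symm.isClosedMap.comp (hf (IsAlgSpace.yon_obj A) _ _ _ sq)
  let Z : Set (Points (pullback f ((yon S).map c))) := (⋃ i, fT ⁻¹' (Ti i : Set _) ∩ pr ⁻¹' (O i : Set _))ᶜ
  have hZ : IsClosed Z :=
    (isOpen_iUnion fun i => ((Ti i).isOpen.preimage hfT).inter ((O i).isOpen.preimage (Points.continuous_map _))).isClosed_compl
  let Zc : Opens (PrimeSpectrum (MvPolynomial ι K)) := ⟨(fT '' Z)ᶜ, (hfTc _ hZ).isOpen_compl⟩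
  let ψ : MvPolynomial ι K →ₐ[K] K := MvPolynomial.aeval (fun _ => 1)
  let t : PrimeSpectrum (MvPolynomial ι K) := PrimeSpectrum.comap ψ.toRingHom default
  have ht (i : ι) : t ∈ Ti i := by
    simp [t, Ti, ψ, PrimeSpectrum.mem_basicOpen, PrimeSpectrum.comap_asIdeal, ← Ideal.eq_top_iff_one,
      Ideal.IsPrime.ne_top]
  have hcov (x : Points P) : ∃ i, x ∈ O i := by
    obtain ⟨v, rfl⟩ := surjective_ofPt hps x
    exact ⟨𝒰.idx v, v, 𝒰.covers v, rfl⟩
  have htZc : t ∈ Zc := by
    intro ⟨z, hz, hzt⟩
    obtain ⟨i, hi⟩ := hcov (pr z)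
    exact hz (Set.mem_iUnion.2 ⟨i, show fT z ∈ Ti i from hzt ▸ ht i, hi⟩)
  obtain ⟨U', ⟨g, rfl⟩, htU', hU'le⟩ := Opens.isBasis_iff_nbhd.mp PrimeSpectrum.isBasis_basic_opens htZc
  let σ : Finset ι := MvPolynomial.vars g
  let φ : MvPolynomial ι K →+* MvPolynomial ι K :=
    (MvPolynomial.aeval fun i : ι => if i ∈ σ then MvPolynomial.X i else 0).toRingHom
  let t' : PrimeSpectrum (MvPolynomial ι K) := PrimeSpectrum.comap φ t
  have ht'g : t' ∈ PrimeSpectrum.basicOpen g :=
    show φ g ∉ t.asIdeal from (show φ g = g from aeval_ite_mem_eq_self g subset_rfl).symm ▸ htU'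
  have h : t' ∉ fT '' Z := hU'le ht'g
  suffices ⋃ i ∈ σ, (O i : Set (Points P)) = Set.univ from
    ⟨this ▸ Finset.isCompact_biUnion _ fun i _ =>
      (isCompact_range (𝒰.f i).continuous).image (Points.continuous_ofPt p)⟩
  rw [Set.iUnion₂_eq_univ_iff]
  contrapose! h
  obtain ⟨x, hx⟩ := h
  haveI : Subsingleton (Over.mk str).left := inferInstanceAs (Subsingleton (PrimeSpectrum K))
  haveI : Subsingleton (Points ((yon S).obj (Over.mk str))) :=
    (Points.schemeHomeo (Over.mk str)).symm.injective.subsingleton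
  obtain ⟨z, hz1, hz2⟩ := points_exists_of_isPullback sq x (Points.schemeHomeo A t') (Subsingleton.elim _ _)
  have hzt : fT z = t' := by
    change (Points.schemeHomeo A).symm _ = t'
    rw [hz2, Homeomorph.symm_apply_apply]
  refine ⟨z, fun hz => ?_, hzt⟩
  obtain ⟨i, hi₁, hi₂⟩ := Set.mem_iUnion.1 hz
  have hi₁' : t' ∈ Ti i := hzt ▸ hi₁
  have hσ : i ∉ σ := fun hi => hx i hi (by rw [← hz1]; exact hi₂)
  exact hi₁' (show φ (MvPolynomial.X i) ∈ t.asIdeal by simp [φ, hσ])

theorem compactSpace_of_univClosed {T : Over S} [CompactSpace T.left] {P : Sp S} (hP : IsAlgSpace P)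
    (f : P ⟶ (yon S).obj T) (hf : IsUnivClosedMor f) : CompactSpace (Points P) := by
  haveI : CompactSpace (Points ((yon S).obj T)) := (Points.schemeHomeo T).surjective.compactSpace
    (Points.schemeHomeo T).continuous
  have hc : IsClosedMap (Points.map f) :=
    hf (IsAlgSpace.yon_obj T) (𝟙 _) (𝟙 _) f (IsPullback.of_horiz_isIso ⟨by simp⟩)
  have hp : IsProperMap (Points.map f) := by
    rw [isProperMap_iff_isClosedMap_and_compact_fibers]
    refine ⟨Points.continuous_map f, hc, fun y => ?_⟩
    obtain ⟨t, rfl⟩ := (Points.schemeHomeo T).surjective y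
    let K : Over S := Over.mk (T.left.fromSpecResidueField t ≫ T.hom)
    let k : K ⟶ T := Over.homMk (T.left.fromSpecResidueField t) rfl
    have sq := IsPullback.of_hasPullback f ((yon S).map k)
    have hP' : IsAlgSpace (pullback f ((yon S).map k)) :=
      isAlgSpace_pullback (IsAlgSpace.yon_obj T).diag hP (IsAlgSpace.yon_obj K) _ _
    haveI := compactSpace_of_univClosed_field (K := T.left.residueField t) (T.left.fromSpecResidueField t ≫ T.hom) hP'
      (pullback.snd f ((yon S).map k))
      (fun Z Z' hZ g fst snd sq' => hf hZ _ _ _ (sq'.paste_horiz sq))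
    haveI : Subsingleton K.left := inferInstanceAs (Subsingleton (PrimeSpectrum (T.left.residueField t)))
    convert isCompact_range (Points.continuous_map (pullback.fst f ((yon S).map k))) using 1
    ext x
    simp only [Set.mem_preimage, Set.mem_singleton_iff, Set.mem_range]
    have hk : ∀ s : K.left, Points.map ((yon S).map k) (Points.schemeHomeo K s) = Points.schemeHomeo T t := fun s => by
      rw [Points.map_yon_map_apply]
      exact congrArg (Points.schemeHomeo T) (Scheme.fromSpecResidueField_apply t s)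
    constructor
    · intro hx
      let s₀ : K.left := IsLocalRing.closedPoint (T.left.residueField t)
      obtain ⟨z, hz, -⟩ := points_exists_of_isPullback sq x (Points.schemeHomeo K s₀) (hx.trans (hk s₀).symm)
      exact ⟨z, hz⟩
    · rintro ⟨z, rfl⟩
      rw [← Points.map_comp, sq.w, Points.map_comp]
      obtain ⟨s, hs⟩ := (Points.schemeHomeo K).surjective (Points.map (pullback.snd f ((yon S).map k)) z)
      rw [← hs, hk]
  exact ⟨Set.preimage_univ (f := Points.map f) ▸ hp.isCompact_preimage isCompact_univ⟩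

end Groth.Agent.ASp

namespace Groth.Agent.ASp

open _root_.AlgSp

theorem isQuasiCompactMor_of_univClosed {S : Scheme.{u}} {X Y : Sp S} (hX : IsAlgSpace X) (hY : IsAlgSpace Y)
    (f : X ⟶ Y) (hf : IsUnivClosedMor f) : IsQuasiCompactMor f := by
  intro Z Z' hZ hZq g fst snd sq
  obtain ⟨U, p, hpe, hps, hU⟩ := hZq
  have hZ' : IsAlgSpace Z' := (isAlgSpace_pullback hY.diag hX hZ f g).of_iso
    ((IsPullback.of_hasPullback f g).isoIsPullback _ _ sq)
  have sq' := IsPullback.of_hasPullback snd p
  haveI := compactSpace_of_univClosed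
    (isAlgSpace_pullback hZ.diag hZ' (IsAlgSpace.yon_obj U) snd p) (pullback.snd snd p)
    (fun T T' hT k a b s => hf hT _ _ _ (s.paste_horiz (sq'.paste_horiz sq)))
  haveI : CompactSpace (Points Z') :=
    (surjective_map_of_isPullback sq'.flip (surjective_map_of_repWith hps)).compactSpace (Points.continuous_map _)
  exact isQuasiCompactSp_of_compactSpace hZ'

end Groth.Agent.ASp
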