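import Mathlib.RingTheory.Valuation.ValuationSubring
import Mathlib.RingTheory.Valuation.LocalSubring
import Mathlib.RingTheory.Flat.TorsionFree
import Mathlib.RingTheory.Flat.FaithfullyFlat.Algebra
import Mathlib.RingTheory.Ideal.GoingDown
import Mathlib.AlgebraicGeometry.Morphisms.UniversallyOpen
import Groth.Agent.ASp.ValLift

/-!
Composite, overrings, quotients and common extensions of valuation rings.
-/

set_option backward.isDefEq.respectTransparency false
set_option backward.isDefEq.respectTransparency.types false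

universe u

open IsLocalRing CategoryTheory CategoryTheory.Limits AlgebraicGeometry

namespace Groth.Agent.ASp

/-- The composite of a valuation ring with a valuation ring of its residue field. -/
def compositeVal {L : Type u} [Field L] (V : ValuationSubring L) (W : ValuationSubring (ResidueField V)) :
    ValuationSubring L where
  toSubring := (W.toSubring.comap (residue V)).map V.subtype
  mem_or_inv_mem' x := by
    simp only [Subsemigroup.mem_carrier, Subring.mem_toSubsemiring, Subsemiring.mem_toSubmonoid]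
    by_cases hx : x ∈ V
    · by_cases hu : IsUnit (⟨x, hx⟩ : V)
      · obtain ⟨u, hu⟩ := hu
        rcases W.mem_or_inv_mem (residue V u) with h | h
        · exact Or.inl ⟨⟨x, hx⟩, by rw [← hu]; exact h, rfl⟩
        · refine Or.inr ⟨↑u⁻¹, ?_, ?_⟩
          · change residue V ↑u⁻¹ ∈ W
            rwa [map_units_inv]
          · have h' := congrArg V.subtype hu
            exact (map_units_inv V.subtype u).trans (congrArg (·⁻¹) h')
      · refine Or.inl ⟨⟨x, hx⟩, ?_, rfl⟩
        change residue V ⟨x, hx⟩ ∈ W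
        rw [(residue_eq_zero_iff _).2 hu]
        exact W.zero_mem
    · have hx' := (V.mem_or_inv_mem x).resolve_left hx
      refine Or.inr ⟨⟨x⁻¹, hx'⟩, ?_, rfl⟩
      change residue V ⟨x⁻¹, hx'⟩ ∈ W
      rw [(residue_eq_zero_iff _).2 ?_]
      · exact W.zero_mem
      · change ¬IsUnit _
        rintro ⟨u, hu⟩
        refine hx ?_
        have h' := congrArg V.subtype hu
        have := (map_units_inv V.subtype u).trans (congrArg (·⁻¹) h')
        rw [show V.subtype ⟨x⁻¹, hx'⟩ = x⁻¹ from rfl, inv_inv] at this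
        exact this ▸ SetLike.coe_mem _

theorem mem_compositeVal {L : Type u} [Field L] {V : ValuationSubring L} {W : ValuationSubring (ResidueField V)}
    {x : L} : x ∈ compositeVal V W ↔ ∃ h : x ∈ V, residue V ⟨x, h⟩ ∈ W :=
  ⟨fun ⟨y, h, e⟩ => e ▸ ⟨y.2, h⟩, fun ⟨h, h'⟩ => ⟨⟨x, h⟩, h', rfl⟩⟩

/-- A valuation ring dominated-into is absorbed after localising an extension at a suitable prime. -/
theorem exists_overring {L L' : Type u} [Field L] [Field L'] (V : ValuationSubring L) {C : ValuationSubring L}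
    (hCV : C ≤ V) {C' : Type u} [CommRing C'] [IsDomain C'] [ValuationRing C'] [Algebra C' L'] [IsFractionRing C' L']
    (φ : C →+* C') [IsLocalHom φ] (ψ : L →+* L')
    (comm : ∀ x : C, algebraMap C' L' (φ x) = ψ x) :
    ∃ (B : ValuationSubring L'), (∀ a, algebraMap C' L' a ∈ B) ∧
      ∃ h : ∀ v : V, ψ v ∈ B, IsLocalHom ((ψ.comp V.subtype).codRestrict B.toSubring h) := by
  letI : Algebra C C' := φ.toAlgebra
  have hinj : Function.Injective φ := fun a b e => Subtype.coe_injective (ψ.injective (by rw [← comm, ← comm, e]))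
  haveI : Module.IsTorsionFree C C' := by
    rw [Module.isTorsionFree_iff_smul_eq_zero]
    intro r m h
    rw [Algebra.smul_def, mul_eq_zero] at h
    exact h.imp (fun h => hinj (h.trans (map_zero φ).symm)) id
  haveI : Module.Flat C C' := by
    rw [Module.Flat.flat_iff_torsion_eq_bot_of_isBezout, ← Submodule.isTorsionFree_iff_torsion_eq_bot]
    infer_instance
  haveI : IsLocalHom (algebraMap C C') := ‹IsLocalHom φ›
  haveI : Module.FaithfullyFlat C C' := Module.FaithfullyFlat.of_flat_of_isLocalHom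
  let P : Ideal C := (maximalIdeal V).comap (ValuationSubring.inclusion C V hCV)
  obtain ⟨q, hq⟩ := PrimeSpectrum.comap_surjective_of_faithfullyFlat (A := C) (B := C') ⟨P, inferInstance⟩
  have hqP : ∀ x : C, φ x ∈ q.asIdeal ↔ ¬IsUnit (⟨(x : L), hCV x.2⟩ : V) := fun x =>
    Ideal.ext_iff.1 (congrArg PrimeSpectrum.asIdeal hq) x
  let B : ValuationSubring L' :=
    { toSubring := (Localization.subalgebra.ofField L' _ q.asIdeal.primeCompl_le_nonZeroDivisors).toSubring
      mem_or_inv_mem' := fun x => by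
        rcases ValuationRing.isInteger_or_isInteger C' x with ⟨a, ha⟩ | ⟨a, ha⟩
        · exact Or.inl (ha ▸ Subalgebra.algebraMap_mem _ a)
        · exact Or.inr (ha ▸ Subalgebra.algebraMap_mem _ a) }
  have hinv : ∀ b, b ∉ q.asIdeal → (algebraMap C' L' b)⁻¹ ∈ B := fun b hb => by
    refine ⟨1, b, hb, ?_⟩
    simp
  have hB : ∀ v : V, ψ v ∈ B := by
    intro v
    rcases C.mem_or_inv_mem (v : L) with h | h
    · rw [show ψ v = algebraMap C' L' (φ ⟨v, h⟩) from (comm ⟨v, h⟩).symm]
      exact Subalgebra.algebraMap_mem _ _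
    · by_cases hv : (v : L) = 0
      · rw [hv, map_zero]; exact B.zero_mem
      have hu : IsUnit (⟨(v : L)⁻¹, hCV h⟩ : V) :=
        IsUnit.of_mul_eq_one v (Subtype.ext (inv_mul_cancel₀ hv))
      have := hinv (φ ⟨(v : L)⁻¹, h⟩) (fun hm => (hqP _).1 hm hu)
      rwa [comm, map_inv₀, inv_inv] at this
  refine ⟨B, fun a => Subalgebra.algebraMap_mem _ a, hB, ⟨fun v hv => ?_⟩⟩
  by_contra hnu
  by_cases hC : (v : L) ∈ C
  · obtain ⟨b, hb⟩ := hv.exists_left_inv
    have hb' : (b : L') * ψ v = 1 := congrArg (fun z : B.toSubring => (z : L')) hb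
    obtain ⟨a, d, hd, e⟩ := b.2
    have hm : φ ⟨v, hC⟩ ∈ q.asIdeal := (hqP _).2 hnu
    refine hd ?_
    have hd0 : algebraMap C' L' d ≠ 0 := fun h0 => hd (by
      rw [IsFractionRing.injective C' L' (h0.trans (map_zero _).symm)]; exact q.asIdeal.zero_mem)
    have : d = a * φ ⟨v, hC⟩ := IsFractionRing.injective C' L' (by
      rw [map_mul, comm]
      rw [e] at hb'
      field_simp at hb'
      exact hb'.symm)
    rw [this]
    exact q.asIdeal.mul_mem_left a hm
  · have h := (C.mem_or_inv_mem (v : L)).resolve_left hC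
    refine hnu (IsUnit.of_mul_eq_one ⟨(v : L)⁻¹, hCV h⟩ (Subtype.ext (mul_inv_cancel₀ fun h0 => hC ?_)))
    rw [h0]; exact C.zero_mem

/-- The image of a valuation ring in the residue field of an overring is a valuation ring. -/
noncomputable def imageVal {C' L' : Type u} [CommRing C'] [IsDomain C'] [ValuationRing C'] [Field L'] [Algebra C' L']
    [IsFractionRing C' L'] (B : ValuationSubring L') (hB : ∀ a, algebraMap C' L' a ∈ B) :
    ValuationSubring (ResidueField B) where
  toSubring := ((residue B).comp ((algebraMap C' L').codRestrict B.toSubring hB)).range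
  mem_or_inv_mem' x := by
    obtain ⟨b, rfl⟩ := residue_surjective x
    rcases ValuationRing.isInteger_or_isInteger C' (b : L') with ⟨a, ha⟩ | ⟨a, ha⟩
    · exact Or.inl ⟨a, congrArg (residue B) (Subtype.ext ha)⟩
    · by_cases hu : IsUnit b
      · obtain ⟨u, rfl⟩ := hu
        refine Or.inr ⟨a, ?_⟩
        rw [← map_units_inv]
        refine congrArg (residue B) (Subtype.ext (ha.trans ?_))
        exact (map_units_inv B.subtype u).symm
      · refine Or.inl ⟨0, ?_⟩
        rw [map_zero]
        exact ((residue_eq_zero_iff b).2 hu).symm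

/-- Two extensions of a valuation ring are dominated by a common one. -/
theorem exists_common_dominating {A A₁ A₂ : Type u} [CommRing A] [IsDomain A] [ValuationRing A]
    [CommRing A₁] [IsDomain A₁] [IsLocalRing A₁] [CommRing A₂] [IsDomain A₂] [IsLocalRing A₂]
    (f₁ : A →+* A₁) (f₂ : A →+* A₂) [IsLocalHom f₁] [IsLocalHom f₂]
    (h₁ : Function.Injective f₁) (h₂ : Function.Injective f₂) :
    ∃ (L : Type u) (_ : Field L) (W : ValuationSubring L) (g₁ : A₁ →+* W) (g₂ : A₂ →+* W),
      g₁.comp f₁ = g₂.comp f₂ ∧ IsLocalHom g₁ ∧ IsLocalHom g₂ ∧ Function.Injective g₁ ∧ Function.Injective g₂ := by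
  have flat : ∀ {M : Type u} [CommRing M] [IsDomain M] (f : A →+* M), Function.Injective f →
      AlgebraicGeometry.Flat (Spec.map (CommRingCat.ofHom f)) := by
    intro M _ _ f hf
    rw [AlgebraicGeometry.HasRingHomProperty.Spec_iff (P := @AlgebraicGeometry.Flat)]
    letI : Algebra A M := f.toAlgebra
    change Module.Flat A M
    rw [Module.Flat.flat_iff_torsion_eq_bot_of_isBezout, ← Submodule.isTorsionFree_iff_torsion_eq_bot,
      Module.isTorsionFree_iff_smul_eq_zero]
    intro r m h
    rw [Algebra.smul_def, mul_eq_zero] at h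
    exact h.imp (fun h => hf (h.trans (map_zero _).symm)) id
  let a₁ := Spec.map (CommRingCat.ofHom f₁)
  let a₂ := Spec.map (CommRingCat.ofHom f₂)
  haveI : Flat a₁ := flat f₁ h₁
  haveI : Flat a₂ := flat f₂ h₂
  obtain ⟨z, hz₁, hz₂⟩ := Scheme.Pullback.exists_preimage_pullback (f := a₁) (g := a₂)
    (closedPoint A₁) (closedPoint A₂) ((comap_closedPoint f₁).trans (comap_closedPoint f₂).symm)
  obtain ⟨z₁, hz, hg₁⟩ := Flat.generalizingMap (pullback.fst a₁ a₂)
    (show (⟨⊥, Ideal.isPrime_bot⟩ : PrimeSpectrum A₁) ⤳ (pullback.fst a₁ a₂) z from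
      hz₁.symm ▸ specializes_closedPoint _)
  obtain ⟨z₂, hz', hg₂⟩ := Flat.generalizingMap (pullback.snd a₁ a₂)
    (show (⟨⊥, Ideal.isPrime_bot⟩ : PrimeSpectrum A₂) ⤳ (pullback.snd a₁ a₂) z₁ from
      (PrimeSpectrum.le_iff_specializes _ _).1 bot_le)
  have hg₁' : ((pullback.fst a₁ a₂) z₂).asIdeal = ⊥ :=
    le_bot_iff.1 (le_of_le_of_eq (b := ((pullback.fst a₁ a₂) z₁).asIdeal)
      ((PrimeSpectrum.le_iff_specializes _ _).2 (hz'.map (pullback.fst a₁ a₂).continuous)) (congrArg PrimeSpectrum.asIdeal hg₁))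
  let L : Type u := (pullback a₁ a₂).residueField z₂
  let p : Spec (CommRingCat.of L) ⟶ pullback a₁ a₂ := (pullback a₁ a₂).fromSpecResidueField z₂
  have hp : p (closedPoint L) = z₂ := Scheme.fromSpecResidueField_apply z₂ _
  obtain ⟨W, l, hl₁, hl₂⟩ := exists_valuation_lift p (x := z) (hp.symm ▸ hz'.trans hz)
  obtain ⟨g₁, hga⟩ := Spec.map_surjective (l ≫ pullback.fst a₁ a₂)
  obtain ⟨g₂, hgb⟩ := Spec.map_surjective (l ≫ pullback.snd a₁ a₂)
  have aux : ∀ {M : Type u} [CommRing M] [IsDomain M] [IsLocalRing M] (g : M →+* W)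
      (π : pullback a₁ a₂ ⟶ Spec (CommRingCat.of M)), Spec.map (CommRingCat.ofHom g) = l ≫ π →
      π z = closedPoint M → (π z₂).asIdeal = ⊥ → Function.Injective g ∧ IsLocalHom g := by
    intro M _ _ _ g π hg hc hb
    refine ⟨Function.Injective.of_comp (f := algebraMap W L) ?_, ?_⟩
    · change Function.Injective ((algebraMap W L).comp g)
      have e : π z₂ = Spec.map (CommRingCat.ofHom g ≫ CommRingCat.ofHom (algebraMap W L)) (closedPoint L) := by
        rw [Spec.map_comp, hg, ← Category.assoc, hl₁, Scheme.Hom.comp_apply, hp]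
      rw [RingHom.injective_iff_ker_eq_bot, ← hb, e]
      change RingHom.ker _ = Ideal.comap _ (maximalIdeal L)
      rw [IsLocalRing.maximalIdeal_eq_bot]
      rfl
    · have e1 : Spec.map (CommRingCat.ofHom g) (closedPoint W) = closedPoint M := by
        rw [hg, Scheme.Hom.comp_apply, hl₂, hc]
      exact ((IsLocalRing.local_hom_TFAE g).out 0 4).2 (congrArg PrimeSpectrum.asIdeal e1)
  refine ⟨L, inferInstance, W, g₁.hom, g₂.hom, ?_, (aux g₁.hom _ hga hz₁ hg₁').2,
    (aux g₂.hom _ hgb hz₂ (congrArg PrimeSpectrum.asIdeal hg₂)).2,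
    (aux g₁.hom _ hga hz₁ hg₁').1, (aux g₂.hom _ hgb hz₂ (congrArg PrimeSpectrum.asIdeal hg₂)).1⟩
  · exact congrArg CommRingCat.Hom.hom (Spec.map_injective (a₁ := CommRingCat.ofHom f₁ ≫ g₁)
      (a₂ := CommRingCat.ofHom f₂ ≫ g₂) (by rw [Spec.map_comp, Spec.map_comp, hga, hgb, Category.assoc, Category.assoc, pullback.condition]))

end Groth.Agent.ASp
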