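import Groth.Agent.ASp.ValClosed
import Groth.Agent.ASp.ValComposite

/-!
The valuative criterion tested on a dense part of the source, over an affine base.
-/

set_option backward.isDefEq.respectTransparency false
set_option backward.isDefEq.respectTransparency.types false

universe u

open CategoryTheory CategoryTheory.Limits AlgebraicGeometry Opposite IsLocalRing

namespace Groth.Agent.ASp

open _root_.AlgSp

variable {S : Scheme.{u}}

theorem exists_specializes_of_mem_closure_range {X Y : Scheme.{u}} [IsAffine X] [IsAffine Y] (g : X ⟶ Y) {y : Y}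
    (h : y ∈ closure (Set.range g)) : ∃ x, g x ⤳ y := by
  let eY := Scheme.homeoOfIso Y.isoSpec
  let eX := Scheme.homeoOfIso X.isoSpec
  have e : ∀ x, Y.isoSpec.hom (g x) = Spec.map g.appTop (X.isoSpec.hom x) := fun x => by
    rw [← Scheme.Hom.comp_apply, ← Scheme.Hom.comp_apply, Scheme.isoSpec_hom_naturality]
  have h' : eY y ∈ closure (Set.range (Spec.map g.appTop)) := by
    refine closure_mono ?_ (mem_closure_image eY.continuous.continuousAt h)
    rintro _ ⟨_, ⟨x, rfl⟩, rfl⟩
    exact ⟨_, (e x).symm⟩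
  let p : PrimeSpectrum Γ(Y, ⊤) := eY y
  have hp : RingHom.ker g.appTop.hom ≤ p.asIdeal := by
    have : p ∈ PrimeSpectrum.zeroLocus ↑(RingHom.ker g.appTop.hom) := by
      rw [← PrimeSpectrum.closure_range_comap]; exact h'
    exact (PrimeSpectrum.mem_zeroLocus _ _).1 this
  obtain ⟨q, hq, hqp⟩ := Ideal.exists_minimalPrimes_le hp
  obtain ⟨r, hr, -, hrq⟩ := Ideal.exists_comap_eq_of_mem_minimalPrimes (I := ⊥) g.appTop.hom q hq
  obtain ⟨x, hx⟩ := eX.surjective ⟨r, hr⟩
  refine ⟨x, eY.isEmbedding.isInducing.specializes_iff.1 ?_⟩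
  change Y.isoSpec.hom (g x) ⤳ eY y
  rw [e, show X.isoSpec.hom x = ⟨r, hr⟩ from hx]
  exact (PrimeSpectrum.le_iff_specializes _ p).1 (show r.comap g.appTop.hom ≤ p.asIdeal from hrq.le.trans hqp)

/-- Maps to an affine scheme are detected by a map injective on functions. -/
theorem hom_eq_of_injective {W D T : Scheme.{u}} [IsAffine T] (d : D ⟶ W) (hd : Function.Injective d.appTop)
    {a b : W ⟶ T} (h : d ≫ a = d ≫ b) : a = b := by
  refine ext_of_isAffine ?_
  haveI : Mono d.appTop := ConcreteCategory.mono_of_injective _ hd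
  rw [← cancel_mono d.appTop, ← Scheme.Hom.comp_appTop, ← Scheme.Hom.comp_appTop, h]

/-- Over an affine base, lifts for squares through a dense part give lifts for all squares. -/
theorem existVC_of_dense_affine {U X : Sp S} {T : Over S} [IsAffine T.left] (hU : IsAlgSpace U) (hX : IsAlgSpace X)
    [CompactSpace (Points X)] (f : X ⟶ (yon S).obj T) (h : U ⟶ X) (hh : IsQuasiCompactMor h)
    (hd : DenseRange (Points.map h))
    (hv : ∀ sq : ValSq f, (∃ t : (yon S).obj sq.ptK ⟶ U, t ≫ h = sq.top) → sq.HasUniq ∧ sq.HasLiftExt) :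
    ExistVC f := by
  intro sq
  -- a chart and a point of the dense part specialising to the top arrow
  obtain ⟨W, pW, hW, hpe, hps⟩ := exists_affine_chart hX
  haveI : IsAffine W.left := hW
  obtain ⟨w, hw⟩ := surjective_ofPt hps (Points.ofPt sq.top (closedPoint sq.K))
  have sqU := IsPullback.of_hasPullback h pW
  have hUW : IsAlgSpace (pullback h pW) := isAlgSpace_pullback hX.diag hU (IsAlgSpace.yon_obj W) h pW
  haveI := compactSpace_of_isQuasiCompactSp (hh (IsAlgSpace.yon_obj W) isQuasiCompactSp_yon pW _ _ sqU)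
  obtain ⟨U', pU, hU', -, hpUs⟩ := exists_affine_chart hUW
  haveI : IsAffine U'.left := hU'
  obtain ⟨c, hc⟩ := (yon S).map_surjective (pU ≫ pullback.snd h pW)
  have hrange : Points.ofPt pW ⁻¹' Set.range (Points.map h) ⊆ Set.range c.left := by
    rintro w' ⟨v, hv'⟩
    obtain ⟨z, -, hz⟩ := points_exists_of_isPullback sqU v (Points.schemeHomeo W w')
      (hv'.trans (congrFun (ofPt_comp_eq_map pW) w'))
    obtain ⟨u', rfl⟩ := surjective_ofPt hpUs z
    rw [Points.map_ofPt, ← hc, ofPt_yon_eq] at hz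
    exact ⟨u', (Points.schemeHomeo W).injective hz⟩
  obtain ⟨u', hu'⟩ := exists_specializes_of_mem_closure_range c.left (y := w)
    (closure_mono hrange ((hd.preimage (isOpenMap_ofPt_of_etale hpe)) w))
  -- the valuation ring of the point
  let L : Type u := U'.left.residueField u'
  let pL : Spec (CommRingCat.of L) ⟶ W.left := U'.left.fromSpecResidueField u' ≫ c.left
  have hpL : pL (closedPoint L) ⤳ w := by
    rw [show pL (closedPoint L) = c.left ((U'.left.fromSpecResidueField u') (closedPoint L)) from rfl,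
      show (U'.left.fromSpecResidueField u') (closedPoint L) = u' from Scheme.fromSpecResidueField_apply u' _]
    exact hu'
  obtain ⟨V, lV, hlV, hlVw⟩ := exists_valuation_lift pL hpL
  -- a common field for the residue field and the top arrow
  let kV := ResidueField V
  let rV := CommRingCat.ofHom (residue V)
  let xVs : Spec (CommRingCat.of kV) ⟶ W.left := Spec.map rV ≫ lV
  let PV : Over S := Over.mk (xVs ≫ W.hom)
  let xV : PV ⟶ W := Over.homMk xVs rfl
  have hxVpt : xVs (closedPoint kV) = w := by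
    rw [Scheme.Hom.comp_apply, show Spec.map rV (closedPoint kV) = closedPoint V from comap_closedPoint (residue V), hlVw]
  obtain ⟨Z, z₁, z₂, pbZ⟩ := exists_isPullback_yon (hX.representable_from_yon ((yon S).map xV ≫ pW)) sq.top
  obtain ⟨zp, -, -⟩ := (ofPt_eq_ofPt_iff pbZ (closedPoint kV) (closedPoint sq.K)).1
    ((ofPt_yon_map_comp xV pW _).trans ((congrArg (Points.ofPt pW) hxVpt).trans hw))
  let Ω : Type u := Z.left.residueField zp
  obtain ⟨ωV, hωV⟩ := Spec.map_surjective (R := CommRingCat.of kV) (S := CommRingCat.of Ω)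
    (Z.left.fromSpecResidueField zp ≫ z₁.left)
  obtain ⟨ωK, hωK⟩ := Spec.map_surjective (R := CommRingCat.of sq.K) (S := CommRingCat.of Ω)
    (Z.left.fromSpecResidueField zp ≫ z₂.left)
  obtain ⟨AΩ, hAΩ, hAΩloc⟩ := exists_factor_valuationRing (ωK.hom.comp (algebraMap sq.A sq.K))
  let φΩ : sq.A →+* AΩ := (ωK.hom.comp (algebraMap sq.A sq.K)).codRestrict AΩ.toSubring hAΩ
  haveI : IsLocalHom φΩ := hAΩloc
  let A₁ : ValuationSubring kV := AΩ.comap ωV.hom
  let ι₁ : A₁ →+* AΩ := (ωV.hom.comp A₁.subtype).codRestrict AΩ.toSubring fun a => a.2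
  haveI : IsLocalHom ι₁ := ⟨fun a ha => by
    obtain ⟨b, hb⟩ := ha.exists_left_inv
    have hb' : (b : Ω) * ωV.hom a = 1 := congrArg (fun z : AΩ.toSubring => (z : Ω)) hb
    have hmem : (a : kV)⁻¹ ∈ A₁ := by
      change ωV.hom _ ∈ AΩ
      rw [map_inv₀, ← eq_inv_of_mul_eq_one_left hb']
      exact b.2
    exact IsUnit.of_mul_eq_one ⟨_, hmem⟩ (Subtype.ext (mul_inv_cancel₀ fun h0 => by
      rw [h0, map_zero, mul_zero] at hb'; exact zero_ne_one hb'))⟩
  -- the composite valuation ring and its map to the base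
  obtain ⟨αV, hαV⟩ := Spec.map_surjective (R := Γ(T.left, ⊤)) (S := CommRingCat.of V)
    ((yon S).preimage (pW ≫ f) |>.left |> (lV ≫ ·) |> (· ≫ T.left.isoSpec.hom))
  obtain ⟨αA, hαA⟩ := Spec.map_surjective (R := Γ(T.left, ⊤)) (S := CommRingCat.of sq.A)
    (((yon S).preimage sq.bot).left ≫ T.left.isoSpec.hom)
  let cW : W ⟶ T := (yon S).preimage (pW ≫ f)
  let bA : sq.ptA ⟶ T := (yon S).preimage sq.bot
  have hcW : (yon S).map cW = pW ≫ f := (yon S).map_preimage _
  have hbA : (yon S).map bA = sq.bot := (yon S).map_preimage _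
  have key : αV ≫ rV ≫ ωV = αA ≫ CommRingCat.ofHom (algebraMap sq.A sq.K) ≫ ωK := by
    have e0 : z₁ ≫ xV ≫ cW = z₂ ≫ sq.j ≫ bA := (yon S).map_injective (by
      simp only [Functor.map_comp, hcW, hbA, ← sq.comm]
      rw [← Category.assoc ((yon S).map z₂), ← pbZ.w]
      simp only [Category.assoc])
    apply Spec.map_injective
    simp only [Spec.map_comp, hαV, hαA, hωV, hωK, Category.assoc]
    refine congrArg (Z.left.fromSpecResidueField zp ≫ ·) ?_
    have e1 := congrArg (fun g : Z ⟶ T => g.left ≫ T.left.isoSpec.hom) e0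
    simp only [Over.comp_left, Category.assoc] at e1
    exact e1
  let C := compositeVal V A₁
  have hCV : C ≤ V := fun x hx => (mem_compositeVal.1 hx).1
  have hαC : ∀ r, (αV.hom r : L) ∈ C := fun r => by
    refine mem_compositeVal.2 ⟨(αV.hom r).2, ?_⟩
    change ωV.hom (residue V (αV.hom r)) ∈ AΩ
    rw [show ωV.hom (residue V (αV.hom r)) = ωK.hom (algebraMap sq.A sq.K (αA.hom r)) from
      congrArg (fun g : Γ(T.left, ⊤) ⟶ CommRingCat.of Ω => g.hom r) key]
    exact hAΩ _
  let αC : Γ(T.left, ⊤) ⟶ CommRingCat.of C :=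
    CommRingCat.ofHom ((V.subtype.comp αV.hom).codRestrict C.toSubring hαC)
  let bC : Spec (CommRingCat.of C) ⟶ T.left := Spec.map αC ≫ T.left.isoSpec.inv
  let strC := bC ≫ T.hom
  have hjC : Spec.map (CommRingCat.ofHom (algebraMap C L)) ≫ bC = pL ≫ cW.left := by
    rw [← cancel_mono T.left.isoSpec.hom]
    simp only [bC, Category.assoc, Iso.inv_hom_id, Category.comp_id]
    rw [← Spec.map_comp, show αC ≫ CommRingCat.ofHom (algebraMap C L) = αV ≫ CommRingCat.ofHom (algebraMap V L) from rfl,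
      Spec.map_comp, hαV, ← Category.assoc, ← Category.assoc, hlV, Category.assoc]
  let ptL : Over S := Over.mk (Spec.map (CommRingCat.ofHom (algebraMap C L)) ≫ strC)
  let kL : ptL ⟶ U' := Over.homMk (U'.left.fromSpecResidueField u') (by
    change _ = Spec.map _ ≫ bC ≫ T.hom
    rw [reassoc_of% hjC]
    simp only [pL, Category.assoc, Over.w cW, Over.w c])
  let bC' : Over.mk strC ⟶ T := Over.homMk bC rfl
  let jC : ptL ⟶ Over.mk strC := Over.homMk (Spec.map (CommRingCat.ofHom (algebraMap C L))) rfl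
  have hkL : kL ≫ c ≫ cW = jC ≫ bC' := Over.OverMorphism.ext ((Category.assoc _ _ _).symm.trans hjC.symm)
  have htopC : ((yon S).map kL ≫ pU ≫ pullback.fst h pW) ≫ h = (yon S).map kL ≫ (yon S).map c ≫ pW := by
    rw [Category.assoc, Category.assoc, sqU.w, ← Category.assoc pU, ← hc]
  let sqC : ValSq f :=
    { A := C
      K := L
      str := strC
      top := ((yon S).map kL ≫ pU ≫ pullback.fst h pW) ≫ h
      bot := (yon S).map bC'
      comm := by
        change _ = (yon S).map jC ≫ (yon S).map bC'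
        rw [htopC, Category.assoc, Category.assoc, ← hcW, ← Functor.map_comp, ← Functor.map_comp,
          ← Functor.map_comp, hkL] }
  obtain ⟨-, e₁, l₁, hl₁, hl₁'⟩ := hv sqC ⟨_, rfl⟩
  haveI := e₁.isLocalHom
  -- uniqueness on the overring
  obtain ⟨B, hC'B, hVB, hVBloc⟩ := exists_overring V hCV (C' := e₁.A') (L' := e₁.K') (e₁.φ : C →+* e₁.A')
    (e₁.ψ : L →+* e₁.K') (fun x => RingHom.congr_fun e₁.comm x)
  let ιB : e₁.A' →+* B := (algebraMap e₁.A' e₁.K').codRestrict B.toSubring hC'B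
  let κB : V →+* B := ((e₁.ψ : L →+* e₁.K').comp V.subtype).codRestrict B.toSubring hVB
  haveI : IsLocalHom κB := hVBloc
  let sB := Spec.map (CommRingCat.ofHom ιB)
  let sV := Spec.map (CommRingCat.ofHom κB)
  have hK : Spec.map (CommRingCat.ofHom (algebraMap B e₁.K')) ≫ sB =
      Spec.map (CommRingCat.ofHom (algebraMap e₁.A' e₁.K')) := by rw [← Spec.map_comp]; rfl
  have hL : Spec.map (CommRingCat.ofHom (algebraMap B e₁.K')) ≫ sV ≫ lV =
      Spec.map (CommRingCat.ofHom e₁.ψ) ≫ pL := by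
    rw [← hlV, ← Spec.map_comp_assoc, ← Spec.map_comp_assoc]; rfl
  let i₁ : e₁.ptA' ⟶ sqC.ptA := Over.homMk (Spec.map (CommRingCat.ofHom e₁.φ)) rfl
  have hbase : (sB ≫ Spec.map (CommRingCat.ofHom e₁.φ)) ≫ bC = (sV ≫ lV) ≫ cW.left := by
    refine hom_eq_of_injective (Spec.map (CommRingCat.ofHom (algebraMap B e₁.K')))
      (injective_appTop_spec (CommRingCat.ofHom (algebraMap B e₁.K')) Subtype.coe_injective) ?_
    rw [← Category.assoc, ← Category.assoc, ← Category.assoc, hK, ← Category.assoc, ← Category.assoc,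
      show (Spec.map (CommRingCat.ofHom (algebraMap B e₁.K')) ≫ sV) ≫ lV = _ from (Category.assoc _ _ _).trans hL,
      Category.assoc (Spec.map (CommRingCat.ofHom e₁.ψ)), ← hjC, ← Spec.map_comp, ← Spec.map_comp_assoc]
    refine congrArg (· ≫ bC) (congrArg Spec.map ?_)
    exact congrArg CommRingCat.ofHom e₁.comm
  let PB : Over S := Over.mk (sB ≫ e₁.ptA'.hom)
  let inclB : PB ⟶ e₁.ptA' := Over.homMk sB rfl
  let toW : PB ⟶ W := Over.homMk (sV ≫ lV) (by
    change (sV ≫ lV) ≫ W.hom = sB ≫ Spec.map _ ≫ bC ≫ T.hom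
    rw [← Over.w cW, ← Category.assoc, ← hbase]; simp only [Category.assoc])
  have hbase' : inclB ≫ i₁ ≫ bC' = toW ≫ cW := Over.OverMorphism.ext ((Category.assoc _ _ _).symm.trans hbase)
  let jB : Over.mk (Spec.map (CommRingCat.ofHom (algebraMap B e₁.K')) ≫ PB.hom) ⟶ PB :=
    Over.homMk (Spec.map (CommRingCat.ofHom (algebraMap B e₁.K'))) rfl
  let kB : Over.mk (Spec.map (CommRingCat.ofHom (algebraMap B e₁.K')) ≫ PB.hom) ⟶ ptL :=
    Over.homMk (Spec.map (CommRingCat.ofHom e₁.ψ)) (by
      change Spec.map _ ≫ Spec.map _ ≫ strC = Spec.map _ ≫ sB ≫ Spec.map _ ≫ strC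
      rw [reassoc_of% hK, ← Spec.map_comp_assoc, ← Spec.map_comp_assoc]
      exact congrArg (fun g => Spec.map (CommRingCat.ofHom g) ≫ strC) e₁.comm.symm)
  have hkB : jB ≫ toW = kB ≫ kL ≫ c := Over.OverMorphism.ext hL
  have hpre : (yon S).map jB ≫ (yon S).map inclB ≫ l₁ = (yon S).map kB ≫ sqC.top := by
    let jA₁ : e₁.ptK' ⟶ e₁.ptA' := Over.homMk (Spec.map (CommRingCat.ofHom (algebraMap e₁.A' e₁.K'))) rfl
    let iK : Over.mk (Spec.map (CommRingCat.ofHom (algebraMap B e₁.K')) ≫ PB.hom) ⟶ e₁.ptK' :=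
      Over.homMk (𝟙 _) (by
        change 𝟙 _ ≫ Spec.map _ ≫ _ = Spec.map _ ≫ sB ≫ _
        rw [Category.id_comp, reassoc_of% hK]
        rfl)
    rw [← Category.assoc, ← Functor.map_comp,
      show jB ≫ inclB = iK ≫ jA₁ from Over.OverMorphism.ext (hK.trans (Category.id_comp _).symm),
      Functor.map_comp, Category.assoc, show (yon S).map jA₁ ≫ l₁ = _ from hl₁, ← Category.assoc, ← Functor.map_comp]
    exact congrArg (fun g => (yon S).map g ≫ sqC.top) (Over.OverMorphism.ext (Category.id_comp _))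
  let sqB : ValSq f :=
    { A := B
      K := e₁.K'
      str := PB.hom
      top := (yon S).map kB ≫ sqC.top
      bot := ((yon S).map inclB ≫ l₁) ≫ f
      comm := by
        change _ = (yon S).map jB ≫ _
        rw [← Category.assoc ((yon S).map jB), hpre] }
  obtain ⟨hun, -⟩ := hv sqB ⟨(yon S).map kB ≫ (yon S).map kL ≫ pU ≫ pullback.fst h pW, by
    simp only [sqB, sqC, Category.assoc]⟩
  have heq : (yon S).map inclB ≫ l₁ = (yon S).map toW ≫ pW := hun _ _ hpre rfl (by
      change (yon S).map jB ≫ _ = (yon S).map kB ≫ sqC.top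
      rw [show sqC.top = (yon S).map kL ≫ (yon S).map c ≫ pW from htopC, ← Category.assoc, ← Functor.map_comp, hkB,
        Functor.map_comp, Functor.map_comp, Category.assoc, Category.assoc]) (by
      change ((yon S).map toW ≫ pW) ≫ f = ((yon S).map inclB ≫ l₁) ≫ f
      rw [Category.assoc, ← hcW, ← Functor.map_comp, ← hbase', Category.assoc, hl₁']
      simp only [Functor.map_comp]
      rfl)
  -- the quotient valuation ring and the common extension
  let D : ValuationSubring (ResidueField B) := imageVal (C' := e₁.A') B hC'B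
  let πD : e₁.A' →+* D := ((residue B).comp ιB).codRestrict D.toSubring fun a => ⟨a, rfl⟩
  haveI : IsLocalHom πD := IsLocalHom.of_surjective πD (by
    rintro ⟨_, a, rfl⟩
    exact ⟨a, rfl⟩)
  let ρ : kV →+* ResidueField B := ResidueField.map κB
  let σ : C →+* A₁ := ((residue V).comp (ValuationSubring.inclusion C V hCV)).codRestrict A₁.toSubring
    fun x => (mem_compositeVal.1 x.2).2
  have hσ : Function.Surjective σ := fun a => by
    obtain ⟨v, hv'⟩ := residue_surjective (a : kV)
    exact ⟨⟨v, mem_compositeVal.2 ⟨v.2, hv'.symm ▸ a.2⟩⟩, Subtype.ext hv'⟩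
  have hDcomp : ∀ x : C, ρ (σ x) = (πD (e₁.φ x) : ResidueField B) := fun x => by
    change ρ (residue V ⟨x, hCV x.2⟩) = residue B (ιB (e₁.φ x))
    rw [ResidueField.map_residue]
    exact congrArg (residue B) (Subtype.ext (RingHom.congr_fun e₁.comm x).symm)
  let f₁ : A₁ →+* D := (ρ.comp A₁.subtype).codRestrict D.toSubring fun a => by
    obtain ⟨x, rfl⟩ := hσ a
    exact (hDcomp x).symm ▸ (πD (e₁.φ x)).2
  haveI : IsLocalHom f₁ := ⟨fun a ha => by
    obtain ⟨x, rfl⟩ := hσ a
    have h1 : IsUnit (πD (e₁.φ x)) := by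
      rw [show πD (e₁.φ x) = f₁ (σ x) from Subtype.ext (hDcomp x).symm]; exact ha
    have h2 : IsUnit x := e₁.isLocalHom.map_nonunit x (IsLocalHom.map_nonunit (f := πD) _ h1)
    exact h2.map σ⟩
  obtain ⟨L₃, iF, W₃, g₁, g₂, hg, hg₁, hg₂, hg₁i, hg₂i⟩ := exists_common_dominating f₁ ι₁
    (fun a b e => Subtype.ext (ρ.injective (congrArg Subtype.val e)))
    (fun a b e => Subtype.ext (ωV.hom.injective (congrArg Subtype.val e)))
  haveI := hg₁
  haveI := hg₂
  let τ : Ω →+* L₃ := IsFractionRing.lift (A := AΩ) (g := (algebraMap W₃ L₃).comp g₂)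
    (Subtype.coe_injective.comp hg₂i)
  have hτ : ∀ a : AΩ, τ a = g₂ a := fun a => IsFractionRing.lift_algebraMap _ a
  let υ : ResidueField B →+* L₃ := IsFractionRing.lift (A := D) (g := (algebraMap W₃ L₃).comp g₁)
    (Subtype.coe_injective.comp hg₁i)
  have hυ : ∀ a : D, υ a = g₁ a := fun a => IsFractionRing.lift_algebraMap _ a
  have hτυ : τ.comp ωV.hom = υ.comp ρ := by
    refine IsLocalization.ringHom_ext (nonZeroDivisors A₁) (RingHom.ext fun a => ?_)
    change τ (ι₁ a : Ω) = υ (f₁ a : ResidueField B)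
    rw [hτ, hυ]
    exact congrArg Subtype.val (RingHom.congr_fun hg a).symm
  let e : sq.DomExt :=
    { A' := W₃
      K' := L₃
      φ := g₂.comp φΩ
      ψ := τ.comp ωK.hom
      comm := RingHom.ext fun x => (hτ (φΩ x)).symm
      isLocalHom := RingHom.isLocalHom_comp _ _ }
  let χ : e₁.A' →+* W₃ := g₁.comp πD
  let jW : Spec (CommRingCat.of L₃) ⟶ Spec (CommRingCat.of W₃) := Spec.map (CommRingCat.ofHom (algebraMap W₃ L₃))
  let zL : Spec (CommRingCat.of L₃) ⟶ Z.left := Spec.map (CommRingCat.ofHom τ) ≫ Z.left.fromSpecResidueField zp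
  let yL : Spec (CommRingCat.of L₃) ⟶ Spec (CommRingCat.of B) :=
    Spec.map (CommRingCat.ofHom υ) ≫ Spec.map (CommRingCat.ofHom (residue B))
  have hy₁ : jW ≫ Spec.map (CommRingCat.ofHom χ) = yL ≫ sB := by
    simp only [jW, yL, sB, Category.assoc, ← Spec.map_comp]
    exact congrArg Spec.map (CommRingCat.hom_ext (RingHom.ext fun a => (hυ (πD a)).symm))
  have hy₂ : zL ≫ z₁.left ≫ xVs = yL ≫ sV ≫ lV := by
    simp only [zL, yL, sV, xVs, Category.assoc]
    rw [← reassoc_of% hωV]
    simp only [← Spec.map_comp_assoc, Category.assoc]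
    refine congrArg (Spec.map · ≫ lV) (CommRingCat.hom_ext (RingHom.ext fun v => ?_))
    change τ (ωV.hom (residue V v)) = υ (residue B (κB v))
    rw [← ResidueField.map_residue]
    exact RingHom.congr_fun hτυ _
  have hzK : zL ≫ z₂.left = Spec.map (CommRingCat.ofHom (τ.comp ωK.hom)) := by
    simp only [zL, Category.assoc, ← hωK, ← Spec.map_comp]
    rfl
  have hbot : (Spec.map (CommRingCat.ofHom χ) ≫ Spec.map (CommRingCat.ofHom e₁.φ)) ≫ bC =
      Spec.map (CommRingCat.ofHom (g₂.comp φΩ)) ≫ bA.left := by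
    refine hom_eq_of_injective jW (injective_appTop_spec _ Subtype.coe_injective) ?_
    rw [← Category.assoc jW, ← Category.assoc jW, hy₁, Category.assoc yL, Category.assoc yL, hbase,
      ← Category.assoc yL, ← hy₂, ← Category.assoc, ← Category.assoc jW,
      show jW ≫ Spec.map (CommRingCat.ofHom (g₂.comp φΩ)) =
        Spec.map (CommRingCat.ofHom (τ.comp ωK.hom)) ≫ sq.j.left from by
          change jW ≫ _ = _ ≫ Spec.map _
          rw [← Spec.map_comp, ← Spec.map_comp]
          exact congrArg Spec.map (CommRingCat.hom_ext e.comm), ← hzK]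
    have e0 : z₁ ≫ xV ≫ cW = z₂ ≫ sq.j ≫ bA := (yon S).map_injective (by
      simp only [Functor.map_comp, hcW, hbA, ← sq.comm]
      rw [← Category.assoc ((yon S).map z₂), ← pbZ.w]
      simp only [Category.assoc])
    have e1 := congrArg (fun g : Z ⟶ T => g.left) e0
    simp only [Over.comp_left] at e1
    simp only [Category.assoc]
    exact congrArg (zL ≫ ·) e1
  let iW : e.ptA' ⟶ e₁.ptA' := Over.homMk (Spec.map (CommRingCat.ofHom χ)) (by
    change Spec.map _ ≫ Spec.map _ ≫ bC ≫ T.hom = Spec.map _ ≫ sq.str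
    rw [← Category.assoc, ← Category.assoc, hbot, Category.assoc,
      show bA.left ≫ T.hom = sq.str from Over.w bA])
  let iA : e.ptA' ⟶ sq.ptA := Over.homMk (Spec.map (CommRingCat.ofHom e.φ)) rfl
  refine ⟨e, (yon S).map iW ≫ l₁, ?_, ?_⟩
  · let y : e.ptK' ⟶ PB := Over.homMk yL (by
      change yL ≫ sB ≫ Spec.map _ ≫ bC ≫ T.hom = jW ≫ Spec.map _ ≫ sq.str
      rw [← reassoc_of% hy₁]
      refine congrArg (jW ≫ ·) ?_
      exact Over.w iW)
    let zK : e.ptK' ⟶ Z := Over.homMk zL (by
      change zL ≫ Z.hom = _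
      rw [← Over.w z₂, reassoc_of% hzK]
      change Spec.map _ ≫ Spec.map _ ≫ sq.str = Spec.map _ ≫ Spec.map _ ≫ sq.str
      rw [← Spec.map_comp_assoc, ← Spec.map_comp_assoc]
      exact congrArg (fun g => Spec.map g ≫ sq.str) (CommRingCat.hom_ext e.comm).symm)
    let jA : e.ptK' ⟶ e.ptA' := Over.homMk jW rfl
    let jK : e.ptK' ⟶ sq.ptK := zK ≫ z₂
    have e1 : jA ≫ iW = y ≫ inclB := Over.OverMorphism.ext hy₁
    have e2 : y ≫ toW = zK ≫ z₁ ≫ xV := Over.OverMorphism.ext hy₂.symm
    change (yon S).map jA ≫ _ = _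
    rw [← Category.assoc, ← Functor.map_comp, e1, Functor.map_comp, Category.assoc, heq, ← Category.assoc,
      ← Functor.map_comp, e2]
    simp only [Functor.map_comp, Category.assoc]
    rw [pbZ.w, ← Category.assoc, ← Functor.map_comp]
    congr 2
    exact Over.OverMorphism.ext hzK
  · change ((yon S).map iW ≫ l₁) ≫ f = (yon S).map iA ≫ sq.bot
    rw [Category.assoc, hl₁', ← hbA, show sqC.bot = (yon S).map bC' from rfl]
    simp only [← Functor.map_comp]
    refine congrArg (fun g => (yon S).map g) (Over.OverMorphism.ext ?_)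
    exact (Category.assoc _ _ _).symm.trans hbot

end Groth.Agent.ASp
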