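import Groth.Agent.ASp.ValDense
import Groth.Agent.ASp.BaseDesc
import Groth.Agent.ASp.SepDiag

/-!
The valuative criterion tested on a dense part of the source: universally closed and separated.
-/

set_option backward.isDefEq.respectTransparency false
set_option backward.isDefEq.respectTransparency.types false

universe u

open CategoryTheory CategoryTheory.Limits AlgebraicGeometry Opposite

namespace Groth.Agent.ASp

open _root_.AlgSp

variable {S : Scheme.{u}}

theorem hasUniq_of_isPullback {F G F' G' : Sp S} {f : F ⟶ G} {f' : F' ⟶ G'} {fst : F' ⟶ F} {g : G' ⟶ G}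
    (pb : IsPullback fst f' f g) (sq : ValSq f')
    (h : ∀ c, (transferSq sq f (sq.top ≫ fst) (sq.bot ≫ g) c).HasUniq) : sq.HasUniq := by
  intro l l' h1 h2 h3 h4
  apply pb.hom_ext
  · exact h (by rw [Category.assoc, pb.w, ← Category.assoc, sq.comm, Category.assoc]) _ _
      ((Category.assoc _ _ _).symm.trans (congrArg (· ≫ fst) h1))
      (((Category.assoc _ _ _).trans (congrArg (l ≫ ·) pb.w)).trans
        ((Category.assoc _ _ _).symm.trans (congrArg (· ≫ g) h2)))
      ((Category.assoc _ _ _).symm.trans (congrArg (· ≫ fst) h3))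
      (((Category.assoc _ _ _).trans (congrArg (l' ≫ ·) pb.w)).trans
        ((Category.assoc _ _ _).symm.trans (congrArg (· ≫ g) h4)))
  · rw [h2, h4]

theorem hasLiftExt_of_isPullback {F G F' G' : Sp S} {f : F ⟶ G} {f' : F' ⟶ G'} {fst : F' ⟶ F} {g : G' ⟶ G}
    (pb : IsPullback fst f' f g) (sq : ValSq f')
    (h : ∀ c, (transferSq sq f (sq.top ≫ fst) (sq.bot ≫ g) c).HasLiftExt) : sq.HasLiftExt := by
  obtain ⟨e, l, h1, h2⟩ := h (by rw [Category.assoc, pb.w, ← Category.assoc, sq.comm, Category.assoc])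
  refine ⟨⟨e.A', e.K', e.φ, e.ψ, e.comm, e.isLocalHom⟩,
    pb.lift l ((yon S).map (Over.homMk (Spec.map (CommRingCat.ofHom e.φ)) rfl : e.ptA' ⟶ sq.ptA) ≫ sq.bot)
      (h2.trans (Category.assoc _ _ _).symm), ?_, ?_⟩
  · apply pb.hom_ext
    · exact ((Category.assoc _ _ _).trans (congrArg (_ ≫ ·) (pb.lift_fst _ _ _))).trans
        (h1.trans (Category.assoc _ _ _).symm)
    · refine ((Category.assoc _ _ _).trans (congrArg (_ ≫ ·) (pb.lift_snd _ _ _))).trans ?_
      refine Eq.trans ?_ (Category.assoc _ _ _).symm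
      refine Eq.trans ?_ (congrArg (_ ≫ ·) sq.comm).symm
      refine (Category.assoc _ _ _).symm.trans ((congrArg (· ≫ sq.bot) ?_).trans (Category.assoc _ _ _))
      refine ((yon S).map_comp _ _).symm.trans ((congrArg (fun m => (yon S).map m) ?_).trans ((yon S).map_comp _ _))
      apply Over.OverMorphism.ext
      change Spec.map _ ≫ Spec.map _ = Spec.map _ ≫ Spec.map _
      rw [← Spec.map_comp, ← Spec.map_comp, ← CommRingCat.ofHom_comp, ← CommRingCat.ofHom_comp]
      exact congrArg (fun r => Spec.map (CommRingCat.ofHom r)) e.comm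
  · exact pb.lift_snd _ _ _

theorem isUnivClosedMor_of_dense_vc {U X Y : Sp S} (hU : IsAlgSpace U) (hX : IsAlgSpace X) (hY : IsAlgSpace Y)
    (f : X ⟶ Y) (h : U ⟶ X) (hf : IsQuasiCompactMor f) (hh : IsQuasiCompactMor h)
    (hd : DenseRange (Points.map h))
    (hv : ∀ sq : ValSq f, (∃ t : (yon S).obj sq.ptK ⟶ U, t ≫ h = sq.top) → sq.HasUniq ∧ sq.HasLiftExt) :
    IsUnivClosedMor f := by
  obtain ⟨ι, A, g, hA, hg, hτ, -⟩ := exists_affine_cover hY
  have hUC : ∀ i, IsUnivClosedMor (pullback.snd f (g i)) := by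
    intro i
    haveI : IsAffine (A i).left := hA i
    have pb := IsPullback.of_hasPullback f (g i)
    have hXi : IsAlgSpace (pullback f (g i)) := isAlgSpace_pullback hY.diag hX (IsAlgSpace.yon_obj (A i)) f (g i)
    haveI := compactSpace_of_isQuasiCompactSp (hf (IsAlgSpace.yon_obj (A i)) isQuasiCompactSp_yon _ _ _ pb)
    have sqU := IsPullback.of_hasPullback h (pullback.fst f (g i))
    have hUi : IsAlgSpace (pullback h (pullback.fst f (g i))) := isAlgSpace_pullback hX.diag hU hXi _ _
    have hqc : IsQuasiCompactMor (pullback.snd f (g i)) :=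
      fun Z Z' hZ hZq g' fst' snd' sq' => hf hZ hZq _ _ _ (sq'.paste_horiz pb)
    refine isUnivClosedMor_of_existVC hXi (IsAlgSpace.yon_obj (A i)) _ hqc
      (existVC_of_dense_affine hUi hXi (pullback.snd f (g i)) (pullback.snd h (pullback.fst f (g i)))
        (fun Z Z' hZ hZq g' fst' snd' sq' => hh hZ hZq _ _ _ (sq'.paste_horiz sqU)) ?_ ?_)
    · have ho : IsOpenMap (Points.map (pullback.fst f (g i))) :=
        isOpenMap_map_of_etale (repWith_of_isPullback pb.flip (hg i))
      have e : Points.map (pullback.fst f (g i)) ⁻¹' Set.range (Points.map h) ⊆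
          Set.range (Points.map (pullback.snd h (pullback.fst f (g i)))) := by
        rw [← Set.image_univ, preimage_image_of_isPullback sqU]
        exact Set.image_subset_range _ _
      exact Dense.mono e (hd.preimage ho)
    · intro sq ⟨t, ht⟩
      have hc : ∀ c, ∃ t' : (yon S).obj (transferSq sq f (sq.top ≫ pullback.fst f (g i)) (sq.bot ≫ g i) c).ptK ⟶ U,
          t' ≫ h = sq.top ≫ pullback.fst f (g i) := fun c =>
        ⟨t ≫ pullback.fst h (pullback.fst f (g i)), by
          rw [Category.assoc, sqU.w]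
          exact (Category.assoc _ _ _).symm.trans (congrArg (· ≫ _) ht)⟩
      exact ⟨hasUniq_of_isPullback pb sq fun c => (hv _ (hc c)).1,
        hasLiftExt_of_isPullback pb sq fun c => (hv _ (hc c)).2⟩
  intro Z Z' hZ gz fst snd sq
  have pbZ := fun i => IsPullback.of_hasPullback (g i) gz
  have hτZ : IsFpqcCover (fun i => pullback (g i) gz) (fun i => pullback.snd (g i) gz) :=
    isFpqcCover_baseChange hY hZ (fun i => IsAlgSpace.yon_obj (A i)) pbZ hτ
  refine isClosedMap_of_fpqc hτZ (fun i => IsPullback.of_hasPullback snd (pullback.snd (g i) gz)) fun i => ?_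
  have s1 := (IsPullback.of_hasPullback snd (pullback.snd (g i) gz)).paste_horiz sq
  rw [← (pbZ i).w] at s1
  obtain ⟨m, hm, hm'⟩ : ∃ m : pullback snd (pullback.snd (g i) gz) ⟶ pullback f (g i),
      m ≫ pullback.fst f (g i) = pullback.fst snd (pullback.snd (g i) gz) ≫ fst ∧
      m ≫ pullback.snd f (g i) = pullback.snd snd (pullback.snd (g i) gz) ≫ pullback.fst (g i) gz :=
    ⟨pullback.lift _ _ (s1.w.trans (Category.assoc _ _ _).symm), pullback.lift_fst _ _ _, pullback.lift_snd _ _ _⟩
  exact hUC i (isAlgSpace_pullback hY.diag (IsAlgSpace.yon_obj (A i)) hZ (g i) gz) _ m _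
    (IsPullback.of_right (by rw [hm]; exact s1) hm' (IsPullback.of_hasPullback f (g i)))

theorem isSeparatedMor_of_dense_vc {U X Y : Sp S} (hU : IsAlgSpace U) (hX : IsAlgSpace X) (hY : IsAlgSpace Y)
    (f : X ⟶ Y) (h : U ⟶ X) (hh : IsQuasiCompactMor h) (hd : DenseRange (Points.map h))
    (hv : ∀ sq : ValSq f, (∃ t : (yon S).obj sq.ptK ⟶ U, t ≫ h = sq.top) → sq.HasUniq ∧ sq.HasLiftExt)
    (hqs : IsQuasiSeparatedMor f) : IsSeparatedMor f := by
  refine isSeparatedMor_of_univClosed_diag hX f ?_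
  refine isUnivClosedMor_of_dense_vc hU hX (isAlgSpace_pullback hY.diag hX hX f f) (pullback.diagonal f) h
    (isQuasiCompactMor_of_repWith hqs) hh hd ?_
  intro sq ⟨t, ht⟩
  refine ⟨fun l l' _ h2 _ h4 => (cancel_mono (pullback.diagonal f)).1 (h2.trans h4.symm), ?_⟩
  let a₁ : (yon S).obj sq.ptA ⟶ X := sq.bot ≫ pullback.fst f f
  let a₂ : (yon S).obj sq.ptA ⟶ X := sq.bot ≫ pullback.snd f f
  have e1 : (yon S).map sq.j ≫ a₁ = sq.top := by
    have := congrArg (· ≫ pullback.fst f f) sq.comm
    simp only [Category.assoc, pullback.diagonal_fst, Category.comp_id] at this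
    exact this.symm
  have e2 : (yon S).map sq.j ≫ a₂ = sq.top := by
    have := congrArg (· ≫ pullback.snd f f) sq.comm
    simp only [Category.assoc, pullback.diagonal_snd, Category.comp_id] at this
    exact this.symm
  let sq' : ValSq f := transferSq sq f sq.top (a₁ ≫ f) (by rw [← Category.assoc, e1])
  have e : a₁ = a₂ := (hv sq' ⟨t, ht⟩).1 a₁ a₂ e1 rfl e2 (by
    change a₂ ≫ f = a₁ ≫ f
    simp only [a₁, a₂, Category.assoc, pullback.condition])
  have hl : sq.HasLift := ⟨a₁, e1, by
    apply pullback.hom_ext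
    · rw [Category.assoc, pullback.diagonal_fst, Category.comp_id]
    · rw [Category.assoc, pullback.diagonal_snd, Category.comp_id]; exact e⟩
  obtain ⟨l, h1, h2⟩ := hl
  have hid : Spec.map (CommRingCat.ofHom (RingHom.id sq.A)) = 𝟙 _ := by rw [CommRingCat.ofHom_id]; exact Spec.map_id _
  let i : (trivExt sq).ptA' ⟶ sq.ptA := Over.homMk (Spec.map (CommRingCat.ofHom (RingHom.id sq.A))) rfl
  refine ⟨trivExt sq, (yon S).map i ≫ l, ?_, ?_⟩
  · rw [← h1, ← Category.assoc, ← Category.assoc, ← Functor.map_comp, ← Functor.map_comp]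
    congr 2
    apply Over.OverMorphism.ext
    change Spec.map _ ≫ Spec.map _ = Spec.map _ ≫ Spec.map _
    rw [← Spec.map_comp, ← Spec.map_comp]
    rfl
  · rw [Category.assoc, h2]
    rfl

end Groth.Agent.ASp
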