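import Groth.Agent.ASp.ValBasic
import Groth.Agent.ASp.ValLift
import Groth.Agent.ASp.DecentTop
import Groth.Agent.ASp.DecentQS

/-!
Universally closed morphisms with decent fibre products have lifts after extension.
-/

set_option backward.isDefEq.respectTransparency false
set_option backward.isDefEq.respectTransparency.types false

universe u

open CategoryTheory CategoryTheory.Limits AlgebraicGeometry Opposite

namespace Groth.Agent.ASp

open _root_.AlgSp

variable {S : Scheme.{u}}

theorem ofPt_yon_inj {T T' : Over S} (φ : T ⟶ T') {t : T.left} {t' : T'.left}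
    (h : Points.ofPt ((yon S).map φ) t = Points.schemeHomeo T' t') : φ.left t = t' := by
  apply (Points.schemeHomeo T').injective
  rw [← h]
  conv_rhs => rw [← Category.comp_id ((yon S).map φ)]
  exact (ofPt_yon_map_comp φ _ t).symm

/-- A lift after extension for a decent space mapping by a closed map to the spectrum of a valuation ring. -/
theorem hasLiftExt_of_decent {F G P : Sp S} {f : F ⟶ G} (sq : ValSq f) (hP : IsAlgSpace P) (hdec : IsDecent P)
    (fst : P ⟶ F) (q : P ⟶ (yon S).obj sq.ptA) (comm : fst ≫ f = q ≫ sq.bot)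
    (hcl : IsClosedMap (Points.map q)) (t : (yon S).obj sq.ptK ⟶ P) (ht1 : t ≫ fst = sq.top)
    (ht2 : t ≫ q = (yon S).map sq.j) : sq.HasLiftExt := by
  let x₀ := Points.ofPt t (IsLocalRing.closedPoint sq.K)
  let η : (sq.ptA).left := Spec.map (CommRingCat.ofHom (algebraMap sq.A sq.K)) (IsLocalRing.closedPoint sq.K)
  have hx₀ : Points.map q x₀ = Points.schemeHomeo sq.ptA η := by
    rw [Points.map_ofPt, ht2, ← Category.comp_id ((yon S).map sq.j)]
    exact ofPt_yon_map_comp sq.j _ _
  have hmem : Points.schemeHomeo sq.ptA (IsLocalRing.closedPoint sq.A) ∈ Points.map q '' closure {x₀} := by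
    have hs : η ⤳ IsLocalRing.closedPoint sq.A := IsLocalRing.specializes_closedPoint _
    exact (hs.map (Points.schemeHomeo sq.ptA).continuous).mem_closed (hcl _ isClosed_closure)
      ⟨x₀, subset_closure rfl, hx₀⟩
  obtain ⟨x, hx, hqx⟩ := hmem
  obtain ⟨U, p, hpe, hps⟩ := hP.atlas
  obtain ⟨v, rfl⟩ := surjective_ofPt hps x
  obtain ⟨v₀, hv, hv₀⟩ := exists_specializes_lift hdec hpe (specializes_iff_mem_closure.2 hx)
  obtain ⟨c, hc⟩ := (yon S).map_surjective (p ≫ q)
  have hcv : c.left v = IsLocalRing.closedPoint sq.A := ofPt_yon_inj c (by rw [hc, ← Points.map_ofPt]; exact hqx)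
  have pb := hpe.1.isPullback t
  obtain ⟨W, fstW, sndW, pbW⟩ := exists_isPullback_yon hpe.1 t
  obtain ⟨w, hw1, hw2⟩ := (ofPt_eq_ofPt_iff pbW v₀ (IsLocalRing.closedPoint sq.K)).1 hv₀
  let L : Type u := W.left.residueField w
  let pL := W.left.fromSpecResidueField w ≫ fstW.left
  have hpL : pL (IsLocalRing.closedPoint L) ⤳ v := by
    have : (W.left.fromSpecResidueField w) (IsLocalRing.closedPoint L) = w := Scheme.fromSpecResidueField_apply w _
    rw [show pL (IsLocalRing.closedPoint L) = fstW.left ((W.left.fromSpecResidueField w) (IsLocalRing.closedPoint L))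
      from rfl, this, hw1]
    exact hv
  obtain ⟨V, l, h1, h2⟩ := exists_valuation_lift (L := L) pL hpL
  obtain ⟨φ, hφ⟩ := Spec.map_surjective (l ≫ c.left)
  obtain ⟨ψ, hψ⟩ := Spec.map_surjective (R := CommRingCat.of sq.K) (S := CommRingCat.of L) (W.left.fromSpecResidueField w ≫ sndW.left)
  have hw3 : fstW ≫ c = sndW ≫ sq.j := (yon S).map_injective (by
    rw [Functor.map_comp, Functor.map_comp, hc, ← Category.assoc, pbW.w, Category.assoc, ht2])
  have hcomm : φ ≫ CommRingCat.ofHom (algebraMap V L) = CommRingCat.ofHom (algebraMap sq.A sq.K) ≫ ψ := by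
    apply Spec.map_injective
    rw [Spec.map_comp, Spec.map_comp, hφ, hψ, ← Category.assoc, h1]
    simp only [pL, Category.assoc]
    exact congrArg (W.left.fromSpecResidueField w ≫ ·) (congrArg CommaMorphism.left hw3)
  let e : sq.DomExt :=
    { A' := V
      K' := L
      φ := φ.hom
      ψ := ψ.hom
      comm := congrArg CommRingCat.Hom.hom hcomm
      isLocalHom := by
        have e1 : Spec.map φ (IsLocalRing.closedPoint V) = IsLocalRing.closedPoint sq.A := by
          rw [hφ, Scheme.Hom.comp_apply, h2]; exact hcv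
        exact ((IsLocalRing.local_hom_TFAE φ.hom).out 0 4).2 (congrArg PrimeSpectrum.asIdeal e1) }
  let l' : e.ptA' ⟶ U := Over.homMk l (by
    change l ≫ U.hom = Spec.map φ ≫ sq.str
    rw [hφ, Category.assoc, show c.left ≫ sq.str = U.hom from Over.w c])
  refine ⟨e, (yon S).map l' ≫ p ≫ fst, ?_, ?_⟩
  · let k : e.ptK' ⟶ W := Over.homMk (W.left.fromSpecResidueField w) (by
      change _ = Spec.map _ ≫ Spec.map φ ≫ sq.str
      rw [hφ, Category.assoc, show c.left ≫ sq.str = U.hom from Over.w c, reassoc_of% h1]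
      simp only [pL, Category.assoc, Over.w fstW])
    let jA : e.ptK' ⟶ e.ptA' := Over.homMk (Spec.map (CommRingCat.ofHom (algebraMap e.A' e.K'))) rfl
    have k1 : jA ≫ l' = k ≫ fstW := Over.OverMorphism.ext h1
    change (yon S).map jA ≫ _ = _
    rw [← Category.assoc, ← Functor.map_comp, k1, Functor.map_comp, Category.assoc,
      ← Category.assoc ((yon S).map fstW), pbW.w, Category.assoc, ht1, ← Category.assoc, ← Functor.map_comp]
    congr 2
    exact Over.OverMorphism.ext hψ.symm
  · rw [Category.assoc, Category.assoc, comm, ← Category.assoc p, ← hc, ← Category.assoc, ← Functor.map_comp]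
    congr 2
    exact Over.OverMorphism.ext hφ.symm

theorem existVC_of_closed_decent {X Y : Sp S} (hX : IsAlgSpace X) (hY : IsAlgSpace Y) (f : X ⟶ Y)
    (hc : IsUnivClosedMor f) (hd : IsDecentMor f) : ExistVC f := by
  intro sq
  have pb := IsPullback.of_hasPullback f sq.bot
  refine hasLiftExt_of_decent sq (isAlgSpace_pullback hY.diag hX (IsAlgSpace.yon_obj sq.ptA) f sq.bot)
    (hd sq.bot _ _ pb) _ _ pb.w (hc (IsAlgSpace.yon_obj sq.ptA) sq.bot _ _ pb)
    (pb.lift sq.top ((yon S).map sq.j) sq.comm) (pb.lift_fst _ _ _) (pb.lift_snd _ _ _)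

theorem isDecentMor_of_qsMor {X Y : Sp S} (hX : IsAlgSpace X) (hY : IsAlgSpace Y) (f : X ⟶ Y)
    (hqs : IsQuasiSeparatedMor f) : IsDecentMor f := by
  intro T F' g fst snd sq
  obtain ⟨s, h, -⟩ := isPullback_diagonal_baseChange sq
  exact isDecent_of_qs ((isAlgSpace_pullback hY.diag hX (IsAlgSpace.yon_obj T) f g).of_iso
    ((IsPullback.of_hasPullback f g).isoIsPullback _ _ sq)) snd (repWith_of_isPullback h hqs)

end Groth.Agent.ASp
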