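import Groth.Agent.ASp.Morph
import Mathlib.AlgebraicGeometry.Morphisms.ClosedImmersion

/-!
Fibre products of affine schemes over a space separated over an affine scheme.
-/

set_option backward.isDefEq.respectTransparency false
set_option backward.isDefEq.respectTransparency.types false

universe u

open CategoryTheory CategoryTheory.Limits AlgebraicGeometry Opposite TensorProduct

namespace Groth.Agent.ASp

open _root_.AlgSp

variable {S : Scheme.{u}}

/-- Over a space with closed diagonal relative to `Spec A`, fibre products of affines are affine, with a closed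
immersion into the product over `Spec A`. -/
theorem exists_affine_fibre {A B C : Type u} [CommRing A] [CommRing B] [CommRing C] [Algebra A B] [Algebra A C]
    {P : Sp S} {T U V : Over S} {q : P ⟶ (yon S).obj T} (hd : RepWith @IsClosedImmersion (pullback.diagonal q))
    (eT : T.left ≅ Spec (CommRingCat.of A)) (eU : U.left ≅ Spec (CommRingCat.of B))
    (eV : V.left ≅ Spec (CommRingCat.of C)) (p : (yon S).obj U ⟶ P) (x : (yon S).obj V ⟶ P)
    (a : U ⟶ T) (b : V ⟶ T) (hp : p ≫ q = (yon S).map a) (hx : x ≫ q = (yon S).map b)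
    (ha : a.left ≫ eT.hom = eU.hom ≫ Spec.map (CommRingCat.ofHom (algebraMap A B)))
    (hb : b.left ≫ eT.hom = eV.hom ≫ Spec.map (CommRingCat.ofHom (algebraMap A C))) :
    ∃ (R : Type u) (_ : CommRing R) (_ : Algebra A R) (β : B →ₐ[A] R) (γ : C →ₐ[A] R) (W : Over S)
      (eW : W.left ≅ Spec (CommRingCat.of R)) (fW : W ⟶ U) (sW : W ⟶ V),
      fW.left ≫ eU.hom = eW.hom ≫ Spec.map (CommRingCat.ofHom β.toRingHom) ∧
      sW.left ≫ eV.hom = eW.hom ≫ Spec.map (CommRingCat.ofHom γ.toRingHom) ∧
      IsPullback ((yon S).map fW) ((yon S).map sW) p x ∧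
      Function.Surjective (Algebra.TensorProduct.lift γ β fun _ _ => Commute.all _ _) := by
  let i₁ : Spec (CommRingCat.of (C ⊗[A] B)) ⟶ U.left :=
    Spec.map (CommRingCat.ofHom (Algebra.TensorProduct.includeRight : B →ₐ[A] C ⊗[A] B).toRingHom) ≫ eU.inv
  let i₂ : Spec (CommRingCat.of (C ⊗[A] B)) ⟶ V.left :=
    Spec.map (CommRingCat.ofHom (Algebra.TensorProduct.includeLeftRingHom : C →+* C ⊗[A] B)) ≫ eV.inv
  have sqS : IsPullback i₁ i₂ a.left b.left :=
    IsPullback.of_iso (isPullback_SpecMap_of_isPushout _ _ _ _ (CommRingCat.isPushout_tensorProduct A C B)).flip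
      (Iso.refl _) eU.symm eV.symm eT.symm (by simp [i₁]) (by simp [i₂])
      (by simp [Iso.comp_inv_eq, Category.assoc, ha]) (by simp [Iso.comp_inv_eq, Category.assoc, hb])
  let M : Over S := Over.mk (i₁ ≫ U.hom)
  let m₁ : M ⟶ U := Over.homMk i₁ rfl
  let m₂ : M ⟶ V := Over.homMk i₂ (by
    change i₂ ≫ V.hom = i₁ ≫ U.hom
    rw [← Over.w a, ← Over.w b, ← Category.assoc, ← Category.assoc, sqS.w])
  have sqM : IsPullback m₁ m₂ a b := IsPullback.of_map (Over.forget S) (Over.OverMorphism.ext sqS.w) sqS
  let g : (yon S).obj M ⟶ pullback q q := pullback.lift ((yon S).map m₁ ≫ p) ((yon S).map m₂ ≫ x) (by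
    rw [Category.assoc, Category.assoc, hp, hx, ← Functor.map_comp, ← Functor.map_comp, sqM.w])
  obtain ⟨W, j, fst, pb⟩ := hd.1 g
  haveI : IsClosedImmersion j.left := hd.2 g fst j pb
  haveI : IsClosedImmersion (show W.left ⟶ Spec (CommRingCat.of (C ⊗[A] B)) from j.left) :=
    ‹IsClosedImmersion j.left›
  obtain ⟨I, eW, hI⟩ := IsClosedImmersion.Spec_iff.1 this
  let R : Type u := (C ⊗[A] B) ⧸ I
  let θ : CommRingCat.of (C ⊗[A] B) ⟶ CommRingCat.of R := CommRingCat.ofHom (Ideal.Quotient.mk I)
  have hsurj : Function.Surjective θ.hom := Ideal.Quotient.mk_surjective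
  have h0 : j.left = eW.hom ≫ Spec.map θ := hI
  let Θ : C ⊗[A] B →ₐ[A] R := Ideal.Quotient.mkₐ A I
  refine ⟨R, inferInstance, inferInstance, Θ.comp Algebra.TensorProduct.includeRight,
    Θ.comp Algebra.TensorProduct.includeLeft, W, eW, j ≫ m₁, j ≫ m₂, ?_, ?_, ?_, ?_⟩
  · rw [Over.comp_left, h0]
    simp only [m₁, i₁, Over.homMk_left, Category.assoc, Iso.inv_hom_id, Category.comp_id]
    rw [← Spec.map_comp]
    rfl
  · rw [Over.comp_left, h0]
    simp only [m₂, i₂, Over.homMk_left, Category.assoc, Iso.inv_hom_id, Category.comp_id]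
    rw [← Spec.map_comp]
    rfl
  · have sqy := isPullback_yon_map sqM
    have e1 : fst = (yon S).map j ≫ (yon S).map m₁ ≫ p := by
      have := congrArg (· ≫ pullback.fst q q) pb.w
      simpa [g] using this
    have e2 : fst = (yon S).map j ≫ (yon S).map m₂ ≫ x := by
      have := congrArg (· ≫ pullback.snd q q) pb.w
      simpa [g] using this
    refine IsPullback.of_isLimit' ⟨?_⟩ (PullbackCone.IsLimit.mk _ (fun s => pb.lift (s.fst ≫ p)
      (sqy.lift s.fst s.snd (by rw [← hp, ← hx, ← Category.assoc, s.condition, Category.assoc])) ?_)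
      (fun s => ?_) (fun s => ?_) (fun s m h1 h2 => ?_))
    · rw [Functor.map_comp, Functor.map_comp, Category.assoc, Category.assoc, ← e1, ← e2]
    · apply pullback.hom_ext
      · simp only [g, Category.assoc, pullback.diagonal_fst, Category.comp_id, pullback.lift_fst, sqy.lift_fst_assoc]
      · simp only [g, Category.assoc, pullback.diagonal_snd, Category.comp_id, pullback.lift_snd, sqy.lift_snd_assoc]
        exact s.condition
    · change _ ≫ (yon S).map (j ≫ m₁) = _
      refine ((congrArg (_ ≫ ·) ((yon S).map_comp j m₁)).trans (Category.assoc _ _ _).symm).trans ?_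
      exact (congrArg (· ≫ _) (pb.lift_snd _ _ _)).trans (sqy.lift_fst _ _ _)
    · change _ ≫ (yon S).map (j ≫ m₂) = _
      refine ((congrArg (_ ≫ ·) ((yon S).map_comp j m₂)).trans (Category.assoc _ _ _).symm).trans ?_
      exact (congrArg (· ≫ _) (pb.lift_snd _ _ _)).trans (sqy.lift_snd _ _ _)
    · apply pb.hom_ext
      · rw [pb.lift_fst, e1, ← h1]
        simp only [Functor.map_comp, Category.assoc]
      · rw [pb.lift_snd]
        apply sqy.hom_ext
        · rw [sqy.lift_fst, ← h1]; simp only [Functor.map_comp, Category.assoc]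
        · rw [sqy.lift_snd, ← h2]; simp only [Functor.map_comp, Category.assoc]
  · intro r
    obtain ⟨y, rfl⟩ := hsurj r
    refine ⟨y, ?_⟩
    have e : Algebra.TensorProduct.lift (Θ.comp Algebra.TensorProduct.includeLeft)
        (Θ.comp Algebra.TensorProduct.includeRight) (fun _ _ => Commute.all _ _) = Θ := by
      apply Algebra.TensorProduct.ext' fun c b => ?_
      simp [← map_mul]
    rw [e]
    rfl

end Groth.Agent.ASp
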