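import Groth.Agent.ASp.ValLift
import Groth.Agent.ASp.LocP
import Groth.Agent.ASp.TopFpqc
import Mathlib.AlgebraicGeometry.Morphisms.UniversallyOpen

/-!
Valuation rings lift along flat morphisms.
-/

set_option backward.isDefEq.respectTransparency false
set_option backward.isDefEq.respectTransparency.types false

universe u

open CategoryTheory CategoryTheory.Limits AlgebraicGeometry Opposite

namespace Groth.Agent.ASp

open _root_.AlgSp

variable {S : Scheme.{u}}

theorem exists_valuation_lift_of_flat {X Y : Sp S} (hX : IsAlgSpace X) (hY : IsAlgSpace Y) (f : X ⟶ Y)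
    (hf : LocP @Flat f) (A : Type u) [CommRing A] [IsDomain A] [ValuationRing A]
    (str : Spec (.of A) ⟶ S) (b : (yon S).obj (Over.mk str) ⟶ Y)
    (hb : Points.ofPt b (IsLocalRing.closedPoint A) ∈ Set.range (Points.map f)) :
    ∃ (A' : Type u) (_ : CommRing A') (_ : IsDomain A') (_ : ValuationRing A') (φ : A →+* A'),
      Function.Injective φ ∧ IsLocalHom φ ∧
      ∃ l : (yon S).obj (Over.mk (Spec.map (CommRingCat.ofHom φ) ≫ str)) ⟶ X,
        l ≫ f = (yon S).map (Over.homMk (Spec.map (CommRingCat.ofHom φ)) rfl :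
          Over.mk (Spec.map (CommRingCat.ofHom φ) ≫ str) ⟶ Over.mk str) ≫ b := by
  let T : Over S := Over.mk str
  have sq := IsPullback.of_hasPullback f b
  have hP : IsAlgSpace (pullback f b) := isAlgSpace_pullback hY.diag hX (IsAlgSpace.yon_obj T) f b
  obtain ⟨U, p, hpe, hps⟩ := hP.atlas
  obtain ⟨c, hc⟩ := (yon S).map_surjective (p ≫ pullback.snd f b)
  haveI : Flat c.left := locP_of_isPullback sq.flip hX hY (IsAlgSpace.yon_obj T) hf p (𝟙 _) c hpe
    (repWith_id _ T) (by rw [hc, Category.comp_id])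
  obtain ⟨x, hx⟩ := hb
  obtain ⟨z, -, hz⟩ := points_exists_of_isPullback sq x (Points.ofScheme T (IsLocalRing.closedPoint A))
    (hx.trans (Points.ofPt_eq_map_ofScheme b _))
  obtain ⟨v, rfl⟩ := surjective_ofPt hps z
  have hv : c.left v = IsLocalRing.closedPoint A := by
    rw [Points.map_ofPt, ← hc] at hz
    have := congrArg (Points.toScheme T) hz
    rw [Points.toScheme_ofScheme, Points.toScheme_ofPt] at this
    exact this
  obtain ⟨v₀, hv₀, hv₀'⟩ := Flat.generalizingMap c.left
    (show (⟨⊥, Ideal.isPrime_bot⟩ : PrimeSpectrum A) ⤳ c.left v by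
      rw [hv]; exact IsLocalRing.specializes_closedPoint _)
  obtain ⟨A', i₁, i₂, i₃, φ, h1, h2, l, h3, -⟩ := exists_dominating_of_specializes c.left hv₀
    (congrArg PrimeSpectrum.asIdeal hv₀') hv
  refine ⟨A', i₁, i₂, i₃, φ, h1, h2, ?_⟩
  let l' : Over.mk (Spec.map (CommRingCat.ofHom φ) ≫ str) ⟶ U := Over.homMk l (by
    rw [← Over.w c, reassoc_of% h3]; rfl)
  refine ⟨(yon S).map l' ≫ p ≫ pullback.fst f b, ?_⟩
  rw [Category.assoc, Category.assoc, sq.w, ← Category.assoc p, ← hc, ← Category.assoc, ← Functor.map_comp]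
  congr 2
  exact Over.OverMorphism.ext h3

end Groth.Agent.ASp
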