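import Mathlib.RingTheory.Etale.Descent
import Mathlib.RingTheory.Flat.TorsionFree
import Mathlib.RingTheory.Flat.FaithfullyFlat.Algebra
import Mathlib.RingTheory.Valuation.ValuationRing
import Mathlib.RingTheory.Localization.BaseChange

/-!
The image of an algebra in an étale algebra over the fraction field of a valuation ring.
-/

universe u

open TensorProduct

namespace Groth.Agent.ASp

variable {A : Type u} [CommRing A] [IsDomain A] [ValuationRing A]

theorem flat_of_injective_to_field {K : Type u} [Field K] [Algebra A K] [IsFractionRing A K]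
    {M N : Type u} [AddCommGroup M] [Module A M] [AddCommGroup N] [Module A N] [Module K N] [IsScalarTower A K N]
    (f : M →ₗ[A] N) (hf : Function.Injective f) : Module.Flat A M := by
  rw [Module.Flat.flat_iff_torsion_eq_bot_of_isBezout, ← Submodule.isTorsionFree_iff_torsion_eq_bot,
    Module.isTorsionFree_iff_smul_eq_zero]
  intro r m h
  by_contra! hc
  have h1 : algebraMap A K r • f m = 0 := by rw [algebraMap_smul, ← map_smul, h, map_zero]
  rcases smul_eq_zero.1 h1 with h2 | h2
  · exact hc.1 (IsFractionRing.injective A K (h2.trans (map_zero _).symm))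
  · exact hc.2 (hf (h2.trans (map_zero f).symm))

variable {A' K K' : Type u} [CommRing A'] [IsDomain A'] [IsLocalRing A'] [Field K] [Field K']
  [Algebra A K] [IsFractionRing A K] [Algebra A A'] [Algebra K K'] [Algebra A' K'] [IsFractionRing A' K']
  [Algebra A K'] [IsScalarTower A A' K'] [IsScalarTower A K K'] [IsLocalHom (algebraMap A A')]
  {B D E : Type u} [CommRing B] [Algebra A B] [CommRing E] [Algebra A E] [Algebra K E] [IsScalarTower A K E]
  [CommRing D] [Algebra A D] [Algebra A' D] [IsScalarTower A A' D]

/-- The image of `B` in `E` is etale over `A` if it is so after a dominating extension. -/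
theorem etale_range_of_etale_extension [Algebra.Etale A' D] (ρ : B →ₐ[A] E) (σ : B →ₐ[A] D)
    (hσ : Function.Surjective (Algebra.TensorProduct.lift (Algebra.ofId A' D) σ fun _ _ => Commute.all _ _))
    (ν : D →+* K' ⊗[K] E) (hν : Function.Injective ν)
    (hA : ∀ a, ν (algebraMap A' D a) = algebraMap A' K' a ⊗ₜ 1) (hB : ∀ b, ν (σ b) = 1 ⊗ₜ ρ b) :
    Algebra.Etale A ρ.range ∧ ∃ g : ρ.range →+* D, ∀ a, g (algebraMap A ρ.range a) = algebraMap A D a := by
  have hinj : Function.Injective (algebraMap A A') := by
    refine Function.Injective.of_comp (f := algebraMap A' K') ?_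
    rw [← RingHom.coe_comp, ← IsScalarTower.algebraMap_eq, IsScalarTower.algebraMap_eq A K K']
    exact (algebraMap K K').injective.comp (IsFractionRing.injective A K)
  haveI : Module.Flat A A' := flat_of_injective_to_field (K := K) (IsScalarTower.toAlgHom A A' K').toLinearMap
    (IsFractionRing.injective A' K')
  haveI : Module.FaithfullyFlat A A' := Module.FaithfullyFlat.of_flat_of_isLocalHom
  haveI : Module.Flat A ρ.range := flat_of_injective_to_field (K := K) ρ.range.val.toLinearMap Subtype.coe_injective
  haveI : Module.Flat A K' := flat_of_injective_to_field (K := K) (LinearMap.id : K' →ₗ[A] K') Function.injective_id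
  let μ : A' ⊗[A] ρ.range →ₐ[A] K' ⊗[K] E := Algebra.TensorProduct.lift
    ((Algebra.TensorProduct.includeLeft : K' →ₐ[A] K' ⊗[K] E).comp (IsScalarTower.toAlgHom A A' K'))
    (((Algebra.TensorProduct.includeRight : E →ₐ[K] K' ⊗[K] E).restrictScalars A).comp ρ.range.val)
    fun _ _ => Commute.all _ _
  have hμt : ∀ a c, μ (a ⊗ₜ c) = algebraMap A' K' a ⊗ₜ (c : E) := fun a c => by simp [μ]
  have hμ : Function.Injective μ := by
    haveI : TensorProduct.CompatibleSMul A K K' E := IsLocalization.tensorProduct_compatibleSMul (nonZeroDivisors A) K K' E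
    let e := TensorProduct.equivOfCompatibleSMul A K A K' E
    have h : ⇑μ = e.symm ∘ ((ρ.range.val.toLinearMap).lTensor K') ∘
        ((IsScalarTower.toAlgHom A A' K').toLinearMap.rTensor ρ.range) := by
      ext x
      induction x with
      | zero => simp
      | tmul a c =>
        refine e.injective ?_
        simp [hμt, e, TensorProduct.equivOfCompatibleSMul]
      | add a b ha hb => simp only [map_add, Function.comp_apply] at ha hb ⊢; rw [ha, hb]
    rw [h]
    exact e.symm.injective.comp ((Module.Flat.lTensor_preserves_injective_linearMap _ Subtype.coe_injective).comp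
      (Module.Flat.rTensor_preserves_injective_linearMap _ (IsFractionRing.injective A' K')))
  let τ := Algebra.TensorProduct.lift (Algebra.ofId A' D) σ fun _ _ => Commute.all _ _
  let P := Algebra.TensorProduct.map (AlgHom.id A A') ρ.rangeRestrict
  have hP : Function.Surjective P := TensorProduct.map_surjective Function.surjective_id ρ.rangeRestrict_surjective
  have key : ∀ x, μ (P x) = ν (τ x) := by
    intro x
    induction x with
    | zero => simp
    | tmul a b =>
      simp [P, τ, hμt, hA, hB, Algebra.TensorProduct.tmul_mul_tmul]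
    | add a b ha hb => simp only [map_add, ha, hb]
  let e₀ : D → A' ⊗[A] ρ.range := fun d => P (hσ d).choose
  have he₀ : ∀ d, μ (e₀ d) = ν d := fun d => by rw [key, (hσ d).choose_spec]
  have hbij : Function.Bijective e₀ := by
    refine ⟨fun d d' h => hν (by rw [← he₀, h, he₀]), fun x => ?_⟩
    obtain ⟨y, rfl⟩ := hP x
    exact ⟨τ y, hμ (by rw [he₀, key])⟩
  let e : D →ₐ[A'] A' ⊗[A] ρ.range :=
    { toFun := e₀
      map_one' := hμ (by rw [he₀, map_one, map_one])
      map_mul' := fun x y => hμ (by rw [he₀, map_mul, map_mul, he₀, he₀])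
      map_zero' := hμ (by rw [he₀, map_zero, map_zero])
      map_add' := fun x y => hμ (by rw [he₀, map_add, map_add, he₀, he₀])
      commutes' := fun a => hμ (by rw [he₀, hA, Algebra.TensorProduct.algebraMap_apply, hμt]; simp) }
  haveI : Algebra.Etale A' (A' ⊗[A] ρ.range) := .of_equiv (AlgEquiv.ofBijective e hbij)
  refine ⟨Algebra.Etale.of_etale_tensorProduct_of_faithfullyFlat (T := A'),
    (AlgEquiv.ofBijective e hbij).symm.toRingHom.comp Algebra.TensorProduct.includeRight.toRingHom, fun a => ?_⟩
  refine (AlgEquiv.ofBijective e hbij).injective ?_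
  simp [IsScalarTower.algebraMap_apply A A' D]

end Groth.Agent.ASp
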