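import Mathlib.AlgebraicGeometry.Pullbacks
import Mathlib.AlgebraicGeometry.GammaSpecAdjunction
import Mathlib.RingTheory.Flat.Basic
import Mathlib.RingTheory.Etale.Basic
import Mathlib.RingTheory.Smooth.Flat
import Mathlib.Algebra.Category.Ring.Constructions

/-!
Pullbacks of affine schemes and flat injectivity.
-/

universe u

open CategoryTheory CategoryTheory.Limits AlgebraicGeometry TensorProduct

namespace Groth.Agent.ASp

theorem isPushout_of_isPullback_spec {A B C P : CommRingCat.{u}} {f : A ⟶ B} {g : A ⟶ C} {inl : B ⟶ P}
    {inr : C ⟶ P} (h : IsPullback (Spec.map inl) (Spec.map inr) (Spec.map f) (Spec.map g)) :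
    IsPushout f g inl inr := by
  have h' : IsPullback inl.op inr.op f.op g.op :=
    IsPullback.of_map Scheme.Spec (Scheme.Spec.map_injective (by rw [Functor.map_comp, Functor.map_comp]; exact h.w)) h
  exact h'.flip.unop

/-- A flat algebra injects into its base change along an injective map. -/
theorem injective_of_isPullback_spec {A' K' D E' : Type u} [CommRing A'] [CommRing K'] [Algebra A' K'] [CommRing D]
    [Algebra A' D] [Module.Flat A' D] [CommRing E'] (hinj : Function.Injective (algebraMap A' K'))
    (ν : D →+* E') (κ : K' →+* E')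
    (h : IsPullback (Spec.map (CommRingCat.ofHom ν)) (Spec.map (CommRingCat.ofHom κ))
      (Spec.map (CommRingCat.ofHom (algebraMap A' D))) (Spec.map (CommRingCat.ofHom (algebraMap A' K')))) :
    Function.Injective ν := by
  have h' := (isPushout_of_isPullback_spec h)
  letI : Algebra D E' := ν.toAlgebra
  letI : Algebra K' E' := κ.toAlgebra
  letI : Algebra A' E' := (ν.comp (algebraMap A' D)).toAlgebra
  haveI : IsScalarTower A' D E' := IsScalarTower.of_algebraMap_eq fun _ => rfl
  haveI : IsScalarTower A' K' E' := IsScalarTower.of_algebraMap_eq fun x =>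
    congrArg (fun q : CommRingCat.of A' ⟶ CommRingCat.of E' => q.hom x) h'.w
  have hp : Algebra.IsPushout A' K' D E' :=
    (CommRingCat.isPushout_iff_isPushout (R := A') (S := D) (R' := K') (S' := E')).1 h'.flip
  have e : ⇑ν = hp.out.equiv ∘ ((Algebra.linearMap A' K').rTensor D) ∘ (TensorProduct.lid A' D).symm := by
    funext d
    simp [IsBaseChange.equiv_tmul, RingHom.algebraMap_toAlgebra]
  rw [e]
  exact hp.out.equiv.injective.comp ((Module.Flat.rTensor_preserves_injective_linearMap _ hinj).comp
    (TensorProduct.lid A' D).symm.injective)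

end Groth.Agent.ASp
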