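import Groth.Agent.ASp.ValBasic

/-!
For representable maps the valuative existence criterion needs no extension.
-/

set_option backward.isDefEq.respectTransparency false
set_option backward.isDefEq.respectTransparency.types false

universe u

open CategoryTheory CategoryTheory.Limits AlgebraicGeometry Opposite

namespace Groth.Agent.ASp

/-- A lift over a dominating valuation ring descends, for schemes. -/
theorem exists_section_of_dominating {A K A' K' : Type u} [CommRing A] [IsDomain A] [ValuationRing A] [Field K]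
    [Algebra A K] [IsFractionRing A K] [CommRing A'] [IsDomain A'] [ValuationRing A'] [Field K'] [Algebra A' K']
    [IsFractionRing A' K'] (φ : A →+* A') (ψ : K →+* K')
    (comm : (algebraMap A' K').comp φ = ψ.comp (algebraMap A K)) [IsLocalHom φ] {W : Scheme.{u}}
    (w : W ⟶ Spec (CommRingCat.of A)) (k₀ : Spec (CommRingCat.of K) ⟶ W) (l : Spec (CommRingCat.of A') ⟶ W)
    (e₁ : k₀ ≫ w = Spec.map (CommRingCat.ofHom (algebraMap A K)))
    (e₃ : Spec.map (CommRingCat.ofHom (algebraMap A' K')) ≫ l = Spec.map (CommRingCat.ofHom ψ) ≫ k₀) :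
    ∃ s : Spec (CommRingCat.of A) ⟶ W,
      Spec.map (CommRingCat.ofHom (algebraMap A K)) ≫ s = k₀ ∧ s ≫ w = 𝟙 _ := by
  classical
  obtain ⟨V, hV, hzV, -⟩ := exists_isAffineOpen_mem_and_subset (x := l (IsLocalRing.closedPoint A'))
    (U := (⊤ : W.Opens)) (by simp)
  have hl : Set.range l ⊆ Set.range hV.fromSpec := by
    rw [hV.range_fromSpec]
    rintro _ ⟨y, rfl⟩
    exact (((IsLocalRing.specializes_closedPoint y).map l.continuous).mem_open V.isOpen hzV)
  have hk : Set.range k₀ ⊆ Set.range hV.fromSpec := by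
    haveI : Subsingleton ↥(Spec (CommRingCat.of K)) := inferInstanceAs (Subsingleton (PrimeSpectrum K))
    rintro _ ⟨y, rfl⟩
    rw [Subsingleton.elim y ((Spec.map (CommRingCat.ofHom ψ)) (IsLocalRing.closedPoint K')),
      ← Scheme.Hom.comp_apply, ← e₃, Scheme.Hom.comp_apply]
    exact hl ⟨_, rfl⟩
  obtain ⟨b, hb⟩ := Spec.map_surjective (IsOpenImmersion.lift hV.fromSpec k₀ hk)
  obtain ⟨a, ha⟩ := Spec.map_surjective (IsOpenImmersion.lift hV.fromSpec l hl)
  have hbk : Spec.map b ≫ hV.fromSpec = k₀ := by rw [hb, IsOpenImmersion.lift_fac]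
  have hal : Spec.map a ≫ hV.fromSpec = l := by rw [ha, IsOpenImmersion.lift_fac]
  have hab : a ≫ CommRingCat.ofHom (algebraMap A' K') = b ≫ CommRingCat.ofHom ψ := Spec.map_injective (by
    rw [← cancel_mono hV.fromSpec, Spec.map_comp, Spec.map_comp, Category.assoc, Category.assoc, hal, hbk, e₃])
  have key : ∀ r, ∃ x : A, algebraMap A K x = b.hom r := by
    intro r
    rcases ValuationRing.isInteger_or_isInteger A (b.hom r) with ⟨x, hx⟩ | ⟨y, hy⟩
    · exact ⟨x, hx⟩
    · by_cases h0 : b.hom r = 0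
      · exact ⟨0, by rw [map_zero, h0]⟩
      have e : algebraMap A' K' (a.hom r) = ψ (b.hom r) :=
        congrArg (fun g : Γ(W, V) ⟶ CommRingCat.of K' => g.hom r) hab
      have h1 : φ y * a.hom r = 1 := IsFractionRing.injective A' K' (by
        rw [map_mul, map_one, e, show algebraMap A' K' (φ y) = ψ (algebraMap A K y) from RingHom.congr_fun comm y,
          ← map_mul, hy, inv_mul_cancel₀ h0, map_one])
      have h2 : IsUnit y := (isUnit_map_iff φ y).1 (IsUnit.of_mul_eq_one _ h1)
      obtain ⟨v, hv⟩ := h2.exists_left_inv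
      refine ⟨v, ?_⟩
      have h3 := congrArg (algebraMap A K) hv
      rw [map_mul, map_one, hy] at h3
      exact eq_of_mul_inv_eq_one h3
  choose c hc using key
  have hinj := IsFractionRing.injective A K
  let c' : Γ(W, V) ⟶ CommRingCat.of A := CommRingCat.ofHom
    { toFun := c
      map_one' := hinj (by rw [hc, map_one, map_one])
      map_mul' := fun x y => hinj (by rw [hc, map_mul, map_mul, hc, hc])
      map_zero' := hinj (by rw [hc, map_zero, map_zero])
      map_add' := fun x y => hinj (by rw [hc, map_add, map_add, hc, hc]) }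
  have hs : Spec.map (CommRingCat.ofHom (algebraMap A K)) ≫ Spec.map c' ≫ hV.fromSpec = k₀ := by
    rw [← Spec.map_comp_assoc, show c' ≫ CommRingCat.ofHom (algebraMap A K) = b from CommRingCat.hom_ext
      (RingHom.ext hc), hbk]
  refine ⟨Spec.map c' ≫ hV.fromSpec, hs, ?_⟩
  obtain ⟨g, hg⟩ := Spec.map_surjective ((Spec.map c' ≫ hV.fromSpec) ≫ w)
  rw [← hg, ← Spec.map_id]
  congr 1
  have h : g ≫ CommRingCat.ofHom (algebraMap A K) = CommRingCat.ofHom (algebraMap A K) := Spec.map_injective (by
    rw [Spec.map_comp, hg, ← Category.assoc, hs, e₁])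
  exact CommRingCat.hom_ext (RingHom.ext fun x => hinj
    (congrArg (fun q : CommRingCat.of A ⟶ CommRingCat.of K => q.hom x) h))

open _root_.AlgSp

variable {S : Scheme.{u}} {F G : Sp S} {f : F ⟶ G}

/-- For a representable morphism a lift after extension gives a lift. -/
theorem existVCStrict_of_representable (hf : Representable f) (h : ExistVC f) : ExistVCStrict f := by
  intro sq
  obtain ⟨e, l, h1, h2⟩ := h sq
  haveI := e.isLocalHom
  have pb := hf.isPullback sq.bot
  obtain ⟨k₀, hk⟩ := (yon S).map_surjective (pb.lift sq.top ((yon S).map sq.j) sq.comm)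
  have hk1 : (yon S).map k₀ ≫ hf.fst sq.bot = sq.top := by rw [hk, pb.lift_fst]
  have hk2 : k₀ ≫ hf.snd sq.bot = sq.j := (yon S).map_injective (by rw [Functor.map_comp, hk, pb.lift_snd])
  let i : e.ptA' ⟶ sq.ptA := Over.homMk (Spec.map (CommRingCat.ofHom e.φ)) rfl
  obtain ⟨l', hl⟩ := (yon S).map_surjective (pb.lift l ((yon S).map i) h2)
  have hl1 : (yon S).map l' ≫ hf.fst sq.bot = l := by rw [hl, pb.lift_fst]
  have hl2 : l' ≫ hf.snd sq.bot = i := (yon S).map_injective (by rw [Functor.map_comp, hl, pb.lift_snd])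
  let jA : e.ptK' ⟶ e.ptA' := Over.homMk (Spec.map (CommRingCat.ofHom (algebraMap e.A' e.K'))) rfl
  let jK : e.ptK' ⟶ sq.ptK := Over.homMk (Spec.map (CommRingCat.ofHom e.ψ)) (by
    change Spec.map _ ≫ Spec.map _ ≫ _ = Spec.map _ ≫ Spec.map _ ≫ _
    rw [← Spec.map_comp_assoc, ← Spec.map_comp_assoc, ← CommRingCat.ofHom_comp,
      ← CommRingCat.ofHom_comp, e.comm])
  have h3 : jA ≫ l' = jK ≫ k₀ := (yon S).map_injective (pb.hom_ext (by
      rw [Functor.map_comp, Functor.map_comp, Category.assoc, Category.assoc, hl1, hk1]; exact h1) (by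
      rw [← Functor.map_comp, ← Functor.map_comp, Category.assoc, Category.assoc, hl2, hk2]
      congr 1
      apply Over.OverMorphism.ext
      change Spec.map _ ≫ Spec.map _ = Spec.map _ ≫ Spec.map _
      rw [← Spec.map_comp, ← Spec.map_comp, ← CommRingCat.ofHom_comp, ← CommRingCat.ofHom_comp, e.comm]))
  obtain ⟨s, hs1, hs2⟩ := exists_section_of_dominating e.φ e.ψ e.comm (hf.snd sq.bot).left k₀.left l'.left
    (congrArg CommaMorphism.left hk2) (congrArg CommaMorphism.left h3)
  let s' : sq.ptA ⟶ hf.pullback sq.bot := Over.homMk s (by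
    rw [← Over.w (hf.snd sq.bot), reassoc_of% hs2])
  have hs1' : sq.j ≫ s' = k₀ := Over.OverMorphism.ext hs1
  have hs2' : s' ≫ hf.snd sq.bot = 𝟙 _ := Over.OverMorphism.ext hs2
  refine ⟨(yon S).map s' ≫ hf.fst sq.bot, ?_, ?_⟩
  · rw [← Category.assoc, ← Functor.map_comp, hs1', hk1]
  · rw [Category.assoc, pb.w, ← Category.assoc, ← Functor.map_comp, hs2', CategoryTheory.Functor.map_id,
      Category.id_comp]

end Groth.Agent.ASp
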