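import Groth.Agent.ASp.ValBasic
import Groth.Agent.ASp.ValFibre
import Groth.Agent.ASp.ValPushout
import Groth.Agent.ASp.ValImage
import Groth.Agent.ASp.Residual
import Groth.Agent.ASp.Affine

/-!
Lifts descend along dominating extensions for separated morphisms.
-/

set_option backward.isDefEq.respectTransparency false
set_option backward.isDefEq.respectTransparency.types false

universe u

open CategoryTheory CategoryTheory.Limits AlgebraicGeometry Opposite TensorProduct

namespace Groth.Agent.ASp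

open _root_.AlgSp

variable {S : Scheme.{u}}

theorem etale_algebraMap_of_spec {A B : Type u} [CommRing A] [CommRing B] [Algebra A B]
    (h : Etale (Spec.map (CommRingCat.ofHom (algebraMap A B)))) : Algebra.Etale A B :=
  RingHom.etale_algebraMap.1 ((HasRingHomProperty.Spec_iff (P := @Etale)).1 h)

theorem hasLift_of_separated {X Y : Sp S} (hX : IsAlgSpace X) (hY : IsAlgSpace Y) (f : X ⟶ Y)
    (hf : IsSeparatedMor f) (sq : ValSq f) (e : sq.DomExt) (he : e.HasLift) : sq.HasLift := by
  haveI := e.isLocalHom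
  letI : Algebra sq.A e.A' := e.φ.toAlgebra
  letI : Algebra sq.K e.K' := e.ψ.toAlgebra
  letI : Algebra sq.A e.K' := ((algebraMap e.A' e.K').comp e.φ).toAlgebra
  haveI : IsScalarTower sq.A e.A' e.K' := IsScalarTower.of_algebraMap_eq fun _ => rfl
  haveI : IsScalarTower sq.A sq.K e.K' := IsScalarTower.of_algebraMap_eq fun x => RingHom.congr_fun e.comm x
  haveI : IsLocalHom (algebraMap sq.A e.A') := e.isLocalHom
  obtain ⟨l, hl1, hl2⟩ := he
  -- the fibre product over `Spec A`
  have pb := IsPullback.of_hasPullback f sq.bot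
  let q : pullback f sq.bot ⟶ (yon S).obj sq.ptA := pullback.snd f sq.bot
  have hP : IsAlgSpace (pullback f sq.bot) := isAlgSpace_pullback hY.diag hX (IsAlgSpace.yon_obj sq.ptA) f sq.bot
  obtain ⟨sd, hsd, -⟩ := isPullback_diagonal_baseChange pb
  have hd : IsSeparatedMor q := repWith_of_isPullback hsd hf
  let iA : e.ptA' ⟶ sq.ptA := Over.homMk (Spec.map (CommRingCat.ofHom e.φ)) rfl
  let jA : e.ptK' ⟶ e.ptA' := Over.homMk (Spec.map (CommRingCat.ofHom (algebraMap e.A' e.K'))) rfl
  let jK : e.ptK' ⟶ sq.ptK := Over.homMk (Spec.map (CommRingCat.ofHom e.ψ)) (by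
    change Spec.map _ ≫ Spec.map _ ≫ _ = Spec.map _ ≫ Spec.map _ ≫ _
    rw [← Spec.map_comp_assoc, ← Spec.map_comp_assoc, ← CommRingCat.ofHom_comp,
      ← CommRingCat.ofHom_comp, e.comm])
  have hj : jA ≫ iA = jK ≫ sq.j := by
    apply Over.OverMorphism.ext
    change Spec.map _ ≫ Spec.map _ = Spec.map _ ≫ Spec.map _
    rw [← Spec.map_comp, ← Spec.map_comp, ← CommRingCat.ofHom_comp, ← CommRingCat.ofHom_comp, e.comm]
  let t : (yon S).obj sq.ptK ⟶ pullback f sq.bot := pb.lift sq.top ((yon S).map sq.j) sq.comm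
  let m : (yon S).obj e.ptA' ⟶ pullback f sq.bot := pb.lift l ((yon S).map iA) hl2
  have htm : (yon S).map jK ≫ t = (yon S).map jA ≫ m := pb.hom_ext
    (by rw [Category.assoc, Category.assoc, pb.lift_fst, pb.lift_fst]; exact hl1.symm)
    (by rw [Category.assoc, Category.assoc, pb.lift_snd, pb.lift_snd, ← Functor.map_comp, ← Functor.map_comp, hj])
  -- an affine chart through the lifted closed point
  obtain ⟨U₀, p₀, hpe, hps⟩ := hP.atlas
  obtain ⟨u₀, hu₀⟩ := surjective_ofPt hps (Points.ofPt m (IsLocalRing.closedPoint e.A'))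
  obtain ⟨O, hO, hu₀O, -⟩ := exists_isAffineOpen_mem_and_subset (x := u₀) (U := (⊤ : U₀.left.Opens)) (by simp)
  obtain ⟨u, hu⟩ : ∃ u, hO.fromSpec u = u₀ := by
    have : u₀ ∈ Set.range hO.fromSpec := by rw [hO.range_fromSpec]; exact hu₀O
    exact this
  let B : Type u := Γ(U₀.left, O)
  let U : Over S := Over.mk (hO.fromSpec ≫ U₀.hom)
  let ιU : U ⟶ U₀ := Over.homMk hO.fromSpec rfl
  let p : (yon S).obj U ⟶ pullback f sq.bot := (yon S).map ιU ≫ p₀
  have hp : RepWith @Etale p :=
    repWith_comp (repWith_yon_map (P := @Etale) (g := ιU) (inferInstanceAs (Etale hO.fromSpec))) hpe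
  obtain ⟨a, ha⟩ := (yon S).map_surjective (p ≫ q)
  obtain ⟨α, hα⟩ := Spec.map_surjective (R := CommRingCat.of sq.A) (S := CommRingCat.of B) a.left
  letI : Algebra sq.A B := α.hom.toAlgebra
  have ha' : a.left ≫ (Iso.refl (Spec (CommRingCat.of sq.A))).hom =
      (Iso.refl (Spec (CommRingCat.of B))).hom ≫ Spec.map (CommRingCat.ofHom (algebraMap sq.A B)) :=
    (Category.comp_id _).trans (hα.symm.trans (Category.id_comp _).symm)
  obtain ⟨E, iE₁, iE₂, βE, γE, WE, eE, fE, sE, hfE, hsE, pbE, -⟩ := exists_affine_fibre (A := sq.A) (B := B) (C := sq.K)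
    hd (T := sq.ptA) (U := U) (V := sq.ptK) (Iso.refl _) (Iso.refl _) (Iso.refl _) p t a sq.j ha.symm
    (pb.lift_snd _ _ _) ha' ((Category.comp_id _).trans (Category.id_comp _).symm)
  obtain ⟨D, iD₁, iD₂, βD, γD, WD, eD, fD, sD, hfD, hsD, pbD, hgen⟩ := exists_affine_fibre (A := sq.A) (B := B) (C := e.A')
    hd (T := sq.ptA) (U := U) (V := e.ptA') (Iso.refl _) (Iso.refl _) (Iso.refl _) p m a iA ha.symm
    (pb.lift_snd _ _ _) ha' ((Category.comp_id _).trans (Category.id_comp _).symm)
  replace hfE : fE.left = eE.hom ≫ Spec.map (CommRingCat.ofHom βE.toRingHom) := (Category.comp_id _).symm.trans hfE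
  replace hsE : sE.left = eE.hom ≫ Spec.map (CommRingCat.ofHom γE.toRingHom) := (Category.comp_id _).symm.trans hsE
  replace hfD : fD.left = eD.hom ≫ Spec.map (CommRingCat.ofHom βD.toRingHom) := (Category.comp_id _).symm.trans hfD
  replace hsD : sD.left = eD.hom ≫ Spec.map (CommRingCat.ofHom γD.toRingHom) := (Category.comp_id _).symm.trans hsD
  letI : Algebra sq.K E := γE.toRingHom.toAlgebra
  haveI : IsScalarTower sq.A sq.K E := IsScalarTower.of_algebraMap_eq fun x => (γE.commutes x).symm
  letI : Algebra e.A' D := γD.toRingHom.toAlgebra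
  haveI : IsScalarTower sq.A e.A' D := IsScalarTower.of_algebraMap_eq fun x => (γD.commutes x).symm
  haveI hsEe : Etale sE.left := etale_snd hp pbE
  haveI : Algebra.Etale e.A' D := etale_algebraMap_of_spec (by
    haveI : Etale sD.left := etale_snd hp pbD
    have : Spec.map (CommRingCat.ofHom (algebraMap e.A' D)) = eD.inv ≫ sD.left := by
      rw [hsD, Iso.inv_hom_id_assoc]; rfl
    rw [this]; exact MorphismProperty.comp_mem _ _ _ inferInstance ‹Etale sD.left›)
  -- the generic fibre of the fibre over the extension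
  let E' : Type u := e.K' ⊗[sq.K] E
  let WE' : Over S := Over.mk (Spec.map (CommRingCat.ofHom (Algebra.TensorProduct.includeLeftRingHom : e.K' →+* E')) ≫ e.ptK'.hom)
  let s' : WE' ⟶ e.ptK' := Over.homMk (Spec.map (CommRingCat.ofHom (Algebra.TensorProduct.includeLeftRingHom : e.K' →+* E'))) rfl
  let k' : WE'.left ⟶ WE.left :=
    Spec.map (CommRingCat.ofHom (Algebra.TensorProduct.includeRight : E →ₐ[sq.K] E').toRingHom) ≫ eE.inv
  have sqS : IsPullback k' s'.left sE.left jK.left :=
    IsPullback.of_iso (isPullback_SpecMap_of_isPushout _ _ _ _ (CommRingCat.isPushout_tensorProduct sq.K e.K' E)).flip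
      (Iso.refl _) eE.symm (Iso.refl _) (Iso.refl _) (by simp [k']) (by simp [s'])
      (by simp only [Iso.refl_hom, Category.comp_id, Iso.symm_hom, hsE, Iso.inv_hom_id_assoc]; rfl)
      ((Category.comp_id _).trans (Category.id_comp _).symm)
  let k : WE' ⟶ WE := Over.homMk k' (by
    change k' ≫ WE.hom = s'.left ≫ e.ptK'.hom
    rw [← Over.w sE, ← Over.w jK, ← Category.assoc, ← Category.assoc, sqS.w])
  have sqO : IsPullback k s' sE jK := IsPullback.of_map (Over.forget S) (Over.OverMorphism.ext sqS.w) sqS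
  have big : IsPullback ((yon S).map k ≫ (yon S).map fE) ((yon S).map s') p ((yon S).map jA ≫ m) :=
    htm ▸ (isPullback_yon_map sqO).paste_horiz pbE
  obtain ⟨kν, hkν⟩ := (yon S).map_surjective
    (pbD.lift ((yon S).map k ≫ (yon S).map fE) ((yon S).map s' ≫ (yon S).map jA) (by rw [big.w, Category.assoc]))
  have hk1 : (yon S).map kν ≫ (yon S).map fD = (yon S).map k ≫ (yon S).map fE := by rw [hkν, pbD.lift_fst]
  have hk2 : (yon S).map kν ≫ (yon S).map sD = (yon S).map s' ≫ (yon S).map jA := by rw [hkν, pbD.lift_snd]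
  have sqν : IsPullback kν s' sD jA :=
    isPullback_of_yon_map (IsPullback.of_right (by rw [hk1]; exact big) hk2 pbD)
  obtain ⟨ν, hν⟩ := Spec.map_surjective (R := CommRingCat.of D) (S := CommRingCat.of E') (kν.left ≫ eD.hom)
  have sqνS : IsPullback (Spec.map ν) (Spec.map (CommRingCat.ofHom (Algebra.TensorProduct.includeLeftRingHom : e.K' →+* E')))
      (Spec.map (CommRingCat.ofHom (algebraMap e.A' D))) (Spec.map (CommRingCat.ofHom (algebraMap e.A' e.K'))) :=
    IsPullback.of_iso (isPullback_left sqν) (Iso.refl _) eD (Iso.refl _) (Iso.refl _)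
      (by rw [hν]; exact (Category.id_comp _).symm) ((Category.comp_id _).trans (Category.id_comp _).symm)
      (by rw [hsD]; exact Category.comp_id _) ((Category.comp_id _).trans (Category.id_comp _).symm)
  have hνinj : Function.Injective ν.hom :=
    injective_of_isPullback_spec (IsFractionRing.injective e.A' e.K') ν.hom _ sqνS
  have hνA : ∀ x, ν.hom (algebraMap e.A' D x) = algebraMap e.A' e.K' x ⊗ₜ 1 := fun x => by
    have := Spec.map_injective (a₁ := CommRingCat.ofHom (algebraMap e.A' D) ≫ ν)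
      (a₂ := CommRingCat.ofHom (algebraMap e.A' e.K') ≫ CommRingCat.ofHom (Algebra.TensorProduct.includeLeftRingHom : e.K' →+* E'))
      (by rw [Spec.map_comp, Spec.map_comp]; exact sqνS.w)
    exact congrArg (fun g : CommRingCat.of e.A' ⟶ CommRingCat.of E' => g.hom x) this
  have hνB : ∀ b, ν.hom (βD b) = 1 ⊗ₜ βE b := fun b => by
    have h1 : kν.left ≫ fD.left = k' ≫ fE.left := by
      rw [← Functor.map_comp, ← Functor.map_comp] at hk1
      exact congrArg CommaMorphism.left ((yon S).map_injective hk1)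
    rw [hfD, ← Category.assoc, ← hν, hfE] at h1
    simp only [k', Category.assoc, Iso.inv_hom_id_assoc] at h1
    rw [← Spec.map_comp, ← Spec.map_comp] at h1
    exact congrArg (fun g : CommRingCat.of B ⟶ CommRingCat.of E' => g.hom b) (Spec.map_injective h1)
  obtain ⟨hC, g, hg⟩ := etale_range_of_etale_extension (A := sq.A) (A' := e.A') (K := sq.K) (K' := e.K') βE βD
    (fun r => by
      obtain ⟨y, rfl⟩ := hgen r
      refine ⟨y, ?_⟩
      induction y with
      | zero => simp
      | tmul a b => simp [RingHom.algebraMap_toAlgebra]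
      | add a b ha hb => simp only [map_add, ha, hb]) ν.hom hνinj hνA hνB
  -- the etale neighbourhood of the closed point
  let C := βE.range
  let WC : Over S := Over.mk (Spec.map (CommRingCat.ofHom (algebraMap sq.A C)) ≫ sq.str)
  let sC : WC ⟶ sq.ptA := Over.homMk (Spec.map (CommRingCat.ofHom (algebraMap sq.A C))) rfl
  haveI hCe : Etale (Spec.map (CommRingCat.ofHom (algebraMap sq.A C))) :=
    (HasRingHomProperty.Spec_iff (P := @Etale)).2 (RingHom.etale_algebraMap.2 hC)
  haveI : Etale sC.left := hCe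
  obtain ⟨w', -, hw'⟩ := (ofPt_eq_ofPt_iff pbD u (IsLocalRing.closedPoint e.A')).1 (by
    rw [← hu₀, ← hu]
    exact (ofPt_yon_map_comp ιU p₀ u).trans rfl)
  have hmem : IsLocalRing.closedPoint sq.A ∈ Set.range sC.left := by
    refine ⟨Spec.map (CommRingCat.ofHom g) (eD.hom w'), ?_⟩
    change Spec.map (CommRingCat.ofHom (algebraMap sq.A C)) (Spec.map (CommRingCat.ofHom g) (eD.hom w')) = _
    rw [← Scheme.Hom.comp_apply, ← Spec.map_comp, ← CommRingCat.ofHom_comp,
      show g.comp (algebraMap sq.A C) = γD.toRingHom.comp e.φ from RingHom.ext fun x =>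
        (hg x).trans (γD.commutes x).symm,
      CommRingCat.ofHom_comp, Spec.map_comp, Scheme.Hom.comp_apply,
      ← Scheme.Hom.comp_apply eD.hom (Spec.map (CommRingCat.ofHom γD.toRingHom)), ← hsD]
    exact (congrArg (Spec.map (CommRingCat.ofHom e.φ)) hw').trans (IsLocalRing.comap_closedPoint e.φ)
  haveI : Surjective sC.left := ⟨fun x =>
    (IsLocalRing.specializes_closedPoint (R := sq.A) x).mem_open sC.left.isOpenMap.isOpen_range hmem⟩
  haveI hepi : Epi ((yon S).map sC) := epi_yon_map sC
  have hag : Spec.map (CommRingCat.ofHom βE.rangeRestrict.toRingHom) ≫ a.left = sC.left := by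
    rw [← hα, ← Spec.map_comp]
    exact congrArg Spec.map (CommRingCat.hom_ext (RingHom.ext fun x => βE.rangeRestrict.commutes x))
  let G : WC ⟶ U := Over.homMk (Spec.map (CommRingCat.ofHom βE.rangeRestrict.toRingHom)) (by
    rw [← Over.w a, ← Category.assoc, hag]; rfl)
  obtain ⟨g₀, hg₀def⟩ : ∃ g₀ : (yon S).obj WC ⟶ pullback f sq.bot, g₀ = (yon S).map G ≫ p := ⟨_, rfl⟩
  have hg₀ : g₀ ≫ q = (yon S).map sC := by
    rw [hg₀def, Category.assoc, ← ha, ← Functor.map_comp]
    exact congrArg (fun h => (yon S).map h) (Over.OverMorphism.ext hag)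
  have hmCs : (eE.hom ≫ Spec.map (CommRingCat.ofHom C.val.toRingHom)) ≫ sC.left = sE.left ≫ sq.j.left := by
    rw [hsE, Category.assoc, Category.assoc]
    refine congrArg (eE.hom ≫ ·) ?_
    change Spec.map _ ≫ Spec.map _ = Spec.map _ ≫ Spec.map _
    rw [← Spec.map_comp, ← Spec.map_comp]
    exact congrArg Spec.map (CommRingCat.hom_ext (RingHom.ext fun x =>
      (C.val.commutes x).trans (γE.commutes x).symm))
  let mC : WE ⟶ WC := Over.homMk (eE.hom ≫ Spec.map (CommRingCat.ofHom C.val.toRingHom)) (by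
    change _ ≫ Spec.map _ ≫ sq.str = _
    rw [← Category.assoc, show Spec.map (CommRingCat.ofHom (algebraMap sq.A C)) = sC.left from rfl, hmCs,
      Category.assoc, show sq.j.left ≫ sq.str = sq.ptK.hom from rfl, Over.w sE])
  have hmC : mC ≫ sC = sE ≫ sq.j := Over.OverMorphism.ext hmCs
  have hgen' : (yon S).map mC ≫ g₀ = (yon S).map sE ≫ t := by
    rw [hg₀def, ← pbE.w, ← Category.assoc, ← Functor.map_comp]
    refine congrArg (fun h => (yon S).map h ≫ p) (Over.OverMorphism.ext ?_)
    rw [hfE]
    change (eE.hom ≫ Spec.map _) ≫ Spec.map _ = _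
    rw [Category.assoc, ← Spec.map_comp]
    rfl
  -- descent along the cover
  let pr₁ : Spec (CommRingCat.of (C ⊗[sq.A] C)) ⟶ WC.left :=
    Spec.map (CommRingCat.ofHom (Algebra.TensorProduct.includeLeftRingHom : C →+* C ⊗[sq.A] C))
  let pr₂ : Spec (CommRingCat.of (C ⊗[sq.A] C)) ⟶ WC.left :=
    Spec.map (CommRingCat.ofHom (Algebra.TensorProduct.includeRight : C →ₐ[sq.A] C ⊗[sq.A] C).toRingHom)
  have sq2S : IsPullback pr₁ pr₂ sC.left sC.left :=
    isPullback_SpecMap_of_isPushout _ _ _ _ (CommRingCat.isPushout_tensorProduct sq.A C C)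
  let W2 : Over S := Over.mk (pr₁ ≫ WC.hom)
  let r₁ : W2 ⟶ WC := Over.homMk pr₁ rfl
  let r₂ : W2 ⟶ WC := Over.homMk pr₂ (by
    change pr₂ ≫ WC.hom = pr₁ ≫ WC.hom
    rw [← Over.w sC, ← Category.assoc, ← Category.assoc, sq2S.w])
  have sq2 : IsPullback r₁ r₂ sC sC := IsPullback.of_map (Over.forget S) (Over.OverMorphism.ext sq2S.w) sq2S
  haveI : IsAffine W2.left := inferInstanceAs (IsAffine (Spec _))
  have hflC : Module.Flat sq.A C := flat_of_injective_to_field (K := sq.K) C.val.toLinearMap Subtype.coe_injective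
  have hflE : Module.Flat sq.A E := flat_of_injective_to_field (K := sq.K) (LinearMap.id : E →ₗ[sq.A] E) Function.injective_id
  let δ := Algebra.TensorProduct.map C.val C.val
  have hδ : Function.Injective δ := by
    have : ⇑δ = ((C.val.toLinearMap).rTensor E) ∘ ((C.val.toLinearMap).lTensor C) := by
      funext x
      induction x with
      | zero => simp
      | tmul a b => rfl
      | add a b ha hb => simp only [Function.comp_apply, map_add] at ha hb ⊢; rw [ha, hb]
    rw [this]
    exact (Module.Flat.rTensor_preserves_injective_linearMap _ Subtype.coe_injective).comp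
      (Module.Flat.lTensor_preserves_injective_linearMap _ Subtype.coe_injective)
  let W2E : Over S := Over.mk (Spec.map (CommRingCat.ofHom δ.toRingHom) ≫ W2.hom)
  let d : W2E ⟶ W2 := Over.homMk (Spec.map (CommRingCat.ofHom δ.toRingHom)) rfl
  have hd1 : d.left ≫ r₁.left = (Spec.map (CommRingCat.ofHom (Algebra.TensorProduct.includeLeftRingHom : E →+* E ⊗[sq.A] E))
      ≫ eE.inv) ≫ mC.left := by
    simp only [d, r₁, mC, pr₁, Over.homMk_left, Category.assoc, Iso.inv_hom_id_assoc]
    rw [← Spec.map_comp, ← Spec.map_comp]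
    refine congrArg Spec.map (CommRingCat.hom_ext (RingHom.ext fun c => ?_))
    simp [δ]
  have hd2 : d.left ≫ r₂.left = (Spec.map (CommRingCat.ofHom (Algebra.TensorProduct.includeRight : E →ₐ[sq.A] E ⊗[sq.A] E).toRingHom)
      ≫ eE.inv) ≫ mC.left := by
    simp only [d, r₂, mC, pr₂, Over.homMk_left, Category.assoc, Iso.inv_hom_id_assoc]
    rw [← Spec.map_comp, ← Spec.map_comp]
    refine congrArg Spec.map (CommRingCat.hom_ext (RingHom.ext fun c => ?_))
    simp [δ]
  let n₁ : W2E ⟶ WE := Over.homMk (Spec.map (CommRingCat.ofHom (Algebra.TensorProduct.includeLeftRingHom : E →+* E ⊗[sq.A] E))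
      ≫ eE.inv) (by
    rw [← Over.w mC, ← Category.assoc, ← hd1, Category.assoc, Over.w r₁]
    exact Over.w d)
  let n₂ : W2E ⟶ WE := Over.homMk (Spec.map (CommRingCat.ofHom (Algebra.TensorProduct.includeRight : E →ₐ[sq.A] E ⊗[sq.A] E).toRingHom)
      ≫ eE.inv) (by
    rw [← Over.w mC, ← Category.assoc, ← hd2, Category.assoc, Over.w r₂]
    exact Over.w d)
  have hn : n₁ ≫ sE = n₂ ≫ sE := by
    apply Over.OverMorphism.ext
    simp only [n₁, n₂, Over.comp_left, Over.homMk_left, hsE, Category.assoc, Iso.inv_hom_id_assoc]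
    rw [← Spec.map_comp, ← Spec.map_comp]
    refine congrArg Spec.map (CommRingCat.hom_ext (IsLocalization.ringHom_ext (nonZeroDivisors sq.A) (RingHom.ext fun x => ?_)))
    simp only [RingHom.coe_comp, Function.comp_apply, CommRingCat.hom_comp, CommRingCat.hom_ofHom,
      AlgHom.toRingHom_eq_coe, RingHom.coe_coe]
    rw [γE.commutes]
    simp [Algebra.TensorProduct.algebraMap_apply]
  have hker : (yon S).map r₁ ≫ g₀ = (yon S).map r₂ ≫ g₀ := by
    refine eq_of_separated hd d (injective_appTop_spec (CommRingCat.ofHom δ.toRingHom) hδ) ?_ ?_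
    · rw [Category.assoc, Category.assoc, hg₀, ← Functor.map_comp, ← Functor.map_comp, sq2.w]
    · rw [← Category.assoc, ← Category.assoc, ← Functor.map_comp, ← Functor.map_comp,
        show d ≫ r₁ = n₁ ≫ mC from Over.OverMorphism.ext hd1, show d ≫ r₂ = n₂ ≫ mC from Over.OverMorphism.ext hd2,
        Functor.map_comp, Functor.map_comp, Category.assoc, Category.assoc, hgen', ← Category.assoc,
        ← Category.assoc, ← Functor.map_comp, ← Functor.map_comp, hn]
  obtain ⟨φl, hφl⟩ := exists_desc_of_epi ((yon S).map sC) (isPullback_yon_map sq2) g₀ hker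
  have hφq : φl ≫ q = 𝟙 _ := by rw [← cancel_epi ((yon S).map sC), ← Category.assoc, hφl, hg₀, Category.comp_id]
  -- the generic fibre
  haveI : Surjective sE.left := by
    obtain ⟨x⟩ : Nonempty WE.left := by
      haveI : Nontrivial D := by
        by_contra hn'
        rw [not_nontrivial_iff_subsingleton] at hn'
        exact (eD.hom w').2.ne_top (Subsingleton.elim _ _)
      haveI : Nontrivial E' := hνinj.nontrivial
      haveI : Nontrivial E := by
        by_contra hn'
        rw [not_nontrivial_iff_subsingleton] at hn'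
        exact one_ne_zero (α := E') (by
          rw [show (1 : E') = (1 : e.K') ⊗ₜ (1 : E) from rfl, Subsingleton.elim (1 : E) 0, TensorProduct.tmul_zero])
      exact ⟨eE.inv (Classical.arbitrary (PrimeSpectrum E))⟩
    haveI : Subsingleton sq.ptK.left := inferInstanceAs (Subsingleton (PrimeSpectrum sq.K))
    exact ⟨fun y => ⟨x, Subsingleton.elim _ _⟩⟩
  haveI hepiE : Epi ((yon S).map sE) := epi_yon_map sE
  have hφK : (yon S).map sq.j ≫ φl = t := by
    rw [← cancel_epi ((yon S).map sE), ← Category.assoc, ← Functor.map_comp, ← hmC, Functor.map_comp,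
      Category.assoc, hφl, hgen']
  refine ⟨φl ≫ pullback.fst f sq.bot, ?_, ?_⟩
  · rw [← Category.assoc, hφK]
    exact pb.lift_fst _ _ _
  · rw [Category.assoc, pullback.condition, ← Category.assoc]
    exact (congrArg (· ≫ sq.bot) hφq).trans (Category.id_comp _)

end Groth.Agent.ASp
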