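import Groth.Agent.ASp.ValBasic
import Groth.Agent.ASp.ValLift
import Groth.Agent.ASp.Points
import Groth.Agent.Unibranch.Open
import Mathlib

/-!
Lifts after a finite separable extension of the fraction field.
-/

set_option backward.isDefEq.respectTransparency false
set_option backward.isDefEq.respectTransparency.types false
set_option linter.style.haveILetI false

universe u

open CategoryTheory CategoryTheory.Limits AlgebraicGeometry Opposite IsLocalRing

namespace Groth.Agent.ASp

open _root_.AlgSp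

section Glue

variable {K Ω : Type u} [Field K] [Field Ω] (χ : K →+* Ω) (V : ValuationSubring Ω)

/-- The map from the trace of a valuation ring on a subfield to the valuation ring. -/
def resComap : V.comap χ →+* V :=
  (χ.comp (V.comap χ).subtype).codRestrict V.toSubring fun x => x.2

instance isLocalHom_resComap : IsLocalHom (resComap χ V) := by
  refine ⟨fun a ha => ?_⟩
  obtain ⟨b, hb⟩ := ha.exists_left_inv
  have hb' : (b : Ω) * χ a.1 = 1 := congrArg Subtype.val hb
  have ha0 : a.1 ≠ 0 := fun h => by simp [h] at hb'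
  have hinv : (b : Ω) = χ (a.1)⁻¹ := by rw [map_inv₀]; exact eq_inv_of_mul_eq_one_left hb'
  refine IsUnit.of_mul_eq_one ⟨(a.1)⁻¹, ?_⟩ (Subtype.ext (mul_inv_cancel₀ ha0))
  show χ (a.1)⁻¹ ∈ V
  rw [← hinv]; exact b.2

theorem resComap_closedPoint :
    Spec.map (CommRingCat.ofHom (resComap χ V)) (closedPoint V) = closedPoint (V.comap χ) :=
  comap_closedPoint (S := V) (resComap χ V)

theorem eq_glue {X : Scheme.{u}} {s t : Spec (CommRingCat.of (V.comap χ)) ⟶ X}
    (hj : Spec.map (CommRingCat.ofHom (algebraMap (V.comap χ) K)) ≫ s =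
      Spec.map (CommRingCat.ofHom (algebraMap (V.comap χ) K)) ≫ t)
    (hr : Spec.map (CommRingCat.ofHom (resComap χ V)) ≫ s =
      Spec.map (CommRingCat.ofHom (resComap χ V)) ≫ t) : s = t := by
  obtain ⟨U, hU, hxU, -⟩ := exists_isAffineOpen_mem_and_subset (X := X)
    (x := s (closedPoint (V.comap χ))) (U := ⊤) trivial
  have hst : s (closedPoint (V.comap χ)) = t (closedPoint (V.comap χ)) := by
    rw [← resComap_closedPoint χ V, ← Scheme.Hom.comp_apply, ← Scheme.Hom.comp_apply, hr]
  have hs : Set.range s ⊆ Set.range U.ι := by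
    rw [Scheme.Opens.range_ι]
    rintro _ ⟨z, rfl⟩
    exact ((IsLocalRing.specializes_closedPoint z).map s.continuous).mem_open U.2 hxU
  have ht : Set.range t ⊆ Set.range U.ι := by
    rw [Scheme.Opens.range_ι]
    rintro _ ⟨z, rfl⟩
    exact ((IsLocalRing.specializes_closedPoint z).map t.continuous).mem_open U.2 (hst ▸ hxU)
  rw [← IsOpenImmersion.lift_fac U.ι s hs, ← IsOpenImmersion.lift_fac U.ι t ht]
  congr 1
  haveI : IsAffine (U : Scheme.{u}) := hU
  rw [← cancel_mono (U : Scheme.{u}).isoSpec.hom]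
  obtain ⟨a, ha⟩ := Spec.map_surjective (IsOpenImmersion.lift U.ι s hs ≫ (U : Scheme.{u}).isoSpec.hom)
  obtain ⟨b, hb⟩ := Spec.map_surjective (IsOpenImmersion.lift U.ι t ht ≫ (U : Scheme.{u}).isoSpec.hom)
  rw [← ha, ← hb]
  congr 1
  have e : a ≫ CommRingCat.ofHom (algebraMap (V.comap χ) K) =
      b ≫ CommRingCat.ofHom (algebraMap (V.comap χ) K) := by
    apply Spec.map_injective
    rw [Spec.map_comp, Spec.map_comp, ha, hb, ← Category.assoc, ← Category.assoc]
    congr 1
    rw [← cancel_mono U.ι, Category.assoc, Category.assoc, IsOpenImmersion.lift_fac,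
      IsOpenImmersion.lift_fac, hj]
  exact CommRingCat.hom_ext (RingHom.ext fun c => Subtype.ext
    (RingHom.congr_fun (congrArg CommRingCat.Hom.hom e) c))

theorem exists_glue {X : Scheme.{u}} (g : Spec (CommRingCat.of V) ⟶ X) (h : Spec (CommRingCat.of K) ⟶ X)
    (hc : Spec.map (CommRingCat.ofHom χ) ≫ h = Spec.map (CommRingCat.ofHom (algebraMap V Ω)) ≫ g) :
    ∃ s : Spec (CommRingCat.of (V.comap χ)) ⟶ X,
      Spec.map (CommRingCat.ofHom (algebraMap (V.comap χ) K)) ≫ s = h ∧
        Spec.map (CommRingCat.ofHom (resComap χ V)) ≫ s = g := by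
  obtain ⟨U, hU, hxU, -⟩ := exists_isAffineOpen_mem_and_subset (X := X)
    (x := g (closedPoint V)) (U := ⊤) trivial
  have hg : Set.range g ⊆ Set.range U.ι := by
    rw [Scheme.Opens.range_ι]
    rintro _ ⟨z, rfl⟩
    exact ((IsLocalRing.specializes_closedPoint z).map g.continuous).mem_open U.2 hxU
  have hh : Set.range h ⊆ Set.range U.ι := by
    rintro _ ⟨z, rfl⟩
    obtain ⟨y, hy⟩ : ∃ y, g y = h z := by
      refine ⟨Spec.map (CommRingCat.ofHom (algebraMap V Ω)) (closedPoint Ω), ?_⟩
      rw [← Scheme.Hom.comp_apply, ← hc, Scheme.Hom.comp_apply]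
      exact congrArg h (Subsingleton.elim (α := PrimeSpectrum K) _ _)
    rw [← hy]; exact hg ⟨y, rfl⟩
  haveI : IsAffine (U : Scheme.{u}) := hU
  let a := Spec.preimage (IsOpenImmersion.lift U.ι g hg ≫ (U : Scheme.{u}).isoSpec.hom)
  let b := Spec.preimage (IsOpenImmersion.lift U.ι h hh ≫ (U : Scheme.{u}).isoSpec.hom)
  have hab : ∀ c, χ (b.hom c) = (a.hom c : V) := fun c => by
    have e : b ≫ CommRingCat.ofHom χ = a ≫ CommRingCat.ofHom (algebraMap V Ω) := by
      apply Spec.map_injective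
      rw [Spec.map_comp, Spec.map_comp, Spec.map_preimage, Spec.map_preimage, ← Category.assoc,
        ← Category.assoc]
      congr 1
      rw [← cancel_mono U.ι, Category.assoc, Category.assoc, IsOpenImmersion.lift_fac,
        IsOpenImmersion.lift_fac, hc]
    exact RingHom.congr_fun (congrArg CommRingCat.Hom.hom e) c
  let d := CommRingCat.ofHom (b.hom.codRestrict (V.comap χ).toSubring fun c => by
    show χ (b.hom c) ∈ V
    rw [hab c]; exact (a.hom c).2)
  refine ⟨Spec.map d ≫ (U : Scheme.{u}).isoSpec.inv ≫ U.ι, ?_, ?_⟩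
  · have e : d ≫ CommRingCat.ofHom (algebraMap (V.comap χ) K) = b := rfl
    rw [← Spec.map_comp_assoc, e, Spec.map_preimage]
    simp
  · have e : d ≫ CommRingCat.ofHom (resComap χ V) = a := by
      exact CommRingCat.hom_ext (RingHom.ext fun c => Subtype.ext (hab c))
    rw [← Spec.map_comp_assoc, e, Spec.map_preimage]
    simp

end Glue

theorem finite_separable_of_etale {K : Type u} [Field K] {X : Scheme.{u}}
    (b : X ⟶ Spec (CommRingCat.of K)) [Etale b] (x : X) :
    letI := (Spec.preimage (X.fromSpecResidueField x ≫ b)).hom.toAlgebra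
    Module.Finite K (X.residueField x) ∧ Algebra.IsSeparable K (X.residueField x) := by
  letI := (Spec.preimage (X.fromSpecResidueField x ≫ b)).hom.toAlgebra
  haveI := Unibranch.locallyQuasiFinite_of_etale b
  haveI : DiscreteTopology X := by
    have := b.isDiscrete_preimage_singleton (closedPoint K)
    have e : b ⁻¹' {closedPoint K} = Set.univ :=
      Set.eq_univ_of_forall fun z => Subsingleton.elim (α := PrimeSpectrum K) _ _
    rw [e] at this
    exact isDiscrete_univ_iff.1 this
  haveI : IsClosedImmersion (X.fromSpecResidueField x) :=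
    isClosed_singleton_iff_isClosedImmersion.1 (isClosed_discrete _)
  have hlft : LocallyOfFiniteType (X.fromSpecResidueField x ≫ b) := inferInstance
  haveI : IsIso (pullback.diagonal (X.fromSpecResidueField x)) := inferInstance
  haveI : FormallyUnramified (X.fromSpecResidueField x) := inferInstance
  have hfu : FormallyUnramified (X.fromSpecResidueField x ≫ b) :=
    MorphismProperty.comp_mem _ _ _ ‹FormallyUnramified (X.fromSpecResidueField x)› inferInstance
  rw [← Spec.map_preimage (X.fromSpecResidueField x ≫ b), HasRingHomProperty.Spec_iff (P := @LocallyOfFiniteType)] at hlft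
  rw [← Spec.map_preimage (X.fromSpecResidueField x ≫ b), HasRingHomProperty.Spec_iff (P := @FormallyUnramified)] at hfu
  haveI : Algebra.FiniteType K (X.residueField x) := hlft
  haveI : Algebra.FormallyUnramified K (X.residueField x) := hfu
  haveI : Algebra.EssFiniteType K (X.residueField x) := inferInstance
  exact ⟨Algebra.FormallyUnramified.finite_of_free K (X.residueField x),
    Algebra.FormallyUnramified.isSeparable K (X.residueField x)⟩

theorem exists_field_factor {A K L : Type u} [CommRing A] [IsDomain A] [Field K] [Algebra A K]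
    [IsFractionRing A K] [Field L] (q : Spec (CommRingCat.of L) ⟶ Spec (CommRingCat.of A))
    (hx : q (closedPoint L) = Spec.map (CommRingCat.ofHom (algebraMap A K)) (closedPoint K)) :
    ∃ θ : K →+* L,
      Spec.map (CommRingCat.ofHom θ) ≫ Spec.map (CommRingCat.ofHom (algebraMap A K)) = q := by
  obtain ⟨φ, rfl⟩ := Spec.map_surjective q
  have hinj : Function.Injective φ.hom := by
    rw [RingHom.injective_iff_ker_eq_bot]
    have e2 : Ideal.comap φ.hom (IsLocalRing.maximalIdeal L) =
        Ideal.comap (algebraMap A K) (IsLocalRing.maximalIdeal K) :=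
      congrArg PrimeSpectrum.asIdeal hx
    rw [IsLocalRing.maximalIdeal_eq_bot, IsLocalRing.maximalIdeal_eq_bot,
      Ideal.comap_bot_of_injective _ (IsFractionRing.injective A K)] at e2
    exact e2
  refine ⟨IsFractionRing.lift hinj, ?_⟩
  rw [← Spec.map_comp]
  congr 1
  exact CommRingCat.hom_ext (RingHom.ext fun a => IsFractionRing.lift_algebraMap hinj a)

variable {S : Scheme.{u}}

set_option maxHeartbeats 1600000 in
/-- A lift after some extension gives a lift after a finite separable extension. -/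
theorem exists_separable_lift {X Y : Sp S} (hX : IsAlgSpace X) (hY : IsAlgSpace Y) {f : X ⟶ Y}
    (sq : ValSq f) (h : sq.HasLiftExt) :
    ∃ e : sq.DomExt, (letI := e.ψ.toAlgebra; Module.Finite sq.K e.K' ∧ Algebra.IsSeparable sq.K e.K') ∧
      e.HasLift := by
  obtain ⟨e, l, hl1, hl2⟩ := h
  obtain ⟨U, p, hpe, hps⟩ := hX.atlas
  let iφ : e.ptA' ⟶ sq.ptA := Over.homMk (Spec.map (CommRingCat.ofHom e.φ)) rfl
  let jA' : e.ptK' ⟶ e.ptA' := Over.homMk (Spec.map (CommRingCat.ofHom (algebraMap e.A' e.K'))) rfl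
  obtain ⟨W, aW, bW, sqW⟩ := exists_isPullback_yon hpe.1 l
  haveI : Etale bW.left := hpe.2 _ _ _ sqW
  haveI : Surjective bW.left := hps.2 _ _ _ sqW
  let β : W.left ⟶ Spec (CommRingCat.of e.A') := bW.left
  haveI : Etale β := ‹Etale bW.left›
  haveI : Surjective β := ‹Surjective bW.left›
  obtain ⟨w, hw⟩ := β.surjective (closedPoint e.A')
  let η : Spec (CommRingCat.of e.A') :=
    Spec.map (CommRingCat.ofHom (algebraMap e.A' e.K')) (closedPoint e.K')
  obtain ⟨w₀, hw₀, hw₀η⟩ := Flat.generalizingMap β (show η ⤳ β w by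
    rw [hw]; exact IsLocalRing.specializes_closedPoint _)
  -- the field `Ω` and its map from `K'`
  let Ω : Type u := W.left.residueField w₀
  let pW : Spec (CommRingCat.of Ω) ⟶ W.left := W.left.fromSpecResidueField w₀
  have hpW : pW (closedPoint Ω) = w₀ := Scheme.fromSpecResidueField_apply w₀ _
  obtain ⟨θ, hθ⟩ : ∃ θ : e.K' →+* Ω,
      Spec.map (CommRingCat.ofHom θ) ≫ Spec.map (CommRingCat.ofHom (algebraMap e.A' e.K')) = pW ≫ β :=
    exists_field_factor (pW ≫ β) (by rw [Scheme.Hom.comp_apply, hpW]; exact hw₀η)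
  -- the point of the pullback of the atlas to `Spec K`
  let ptΩ : Over S := Over.mk (pW ≫ W.hom)
  let iW : ptΩ ⟶ W := Over.homMk pW rfl
  let r : ptΩ ⟶ e.ptK' := Over.homMk (Spec.map (CommRingCat.ofHom θ)) (by
    change Spec.map _ ≫ Spec.map _ ≫ Spec.map _ ≫ sq.str = pW ≫ W.hom
    rw [reassoc_of% hθ]
    exact congrArg (pW ≫ ·) (Over.w bW))
  let toK : e.ptK' ⟶ sq.ptK := Over.homMk (Spec.map (CommRingCat.ofHom e.ψ)) (by
    change Spec.map _ ≫ Spec.map _ ≫ _ = Spec.map _ ≫ Spec.map _ ≫ _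
    rw [← Spec.map_comp_assoc, ← Spec.map_comp_assoc, ← CommRingCat.ofHom_comp,
      ← CommRingCat.ofHom_comp, e.comm])
  have hrW : iW ≫ bW = r ≫ jA' := by
    apply Over.OverMorphism.ext
    show pW ≫ β = Spec.map (CommRingCat.ofHom θ) ≫ Spec.map (CommRingCat.ofHom (algebraMap e.A' e.K'))
    rw [hθ]
  have hcompat : (yon S).map (iW ≫ aW) ≫ p = (yon S).map (r ≫ toK) ≫ sq.top := by
    rw [Functor.map_comp, Category.assoc, sqW.w, ← Category.assoc, ← Functor.map_comp, hrW,
      Functor.map_comp, Category.assoc, Functor.map_comp, Category.assoc]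
    exact congrArg ((yon S).map r ≫ ·) hl1
  obtain ⟨WK, aK, bK, sqK⟩ := exists_isPullback_yon hpe.1 sq.top
  haveI : Etale bK.left := hpe.2 _ _ _ sqK
  obtain ⟨m, hm⟩ := (yon S).map_surjective (sqK.lift _ _ hcompat)
  have hm1 : m ≫ aK = iW ≫ aW := (yon S).map_injective (by rw [Functor.map_comp, hm, sqK.lift_fst])
  have hm2 : m ≫ bK = r ≫ toK := (yon S).map_injective (by rw [Functor.map_comp, hm, sqK.lift_snd])
  -- the finite separable extension `K₁`
  let mm : Spec (CommRingCat.of Ω) ⟶ WK.left := m.left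
  let ω : WK.left := mm (closedPoint Ω)
  let χ' : WK.left.residueField ω ⟶ CommRingCat.of Ω :=
    WK.left.descResidueField (Scheme.stalkClosedPointTo mm)
  have hχ : Spec.map χ' ≫ WK.left.fromSpecResidueField ω = mm :=
    Scheme.descResidueField_stalkClosedPointTo_fromSpecResidueField Ω WK.left mm
  let K₁ : Type u := WK.left.residueField ω
  let χ : K₁ →+* Ω := χ'.hom
  let pω : Spec (CommRingCat.of K₁) ⟶ WK.left := WK.left.fromSpecResidueField ω
  have hχ2 : Spec.map (CommRingCat.ofHom χ) ≫ pω = mm := hχ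
  let ψ₁' : CommRingCat.of sq.K ⟶ CommRingCat.of K₁ := Spec.preimage (pω ≫ bK.left)
  have hψ₁ : Spec.map ψ₁' = pω ≫ bK.left := Spec.map_preimage _
  have hψθ : χ.comp ψ₁'.hom = θ.comp e.ψ := by
    have : ψ₁' ≫ CommRingCat.ofHom χ = CommRingCat.ofHom e.ψ ≫ CommRingCat.ofHom θ := by
      apply Spec.map_injective
      rw [Spec.map_comp, Spec.map_comp, hψ₁, ← Category.assoc, hχ2]
      exact congrArg CommaMorphism.left hm2
    exact congrArg CommRingCat.Hom.hom this
  -- the valuation rings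
  obtain ⟨V, L, hL1, hL2⟩ := exists_valuation_lift (L := Ω) pW (x := w) (by rw [hpW]; exact hw₀)
  obtain ⟨ρ, hρ⟩ := Spec.map_surjective (L ≫ β ≫ Spec.map (CommRingCat.ofHom e.φ))
  have hρloc : IsLocalHom ρ.hom := by
    have e1 : Spec.map ρ (closedPoint V) = closedPoint sq.A := by
      rw [hρ, Scheme.Hom.comp_apply, Scheme.Hom.comp_apply, hL2, hw]
      exact @comap_closedPoint _ _ _ _ _ _ e.φ e.isLocalHom
    exact ((IsLocalRing.local_hom_TFAE ρ.hom).out 0 4).2 (congrArg PrimeSpectrum.asIdeal e1)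
  have hρθ : ∀ a, (ρ.hom a : Ω) = χ (ψ₁'.hom (algebraMap sq.A sq.K a)) := fun a => by
    have e1 : ρ ≫ CommRingCat.ofHom (algebraMap V Ω) = CommRingCat.ofHom e.φ ≫
        CommRingCat.ofHom (algebraMap e.A' e.K') ≫ CommRingCat.ofHom θ := by
      apply Spec.map_injective
      rw [Spec.map_comp, Spec.map_comp, Spec.map_comp, hρ, reassoc_of% hL1, hθ, Category.assoc]
    have e2 := RingHom.congr_fun (congrArg CommRingCat.Hom.hom e1) a
    have e3 : χ (ψ₁'.hom (algebraMap sq.A sq.K a)) = θ (e.ψ (algebraMap sq.A sq.K a)) :=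
      RingHom.congr_fun hψθ _
    rw [e3, ← RingHom.comp_apply e.ψ, ← e.comm, RingHom.comp_apply]
    exact e2
  let A₁ := V.comap χ
  let φ₁ : sq.A →+* A₁ := (ψ₁'.hom.comp (algebraMap sq.A sq.K)).codRestrict A₁.toSubring fun a => by
    show χ _ ∈ V
    rw [RingHom.comp_apply, ← hρθ a]; exact (ρ.hom a).2
  have hφ₁ : (resComap χ V).comp φ₁ = ρ.hom :=
    RingHom.ext fun a => Subtype.ext (hρθ a).symm
  let e₁ : sq.DomExt :=
    { A' := A₁
      K' := K₁
      φ := φ₁
      ψ := ψ₁'.hom
      comm := rfl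
      isLocalHom := ⟨fun a ha => hρloc.map_nonunit a (by
        rw [← hφ₁, RingHom.comp_apply]; exact ha.map (resComap χ V))⟩ }
  refine ⟨e₁, finite_separable_of_etale (K := sq.K) bK.left ω, ?_⟩
  -- the lift
  obtain ⟨s, hs1, hs2⟩ := exists_glue χ V (L ≫ aW.left) (pω ≫ aK.left) (by
    rw [← Category.assoc, hχ2, ← Category.assoc, hL1]
    exact congrArg CommaMorphism.left hm1)
  have hr : Spec.map (CommRingCat.ofHom (resComap χ V)) ≫ Spec.map (CommRingCat.ofHom φ₁) = Spec.map ρ := by
    rw [← Spec.map_comp, ← CommRingCat.ofHom_comp, hφ₁]; rfl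
  have hj : Spec.map (CommRingCat.ofHom (algebraMap A₁ K₁)) ≫ Spec.map (CommRingCat.ofHom φ₁) =
      pω ≫ bK.left ≫ Spec.map (CommRingCat.ofHom (algebraMap sq.A sq.K)) := by
    rw [← reassoc_of% hψ₁, ← Spec.map_comp, ← Spec.map_comp]
    rfl
  let sU : e₁.ptA' ⟶ U := Over.homMk s (by
    refine eq_glue χ V ?_ ?_
    · change _ ≫ s ≫ U.hom = _ ≫ Spec.map (CommRingCat.ofHom φ₁) ≫ sq.str
      rw [reassoc_of% hs1, reassoc_of% hj, Over.w aK]
      exact congrArg (pω ≫ ·) (Over.w bK).symm
    · change _ ≫ s ≫ U.hom = _ ≫ Spec.map (CommRingCat.ofHom φ₁) ≫ sq.str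
      rw [reassoc_of% hs2, reassoc_of% hr, hρ, Category.assoc, Category.assoc, Over.w aW]
      exact congrArg (L ≫ ·) (Over.w bW).symm)
  let j₁ : e₁.ptK' ⟶ e₁.ptA' :=
    Over.homMk (Spec.map (CommRingCat.ofHom (algebraMap e₁.A' e₁.K'))) rfl
  let iω : e₁.ptK' ⟶ WK := Over.homMk pω (by
    change pω ≫ WK.hom = Spec.map _ ≫ Spec.map (CommRingCat.ofHom φ₁) ≫ sq.str
    rw [reassoc_of% hj]
    exact congrArg (pω ≫ ·) (Over.w bK).symm)
  let iφ₁ : e₁.ptA' ⟶ sq.ptA := Over.homMk (Spec.map (CommRingCat.ofHom e₁.φ)) rfl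
  have k1 : j₁ ≫ sU = iω ≫ aK := Over.OverMorphism.ext hs1
  have k2 : j₁ ≫ iφ₁ = iω ≫ bK ≫ sq.j := Over.OverMorphism.ext hj
  let ptV : Over S := Over.mk (L ≫ W.hom)
  let lV : ptV ⟶ W := Over.homMk L rfl
  let rV : ptV ⟶ e₁.ptA' := Over.homMk (Spec.map (CommRingCat.ofHom (resComap χ V))) (by
    change Spec.map _ ≫ Spec.map (CommRingCat.ofHom φ₁) ≫ sq.str = L ≫ W.hom
    rw [reassoc_of% hr, hρ, Category.assoc, Category.assoc]
    exact congrArg (L ≫ ·) (Over.w bW))
  have k3 : rV ≫ sU = lV ≫ aW := Over.OverMorphism.ext hs2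
  have k4 : rV ≫ iφ₁ = lV ≫ bW ≫ iφ := Over.OverMorphism.ext (hr.trans hρ)
  refine ⟨(yon S).map sU ≫ p, ?_, ?_⟩
  · change (yon S).map j₁ ≫ (yon S).map sU ≫ p = _
    rw [← Category.assoc, ← Functor.map_comp, k1, Functor.map_comp, Category.assoc, sqK.w,
      ← Category.assoc, ← Functor.map_comp]
    congr 2
    exact Over.OverMorphism.ext hψ₁.symm
  · change ((yon S).map sU ≫ p) ≫ f = (yon S).map iφ₁ ≫ sq.bot
    set a := ((yon S).map sU ≫ p) ≫ f with ha
    set b := (yon S).map iφ₁ ≫ sq.bot with hb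
    have hVab : (yon S).map rV ≫ a = (yon S).map rV ≫ b := by
      rw [ha, hb]
      simp only [← Category.assoc, ← Functor.map_comp, k3, k4]
      rw [Functor.map_comp, Category.assoc, Category.assoc]
      rw [reassoc_of% sqW.w, hl2, Functor.map_comp, Functor.map_comp]
      simp only [Category.assoc]
      rfl
    have hKab : (yon S).map j₁ ≫ a = (yon S).map j₁ ≫ b := by
      rw [ha, hb]
      simp only [← Category.assoc, ← Functor.map_comp, k1, k2]
      rw [Functor.map_comp, Category.assoc, Category.assoc]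
      rw [reassoc_of% sqK.w, sq.comm, Functor.map_comp, Functor.map_comp]
      simp only [Category.assoc]
    -- the equaliser of the two composites has a section
    obtain ⟨E, cE, eE, sqE⟩ : ∃ (E : Over S) (c : (yon S).obj E ⟶ Y) (d : E ⟶ e₁.ptA'),
        IsPullback c ((yon S).map d) (Limits.diag Y) (prod.lift a b) :=
      ⟨_, _, _, hY.diag.isPullback (prod.lift a b)⟩
    have lift_of : ∀ {T : Over S} (t : T ⟶ e₁.ptA'), (yon S).map t ≫ a = (yon S).map t ≫ b →
        ∃ q : T ⟶ E, q ≫ eE = t := fun {T} t ht => by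
      obtain ⟨q, hq⟩ := (yon S).map_surjective (sqE.lift ((yon S).map t ≫ a) ((yon S).map t) (by
        apply Limits.prod.hom_ext <;> simp [Limits.diag, ht]))
      exact ⟨q, (yon S).map_injective (by rw [Functor.map_comp, hq, sqE.lift_snd])⟩
    obtain ⟨gE, hgE⟩ := lift_of rV hVab
    obtain ⟨hE, hhE⟩ := lift_of j₁ hKab
    -- compatibility on `Spec Ω`
    haveI : Mono (Limits.diag Y) := ⟨fun u v huv => by simpa [Limits.diag] using congrArg (· ≫ prod.fst) huv⟩
    haveI : Mono ((yon S).map eE) := ⟨fun u v huv => sqE.hom_ext ((cancel_mono (Limits.diag Y)).1 (by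
      rw [Category.assoc, Category.assoc, sqE.w, reassoc_of% huv])) huv⟩
    haveI : Mono eE := (yon S).mono_of_mono_map ‹_›
    let jΩ : ptΩ ⟶ ptV := Over.homMk (Spec.map (CommRingCat.ofHom (algebraMap V Ω))) (by
      change _ ≫ L ≫ W.hom = pW ≫ W.hom
      rw [reassoc_of% hL1])
    let cΩ : ptΩ ⟶ e₁.ptK' := Over.homMk (Spec.map (CommRingCat.ofHom χ)) (by
      change _ ≫ Spec.map _ ≫ Spec.map (CommRingCat.ofHom φ₁) ≫ sq.str = pW ≫ W.hom
      rw [reassoc_of% hj, ← Category.assoc (Spec.map _) pω, hχ2, ← Category.assoc bK.left]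
      refine Eq.trans ?_ ((Category.assoc _ _ _).trans (congrArg (pW ≫ ·) (Over.w aW)))
      exact (congrArg (mm ≫ ·) ((Category.assoc _ _ _).trans ((Over.w bK).trans (Over.w aK).symm))).trans
        ((Category.assoc _ _ _).symm.trans (congrArg (· ≫ U.hom) (congrArg CommaMorphism.left hm1))))
    have hΩ : cΩ ≫ hE = jΩ ≫ gE := by
      rw [← cancel_mono eE, Category.assoc, Category.assoc, hgE, hhE]
      apply Over.OverMorphism.ext
      change Spec.map (CommRingCat.ofHom χ) ≫ Spec.map (CommRingCat.ofHom (algebraMap A₁ K₁)) =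
        Spec.map (CommRingCat.ofHom (algebraMap V Ω)) ≫ Spec.map (CommRingCat.ofHom (resComap χ V))
      rw [← Spec.map_comp, ← Spec.map_comp]
      rfl
    obtain ⟨t, ht1, ht2⟩ := exists_glue χ V gE.left hE.left (congrArg CommaMorphism.left hΩ)
    have hte : t ≫ eE.left = 𝟙 (Spec (CommRingCat.of A₁)) := by
      refine eq_glue χ V ?_ ?_
      · rw [reassoc_of% ht1, Category.comp_id]; exact congrArg CommaMorphism.left hhE
      · rw [reassoc_of% ht2, Category.comp_id]; exact congrArg CommaMorphism.left hgE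
    let tE : e₁.ptA' ⟶ E := Over.homMk t (by
      rw [← Over.w eE, ← Category.assoc, hte]; exact Category.id_comp _)
    have htE : (yon S).map tE ≫ (yon S).map eE = 𝟙 _ := by
      rw [← Functor.map_comp, show tE ≫ eE = 𝟙 _ from Over.OverMorphism.ext hte]
      exact (yon S).map_id _
    have h1 : cE = (yon S).map eE ≫ a := by simpa [Limits.diag] using congrArg (· ≫ prod.fst) sqE.w
    have h2 : cE = (yon S).map eE ≫ b := by simpa [Limits.diag] using congrArg (· ≫ prod.snd) sqE.w
    have := congrArg ((yon S).map tE ≫ ·) (h1.symm.trans h2)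
    simpa [reassoc_of% htE] using this

end Groth.Agent.ASp
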